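import Mathlib

/-!
# Abstract Bruhat decomposition from root subgroups (used for the presented group of Steinberg)

A group `Γ` with "root subgroups" `X r`, a "torus" `H` and elements `n i` permuting the root subgroups
like the reflections `refl i` permute the roots.  Conclusions:

* `exists_bruhat`: every element of `Γ` is `b * nW L * b'` with `b, b' ∈ B = ⟨X r (r > 0), H⟩`, `nW L` a word in the `n i`;
* `mem_H_of_pos`: a word in the `n i` preserving the positive roots lies in `H`.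
-/

set_option autoImplicit false

namespace Cfsg.Agent.ChevalleyStructure.SteinbergBruhat

/-- Root subgroup data. -/
structure RData (Γ : Type*) [Group Γ] (Φ ι : Type*) where
  pos : Φ → Prop
  neg : Φ → Φ
  sim : ι → Φ
  refl : ι → Φ → Φ
  X : Φ → Subgroup Γ
  H : Subgroup Γ
  n : ι → Γ

namespace RData

variable {Γ : Type*} [Group Γ] {Φ ι : Type*} (R : RData Γ Φ ι)

/-- The subgroup generated by the positive root subgroups. -/
def U : Subgroup Γ := ⨆ (r : Φ) (_ : R.pos r), R.X r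

/-- The subgroup generated by the positive root subgroups other than that of `sim i`. -/
def Ui (i : ι) : Subgroup Γ := ⨆ (r : Φ) (_ : R.pos r ∧ r ≠ R.sim i), R.X r

/-- The Borel subgroup. -/
def B : Subgroup Γ := R.U ⊔ R.H

/-- The axioms. -/
structure Axioms : Prop where
  refl_refl : ∀ i r, R.refl i (R.refl i r) = r
  refl_sim : ∀ i, R.refl i (R.sim i) = R.neg (R.sim i)
  refl_pos : ∀ i r, R.pos r → r ≠ R.sim i → R.pos (R.refl i r)
  refl_neg : ∀ i r, R.refl i (R.neg r) = R.neg (R.refl i r)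
  pos_sim : ∀ i, R.pos (R.sim i)
  pos_neg : ∀ r, R.pos (R.neg r) ↔ ¬ R.pos r
  conjH : ∀ h ∈ R.H, ∀ r, ∀ x ∈ R.X r, h * x * h⁻¹ ∈ R.X r
  conjn : ∀ i r, ∀ x ∈ R.X r, R.n i * x * (R.n i)⁻¹ ∈ R.X (R.refl i r)
  conjnH : ∀ i, ∀ h ∈ R.H, R.n i * h * (R.n i)⁻¹ ∈ R.H
  nn : ∀ i, R.n i * R.n i ∈ R.H
  nmem : ∀ i, R.n i ∈ R.X (R.sim i) ⊔ R.X (R.neg (R.sim i)) ⊔ R.H
  Xneg : ∀ i, ∀ x ∈ R.X (R.neg (R.sim i)), x = 1 ∨
    ∃ a ∈ R.X (R.sim i), ∃ h ∈ R.H, ∃ b ∈ R.X (R.sim i), x = a * (R.n i * h) * b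
  Unorm : ∀ i, ∀ x ∈ R.X (R.sim i), ∀ u ∈ R.Ui i, x * u * x⁻¹ ∈ R.Ui i
  notle : ∀ r, ¬ R.pos r → ¬ R.X r ≤ R.B

variable {R}

namespace Axioms

variable (A : R.Axioms)
include A

theorem X_le_U {r : Φ} (hr : R.pos r) : R.X r ≤ R.U := le_iSup₂_of_le r hr le_rfl

theorem X_le_B {r : Φ} (hr : R.pos r) : R.X r ≤ R.B := (X_le_U A hr).trans le_sup_left

theorem H_le_B : R.H ≤ R.B := le_sup_right

theorem sim_ne_neg_sim (i : ι) : R.sim i ≠ R.neg (R.sim i) := by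
  intro h
  have h1 := A.pos_sim i
  rw [h, A.pos_neg] at h1
  exact h1 (A.pos_sim i)

theorem neg_neg_sim (i : ι) : R.neg (R.neg (R.sim i)) = R.sim i := by
  have h := A.refl_neg i (R.sim i)
  rw [A.refl_sim, ← A.refl_sim i, A.refl_refl] at h
  rw [A.refl_sim] at h
  exact h.symm

theorem refl_neg_sim (i : ι) : R.refl i (R.neg (R.sim i)) = R.sim i := by
  rw [← A.refl_sim, A.refl_refl]

/-- conjugation by the inverse of `h` -/
theorem conjH' {h : Γ} (hh : h ∈ R.H) {r : Φ} {x : Γ} (hx : x ∈ R.X r) : h⁻¹ * x * h ∈ R.X r := by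
  have := A.conjH h⁻¹ (R.H.inv_mem hh) r x hx
  rwa [inv_inv] at this

theorem conjn' (i : ι) {r : Φ} {x : Γ} (hx : x ∈ R.X r) : (R.n i)⁻¹ * x * R.n i ∈ R.X (R.refl i r) := by
  have h1 := A.conjn i r x hx
  have h2 := A.conjH' (A.nn i) h1
  have e : (R.n i)⁻¹ * x * R.n i = (R.n i * R.n i)⁻¹ * (R.n i * x * (R.n i)⁻¹) * (R.n i * R.n i) := by group
  rw [e]; exact h2

theorem conjnH' (i : ι) {h : Γ} (hh : h ∈ R.H) : (R.n i)⁻¹ * h * R.n i ∈ R.H := by
  have h1 := A.conjnH i h hh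
  have h2 := R.H.mul_mem (R.H.mul_mem (R.H.inv_mem (A.nn i)) h1) (A.nn i)
  have e : (R.n i)⁻¹ * h * R.n i = (R.n i * R.n i)⁻¹ * (R.n i * h * (R.n i)⁻¹) * (R.n i * R.n i) := by group
  rw [e]; exact h2

end Axioms

/-- The word in the `n i`. -/
def nW (R : RData Γ Φ ι) (L : List ι) : Γ := (L.map R.n).prod

/-- The corresponding product of reflections. -/
def wW (R : RData Γ Φ ι) (L : List ι) (r : Φ) : Φ := L.foldr R.refl r

theorem nW_nil : R.nW [] = 1 := rfl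
theorem nW_cons (i : ι) (L : List ι) : R.nW (i :: L) = R.n i * R.nW L := rfl
theorem nW_append (L L' : List ι) : R.nW (L ++ L') = R.nW L * R.nW L' := by
  simp [nW]
theorem wW_nil (r : Φ) : R.wW [] r = r := rfl
theorem wW_cons (i : ι) (L : List ι) (r : Φ) : R.wW (i :: L) r = R.refl i (R.wW L r) := rfl
theorem wW_append (L L' : List ι) (r : Φ) : R.wW (L ++ L') r = R.wW L (R.wW L' r) := by
  simp [wW]

namespace Axioms

variable (A : R.Axioms)
include A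

theorem conj_nW (L : List ι) {r : Φ} {x : Γ} (hx : x ∈ R.X r) :
    R.nW L * x * (R.nW L)⁻¹ ∈ R.X (R.wW L r) := by
  induction L with
  | nil => simpa [nW_nil, wW_nil] using hx
  | cons i L ih =>
    rw [nW_cons, wW_cons]
    have h := A.conjn i _ _ ih
    have e : R.n i * R.nW L * x * (R.n i * R.nW L)⁻¹ = R.n i * (R.nW L * x * (R.nW L)⁻¹) * (R.n i)⁻¹ := by
      group
    rw [e]; exact h

theorem conj_nW' (L : List ι) {r : Φ} {x : Γ} (hx : x ∈ R.X (R.wW L r)) :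
    (R.nW L)⁻¹ * x * R.nW L ∈ R.X r := by
  induction L generalizing x with
  | nil => simpa [nW_nil, wW_nil] using hx
  | cons i L ih =>
    rw [wW_cons] at hx
    have h := A.conjn' i hx
    rw [A.refl_refl] at h
    have h2 := ih h
    have e : (R.nW (i :: L))⁻¹ * x * R.nW (i :: L) = (R.nW L)⁻¹ * ((R.n i)⁻¹ * x * R.n i) * R.nW L := by
      rw [nW_cons]; group
    rw [e]; exact h2

theorem conj_nW_H (L : List ι) {h : Γ} (hh : h ∈ R.H) : R.nW L * h * (R.nW L)⁻¹ ∈ R.H := by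
  induction L with
  | nil => simpa [nW_nil] using hh
  | cons i L ih =>
    rw [nW_cons]
    have e : R.n i * R.nW L * h * (R.n i * R.nW L)⁻¹ = R.n i * (R.nW L * h * (R.nW L)⁻¹) * (R.n i)⁻¹ := by
      group
    rw [e]; exact A.conjnH i _ ih

theorem conj_nW_H' (L : List ι) {h : Γ} (hh : h ∈ R.H) : (R.nW L)⁻¹ * h * R.nW L ∈ R.H := by
  induction L generalizing h with
  | nil => simpa [nW_nil] using hh
  | cons i L ih =>
    rw [nW_cons]
    have e : (R.n i * R.nW L)⁻¹ * h * (R.n i * R.nW L) = (R.nW L)⁻¹ * ((R.n i)⁻¹ * h * R.n i) * R.nW L := by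
      group
    rw [e]; exact ih (A.conjnH' i hh)

theorem wW_neg (L : List ι) (r : Φ) : R.wW L (R.neg r) = R.neg (R.wW L r) := by
  induction L with
  | nil => rfl
  | cons i L ih => rw [wW_cons, wW_cons, ih, A.refl_neg]

/-! ### Rank one -/

theorem X_sim_ne (i : ι) : R.X (R.neg (R.sim i)) ≠ R.X (R.sim i) := by
  intro h
  refine A.notle (R.neg (R.sim i)) ?_ ?_
  · rw [A.pos_neg, not_not]; exact A.pos_sim i
  · rw [h]; exact X_le_B A (A.pos_sim i)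

/-- the opposite form of `Xneg` -/
theorem Xsim (i : ι) {x : Γ} (hx : x ∈ R.X (R.sim i)) : x = 1 ∨
    ∃ a ∈ R.X (R.neg (R.sim i)), ∃ h ∈ R.H, ∃ b ∈ R.X (R.neg (R.sim i)), x = a * (R.n i * h) * b := by
  have h1 := A.conjn' i hx
  rw [A.refl_sim] at h1
  rcases A.Xneg i _ h1 with h2 | ⟨a, ha, h, hh, b, hb, e⟩
  · left
    have : x = R.n i * ((R.n i)⁻¹ * x * R.n i) * (R.n i)⁻¹ := by group
    rw [this, h2]; group
  · right
    refine ⟨R.n i * a * (R.n i)⁻¹, ?_, R.n i * h * (R.n i)⁻¹, A.conjnH i h hh, R.n i * b * (R.n i)⁻¹, ?_, ?_⟩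
    · rw [← A.refl_sim]; exact A.conjn i _ a ha
    · rw [← A.refl_sim]; exact A.conjn i _ b hb
    · have : x = R.n i * ((R.n i)⁻¹ * x * R.n i) * (R.n i)⁻¹ := by group
      rw [this, e]; group

/-- an element of `X (sim i)` normalising `X (neg (sim i))` is trivial -/
theorem eq_one_of_norm (i : ι) {x : Γ} (hx : x ∈ R.X (R.sim i))
    (hn : ∀ y ∈ R.X (R.neg (R.sim i)), x * y * x⁻¹ ∈ R.X (R.neg (R.sim i))) : x = 1 := by
  rcases A.Xsim i hx with h1 | ⟨a, ha, h, hh, b, hb, e⟩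
  · exact h1
  exfalso
  -- `X (neg (sim i)) ≤ X (sim i)`
  have key : R.X (R.neg (R.sim i)) ≤ R.X (R.sim i) := by
    intro y hy
    -- pull `y` back: y = n h y' h⁻¹ n⁻¹ with y' ∈ X (sim i) ...
    -- choose z := b⁻¹ y b ∈ X(-); x z x⁻¹ = a n h b z b⁻¹ h⁻¹ n⁻¹ a⁻¹ ∈ X(-) so n h (b z b⁻¹) h⁻¹ n⁻¹ ∈ X(-) and it is in X(+)
    have hz : b⁻¹ * (h⁻¹ * ((R.n i)⁻¹ * y * R.n i) * h) * b = b⁻¹ * (h⁻¹ * ((R.n i)⁻¹ * y * R.n i) * h) * b := rfl
    have h3 : b⁻¹ * y * b ∈ R.X (R.neg (R.sim i)) :=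
      (R.X _).mul_mem ((R.X _).mul_mem ((R.X _).inv_mem hb) hy) hb
    have h4 := hn _ h3
    have h5 : x * (b⁻¹ * y * b) * x⁻¹ = a * (R.n i * (h * y * h⁻¹) * (R.n i)⁻¹) * a⁻¹ := by
      rw [e]; group
    rw [h5] at h4
    have h6 : R.n i * (h * y * h⁻¹) * (R.n i)⁻¹ ∈ R.X (R.neg (R.sim i)) := by
      have := (R.X (R.neg (R.sim i))).mul_mem ((R.X _).mul_mem ((R.X _).inv_mem ha) h4) ha
      have e2 : a⁻¹ * (a * (R.n i * (h * y * h⁻¹) * (R.n i)⁻¹) * a⁻¹) * a = R.n i * (h * y * h⁻¹) * (R.n i)⁻¹ := by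
        group
      rwa [e2] at this
    -- conjugate back by n : in X (refl (neg sim)) = X sim
    have h7 := A.conjn' i h6
    rw [A.refl_neg_sim] at h7
    have e3 : (R.n i)⁻¹ * (R.n i * (h * y * h⁻¹) * (R.n i)⁻¹) * R.n i = h * y * h⁻¹ := by group
    rw [e3] at h7
    have h8 := A.conjH' hh h7
    have e4 : h⁻¹ * (h * y * h⁻¹) * h = y := by group
    rwa [e4] at h8
  refine A.notle (R.neg (R.sim i)) ?_ (key.trans (X_le_B A (A.pos_sim i)))
  rw [A.pos_neg, not_not]; exact A.pos_sim i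

/-- The rank one group `⟨X i, X (-i), H⟩` is `X H ∪ X n H X`. -/
theorem rank_one (i : ι) {y : Γ} (hy : y ∈ R.X (R.sim i) ⊔ R.X (R.neg (R.sim i)) ⊔ R.H) :
    (∃ a ∈ R.X (R.sim i), ∃ h ∈ R.H, y = a * h) ∨
    (∃ a ∈ R.X (R.sim i), ∃ h ∈ R.H, ∃ b ∈ R.X (R.sim i), y = a * (R.n i * h) * b) := by
  -- the set is closed under left multiplication by the generators
  have hX : ∀ x ∈ R.X (R.sim i), ∀ z : Γ, ((∃ a ∈ R.X (R.sim i), ∃ h ∈ R.H, z = a * h) ∨
      (∃ a ∈ R.X (R.sim i), ∃ h ∈ R.H, ∃ b ∈ R.X (R.sim i), z = a * (R.n i * h) * b)) →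
      ((∃ a ∈ R.X (R.sim i), ∃ h ∈ R.H, x * z = a * h) ∨
      (∃ a ∈ R.X (R.sim i), ∃ h ∈ R.H, ∃ b ∈ R.X (R.sim i), x * z = a * (R.n i * h) * b)) := by
    rintro x hx z (⟨a, ha, h, hh, rfl⟩ | ⟨a, ha, h, hh, b, hb, rfl⟩)
    · exact Or.inl ⟨x * a, (R.X _).mul_mem hx ha, h, hh, by group⟩
    · exact Or.inr ⟨x * a, (R.X _).mul_mem hx ha, h, hh, b, hb, by group⟩
  have hH : ∀ k ∈ R.H, ∀ z : Γ, ((∃ a ∈ R.X (R.sim i), ∃ h ∈ R.H, z = a * h) ∨
      (∃ a ∈ R.X (R.sim i), ∃ h ∈ R.H, ∃ b ∈ R.X (R.sim i), z = a * (R.n i * h) * b)) →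
      ((∃ a ∈ R.X (R.sim i), ∃ h ∈ R.H, k * z = a * h) ∨
      (∃ a ∈ R.X (R.sim i), ∃ h ∈ R.H, ∃ b ∈ R.X (R.sim i), k * z = a * (R.n i * h) * b)) := by
    rintro k hk z (⟨a, ha, h, hh, rfl⟩ | ⟨a, ha, h, hh, b, hb, rfl⟩)
    · exact Or.inl ⟨k * a * k⁻¹, A.conjH k hk _ a ha, k * h, R.H.mul_mem hk hh, by group⟩
    · refine Or.inr ⟨k * a * k⁻¹, A.conjH k hk _ a ha, ((R.n i)⁻¹ * k * R.n i) * h,
        R.H.mul_mem (A.conjnH' i hk) hh, b, hb, by group⟩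
  have hn : ∀ z : Γ, ((∃ a ∈ R.X (R.sim i), ∃ h ∈ R.H, z = a * h) ∨
      (∃ a ∈ R.X (R.sim i), ∃ h ∈ R.H, ∃ b ∈ R.X (R.sim i), z = a * (R.n i * h) * b)) →
      ((∃ a ∈ R.X (R.sim i), ∃ h ∈ R.H, R.n i * z = a * h) ∨
      (∃ a ∈ R.X (R.sim i), ∃ h ∈ R.H, ∃ b ∈ R.X (R.sim i), R.n i * z = a * (R.n i * h) * b)) := by
    rintro z (⟨a, ha, h, hh, rfl⟩ | ⟨a, ha, h, hh, b, hb, rfl⟩)
    · refine Or.inr ⟨1, (R.X _).one_mem, h, hh, h⁻¹ * a * h, A.conjH' hh ha, by group⟩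
    · -- n a n h b , n a n⁻¹ ∈ X(-)
      have h1 := A.conjn i _ a ha
      rw [A.refl_sim] at h1
      have hnn := A.nn i
      have h2 : R.n i * (a * (R.n i * h) * b) = (R.n i * a * (R.n i)⁻¹) * ((R.n i * R.n i * h) * b) := by group
      have hk : R.n i * R.n i * h ∈ R.H := R.H.mul_mem hnn hh
      rcases A.Xneg i _ h1 with h3 | ⟨a', ha', h', hh', b', hb', e⟩
      · left
        refine ⟨(R.n i * R.n i * h) * b * (R.n i * R.n i * h)⁻¹, A.conjH _ hk _ b hb, R.n i * R.n i * h, hk, ?_⟩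
        rw [h2, h3]; group
      · right
        refine ⟨a', ha', h' * (R.n i * R.n i * h), R.H.mul_mem hh' hk,
          ((R.n i * R.n i * h)⁻¹ * b' * (R.n i * R.n i * h)) * b,
          (R.X _).mul_mem (A.conjH' hk hb') hb, ?_⟩
        rw [h2, e]; group
  have hY : ∀ x ∈ R.X (R.neg (R.sim i)), ∀ z : Γ, ((∃ a ∈ R.X (R.sim i), ∃ h ∈ R.H, z = a * h) ∨
      (∃ a ∈ R.X (R.sim i), ∃ h ∈ R.H, ∃ b ∈ R.X (R.sim i), z = a * (R.n i * h) * b)) →
      ((∃ a ∈ R.X (R.sim i), ∃ h ∈ R.H, x * z = a * h) ∨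
      (∃ a ∈ R.X (R.sim i), ∃ h ∈ R.H, ∃ b ∈ R.X (R.sim i), x * z = a * (R.n i * h) * b)) := by
    intro x hx z hz
    rcases A.Xneg i x hx with rfl | ⟨a, ha, h, hh, b, hb, rfl⟩
    · rwa [one_mul]
    · have := hX a ha _ (hn _ (hH h hh _ (hX b hb z hz)))
      have e : a * (R.n i * h) * b * z = a * (R.n i * (h * (b * z))) := by group
      rw [e]; exact this
  -- closure induction
  have main : ∀ y ∈ R.X (R.sim i) ⊔ R.X (R.neg (R.sim i)) ⊔ R.H, ∀ z : Γ,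
      ((∃ a ∈ R.X (R.sim i), ∃ h ∈ R.H, z = a * h) ∨
      (∃ a ∈ R.X (R.sim i), ∃ h ∈ R.H, ∃ b ∈ R.X (R.sim i), z = a * (R.n i * h) * b)) →
      ((∃ a ∈ R.X (R.sim i), ∃ h ∈ R.H, y * z = a * h) ∨
      (∃ a ∈ R.X (R.sim i), ∃ h ∈ R.H, ∃ b ∈ R.X (R.sim i), y * z = a * (R.n i * h) * b)) := by
    intro y hy
    rw [← Subgroup.closure_eq (R.X (R.sim i)), ← Subgroup.closure_eq (R.X (R.neg (R.sim i))),
      ← Subgroup.closure_eq R.H, ← Subgroup.closure_union, ← Subgroup.closure_union] at hy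
    induction hy using Subgroup.closure_induction'' with
    | mem x hx =>
      rcases hx with (hx | hx) | hx
      · exact hX x hx
      · exact hY x hx
      · exact hH x hx
    | inv_mem x hx =>
      rcases hx with (hx | hx) | hx
      · exact hX _ ((R.X _).inv_mem hx)
      · exact hY _ ((R.X _).inv_mem hx)
      · exact hH _ (R.H.inv_mem hx)
    | one => intro z hz; rwa [one_mul]
    | mul x y _ _ hx hy => intro z hz; rw [mul_assoc]; exact hx _ (hy z hz)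
  have := main y hy 1 (Or.inl ⟨1, (R.X _).one_mem, 1, R.H.one_mem, by group⟩)
  rwa [mul_one] at this

/-- If a word maps the simple root `i` to the simple root `j` then it conjugates `n i` into `n j * H`. -/
theorem conj_n_of_sim (L : List ι) (i j : ι) (hw : R.wW L (R.sim i) = R.sim j) :
    ∃ h ∈ R.H, R.nW L * R.n i * (R.nW L)⁻¹ = R.n j * h := by
  set m := R.nW L with hm
  have hw' : R.wW L (R.neg (R.sim i)) = R.neg (R.sim j) := by rw [A.wW_neg, hw]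
  -- y in the rank one group of j
  have hy : m * R.n i * m⁻¹ ∈ R.X (R.sim j) ⊔ R.X (R.neg (R.sim j)) ⊔ R.H := by
    have h1 := A.nmem i
    have hcl : R.X (R.sim i) ⊔ R.X (R.neg (R.sim i)) ⊔ R.H ≤
        (R.X (R.sim j) ⊔ R.X (R.neg (R.sim j)) ⊔ R.H).comap (MulAut.conj m).toMonoidHom := by
      refine sup_le (sup_le ?_ ?_) ?_
      · intro x hx
        have h2 := A.conj_nW L hx
        rw [hw] at h2
        exact (le_sup_left.trans le_sup_left : R.X (R.sim j) ≤ _) h2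
      · intro x hx
        have h2 := A.conj_nW L hx
        rw [hw'] at h2
        exact (le_sup_right.trans le_sup_left : R.X (R.neg (R.sim j)) ≤ _) h2
      · intro x hx
        exact (le_sup_right : R.H ≤ _) (A.conj_nW_H L hx)
    exact hcl h1
  set y := m * R.n i * m⁻¹ with hydef
  -- y conjugates X (sim j) into X (neg sim j) and vice versa, and so does its inverse
  have c1 : ∀ x ∈ R.X (R.sim j), y * x * y⁻¹ ∈ R.X (R.neg (R.sim j)) := by
    intro x hx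
    have h1 : m⁻¹ * x * m ∈ R.X (R.sim i) := A.conj_nW' L (by rw [hw]; exact hx)
    have h2 := A.conjn i _ _ h1
    rw [A.refl_sim] at h2
    have h3 := A.conj_nW L h2
    rw [hw'] at h3
    have e : y * x * y⁻¹ = m * (R.n i * (m⁻¹ * x * m) * (R.n i)⁻¹) * m⁻¹ := by rw [hydef]; group
    rw [e]; exact h3
  have c2 : ∀ x ∈ R.X (R.neg (R.sim j)), y⁻¹ * x * y ∈ R.X (R.sim j) := by
    intro x hx
    have h1 : m⁻¹ * x * m ∈ R.X (R.neg (R.sim i)) := A.conj_nW' L (by rw [hw']; exact hx)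
    have h2 := A.conjn' i h1
    rw [A.refl_neg_sim] at h2
    have h3 := A.conj_nW L h2
    rw [hw] at h3
    have e : y⁻¹ * x * y = m * ((R.n i)⁻¹ * (m⁻¹ * x * m) * R.n i) * m⁻¹ := by rw [hydef]; group
    rw [e]; exact h3
  have c3 : ∀ x ∈ R.X (R.neg (R.sim j)), y * x * y⁻¹ ∈ R.X (R.sim j) := by
    intro x hx
    have h1 : m⁻¹ * x * m ∈ R.X (R.neg (R.sim i)) := A.conj_nW' L (by rw [hw']; exact hx)
    have h2 := A.conjn i _ _ h1
    rw [A.refl_neg_sim] at h2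
    have h3 := A.conj_nW L h2
    rw [hw] at h3
    have e : y * x * y⁻¹ = m * (R.n i * (m⁻¹ * x * m) * (R.n i)⁻¹) * m⁻¹ := by rw [hydef]; group
    rw [e]; exact h3
  rcases A.rank_one j hy with ⟨a, ha, h, hh, e⟩ | ⟨a, ha, h, hh, b, hb, e⟩
  · exfalso
    -- y ∈ X H normalises X (sim j): X (neg sim j) ≤ X (sim j)
    refine A.notle (R.neg (R.sim j)) ?_ (le_trans ?_ (X_le_B A (A.pos_sim j)))
    · rw [A.pos_neg, not_not]; exact A.pos_sim j
    intro x hx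
    have h1 := c2 x hx
    have h3 := A.conjH h hh _ _ h1
    have h4 := (R.X (R.sim j)).mul_mem ((R.X _).mul_mem ha h3) ((R.X _).inv_mem ha)
    have e2 : a * (h * (y⁻¹ * x * y) * h⁻¹) * a⁻¹ = x := by rw [e]; group
    rwa [e2] at h4
  · -- a = 1 and b = 1
    have ha1 : a = 1 := by
      apply A.eq_one_of_norm j ha
      intro x hx
      -- x = n h x' h⁻¹ n⁻¹ with x' ∈ X (sim j); a x a⁻¹ = y (b⁻¹ x' b) y⁻¹
      have h1 := A.conjn' j hx
      rw [A.refl_neg_sim] at h1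
      have h2 := A.conjH' hh h1
      have h3 := c1 _ ((R.X (R.sim j)).mul_mem ((R.X _).mul_mem ((R.X _).inv_mem hb) h2) hb)
      have e2 : y * (b⁻¹ * (h⁻¹ * ((R.n j)⁻¹ * x * R.n j) * h) * b) * y⁻¹ = a * x * a⁻¹ := by
        rw [e]; group
      rwa [e2] at h3
    have hb1 : b⁻¹ = 1 := by
      apply A.eq_one_of_norm j ((R.X _).inv_mem hb)
      intro x hx
      -- y⁻¹ maps X(sim j) → X(neg sim j)
      have h0 := A.conjH h hh _ _ hx
      have h1 := A.conjn j _ _ h0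
      rw [A.refl_neg_sim] at h1
      -- n h x h⁻¹ n⁻¹ ∈ X (sim j);
      have h2 : y⁻¹ * (R.n j * (h * x * h⁻¹) * (R.n j)⁻¹) * y ∈ R.X (R.neg (R.sim j)) := by
        have h1' : m⁻¹ * (R.n j * (h * x * h⁻¹) * (R.n j)⁻¹) * m ∈ R.X (R.sim i) :=
          A.conj_nW' L (by rw [hw]; exact h1)
        have h2 := A.conjn' i h1'
        rw [A.refl_sim] at h2
        have h3 := A.conj_nW L h2
        rw [hw'] at h3
        have e : y⁻¹ * (R.n j * (h * x * h⁻¹) * (R.n j)⁻¹) * y =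
            m * ((R.n i)⁻¹ * (m⁻¹ * (R.n j * (h * x * h⁻¹) * (R.n j)⁻¹) * m) * R.n i) * m⁻¹ := by
          rw [hydef]; group
        rw [e]; exact h3
      have e2 : y⁻¹ * (R.n j * (h * x * h⁻¹) * (R.n j)⁻¹) * y = b⁻¹ * x * (b⁻¹)⁻¹ := by
        rw [e, ha1]; group
      rwa [e2] at h2
    refine ⟨h, hh, ?_⟩
    have hb2 : b = 1 := by simpa using hb1
    rw [e, ha1, hb2]; group

/-- Deletion: if `w_L` makes the simple root `i` negative, then `n_L n_i` is a shorter word modulo `H`. -/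
theorem deletion (L : List ι) (i : ι) (hw : ¬ R.pos (R.wW L (R.sim i))) :
    ∃ L' : List ι, L'.length + 1 = L.length ∧ ∃ h ∈ R.H, R.nW L * R.n i = R.nW L' * h := by
  induction L with
  | nil => exact absurd (A.pos_sim i) hw
  | cons j L ih =>
    by_cases hp : R.pos (R.wW L (R.sim i))
    · -- then wW L (sim i) = sim j
      have hs : R.wW L (R.sim i) = R.sim j := by
        by_contra hne
        exact hw (A.refl_pos j _ hp hne)
      obtain ⟨h, hh, e⟩ := A.conj_n_of_sim L i j hs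
      refine ⟨L, rfl, (R.nW L)⁻¹ * (R.n j * R.n j * h) * R.nW L, A.conj_nW_H' L (R.H.mul_mem (A.nn j) hh), ?_⟩
      have e1 : R.nW L * R.n i = R.n j * h * R.nW L := by rw [← e]; group
      rw [nW_cons, mul_assoc, e1]; group
    · obtain ⟨L', hl, h, hh, e⟩ := ih hp
      refine ⟨j :: L', by simp [← hl], h, hh, ?_⟩
      rw [nW_cons, nW_cons, mul_assoc, e, mul_assoc]

/-- Every word equals modulo `H` a word which is empty or makes some positive root negative. -/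
theorem exists_reduced (L : List ι) :
    ∃ L' : List ι, (∃ h ∈ R.H, R.nW L = R.nW L' * h) ∧
      (L' = [] ∨ ∃ i, ¬ R.pos (R.wW L' (R.sim i))) := by
  induction hk : L.length using Nat.strong_induction_on generalizing L with
  | _ k ih =>
    by_cases hL : L = []
    · exact ⟨[], ⟨1, R.H.one_mem, by rw [hL, mul_one]⟩, Or.inl rfl⟩
    · obtain ⟨L₀, i, rfl⟩ : ∃ L₀ i, L = L₀ ++ [i] :=
        ⟨L.dropLast, L.getLast hL, (List.dropLast_append_getLast hL).symm⟩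
      by_cases hp : R.pos (R.wW L₀ (R.sim i))
      · refine ⟨L₀ ++ [i], ⟨1, R.H.one_mem, by rw [mul_one]⟩, Or.inr ⟨i, ?_⟩⟩
        rw [wW_append, wW_cons, wW_nil, A.refl_sim, A.wW_neg, A.pos_neg, not_not]
        exact hp
      · obtain ⟨L₁, hl, h, hh, e⟩ := A.deletion L₀ i hp
        obtain ⟨L₂, ⟨h', hh', e'⟩, h2⟩ := ih L₁.length (by
          rw [← hk, List.length_append]; simp; omega) L₁ rfl
        refine ⟨L₂, ⟨h' * h, R.H.mul_mem hh' hh, ?_⟩, h2⟩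
        rw [nW_append, nW_cons, nW_nil, mul_one, e, e', mul_assoc]

/-! ### Bruhat decomposition -/

theorem conjH_Ui (i : ι) {h : Γ} (hh : h ∈ R.H) {u : Γ} (hu : u ∈ R.Ui i) : h * u * h⁻¹ ∈ R.Ui i := by
  have : R.Ui i ≤ (R.Ui i).comap (MulAut.conj h).toMonoidHom := by
    refine iSup₂_le fun r hr x hx => ?_
    exact (le_iSup₂_of_le r hr le_rfl : R.X r ≤ R.Ui i) (A.conjH h hh r x hx)
  exact this hu

theorem conjn_Ui (i : ι) {u : Γ} (hu : u ∈ R.Ui i) : (R.n i)⁻¹ * u * R.n i ∈ R.Ui i := by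
  have : R.Ui i ≤ (R.Ui i).comap (MulAut.conj (R.n i)⁻¹).toMonoidHom := by
    refine iSup₂_le fun r hr x hx => ?_
    have h1 := A.conjn' i hx
    have h2 : R.X (R.refl i r) ≤ R.Ui i := by
      refine le_iSup₂_of_le (R.refl i r) ⟨A.refl_pos i r hr.1 hr.2, ?_⟩ le_rfl
      intro h3
      have h4 : r = R.neg (R.sim i) := by
        rw [← A.refl_refl i r, h3, A.refl_sim]
      rw [h4, A.pos_neg] at hr
      exact hr.1 (A.pos_sim i)
    have := h2 h1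
    simpa [MulAut.conj_apply] using this
  have h3 := this hu
  simpa [MulAut.conj_apply] using h3

theorem Ui_le_U (i : ι) : R.Ui i ≤ R.U :=
  iSup₂_le fun r hr => X_le_U A hr.1

/-- `B = H X_i U_i`. -/
theorem mem_B (i : ι) {b : Γ} (hb : b ∈ R.B) :
    ∃ h ∈ R.H, ∃ x ∈ R.X (R.sim i), ∃ u ∈ R.Ui i, b = h * x * u := by
  have hx1 : ∀ x ∈ R.X (R.sim i), ∀ u ∈ R.Ui i, x⁻¹ * u * x ∈ R.Ui i := by
    intro x hx u hu
    have := A.Unorm i _ ((R.X _).inv_mem hx) u hu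
    rwa [inv_inv] at this
  have hgen : ∀ g ∈ R.B, ∀ z : Γ, (∃ h ∈ R.H, ∃ x ∈ R.X (R.sim i), ∃ u ∈ R.Ui i, z = h * x * u) →
      (∃ h ∈ R.H, ∃ x ∈ R.X (R.sim i), ∃ u ∈ R.Ui i, g * z = h * x * u) := by
    intro g hg
    have hX : ∀ y ∈ R.X (R.sim i), ∀ z : Γ, (∃ h ∈ R.H, ∃ x ∈ R.X (R.sim i), ∃ u ∈ R.Ui i, z = h * x * u) →
      (∃ h ∈ R.H, ∃ x ∈ R.X (R.sim i), ∃ u ∈ R.Ui i, y * z = h * x * u) := by
      rintro y hy z ⟨h, hh, x, hx, u, hu, rfl⟩
      exact ⟨h, hh, (h⁻¹ * y * h) * x, (R.X _).mul_mem (A.conjH' hh hy) hx, u, hu, by group⟩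
    have hU : ∀ y ∈ R.Ui i, ∀ z : Γ, (∃ h ∈ R.H, ∃ x ∈ R.X (R.sim i), ∃ u ∈ R.Ui i, z = h * x * u) →
      (∃ h ∈ R.H, ∃ x ∈ R.X (R.sim i), ∃ u ∈ R.Ui i, y * z = h * x * u) := by
      rintro y hy z ⟨h, hh, x, hx, u, hu, rfl⟩
      have h1 : h⁻¹ * y * h ∈ R.Ui i := by
        have := A.conjH_Ui i (R.H.inv_mem hh) hy
        rwa [inv_inv] at this
      exact ⟨h, hh, x, hx, (x⁻¹ * (h⁻¹ * y * h) * x) * u, (R.Ui i).mul_mem (hx1 x hx _ h1) hu, by group⟩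
    have hH : ∀ y ∈ R.H, ∀ z : Γ, (∃ h ∈ R.H, ∃ x ∈ R.X (R.sim i), ∃ u ∈ R.Ui i, z = h * x * u) →
      (∃ h ∈ R.H, ∃ x ∈ R.X (R.sim i), ∃ u ∈ R.Ui i, y * z = h * x * u) := by
      rintro y hy z ⟨h, hh, x, hx, u, hu, rfl⟩
      exact ⟨y * h, R.H.mul_mem hy hh, x, hx, u, hu, by group⟩
    have hle : R.B ≤ R.Ui i ⊔ R.X (R.sim i) ⊔ R.H := by
      refine sup_le (iSup₂_le fun r hr => ?_) le_sup_right
      by_cases hri : r = R.sim i
      · rw [hri]; exact le_sup_right.trans le_sup_left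
      · exact (le_iSup₂_of_le r ⟨hr, hri⟩ le_rfl : R.X r ≤ R.Ui i).trans (le_sup_left.trans le_sup_left)
    have hg' := hle hg
    clear hg
    rw [← Subgroup.closure_eq (R.Ui i), ← Subgroup.closure_eq (R.X (R.sim i)),
      ← Subgroup.closure_eq R.H, ← Subgroup.closure_union, ← Subgroup.closure_union] at hg'
    induction hg' using Subgroup.closure_induction'' with
    | mem x hx =>
      rcases hx with (hx | hx) | hx
      · exact hU x hx
      · exact hX x hx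
      · exact hH x hx
    | inv_mem x hx =>
      rcases hx with (hx | hx) | hx
      · exact hU _ ((R.Ui i).inv_mem hx)
      · exact hX _ ((R.X _).inv_mem hx)
      · exact hH _ (R.H.inv_mem hx)
    | one => intro z hz; rwa [one_mul]
    | mul x y _ _ hx hy =>
      intro z hz; rw [mul_assoc]; exact hx _ (hy z hz)
  have := hgen b hb 1 ⟨1, R.H.one_mem, 1, (R.X _).one_mem, 1, (R.Ui i).one_mem, by group⟩
  rwa [mul_one] at this

/-- The set `B N B` is everything, if `B` and the `n i` generate `Γ`. -/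
theorem exists_bruhat (hgen : R.B ⊔ Subgroup.closure (Set.range R.n) = ⊤) (g : Γ) :
    ∃ b ∈ R.B, ∃ L : List ι, ∃ b' ∈ R.B, g = b * R.nW L * b' := by
  -- right multiplication by generators
  have hB : ∀ c ∈ R.B, ∀ z : Γ, (∃ b ∈ R.B, ∃ L : List ι, ∃ b' ∈ R.B, z = b * R.nW L * b') →
      (∃ b ∈ R.B, ∃ L : List ι, ∃ b' ∈ R.B, z * c = b * R.nW L * b') := by
    rintro c hc z ⟨b, hb, L, b', hb', rfl⟩
    exact ⟨b, hb, L, b' * c, R.B.mul_mem hb' hc, by group⟩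
  have hH : R.H ≤ R.B := H_le_B A
  have hn : ∀ i, ∀ z : Γ, (∃ b ∈ R.B, ∃ L : List ι, ∃ b' ∈ R.B, z = b * R.nW L * b') →
      (∃ b ∈ R.B, ∃ L : List ι, ∃ b' ∈ R.B, z * R.n i = b * R.nW L * b') := by
    rintro i z ⟨b, hb, L, b', hb', rfl⟩
    obtain ⟨h, hh, x, hx, u, hu, rfl⟩ := A.mem_B i hb'
    have hu' : (R.n i)⁻¹ * u * R.n i ∈ R.B := (le_sup_left : R.U ≤ R.B) (Ui_le_U A i (A.conjn_Ui i hu))
    have hh' := A.conj_nW_H L hh
    have hb1 : b * (R.nW L * h * (R.nW L)⁻¹) ∈ R.B := R.B.mul_mem hb (hH hh')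
    by_cases hp : R.pos (R.wW L (R.sim i))
    · have hx' := X_le_B A hp (A.conj_nW L hx)
      refine ⟨_, R.B.mul_mem hb1 hx', L ++ [i], _, hu', ?_⟩
      rw [nW_append, nW_cons, nW_nil]; group
    · obtain ⟨L', hl, k, hk, e⟩ := A.deletion L i hp
      have eL : R.nW L = R.nW L' * k * (R.n i)⁻¹ := by rw [← e]; group
      have eL' : R.nW L' = R.nW L * R.n i * k⁻¹ := by rw [e]; group
      have hx1 : (R.n i)⁻¹ * x * R.n i ∈ R.X (R.neg (R.sim i)) := by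
        have := A.conjn' i hx
        rwa [A.refl_sim] at this
      have e0 : b * R.nW L * (h * x * u) * R.n i =
          b * (R.nW L * h * (R.nW L)⁻¹) * (R.nW L * R.n i) * ((R.n i)⁻¹ * x * R.n i) * ((R.n i)⁻¹ * u * R.n i) := by
        group
      rcases A.Xneg i _ hx1 with h1 | ⟨a, ha, k', hk', c, hc, e1⟩
      · refine ⟨_, hb1, L', k * ((R.n i)⁻¹ * u * R.n i), R.B.mul_mem (hH hk) hu', ?_⟩
        rw [e0, h1, e]; group
      · have ha' : R.nW L' * (k * a * k⁻¹) * (R.nW L')⁻¹ ∈ R.B := by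
          have h2 : R.nW L * (R.n i * a * (R.n i)⁻¹) * (R.nW L)⁻¹ ∈ R.X (R.wW L (R.refl i (R.sim i))) :=
            A.conj_nW L (A.conjn i _ a ha)
          rw [A.refl_sim, A.wW_neg] at h2
          have e3 : R.nW L' * (k * a * k⁻¹) * (R.nW L')⁻¹ = R.nW L * (R.n i * a * (R.n i)⁻¹) * (R.nW L)⁻¹ := by
            rw [eL']; group
          rw [e3]
          refine X_le_B A ?_ h2
          rw [A.pos_neg]; exact hp
        have hk2 : (R.n i)⁻¹ * k * R.n i * k' ∈ R.H := R.H.mul_mem (A.conjnH' i hk) hk'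
        refine ⟨_, R.B.mul_mem hb1 ha', L' ++ [i], ((R.n i)⁻¹ * k * R.n i * k') * (c * ((R.n i)⁻¹ * u * R.n i)),
          R.B.mul_mem (hH hk2) (R.B.mul_mem (X_le_B A (A.pos_sim i) hc) hu'), ?_⟩
        rw [e0, e1, e, nW_append, nW_cons, nW_nil]; group
  have hninv : ∀ i, ∀ z : Γ, (∃ b ∈ R.B, ∃ L : List ι, ∃ b' ∈ R.B, z = b * R.nW L * b') →
      (∃ b ∈ R.B, ∃ L : List ι, ∃ b' ∈ R.B, z * (R.n i)⁻¹ = b * R.nW L * b') := by
    intro i z hz
    have h1 := hB _ (hH (R.H.inv_mem (A.nn i))) _ (hn i z hz)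
    have e : z * R.n i * (R.n i * R.n i)⁻¹ = z * (R.n i)⁻¹ := by group
    rwa [e] at h1
  have main : ∀ g ∈ R.B ⊔ Subgroup.closure (Set.range R.n), ∀ z : Γ,
      (∃ b ∈ R.B, ∃ L : List ι, ∃ b' ∈ R.B, z = b * R.nW L * b') →
      (∃ b ∈ R.B, ∃ L : List ι, ∃ b' ∈ R.B, z * g = b * R.nW L * b') := by
    intro g hg
    rw [← Subgroup.closure_eq R.B, ← Subgroup.closure_union] at hg
    induction hg using Subgroup.closure_induction'' with
    | mem x hx =>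
      rcases hx with hx | ⟨i, rfl⟩
      · exact hB x hx
      · exact hn i
    | inv_mem x hx =>
      rcases hx with hx | ⟨i, rfl⟩
      · exact hB _ (R.B.inv_mem hx)
      · exact hninv i
    | one => intro z hz; rwa [mul_one]
    | mul x y _ _ hx hy =>
      intro z hz; rw [← mul_assoc]; exact hy _ (hx z hz)
  have := main g (hgen ▸ Subgroup.mem_top g) 1 ⟨1, R.B.one_mem, [], 1, R.B.one_mem, by rw [nW_nil]; group⟩
  rwa [one_mul] at this

/-- The kernel of a homomorphism which keeps the negative root subgroups out of the image of `B` lies in `B`. -/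
theorem ker_le_B (hgen : R.B ⊔ Subgroup.closure (Set.range R.n) = ⊤) {G' : Type*} [Group G'] (θ : Γ →* G')
    (hθ : ∀ r, ¬ R.pos r → ¬ (R.X r).map θ ≤ R.B.map θ) : θ.ker ≤ R.B := by
  intro g hg
  obtain ⟨b, hb, L, b', hb', rfl⟩ := A.exists_bruhat hgen g
  obtain ⟨L', ⟨h, hh, e⟩, h1⟩ := A.exists_reduced L
  rcases h1 with rfl | ⟨i, hi⟩
  · rw [e, nW_nil, one_mul]
    exact R.B.mul_mem (R.B.mul_mem hb (H_le_B A hh)) hb'
  · exfalso
    apply hθ _ hi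
    rintro _ ⟨x, hx, rfl⟩
    have hy := A.conj_nW' L' hx
    have hy' := X_le_B A (A.pos_sim i) hy
    rw [MonoidHom.mem_ker] at hg
    have e1 : θ (R.nW L') = θ (b⁻¹ * b'⁻¹ * h⁻¹) := by
      rw [e] at hg
      have : R.nW L' = b⁻¹ * (b * (R.nW L' * h) * b') * b'⁻¹ * h⁻¹ := by group
      rw [this]; simp only [map_mul, map_inv] at hg ⊢; rw [hg]; group
    refine ⟨(b⁻¹ * b'⁻¹ * h⁻¹) * ((R.nW L')⁻¹ * x * R.nW L') * (b⁻¹ * b'⁻¹ * h⁻¹)⁻¹, ?_, ?_⟩
    · have h2 : b⁻¹ * b'⁻¹ * h⁻¹ ∈ R.B :=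
        R.B.mul_mem (R.B.mul_mem (R.B.inv_mem hb) (R.B.inv_mem hb')) (R.B.inv_mem (H_le_B A hh))
      exact R.B.mul_mem (R.B.mul_mem h2 hy') (R.B.inv_mem h2)
    · rw [map_mul, map_mul, map_inv, ← e1]
      simp only [map_mul, map_inv]; group

/-- `B = U H`. -/
theorem mem_B_iff {b : Γ} (hb : b ∈ R.B) : ∃ u ∈ R.U, ∃ h ∈ R.H, b = u * h := by
  have hconj : ∀ h ∈ R.H, ∀ u ∈ R.U, h * u * h⁻¹ ∈ R.U := by
    intro h hh u hu
    have : R.U ≤ R.U.comap (MulAut.conj h).toMonoidHom := by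
      refine iSup₂_le fun r hr x hx => ?_
      exact X_le_U A hr (A.conjH h hh r x hx)
    exact this hu
  have main : ∀ g ∈ R.B, ∀ z : Γ, (∃ u ∈ R.U, ∃ h ∈ R.H, z = u * h) → ∃ u ∈ R.U, ∃ h ∈ R.H, g * z = u * h := by
    intro g hg
    have hU : ∀ y ∈ R.U, ∀ z : Γ, (∃ u ∈ R.U, ∃ h ∈ R.H, z = u * h) → ∃ u ∈ R.U, ∃ h ∈ R.H, y * z = u * h := by
      rintro y hy z ⟨u, hu, h, hh, rfl⟩
      exact ⟨y * u, R.U.mul_mem hy hu, h, hh, by group⟩
    have hH : ∀ y ∈ R.H, ∀ z : Γ, (∃ u ∈ R.U, ∃ h ∈ R.H, z = u * h) → ∃ u ∈ R.U, ∃ h ∈ R.H, y * z = u * h := by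
      rintro y hy z ⟨u, hu, h, hh, rfl⟩
      exact ⟨y * u * y⁻¹, hconj y hy u hu, y * h, R.H.mul_mem hy hh, by group⟩
    rw [RData.B, ← Subgroup.closure_eq R.U, ← Subgroup.closure_eq R.H, ← Subgroup.closure_union] at hg
    induction hg using Subgroup.closure_induction'' with
    | mem x hx =>
      rcases hx with hx | hx
      · exact hU x hx
      · exact hH x hx
    | inv_mem x hx =>
      rcases hx with hx | hx
      · exact hU _ (R.U.inv_mem hx)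
      · exact hH _ (R.H.inv_mem hx)
    | one => intro z hz; rwa [one_mul]
    | mul x y _ _ hx hy =>
      intro z hz; rw [mul_assoc]; exact hx _ (hy z hz)
  have := main b hb 1 ⟨1, R.U.one_mem, 1, R.H.one_mem, by group⟩
  rwa [mul_one] at this

end Axioms

end RData

end Cfsg.Agent.ChevalleyStructure.SteinbergBruhat
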