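import Cfsg.Agent.ChevalleyStructure.GoodCheck

/-!
# The tables of the seven types are good (kernel computation), and consequences
-/

set_option autoImplicit false

namespace Cfsg.Agent.ChevalleyStructure.Good

open Cfsg Cfsg.Lie
open Cfsg.Agent.ChevalleyStructure.Columns
open Cfsg.Agent.ChevalleyStructure.Additive
open Cfsg.Agent.ChevalleyStructure.GoodCheck

theorem goodb_G2 : goodb chevG2 = true := by decide +kernel
theorem goodb_B2 : goodb chevB2 = true := by decide +kernel
theorem goodb_D4 : goodb chevD4 = true := by decide +kernel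
theorem goodb_F4 : goodb chevF4 = true := by decide +kernel
theorem goodb_E6 : goodb chevE6 = true := by decide +kernel
theorem goodb_E7 : goodb chevE7 = true := by decide +kernel
theorem goodb_E8 : goodb chevE8 = true := by decide +kernel

/-- Well-formedness of the tables at each root, for the seven types. -/
theorem goodAt_of_mem (D : ChevalleyDatum)
    (hD : D ∈ [chevG2, chevB2, chevD4, chevF4, chevE6, chevE7, chevE8])
    (r : ℕ) (hr : r < D.nroots) : GoodAt D r := by
  apply goodAt_of_goodb D _ r hr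
  simp only [List.mem_cons, List.not_mem_nil, or_false] at hD
  rcases hD with rfl | rfl | rfl | rfl | rfl | rfl | rfl
  · exact goodb_G2
  · exact goodb_B2
  · exact goodb_D4
  · exact goodb_F4
  · exact goodb_E6
  · exact goodb_E7
  · exact goodb_E8

variable {F : Type*} [Field F] {D : ChevalleyDatum}

theorem x_eq_xMat (r : ℕ) (hr : r < D.nroots) (t : F) : D.x F r t = D.xMat F ⟨r, hr⟩ t := by
  unfold ChevalleyDatum.x
  exact dif_pos hr

theorem x_zero (r : ℕ) (h : GoodAt D r) : D.x F r 0 = 1 := by
  unfold ChevalleyDatum.x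
  by_cases hr : r < D.nroots
  · rw [dif_pos hr]
    ext v c
    rcases c with i | s
    · rw [xMat_inl, Matrix.one_apply]
      simp
    · rw [Matrix.one_apply]
      have hv : dl F D v s.val = if v = Sum.inr s then 1 else 0 := by
        rcases v with j | w
        · simp [dl_inl]
        · simp [dl_inr, Fin.ext_iff]
      by_cases hsr : s = ⟨r, hr⟩
      · subst hsr
        rw [xMat_self]
        exact hv
      · by_cases hs : s.val = D.negIdx.getD r 0
        · rw [xMat_neg D ⟨r, hr⟩ 0 v s hs hsr, hv]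
          simp
        · rw [xMat_ne D ⟨r, hr⟩ 0 v s hs hsr h.sorted, hv, chSum_zero _ _ _ Nat.one_pos, add_zero]
  · rw [dif_neg hr]

theorem eq_zero_of_x_eq_one (r : ℕ) (hr : r < D.nroots) (h : GoodAt D r) (t : F)
    (ht : D.x F r t = 1) : t = 0 := by
  rw [x_eq_xMat r hr] at ht
  have h1 := congrFun (congrFun ht (Sum.inr ⟨r, hr⟩)) (Sum.inr ⟨D.negIdx.getD r 0, h.neg_lt⟩)
  have hne : (⟨D.negIdx.getD r 0, h.neg_lt⟩ : Fin D.nroots) ≠ ⟨r, hr⟩ := fun h' =>
    h.neg_ne (congrArg Fin.val h')
  rw [xMat_neg D ⟨r, hr⟩ t _ ⟨D.negIdx.getD r 0, h.neg_lt⟩ rfl hne, Matrix.one_apply_ne] at h1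
  · rw [dl_inr, dl_inr, if_neg (fun h' => h.neg_ne h'.symm), if_pos rfl] at h1
    have h2 : -(t ^ 2) = 0 := by simpa using h1
    exact pow_eq_zero_iff (two_ne_zero) |>.1 (neg_eq_zero.1 h2)
  · intro h'
    exact hne (Sum.inr.inj h').symm

end Cfsg.Agent.ChevalleyStructure.Good
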