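import Cfsg.Prelude.Def_ChevStructure
import Cfsg.Prelude.Def_LieTypes
import Cfsg.Prelude.Def_ChevB2
import Cfsg.Agent.S1023
import Cfsg.Agent.S1024

/-!
# Root elements, words, `n_r(t)`, `h_r(t)` of the tabulated Chevalley data as elements of `GL`

`xG hD F r t` is the element of `GL D.Idx F` whose matrix is `D.x F r t` (every `r : ℕ`, the identity out of
range), `wordG hD w` the one whose matrix is `D.wordMat F w`, `nG hD r t`, `hG hD r t` those with matrices
`D.nMat F r t`, `D.hMat F r t`. The rest is bookkeeping: additivity, inverses and membership in the standard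
subgroups. Everything rests on S1023 (additivity) and S1024 (`x_r(t) = 1 ↔ t = 0`).
-/

set_option autoImplicit false

namespace Cfsg.Agent.ChevalleyStructure.Elts

open Cfsg.Lie

universe u

/-- `D` is one of the seven tabulated data. -/
abbrev InList (D : ChevalleyDatum) : Prop := D ∈ [chevG2, chevB2, chevD4, chevF4, chevE6, chevE7, chevE8]

variable {F : Type u} [Field F] {D : ChevalleyDatum}

theorem x_of_lt {r : ℕ} (h : r < D.nroots) (t : F) : D.x F r t = D.xMat F ⟨r, h⟩ t := dif_pos h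

theorem x_of_not_lt {r : ℕ} (h : ¬ r < D.nroots) (t : F) : D.x F r t = 1 := dif_neg h

theorem x_add (hD : InList D) (r : ℕ) (t₁ t₂ : F) : D.x F r t₁ * D.x F r t₂ = D.x F r (t₁ + t₂) := by
  by_cases hr : r < D.nroots
  · exact Cfsg.Agent.S1023.result D hD r hr t₁ t₂
  · rw [x_of_not_lt hr, x_of_not_lt hr, x_of_not_lt hr, one_mul]

theorem x_zero (hD : InList D) (r : ℕ) : D.x F r (0 : F) = 1 := by
  by_cases hr : r < D.nroots
  · exact (Cfsg.Agent.S1024.result D hD r hr 0).2 rfl
  · exact x_of_not_lt hr 0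

theorem x_eq_one_iff (hD : InList D) {r : ℕ} (hr : r < D.nroots) (t : F) : D.x F r t = 1 ↔ t = 0 :=
  Cfsg.Agent.S1024.result D hD r hr t

/-- The root element `x_r(t)` as an element of the general linear group. -/
def xG (hD : InList D) (r : ℕ) (t : F) : GL D.Idx F where
  val := D.x F r t
  inv := D.x F r (-t)
  val_inv := by rw [x_add hD, add_neg_cancel, x_zero hD]
  inv_val := by rw [x_add hD, neg_add_cancel, x_zero hD]

@[simp] theorem coe_xG (hD : InList D) (r : ℕ) (t : F) :
    ((xG hD r t : GL D.Idx F) : Matrix D.Idx D.Idx F) = D.x F r t := rfl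

theorem eq_xG_iff (hD : InList D) (g : GL D.Idx F) (r : ℕ) (t : F) :
    g = xG hD r t ↔ (g : Matrix D.Idx D.Idx F) = D.x F r t :=
  Units.ext_iff

theorem xG_add (hD : InList D) (r : ℕ) (t₁ t₂ : F) : xG hD r t₁ * xG hD r t₂ = xG hD r (t₁ + t₂) :=
  Units.ext (x_add hD r t₁ t₂)

theorem xG_zero (hD : InList D) (r : ℕ) : xG hD r (0 : F) = 1 := Units.ext (x_zero hD r)

theorem xG_inv (hD : InList D) (r : ℕ) (t : F) : (xG hD r t)⁻¹ = xG hD r (-t) :=
  inv_eq_of_mul_eq_one_right (by rw [xG_add, add_neg_cancel, xG_zero])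

theorem xG_eq_one_iff (hD : InList D) {r : ℕ} (hr : r < D.nroots) (t : F) : xG hD r t = 1 ↔ t = 0 := by
  rw [← x_eq_one_iff hD hr t, Units.ext_iff]
  rfl

theorem xG_injective (hD : InList D) {r : ℕ} (hr : r < D.nroots) : Function.Injective (xG (F := F) hD r) := by
  intro t u h
  have : xG hD r (t + -u) = 1 := by
    rw [← xG_add, h, xG_add, add_neg_cancel, xG_zero]
  have := (xG_eq_one_iff hD hr _).1 this
  exact sub_eq_zero.1 (by rw [sub_eq_add_neg]; exact this)

theorem xG_of_not_lt (hD : InList D) {r : ℕ} (h : ¬ r < D.nroots) (t : F) : xG hD r t = 1 :=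
  Units.ext (x_of_not_lt h t)

/-- `t ↦ x_r(t)` as a homomorphism. -/
def xHom (hD : InList D) (F : Type u) [Field F] (r : ℕ) : Multiplicative F →* GL D.Idx F where
  toFun t := xG hD r t.toAdd
  map_one' := xG_zero hD r
  map_mul' a b := (xG_add hD r a.toAdd b.toAdd).symm

/-! ### Words -/

/-- The word `[(r₁,t₁), …]` as the element `x_{r₁}(t₁) ⋯` of the general linear group. -/
def wordG (hD : InList D) (w : List (ℕ × F)) : GL D.Idx F := (w.map fun p => xG hD p.1 p.2).prod

theorem wordG_nil (hD : InList D) : wordG (F := F) hD [] = 1 := rfl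

theorem wordG_cons (hD : InList D) (p : ℕ × F) (w : List (ℕ × F)) :
    wordG hD (p :: w) = xG hD p.1 p.2 * wordG hD w := by
  simp [wordG]

theorem wordG_append (hD : InList D) (w v : List (ℕ × F)) : wordG hD (w ++ v) = wordG hD w * wordG hD v := by
  simp [wordG]

theorem wordMat_nil (D : ChevalleyDatum) : D.wordMat F [] = 1 := rfl

theorem wordMat_cons (D : ChevalleyDatum) (p : ℕ × F) (w : List (ℕ × F)) :
    D.wordMat F (p :: w) = D.x F p.1 p.2 * D.wordMat F w := by
  show (List.map _ (p :: w)).prod = _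
  rw [List.map_cons, List.prod_cons]
  rfl

theorem wordMat_append (D : ChevalleyDatum) (w v : List (ℕ × F)) :
    D.wordMat F (w ++ v) = D.wordMat F w * D.wordMat F v := by
  show (List.map _ (w ++ v)).prod = _
  rw [List.map_append, List.prod_append]
  rfl

@[simp] theorem coe_wordG (hD : InList D) (w : List (ℕ × F)) :
    ((wordG hD w : GL D.Idx F) : Matrix D.Idx D.Idx F) = D.wordMat F w := by
  induction w with
  | nil => rfl
  | cons p w ih => rw [wordG_cons, Units.val_mul, ih, wordMat_cons]; rfl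

theorem eq_wordG_iff (hD : InList D) (g : GL D.Idx F) (w : List (ℕ × F)) :
    g = wordG hD w ↔ (g : Matrix D.Idx D.Idx F) = D.wordMat F w := by
  rw [← coe_wordG hD w]
  exact Units.ext_iff

/-- `n_r(t)` in the general linear group. -/
def nG (hD : InList D) (r : ℕ) (t : F) : GL D.Idx F := wordG hD (D.nWord r t)

/-- `h_r(t)` in the general linear group. -/
def hG (hD : InList D) (r : ℕ) (t : F) : GL D.Idx F := wordG hD (D.hWord r t)

@[simp] theorem coe_nG (hD : InList D) (r : ℕ) (t : F) :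
    ((nG hD r t : GL D.Idx F) : Matrix D.Idx D.Idx F) = D.nMat F r t := coe_wordG hD _

@[simp] theorem coe_hG (hD : InList D) (r : ℕ) (t : F) :
    ((hG hD r t : GL D.Idx F) : Matrix D.Idx D.Idx F) = D.hMat F r t := coe_wordG hD _

theorem eq_nG_iff (hD : InList D) (g : GL D.Idx F) (r : ℕ) (t : F) :
    g = nG hD r t ↔ (g : Matrix D.Idx D.Idx F) = D.nMat F r t := eq_wordG_iff hD g _

theorem eq_hG_iff (hD : InList D) (g : GL D.Idx F) (r : ℕ) (t : F) :
    g = hG hD r t ↔ (g : Matrix D.Idx D.Idx F) = D.hMat F r t := eq_wordG_iff hD g _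

theorem nG_def (hD : InList D) (r : ℕ) (t : F) :
    nG hD r t = xG hD r t * (xG hD (D.neg r) (-t⁻¹) * xG hD r t) := by
  show wordG hD [(r, t), (D.neg r, -t⁻¹), (r, t)] = _
  rw [wordG_cons, wordG_cons, wordG_cons, wordG_nil, mul_one]

theorem hG_def (hD : InList D) (r : ℕ) (t : F) : hG hD r t = nG hD r t * nG hD r (-1) :=
  wordG_append hD _ _

/-! ### Membership in the standard subgroups -/

theorem mem_of_xG_mem (hD : InList D) {K : Subgroup (GL D.Idx F)} {w : List (ℕ × F)}
    (h : ∀ p ∈ w, xG hD p.1 p.2 ∈ K) : wordG hD w ∈ K := by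
  induction w with
  | nil => exact K.one_mem
  | cons p w ih =>
    rw [wordG_cons]
    exact K.mul_mem (h p List.mem_cons_self) (ih fun q hq => h q (List.mem_cons_of_mem _ hq))

theorem xG_mem_group (hD : InList D) (r : ℕ) (t : F) : xG hD r t ∈ D.group F := by
  by_cases hr : r < D.nroots
  · exact Subgroup.subset_closure ⟨⟨r, hr⟩, t, x_of_lt hr t⟩
  · rw [xG_of_not_lt hD hr]
    exact Subgroup.one_mem _

theorem wordG_mem_group (hD : InList D) (w : List (ℕ × F)) : wordG hD w ∈ D.group F :=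
  mem_of_xG_mem hD fun _ _ => xG_mem_group hD _ _

theorem nG_mem_group (hD : InList D) (r : ℕ) (t : F) : nG hD r t ∈ D.group F := wordG_mem_group hD _

theorem hG_mem_group (hD : InList D) (r : ℕ) (t : F) : hG hD r t ∈ D.group F := wordG_mem_group hD _

theorem xG_mem_rootSubgroup (hD : InList D) (r : ℕ) (t : F) : xG hD r t ∈ D.rootSubgroup F r :=
  Subgroup.subset_closure ⟨t, rfl⟩

theorem rootSubgroup_eq_range (hD : InList D) (F : Type u) [Field F] (r : ℕ) :
    D.rootSubgroup F r = (xHom hD F r).range := by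
  apply le_antisymm
  · refine (Subgroup.closure_le _).2 ?_
    rintro g ⟨t, ht⟩
    exact ⟨Multiplicative.ofAdd t, ((eq_xG_iff hD g r t).2 ht).symm⟩
  · rintro _ ⟨t, rfl⟩
    exact xG_mem_rootSubgroup hD r _

theorem mem_rootSubgroup_iff (hD : InList D) (r : ℕ) (g : GL D.Idx F) :
    g ∈ D.rootSubgroup F r ↔ ∃ t : F, g = xG hD r t := by
  rw [rootSubgroup_eq_range hD]
  exact ⟨fun ⟨t, ht⟩ => ⟨t.toAdd, ht.symm⟩, fun ⟨t, ht⟩ => ⟨Multiplicative.ofAdd t, ht.symm⟩⟩

theorem xG_mem_posUnipotent (hD : InList D) {r : ℕ} (hr : D.IsPosRoot r) (t : F) :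
    xG hD r t ∈ D.posUnipotent F := Subgroup.subset_closure ⟨r, t, hr, rfl⟩

theorem xG_mem_negUnipotent (hD : InList D) {r : ℕ} (hr : D.IsNegRoot r) (t : F) :
    xG hD r t ∈ D.negUnipotent F := Subgroup.subset_closure ⟨r, t, hr, rfl⟩

theorem hG_mem_diagonal (hD : InList D) {r : ℕ} (hr : r < D.nroots) {t : F} (ht : t ≠ 0) :
    hG hD r t ∈ D.diagonalSubgroup F := Subgroup.subset_closure ⟨r, t, hr, ht, coe_hG hD r t⟩

theorem diagonal_le_monomial (D : ChevalleyDatum) (F : Type u) [Field F] :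
    D.diagonalSubgroup F ≤ D.monomialSubgroup F := le_sup_left

theorem nG_one_mem_monomial (hD : InList D) {r : ℕ} (hr : r < D.nroots) :
    nG hD r (1 : F) ∈ D.monomialSubgroup F :=
  (le_sup_right : _ ≤ D.monomialSubgroup F) (Subgroup.subset_closure ⟨r, hr, coe_nG hD r 1⟩)

theorem group_le_iff (hD : InList D) (K : Subgroup (GL D.Idx F)) :
    D.group F ≤ K ↔ ∀ r < D.nroots, ∀ t : F, xG hD r t ∈ K := by
  constructor
  · intro h r _ t
    exact h (xG_mem_group hD r t)
  · intro h
    refine (Subgroup.closure_le _).2 ?_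
    rintro g ⟨r, t, hg⟩
    have : g = xG hD r.1 t := (eq_xG_iff hD g r.1 t).2 (hg.trans (x_of_lt r.2 t).symm)
    rw [this]
    exact h r.1 r.2 t

theorem posUnipotent_le_iff (hD : InList D) (K : Subgroup (GL D.Idx F)) :
    D.posUnipotent F ≤ K ↔ ∀ r, D.IsPosRoot r → ∀ t : F, xG hD r t ∈ K := by
  constructor
  · intro h r hr t
    exact h (xG_mem_posUnipotent hD hr t)
  · intro h
    refine (Subgroup.closure_le _).2 ?_
    rintro g ⟨r, t, hr, hg⟩
    rw [(eq_xG_iff hD g r t).2 hg]
    exact h r hr t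

theorem negUnipotent_le_iff (hD : InList D) (K : Subgroup (GL D.Idx F)) :
    D.negUnipotent F ≤ K ↔ ∀ r, D.IsNegRoot r → ∀ t : F, xG hD r t ∈ K := by
  constructor
  · intro h r hr t
    exact h (xG_mem_negUnipotent hD hr t)
  · intro h
    refine (Subgroup.closure_le _).2 ?_
    rintro g ⟨r, t, hr, hg⟩
    rw [(eq_xG_iff hD g r t).2 hg]
    exact h r hr t

theorem diagonal_le_iff (hD : InList D) (K : Subgroup (GL D.Idx F)) :
    D.diagonalSubgroup F ≤ K ↔ ∀ r < D.nroots, ∀ t : F, t ≠ 0 → hG hD r t ∈ K := by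
  constructor
  · intro h r hr t ht
    exact h (hG_mem_diagonal hD hr ht)
  · intro h
    refine (Subgroup.closure_le _).2 ?_
    rintro g ⟨r, t, hr, ht, hg⟩
    rw [(eq_hG_iff hD g r t).2 hg]
    exact h r hr t ht

theorem monomial_le_iff (hD : InList D) (K : Subgroup (GL D.Idx F)) :
    D.monomialSubgroup F ≤ K ↔
      (∀ r < D.nroots, ∀ t : F, t ≠ 0 → hG hD r t ∈ K) ∧ ∀ r < D.nroots, nG hD r (1 : F) ∈ K := by
  constructor
  · intro h
    exact ⟨fun r hr t ht => h (diagonal_le_monomial D F (hG_mem_diagonal hD hr ht)),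
      fun r hr => h (nG_one_mem_monomial hD hr)⟩
  · rintro ⟨h1, h2⟩
    refine sup_le ((diagonal_le_iff hD K).2 h1) ((Subgroup.closure_le _).2 ?_)
    rintro g ⟨r, hr, hg⟩
    rw [(eq_nG_iff hD g r 1).2 hg]
    exact h2 r hr

theorem posUnipotent_le_group (hD : InList D) (F : Type u) [Field F] : D.posUnipotent F ≤ D.group F :=
  (posUnipotent_le_iff hD _).2 fun r _ t => xG_mem_group hD r t

theorem negUnipotent_le_group (hD : InList D) (F : Type u) [Field F] : D.negUnipotent F ≤ D.group F :=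
  (negUnipotent_le_iff hD _).2 fun r _ t => xG_mem_group hD r t

theorem diagonal_le_group (hD : InList D) (F : Type u) [Field F] : D.diagonalSubgroup F ≤ D.group F :=
  (diagonal_le_iff hD _).2 fun r _ t _ => hG_mem_group hD r t

theorem monomial_le_group (hD : InList D) (F : Type u) [Field F] : D.monomialSubgroup F ≤ D.group F :=
  (monomial_le_iff hD _).2 ⟨fun r _ t _ => hG_mem_group hD r t, fun r _ => nG_mem_group hD r 1⟩

end Cfsg.Agent.ChevalleyStructure.Elts
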