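/-
Unitriangularity of the subgroups U and V of the Chevalley groups of types G₂, B₂, D₄, F₄, E₆, E₇, E₈.
Everything here is unconditional: the table facts are checked by `decide +kernel`.
-/
import Cfsg.Prelude.Def_ChevStructure
import Cfsg.Prelude.Def_LieTypes
import Cfsg.Prelude.Def_ChevB2

set_option autoImplicit false

namespace Cfsg.Agent.ChevalleyStructure.Unitriangular

open Cfsg.Lie

/-! ### The table facts -/

/-- Boolean check on one row of the chain table. -/
def rowCheck (n r : ℕ) (row : Array (ℕ × Array (ℕ × ℤ))) : Bool :=
  if n ≤ 2 * r then row.toList.all fun e => e.2.toList.all fun q => Nat.blt e.1 q.1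
  else row.toList.all fun e => e.2.toList.all fun q => Nat.blt q.1 e.1

/-- Boolean check on one coroot. -/
def corootCheck (n r : ℕ) (row : Array ℤ) : Bool :=
  if n ≤ 2 * r then (row.toList.all fun c => decide (0 ≤ c)) && row.toList.any fun c => decide (0 < c)
  else (row.toList.all fun c => decide (c ≤ 0)) && row.toList.any fun c => decide (c < 0)

/-- Boolean check of the order facts of a datum. -/
def orderCheck (D : ChevalleyDatum) : Bool :=
  (D.chain.toList.zipIdx.all fun p => rowCheck D.nroots p.2 p.1) &&
  (D.negIdx.toList.zipIdx.all fun p => p.1 + p.2 + 1 == D.nroots) &&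
  (D.negIdx.toList.length == D.nroots) &&
  (D.coroot.toList.zipIdx.all fun p => corootCheck D.nroots p.2 p.1) &&
  (D.coroot.toList.length == D.nroots)

set_option maxRecDepth 100000 in
theorem orderCheck_G2 : orderCheck chevG2 = true := by decide +kernel
set_option maxRecDepth 100000 in
theorem orderCheck_B2 : orderCheck chevB2 = true := by decide +kernel
set_option maxRecDepth 100000 in
theorem orderCheck_D4 : orderCheck chevD4 = true := by decide +kernel
set_option maxRecDepth 100000 in
theorem orderCheck_F4 : orderCheck chevF4 = true := by decide +kernel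
set_option maxRecDepth 100000 in
theorem orderCheck_E6 : orderCheck chevE6 = true := by decide +kernel
set_option maxRecDepth 100000 in
theorem orderCheck_E7 : orderCheck chevE7 = true := by decide +kernel
set_option maxRecDepth 100000 in
theorem orderCheck_E8 : orderCheck chevE8 = true := by decide +kernel

theorem orderCheck_of_mem {D : ChevalleyDatum}
    (hD : D ∈ [chevG2, chevB2, chevD4, chevF4, chevE6, chevE7, chevE8]) : orderCheck D = true := by
  simp only [List.mem_cons, List.not_mem_nil, or_false] at hD
  rcases hD with rfl | rfl | rfl | rfl | rfl | rfl | rfl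
  · exact orderCheck_G2
  · exact orderCheck_B2
  · exact orderCheck_D4
  · exact orderCheck_F4
  · exact orderCheck_E6
  · exact orderCheck_E7
  · exact orderCheck_E8

variable {D : ChevalleyDatum}

theorem chain_check (h : orderCheck D = true) (r : ℕ) (hr : r < D.chain.size) :
    rowCheck D.nroots r (D.chain[r]'hr) = true := by
  unfold orderCheck at h
  simp only [Bool.and_eq_true] at h
  have h1 := List.all_eq_true.mp h.1.1.1.1 (D.chain.toList[r]'(by simpa using hr), r)
    (by
      rw [List.mem_zipIdx_iff_getElem?]
      simp [hr])
  simpa using h1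

/-- In the chain table of a row `r` in the upper half all chains increase. -/
theorem chain_lt_of_upper (h : orderCheck D = true) {r : ℕ} (hr : D.nroots ≤ 2 * r)
    {e : ℕ × Array (ℕ × ℤ)} (he : e ∈ (D.chain.getD r #[]).toList) {q : ℕ × ℤ} (hq : q ∈ e.2.toList) :
    e.1 < q.1 := by
  by_cases hr' : r < D.chain.size
  · have h1 := chain_check h r hr'
    rw [Array.getD_eq_getD_getElem?, Array.getElem?_eq_getElem hr', Option.getD_some] at he
    unfold rowCheck at h1
    rw [if_pos hr] at h1
    have h2 := List.all_eq_true.mp h1 e he
    have h3 := List.all_eq_true.mp h2 q hq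
    exact Nat.blt_eq.mp h3
  · rw [Array.getD_eq_getD_getElem?, Array.getElem?_eq_none (by omega)] at he
    simp at he

/-- In the chain table of a row `r` in the lower half all chains decrease. -/
theorem chain_lt_of_lower (h : orderCheck D = true) {r : ℕ} (hr : 2 * r < D.nroots)
    {e : ℕ × Array (ℕ × ℤ)} (he : e ∈ (D.chain.getD r #[]).toList) {q : ℕ × ℤ} (hq : q ∈ e.2.toList) :
    q.1 < e.1 := by
  by_cases hr' : r < D.chain.size
  · have h1 := chain_check h r hr'
    rw [Array.getD_eq_getD_getElem?, Array.getElem?_eq_getElem hr', Option.getD_some] at he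
    unfold rowCheck at h1
    rw [if_neg (by omega)] at h1
    have h2 := List.all_eq_true.mp h1 e he
    have h3 := List.all_eq_true.mp h2 q hq
    exact Nat.blt_eq.mp h3
  · rw [Array.getD_eq_getD_getElem?, Array.getElem?_eq_none (by omega)] at he
    simp at he

theorem negIdx_add (h : orderCheck D = true) {r : ℕ} (hr : r < D.nroots) :
    D.negIdx.getD r 0 + r + 1 = D.nroots := by
  unfold orderCheck at h
  simp only [Bool.and_eq_true] at h
  have hlen : D.negIdx.toList.length = D.nroots := by simpa using h.1.1.2
  have hsize : D.negIdx.size = D.nroots := by simpa using hlen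
  have hr' : r < D.negIdx.size := by omega
  have h1 := List.all_eq_true.mp h.1.1.1.2 (D.negIdx.toList[r]'(by simpa using hr'), r)
    (by
      rw [List.mem_zipIdx_iff_getElem?]
      simp [hr'])
  rw [Array.getD_eq_getD_getElem?, Array.getElem?_eq_getElem hr', Option.getD_some]
  simpa using h1

theorem neg_add (h : orderCheck D = true) {r : ℕ} (hr : r < D.nroots) :
    D.neg r + r + 1 = D.nroots := negIdx_add h hr

theorem neg_lt (h : orderCheck D = true) {r : ℕ} (hr : r < D.nroots) : D.neg r < D.nroots := by
  have := neg_add h hr
  omega

theorem neg_neg' (h : orderCheck D = true) {r : ℕ} (hr : r < D.nroots) : D.neg (D.neg r) = r := by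
  have h1 := neg_add h hr
  have h2 := neg_add h (neg_lt h hr)
  omega

theorem coroot_check (h : orderCheck D = true) {r : ℕ} (hr : r < D.nroots) :
    corootCheck D.nroots r (D.coroot.getD r #[]) = true := by
  unfold orderCheck at h
  simp only [Bool.and_eq_true] at h
  have hlen : D.coroot.toList.length = D.nroots := by simpa using h.2
  have hsize : D.coroot.size = D.nroots := by simpa using hlen
  have hr' : r < D.coroot.size := by omega
  have h1 := List.all_eq_true.mp h.1.2 (D.coroot.toList[r]'(by simpa using hr'), r)
    (by
      rw [List.mem_zipIdx_iff_getElem?]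
      simp [hr'])
  rw [Array.getD_eq_getD_getElem?, Array.getElem?_eq_getElem hr', Option.getD_some]
  simpa using h1

theorem isPosRoot_iff (h : orderCheck D = true) (r : ℕ) :
    D.IsPosRoot r ↔ r < D.nroots ∧ D.nroots ≤ 2 * r := by
  constructor
  · rintro ⟨hr, hc⟩
    refine ⟨hr, ?_⟩
    by_contra hlt
    have h1 := coroot_check h hr
    unfold corootCheck at h1
    rw [if_neg hlt, Bool.and_eq_true] at h1
    obtain ⟨c, hc1, hc2⟩ := List.any_eq_true.mp h1.2
    have := hc c hc1
    have h3 := of_decide_eq_true hc2
    omega
  · rintro ⟨hr, hn⟩
    refine ⟨hr, fun c hc => ?_⟩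
    have h1 := coroot_check h hr
    unfold corootCheck at h1
    rw [if_pos hn, Bool.and_eq_true] at h1
    exact of_decide_eq_true (List.all_eq_true.mp h1.1 c hc)

theorem isNegRoot_iff (h : orderCheck D = true) (r : ℕ) :
    D.IsNegRoot r ↔ 2 * r < D.nroots := by
  constructor
  · rintro ⟨hr, hc⟩
    by_contra hlt
    have h1 := coroot_check h hr
    unfold corootCheck at h1
    rw [if_pos (by omega), Bool.and_eq_true] at h1
    obtain ⟨c, hc1, hc2⟩ := List.any_eq_true.mp h1.2
    have := hc c hc1
    have h3 := of_decide_eq_true hc2
    omega
  · intro hn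
    refine ⟨by omega, fun c hc => ?_⟩
    have h1 := coroot_check h (r := r) (by omega)
    unfold corootCheck at h1
    rw [if_neg (by omega), Bool.and_eq_true] at h1
    exact of_decide_eq_true (List.all_eq_true.mp h1.1 c hc)

/-! ### The chain coefficients -/

theorem mem_of_chainCoeff {r s u : ℕ} {km : ℕ × ℤ} (h : km ∈ D.chainCoeff r s u) :
    ∃ e ∈ (D.chain.getD r #[]).toList, e.1 = s ∧ ∃ q ∈ e.2.toList, q.1 = u := by
  unfold ChevalleyDatum.chainCoeff at h
  simp only [List.mem_flatMap, List.mem_filter, List.mem_map, decide_eq_true_eq] at h
  obtain ⟨e, ⟨he, hes⟩, q, ⟨hq, hqu⟩, -⟩ := h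
  refine ⟨e, he, hes, q.1, ?_, hqu⟩
  exact List.fst_mem_of_mem_zipIdx hq

theorem chainCoeff_upper (h : orderCheck D = true) {r s u : ℕ} (hr : D.nroots ≤ 2 * r) (hu : u ≤ s) :
    D.chainCoeff r s u = [] := by
  rw [List.eq_nil_iff_forall_not_mem]
  intro km hkm
  obtain ⟨e, he, hes, q, hq, hqu⟩ := mem_of_chainCoeff hkm
  have := chain_lt_of_upper h hr he hq
  omega

theorem chainCoeff_lower (h : orderCheck D = true) {r s u : ℕ} (hr : 2 * r < D.nroots) (hu : s ≤ u) :
    D.chainCoeff r s u = [] := by
  rw [List.eq_nil_iff_forall_not_mem]
  intro km hkm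
  obtain ⟨e, he, hes, q, hq, hqu⟩ := mem_of_chainCoeff hkm
  have := chain_lt_of_lower h hr he hq
  omega

/-! ### The key of a coordinate -/

/-- The position of a coordinate: negative roots, then the coroot coordinates, then positive roots. -/
def key (D : ChevalleyDatum) : D.Idx → ℕ
  | Sum.inl _ => D.nroots
  | Sum.inr u => if 2 * u.val < D.nroots then u.val else u.val + D.nroots + 1

variable {F : Type*} [Field F]

/-- Lower unitriangular matrices with respect to the key. -/
def Lower (D : ChevalleyDatum) (M : Matrix D.Idx D.Idx F) : Prop :=
  ∀ row col, key D row ≤ key D col → M row col = if row = col then 1 else 0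

/-- Upper unitriangular matrices with respect to the key. -/
def Upper (D : ChevalleyDatum) (M : Matrix D.Idx D.Idx F) : Prop :=
  ∀ row col, key D col ≤ key D row → M row col = if row = col then 1 else 0

theorem lower_one : Lower D (1 : Matrix D.Idx D.Idx F) := fun _ _ _ => Matrix.one_apply
theorem upper_one : Upper D (1 : Matrix D.Idx D.Idx F) := fun _ _ _ => Matrix.one_apply

theorem lower_mul {M N : Matrix D.Idx D.Idx F} (hM : Lower D M) (hN : Lower D N) : Lower D (M * N) := by
  intro row col hrc
  rw [Matrix.mul_apply, Finset.sum_eq_single col]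
  · rw [hN col col le_rfl, if_pos rfl, mul_one, hM row col hrc]
  · intro k _ hk
    by_cases hkc : key D k ≤ key D col
    · rw [hN k col hkc, if_neg hk, mul_zero]
    · rw [hM row k (by omega), if_neg (by rintro rfl; omega), zero_mul]
  · intro hc
    exact absurd (Finset.mem_univ _) hc

theorem upper_mul {M N : Matrix D.Idx D.Idx F} (hM : Upper D M) (hN : Upper D N) : Upper D (M * N) := by
  intro row col hrc
  rw [Matrix.mul_apply, Finset.sum_eq_single row]
  · rw [hM row row le_rfl, if_pos rfl, one_mul, hN row col hrc]
  · intro k _ hk
    by_cases hkc : key D k ≤ key D row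
    · rw [hM row k hkc, if_neg (Ne.symm hk), zero_mul]
    · rw [hN k col (by omega), if_neg (by rintro rfl; omega), mul_zero]
  · intro hc
    exact absurd (Finset.mem_univ _) hc

theorem lower_of_mul_eq_one {M N : Matrix D.Idx D.Idx F} (hM : Lower D M) (h : M * N = 1) : Lower D N := by
  have key' : ∀ m : ℕ, ∀ row col, key D row = m → key D row ≤ key D col →
      N row col = if row = col then 1 else 0 := by
    intro m
    induction m using Nat.strong_induction_on with
    | _ m ih =>
      intro row col hm hrc
      have h1 : (M * N) row col = if row = col then 1 else 0 := by rw [h, Matrix.one_apply]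
      rw [Matrix.mul_apply, Finset.sum_eq_single row] at h1
      · rwa [hM row row le_rfl, if_pos rfl, one_mul] at h1
      · intro k _ hk
        by_cases hkr : key D row ≤ key D k
        · rw [hM row k hkr, if_neg (Ne.symm hk), zero_mul]
        · rw [ih (key D k) (by omega) k col rfl (by omega), if_neg (by rintro rfl; omega), mul_zero]
      · intro hc
        exact absurd (Finset.mem_univ _) hc
  exact fun row col => key' _ row col rfl

theorem upper_of_mul_eq_one {M N : Matrix D.Idx D.Idx F} (hM : Upper D M) (h : N * M = 1) : Upper D N := by
  have key' : ∀ m : ℕ, ∀ row col, key D col = m → key D col ≤ key D row →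
      N row col = if row = col then 1 else 0 := by
    intro m
    induction m using Nat.strong_induction_on with
    | _ m ih =>
      intro row col hm hrc
      have h1 : (N * M) row col = if row = col then 1 else 0 := by rw [h, Matrix.one_apply]
      rw [Matrix.mul_apply, Finset.sum_eq_single col] at h1
      · rwa [hM col col le_rfl, if_pos rfl, mul_one] at h1
      · intro k _ hk
        by_cases hkc : key D k ≤ key D col
        · by_cases hkc' : key D col ≤ key D k
          · rw [hM k col hkc', if_neg hk, mul_zero]
          · rw [ih (key D k) (by omega) row k rfl (by omega), if_neg (by rintro rfl; omega), zero_mul]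
        · rw [hM k col (by omega), if_neg hk, mul_zero]
      · intro hc
        exact absurd (Finset.mem_univ _) hc
  exact fun row col => key' _ row col rfl

/-! ### The root elements -/

theorem xMat_lower (h : orderCheck D = true) (r : Fin D.nroots) (hr : D.nroots ≤ 2 * r.val) (t : F) :
    Lower D (D.xMat F r t) := by
  have hneg := negIdx_add h r.isLt
  intro row col hrc
  unfold ChevalleyDatum.xMat
  rw [Matrix.of_apply]
  rcases col with i | s
  · rcases row with i' | u
    · simp only [Sum.inl.injEq]
    · have hu : 2 * u.val < D.nroots := by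
        by_contra hcon
        simp only [key, if_neg hcon] at hrc
        omega
      have hur : u ≠ r := by rintro rfl; omega
      simp only [if_neg hur, reduceCtorEq, if_false]
  · by_cases hsr : s = r
    · subst hsr
      rcases row with i' | u
      · simp
      · simp
    · simp only [if_neg hsr]
      by_cases hsn : s.val = D.negIdx.getD r.val 0
      · simp only [if_pos hsn]
        have hs : 2 * s.val < D.nroots := by omega
        rcases row with i' | u
        · simp only [key, if_pos hs] at hrc
          omega
        · by_cases hus : u = s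
          · subst hus; simp
          · have hu : 2 * u.val < D.nroots := by
              by_contra hcon
              simp only [key, if_neg hcon, if_pos hs] at hrc
              omega
            have hur : u ≠ r := by rintro rfl; omega
            simp [hus, hur]
      · simp only [if_neg hsn]
        rcases row with i' | u
        · simp
        · have hus : u.val ≤ s.val := by
            by_cases hs : 2 * s.val < D.nroots
            · by_cases hu : 2 * u.val < D.nroots
              · simpa only [key, if_pos hs, if_pos hu] using hrc
              · simp only [key, if_neg hu, if_pos hs] at hrc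
                omega
            · by_cases hu : 2 * u.val < D.nroots
              · omega
              · simp only [key, if_neg hs, if_neg hu] at hrc
                omega
          simp only [chainCoeff_upper h hr hus]
          simp

theorem xMat_upper (h : orderCheck D = true) (r : Fin D.nroots) (hr : 2 * r.val < D.nroots) (t : F) :
    Upper D (D.xMat F r t) := by
  have hneg := negIdx_add h r.isLt
  intro row col hrc
  unfold ChevalleyDatum.xMat
  rw [Matrix.of_apply]
  rcases col with i | s
  · rcases row with i' | u
    · simp only [Sum.inl.injEq]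
    · have hu : ¬ 2 * u.val < D.nroots := by
        intro hcon
        simp only [key, if_pos hcon] at hrc
        omega
      have hur : u ≠ r := by rintro rfl; omega
      simp only [if_neg hur, reduceCtorEq, if_false]
  · by_cases hsr : s = r
    · subst hsr
      rcases row with i' | u
      · simp
      · simp
    · simp only [if_neg hsr]
      by_cases hsn : s.val = D.negIdx.getD r.val 0
      · simp only [if_pos hsn]
        have hs : ¬ 2 * s.val < D.nroots := by omega
        rcases row with i' | u
        · simp only [key, if_neg hs] at hrc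
          omega
        · by_cases hus : u = s
          · subst hus; simp
          · have hu : ¬ 2 * u.val < D.nroots := by
              intro hcon
              simp only [key, if_pos hcon, if_neg hs] at hrc
              omega
            have hur : u ≠ r := by rintro rfl; omega
            simp [hus, hur]
      · simp only [if_neg hsn]
        rcases row with i' | u
        · simp
        · have hus : s.val ≤ u.val := by
            by_cases hs : 2 * s.val < D.nroots
            · by_cases hu : 2 * u.val < D.nroots
              · simpa only [key, if_pos hs, if_pos hu] using hrc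
              · omega
            · by_cases hu : 2 * u.val < D.nroots
              · simp only [key, if_neg hs, if_pos hu] at hrc
                omega
              · simp only [key, if_neg hs, if_neg hu] at hrc
                omega
          simp only [chainCoeff_lower h hr hus]
          simp

theorem x_lower (h : orderCheck D = true) {r : ℕ} (hr : D.IsPosRoot r) (t : F) : Lower D (D.x F r t) := by
  rw [isPosRoot_iff h] at hr
  unfold ChevalleyDatum.x
  rw [dif_pos hr.1]
  exact xMat_lower h ⟨r, hr.1⟩ hr.2 t

theorem x_upper (h : orderCheck D = true) {r : ℕ} (hr : D.IsNegRoot r) (t : F) : Upper D (D.x F r t) := by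
  rw [isNegRoot_iff h] at hr
  unfold ChevalleyDatum.x
  rw [dif_pos (by omega)]
  exact xMat_upper h ⟨r, by omega⟩ hr t

/-! ### The subgroups -/

/-- The group of lower unitriangular matrices (with respect to `key`). -/
def lowerGroup (D : ChevalleyDatum) (F : Type*) [Field F] : Subgroup (GL D.Idx F) where
  carrier := {g | Lower D (g : Matrix D.Idx D.Idx F)}
  mul_mem' := by
    intro a b ha hb
    show Lower D ((a * b : GL D.Idx F) : Matrix D.Idx D.Idx F)
    rw [Units.val_mul]
    exact lower_mul ha hb
  one_mem' := lower_one
  inv_mem' := by
    intro a ha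
    exact lower_of_mul_eq_one ha (Units.mul_inv a)

/-- The group of upper unitriangular matrices (with respect to `key`). -/
def upperGroup (D : ChevalleyDatum) (F : Type*) [Field F] : Subgroup (GL D.Idx F) where
  carrier := {g | Upper D (g : Matrix D.Idx D.Idx F)}
  mul_mem' := by
    intro a b ha hb
    show Upper D ((a * b : GL D.Idx F) : Matrix D.Idx D.Idx F)
    rw [Units.val_mul]
    exact upper_mul ha hb
  one_mem' := upper_one
  inv_mem' := by
    intro a ha
    exact upper_of_mul_eq_one ha (Units.inv_mul a)

theorem mem_lowerGroup {g : GL D.Idx F} :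
    g ∈ lowerGroup D F ↔ Lower D (g : Matrix D.Idx D.Idx F) := Iff.rfl

theorem mem_upperGroup {g : GL D.Idx F} :
    g ∈ upperGroup D F ↔ Upper D (g : Matrix D.Idx D.Idx F) := Iff.rfl

theorem posUnipotent_le_lowerGroup
    (hD : D ∈ [chevG2, chevB2, chevD4, chevF4, chevE6, chevE7, chevE8]) :
    D.posUnipotent F ≤ lowerGroup D F := by
  unfold ChevalleyDatum.posUnipotent
  rw [Subgroup.closure_le]
  rintro g ⟨r, t, hr, hg⟩
  show Lower D (g : Matrix D.Idx D.Idx F)
  rw [hg]
  exact x_lower (orderCheck_of_mem hD) hr t

theorem negUnipotent_le_upperGroup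
    (hD : D ∈ [chevG2, chevB2, chevD4, chevF4, chevE6, chevE7, chevE8]) :
    D.negUnipotent F ≤ upperGroup D F := by
  unfold ChevalleyDatum.negUnipotent
  rw [Subgroup.closure_le]
  rintro g ⟨r, t, hr, hg⟩
  show Upper D (g : Matrix D.Idx D.Idx F)
  rw [hg]
  exact x_upper (orderCheck_of_mem hD) hr t

/-- The group of invertible diagonal matrices. -/
def diagGroup (D : ChevalleyDatum) (F : Type*) [Field F] : Subgroup (GL D.Idx F) where
  carrier := {g | ∀ row col, row ≠ col → (g : Matrix D.Idx D.Idx F) row col = 0}
  mul_mem' := by
    intro a b ha hb row col hrc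
    show ((a * b : GL D.Idx F) : Matrix D.Idx D.Idx F) row col = 0
    rw [Units.val_mul, Matrix.mul_apply]
    refine Finset.sum_eq_zero fun k _ => ?_
    by_cases hk : row = k
    · subst hk
      rw [hb row col hrc, mul_zero]
    · rw [ha row k hk, zero_mul]
  one_mem' := by
    intro row col hrc
    rw [Units.val_one, Matrix.one_apply_ne hrc]
  inv_mem' := by
    intro a ha row col hrc
    have h1 : ((a : Matrix D.Idx D.Idx F) * ((a⁻¹ : GL D.Idx F) : Matrix D.Idx D.Idx F)) = 1 := Units.mul_inv a
    have hd : ∀ row col, ((a : Matrix D.Idx D.Idx F) * ((a⁻¹ : GL D.Idx F) : Matrix D.Idx D.Idx F)) row col =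
        (a : Matrix D.Idx D.Idx F) row row * ((a⁻¹ : GL D.Idx F) : Matrix D.Idx D.Idx F) row col := by
      intro row col
      rw [Matrix.mul_apply, Finset.sum_eq_single row]
      · intro k _ hk
        rw [ha row k (Ne.symm hk), zero_mul]
      · intro hc
        exact absurd (Finset.mem_univ _) hc
    have h2 := hd row row
    rw [h1, Matrix.one_apply_eq] at h2
    have h3 := hd row col
    rw [h1, Matrix.one_apply_ne hrc] at h3
    have h4 : (a : Matrix D.Idx D.Idx F) row row ≠ 0 := by
      intro h0
      rw [h0, zero_mul] at h2
      exact one_ne_zero h2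
    exact (mul_eq_zero.mp h3.symm).resolve_left h4

theorem mem_diagGroup {g : GL D.Idx F} :
    g ∈ diagGroup D F ↔ ∀ row col, row ≠ col → (g : Matrix D.Idx D.Idx F) row col = 0 := Iff.rfl

theorem lowerGroup_inf_diagGroup : lowerGroup D F ⊓ diagGroup D F = ⊥ := by
  rw [eq_bot_iff]
  rintro g ⟨h1, h2⟩
  rw [Subgroup.mem_bot]
  refine Units.ext ?_
  refine Matrix.ext fun row col => ?_
  rw [Units.val_one, Matrix.one_apply]
  by_cases hrc : row = col
  · subst hrc
    exact h1 row row le_rfl
  · rw [if_neg hrc]
    exact h2 row col hrc

theorem upperGroup_inf_diagGroup : upperGroup D F ⊓ diagGroup D F = ⊥ := by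
  rw [eq_bot_iff]
  rintro g ⟨h1, h2⟩
  rw [Subgroup.mem_bot]
  refine Units.ext ?_
  refine Matrix.ext fun row col => ?_
  rw [Units.val_one, Matrix.one_apply]
  by_cases hrc : row = col
  · subst hrc
    exact h1 row row le_rfl
  · rw [if_neg hrc]
    exact h2 row col hrc

theorem lowerGroup_inf_upperGroup : lowerGroup D F ⊓ upperGroup D F = ⊥ := by
  rw [eq_bot_iff]
  rintro g ⟨h1, h2⟩
  rw [Subgroup.mem_bot]
  refine Units.ext ?_
  refine Matrix.ext fun row col => ?_
  rw [Units.val_one, Matrix.one_apply]
  rcases Nat.le_total (key D row) (key D col) with h | h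
  · exact h1 row col h
  · exact h2 row col h

/-- `U ∩ V = 1`. -/
theorem posUnipotent_inf_negUnipotent
    (hD : D ∈ [chevG2, chevB2, chevD4, chevF4, chevE6, chevE7, chevE8]) :
    D.posUnipotent F ⊓ D.negUnipotent F = ⊥ := by
  rw [eq_bot_iff, ← lowerGroup_inf_upperGroup]
  exact inf_le_inf (posUnipotent_le_lowerGroup hD) (negUnipotent_le_upperGroup hD)

end Cfsg.Agent.ChevalleyStructure.Unitriangular
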