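import Cfsg.Agent.ChevalleyStructure.W0Small
import Cfsg.Agent.ChevalleyStructure.W0E6
import Cfsg.Agent.ChevalleyStructure.W0E7
import Cfsg.Agent.ChevalleyStructure.W0E8
import Cfsg.Agent.ChevalleyStructure.Unitriangular

/-!
# Simple reflections on root indices: range, involutivity, compatibility with `neg`, and the induction principle
"every root is obtained from the fundamental roots by fundamental reflections".
-/

set_option autoImplicit false

namespace Cfsg.Agent.ChevalleyStructure.Reach

open Cfsg.Lie
open Cfsg.Agent.ChevalleyStructure.W0Core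

/-- The measure which decreases along the descent to the fundamental roots. -/
def mu (n s : ℕ) : ℕ := bif Nat.ble n (2 * s) then s else 2 * n - s

/-- The check of the packed reflection tables. -/
def chk (D : ChevalleyDatum) (T : ℕ → ℕ) : Bool :=
  (List.range D.nroots).all fun s =>
    ((List.range D.rank).all fun i => Nat.blt (look (T i) s) D.nroots &&
      (Nat.beq (look (T i) (D.nroots - 1 - s) + look (T i) s + 1) D.nroots &&
        Nat.beq (look (T i) (look (T i) s)) s)) &&
    ((D.simpleIdx.toList.any fun p => Nat.beq p s) ||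
      (List.range D.rank).any fun i => Nat.blt (mu D.nroots (look (T i) s)) (mu D.nroots s))

/-- The facts about the fundamental reflections on root indices. -/
structure Facts (D : ChevalleyDatum) : Prop where
  lt : ∀ i < D.rank, ∀ s < D.nroots, D.reflectRoot i s < D.nroots
  flip : ∀ i < D.rank, ∀ s < D.nroots, D.reflectRoot i (D.nroots - 1 - s) + D.reflectRoot i s + 1 = D.nroots
  invol : ∀ i < D.rank, ∀ s < D.nroots, D.reflectRoot i (D.reflectRoot i s) = s
  descent : ∀ s < D.nroots, (∃ i < D.rank, s = D.simple i) ∨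
    ∃ i < D.rank, mu D.nroots (D.reflectRoot i s) < mu D.nroots s

theorem facts_of_chk {D : ChevalleyDatum} {T : ℕ → ℕ} (h : chk D T = true)
    (hs : D.simpleIdx.toList.length = D.rank)
    (hT : ∀ i < D.rank, ∀ s < D.nroots, D.reflectRoot i s = look (T i) s) : Facts D := by
  have h1 : ∀ s < D.nroots, ∀ i < D.rank, look (T i) s < D.nroots ∧
      look (T i) (D.nroots - 1 - s) + look (T i) s + 1 = D.nroots ∧ look (T i) (look (T i) s) = s := by
    intro s hs i hi
    have h2 := List.all_eq_true.1 h s (List.mem_range.2 hs)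
    rw [Bool.and_eq_true] at h2
    have h3 := List.all_eq_true.1 h2.1 i (List.mem_range.2 hi)
    rw [Bool.and_eq_true, Bool.and_eq_true, Nat.blt_eq] at h3
    exact ⟨h3.1, Nat.eq_of_beq_eq_true h3.2.1, Nat.eq_of_beq_eq_true h3.2.2⟩
  refine ⟨?_, ?_, ?_, ?_⟩
  · intro i hi s hs
    rw [hT i hi s hs]
    exact (h1 s hs i hi).1
  · intro i hi s hs
    rw [hT i hi s hs, hT i hi _ (by omega)]
    exact (h1 s hs i hi).2.1
  · intro i hi s hs
    rw [hT i hi s hs, hT i hi _ (h1 s hs i hi).1]
    exact (h1 s hs i hi).2.2
  · intro s hs'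
    have h2 := List.all_eq_true.1 h s (List.mem_range.2 hs')
    rw [Bool.and_eq_true, Bool.or_eq_true] at h2
    rcases h2.2 with h3 | h3
    · left
      rw [List.any_eq_true] at h3
      obtain ⟨p, hp, hps⟩ := h3
      have hps := Nat.eq_of_beq_eq_true hps
      subst hps
      obtain ⟨i, hi, hip⟩ := List.mem_iff_getElem.1 hp
      refine ⟨i, hs ▸ hi, ?_⟩
      have hi' : i < D.simpleIdx.size := by simpa using hi
      show p = D.simpleIdx.getD i 0
      rw [← hip, Array.getD_eq_getD_getElem?, Array.getElem?_eq_getElem hi']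
      simp
    · right
      rw [List.any_eq_true] at h3
      obtain ⟨i, hi, h4⟩ := h3
      rw [List.mem_range] at hi
      rw [Nat.blt_eq] at h4
      refine ⟨i, hi, ?_⟩
      rw [hT i hi s hs']
      exact h4

theorem chkG2 : chk chevG2 W0Small.tabG2 = true := by decide +kernel
theorem chkB2 : chk chevB2 W0Small.tabB2 = true := by decide +kernel
theorem chkD4 : chk chevD4 W0Small.tabD4 = true := by decide +kernel
theorem chkF4 : chk chevF4 W0Small.tabF4 = true := by decide +kernel
theorem chkE6 : chk chevE6 W0E6.tabE6 = true := by decide +kernel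
theorem chkE7 : chk chevE7 W0E7.tabE7 = true := by decide +kernel
theorem chkE8 : chk chevE8 W0E8.tabE8 = true := by decide +kernel

theorem facts {D : ChevalleyDatum} (hD : D ∈ [chevG2, chevB2, chevD4, chevF4, chevE6, chevE7, chevE8]) :
    Facts D := by
  simp only [List.mem_cons, List.not_mem_nil, or_false] at hD
  rcases hD with h | h | h | h | h | h | h <;> rw [h]
  · exact facts_of_chk chkG2 (by decide) W0Small.tabG2_ok
  · exact facts_of_chk chkB2 (by decide) W0Small.tabB2_ok
  · exact facts_of_chk chkD4 (by decide) W0Small.tabD4_ok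
  · exact facts_of_chk chkF4 (by decide) W0Small.tabF4_ok
  · exact facts_of_chk chkE6 (by decide) W0E6.tabE6_ok
  · exact facts_of_chk chkE7 (by decide) W0E7.tabE7_ok
  · exact facts_of_chk chkE8 (by decide) W0E8.tabE8_ok

variable {D : ChevalleyDatum} (hD : D ∈ [chevG2, chevB2, chevD4, chevF4, chevE6, chevE7, chevE8])

include hD

theorem reflect_lt {i s : ℕ} (hi : i < D.rank) (hs : s < D.nroots) : D.reflectRoot i s < D.nroots :=
  (facts hD).lt i hi s hs

theorem reflect_reflect {i s : ℕ} (hi : i < D.rank) (hs : s < D.nroots) :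
    D.reflectRoot i (D.reflectRoot i s) = s :=
  (facts hD).invol i hi s hs

theorem neg_eq {s : ℕ} (hs : s < D.nroots) : D.neg s = D.nroots - 1 - s := by
  have := Unitriangular.neg_add (Unitriangular.orderCheck_of_mem hD) hs
  omega

theorem neg_lt {s : ℕ} (hs : s < D.nroots) : D.neg s < D.nroots := by
  rw [neg_eq hD hs]
  omega

theorem neg_neg {s : ℕ} (hs : s < D.nroots) : D.neg (D.neg s) = s := by
  rw [neg_eq hD (neg_lt hD hs), neg_eq hD hs]
  omega

theorem reflect_neg {i s : ℕ} (hi : i < D.rank) (hs : s < D.nroots) :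
    D.reflectRoot i (D.neg s) = D.neg (D.reflectRoot i s) := by
  rw [neg_eq hD hs, neg_eq hD (reflect_lt hD hi hs)]
  have := (facts hD).flip i hi s hs
  omega

/-- Induction over all the roots: from the fundamental roots by fundamental reflections. -/
theorem reach (P : ℕ → Prop) (h0 : ∀ i < D.rank, P (D.simple i))
    (h1 : ∀ i < D.rank, ∀ s < D.nroots, P s → P (D.reflectRoot i s)) : ∀ s < D.nroots, P s := by
  have key : ∀ m s, mu D.nroots s < m → s < D.nroots → P s := by
    intro m
    induction m with
    | zero => intro s h; exact absurd h (Nat.not_lt_zero _)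
    | succ m ih =>
      intro s hm hs
      rcases (facts hD).descent s hs with ⟨i, hi, rfl⟩ | ⟨i, hi, h⟩
      · exact h0 i hi
      · have hlt := reflect_lt hD hi hs
        have := h1 i hi _ hlt (ih _ (by omega) hlt)
        rwa [reflect_reflect hD hi hs] at this
  intro s hs
  exact key _ s (Nat.lt_succ_self _) hs

end Cfsg.Agent.ChevalleyStructure.Reach
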