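import Cfsg.Agent.ChevalleyStructure.FastBase
import Cfsg.Prelude.Def_ChevB2

/-! Packed copy of the chain table of type B2. -/
set_option autoImplicit false
set_option maxRecDepth 100000

namespace Cfsg.Agent.ChevalleyStructure.FastDataB2
open Cfsg.Agent.ChevalleyStructure.FastBase

/-- the packed rows -/
def rows : Tree := (.node 0xc0800000a0200000000000000000000000000000000000000000 (.node 0x140d828000000000000040600280502000000000000018000000000000000000 (.node 0x1414000000000000000000000000000000c040000000000000000 (.node 0xc1800000a0a00000000 .nil .nil) .nil) (.node 0x181c0000000000183b060000000000000000000000c0600181b01 .nil .nil)) (.node 0xc12830000008100000000000000000000c02808000000000000040000000000 (.node 0xa0c00000000000000000000000000000060400000000 .nil .nil) (.node 0x40e0000000000141d828000018100000000000282502 .nil .nil)))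

theorem rows_check : rowsCheck rows Cfsg.Lie.chevB2.nroots Cfsg.Lie.chevB2.chain.toList 0 = true := by decide +kernel

end Cfsg.Agent.ChevalleyStructure.FastDataB2
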