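import Cfsg.Agent.ChevalleyStructure.SparseWord

/-!
The matrix of `n_p(1)`, `p` a fundamental root, from a kernel check of its columns over the integers.
-/

set_option autoImplicit false

namespace Cfsg.Agent.ChevalleyStructure.NSimple

open Cfsg.Lie Cfsg.Agent.ChevalleyStructure.SparseWord

/-! ### Packed lists -/

/-- A list of numbers below `2 ^ b` packed into one number. -/
noncomputable def pack (b : ℕ) (l : List ℕ) : ℕ :=
  List.rec (motive := fun _ => ℕ) 0 (fun a _ ih => Nat.add a (Nat.mul (Nat.pow 2 b) ih)) l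

/-- Reading a packed list. -/
def unpack (b T s : ℕ) : ℕ := Nat.mod (Nat.shiftRight T (Nat.mul b s)) (Nat.pow 2 b)

theorem pack_nil (b : ℕ) : pack b [] = 0 := rfl
theorem pack_cons (b a : ℕ) (l : List ℕ) : pack b (a :: l) = a + 2 ^ b * pack b l := rfl

theorem unpack_pack (b : ℕ) (l : List ℕ) (h : ∀ a ∈ l, a < 2 ^ b) (s : ℕ) : unpack b (pack b l) s = l.getD s 0 := by
  have key : ∀ T s, unpack b T s = T / (2 ^ b) ^ s % 2 ^ b := by
    intro T s
    show (T >>> (b * s)) % 2 ^ b = _
    rw [Nat.shiftRight_eq_div_pow, pow_mul]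
  induction l generalizing s with
  | nil => rw [key, pack_nil]; simp
  | cons a l ih =>
    have ha : a < 2 ^ b := h a (List.mem_cons_self ..)
    have hb : 0 < 2 ^ b := Nat.two_pow_pos b
    rw [key, pack_cons]
    cases s with
    | zero =>
      rw [pow_zero, Nat.div_one, Nat.add_mul_mod_self_left, Nat.mod_eq_of_lt ha]
      rfl
    | succ s =>
      rw [pow_succ', ← Nat.div_div_eq_div_mul, Nat.add_mul_div_left _ _ hb, Nat.div_eq_of_lt ha, zero_add,
        ← key, ih (fun a' ha' => h a' (List.mem_cons_of_mem _ ha'))]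
      rfl

variable (D : ChevalleyDatum)

/-- The sign `η_s` of `n_p(1) e_s = η_s e_{w_p(s)}`, `p = p_{i+1}`, read off the chain table. -/
def eta (i s : ℕ) : ℤ :=
  if s = D.simple i then -1
  else if s = D.neg (D.simple i) then -1
  else
    (-1) ^ (D.chainEntry (D.neg (D.simple i)) s).length *
      (if 0 < D.cartan i s then (D.chainM (D.neg (D.simple i)) s (D.cartan i s).toNat).sign
       else if D.cartan i s < 0 then (D.chainM (D.simple i) s (-(D.cartan i s)).toNat).sign else 1)

theorem eta_simple (i : ℕ) : eta D i (D.simple i) = -1 := by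
  unfold eta
  rw [if_pos rfl]

theorem eta_neg_simple (i : ℕ) : eta D i (D.neg (D.simple i)) = -1 := by
  unfold eta
  by_cases h : D.neg (D.simple i) = D.simple i
  · rw [if_pos h]
  · rw [if_neg h, if_pos rfl]

/-- Fast form of `chainEntry`. -/
noncomputable def entF (row : List (ℕ × Array (ℕ × ℤ))) (s : ℕ) : List (ℕ × ℤ) :=
  List.rec (motive := fun _ => List (ℕ × ℤ)) []
    (fun e _ ih => Bool.rec (motive := fun _ => List (ℕ × ℤ)) ih e.2.toList (Nat.beq e.1 s)) row

theorem entF_eq (r s : ℕ) : entF (D.chain.getD r #[]).toList s = D.chainEntry r s := by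
  unfold ChevalleyDatum.chainEntry
  induction (D.chain.getD r #[]).toList with
  | nil => rfl
  | cons e l ih =>
    have h1 : entF (e :: l) s = Bool.rec (motive := fun _ => List (ℕ × ℤ)) (entF l s) e.2.toList
      (Nat.beq e.1 s) := rfl
    rw [h1, ih, beq_eq_decide, List.find?_cons]
    by_cases h : e.1 = s
    · simp only [h, decide_true]
    · simp only [h, decide_false]

/-- Fast form of `reflectRoot`; `a` is the Cartan integer plus 3. -/
noncomputable def reflF (rp rm : List (ℕ × Array (ℕ × ℤ))) (p m a s : ℕ) : ℕ :=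
  cond (Nat.beq s p) m <| cond (Nat.beq s m) p <|
    cond (Nat.blt 3 a) ((((entF rm s)[a - 3 - 1]?).map Prod.fst).getD s) <|
      cond (Nat.blt a 3) ((((entF rp s)[3 - a - 1]?).map Prod.fst).getD s) s

/-- Fast form of `eta`. -/
noncomputable def etaF (rp rm : List (ℕ × Array (ℕ × ℤ))) (p m a s : ℕ) : ℤ :=
  cond (Nat.beq s p) (-1) <| cond (Nat.beq s m) (-1) <|
    (-1) ^ (entF rm s).length *
      (cond (Nat.blt 3 a) ((((entF rm s)[a - 3 - 1]?).map Prod.snd).getD 0).sign <|
        cond (Nat.blt a 3) ((((entF rp s)[3 - a - 1]?).map Prod.snd).getD 0).sign 1)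

theorem reflF_eq (i a s : ℕ) (ha : (a : ℤ) = D.cartan i s + 3) :
    reflF (D.chain.getD (D.simple i) #[]).toList (D.chain.getD (D.neg (D.simple i)) #[]).toList
      (D.simple i) (D.neg (D.simple i)) a s = D.reflectRoot i s := by
  unfold reflF ChevalleyDatum.reflectRoot ChevalleyDatum.chainRoot
  rw [entF_eq, entF_eq]
  simp only [beq_eq_decide, blt_eq_decide, Bool.cond_decide]
  by_cases h1 : s = D.simple i
  · rw [if_pos h1, if_pos h1]
  rw [if_neg h1, if_neg h1]
  by_cases h2 : s = D.neg (D.simple i)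
  · rw [if_pos h2, if_pos h2]
  rw [if_neg h2, if_neg h2]
  by_cases h3 : 0 < D.cartan i s
  · rw [if_pos h3, if_pos (by omega)]
    have : (D.cartan i s).toNat = a - 3 := by omega
    rw [this]
  rw [if_neg h3, if_neg (by omega)]
  by_cases h4 : D.cartan i s < 0
  · rw [if_pos h4, if_pos (by omega)]
    have : (-(D.cartan i s)).toNat = 3 - a := by omega
    rw [this]
  rw [if_neg h4, if_neg (by omega)]

theorem etaF_eq (i a s : ℕ) (ha : (a : ℤ) = D.cartan i s + 3) :
    etaF (D.chain.getD (D.simple i) #[]).toList (D.chain.getD (D.neg (D.simple i)) #[]).toList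
      (D.simple i) (D.neg (D.simple i)) a s = eta D i s := by
  unfold etaF eta ChevalleyDatum.chainM
  rw [entF_eq, entF_eq]
  simp only [beq_eq_decide, blt_eq_decide, Bool.cond_decide]
  by_cases h1 : s = D.simple i
  · rw [if_pos h1, if_pos h1]
  rw [if_neg h1, if_neg h1]
  by_cases h2 : s = D.neg (D.simple i)
  · rw [if_pos h2, if_pos h2]
  rw [if_neg h2, if_neg h2]
  by_cases h3 : 0 < D.cartan i s
  · rw [if_pos h3, if_pos (by omega)]
    have : (D.cartan i s).toNat = a - 3 := by omega
    rw [this]
  rw [if_neg h3, if_neg (by omega)]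
  by_cases h4 : D.cartan i s < 0
  · rw [if_pos h4, if_pos (by omega)]
    have : (-(D.cartan i s)).toNat = 3 - a := by omega
    rw [this]
  rw [if_neg h4, if_neg (by omega)]

/-- The row of Cartan integers `A_{p_{i+1}, s}`, shifted by 3. -/
def cartRow (i : ℕ) : List ℕ := (D.cartanSR.getD i #[]).toList.map fun a => (a + 3).toNat

/-- The checks on the negation table and on the i-th row of the Cartan table. -/
def checkTab (i : ℕ) : Bool :=
  D.negIdx.toList.all (fun a => Nat.blt a D.nroots) && Nat.beq D.negIdx.toList.length D.nroots &&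
  Nat.ble D.nroots 256 && Nat.beq (D.cartanSR.getD i #[]).toList.length D.nroots &&
  (D.cartanSR.getD i #[]).toList.all (fun a => decide (-3 ≤ a) && decide (a ≤ 4))

/-- The check for the root `s`. -/
noncomputable def checkRoot (rp rm : List (ℕ × Array (ℕ × ℤ))) (p m NT CT s : ℕ) : Bool :=
  force (unpack 3 CT s) fun a =>
  force (reflF rp rm p m a s) fun w =>
  force (unpack 8 NT s) fun ns =>
  force (unpack 3 CT w) fun aw =>
  force (unpack 3 CT ns) fun an =>
    (decide (etaF rp rm p m a s = 1) || decide (etaF rp rm p m a s = -1)) &&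
    Nat.blt w D.nroots &&
    decide (etaF rp rm p m a s * etaF rp rm p m aw w = (-1) ^ (Nat.sub a 3 + Nat.sub 3 a)) &&
    decide (etaF rp rm p m a s * etaF rp rm p m an ns = 1) &&
    sameVec (wcol D [(p, 1), (m, -1), (p, 1)] s) [(w, etaF rp rm p m a s)]

/-- The full check for the fundamental root `p_{i+1}`. -/
noncomputable def check (i : ℕ) : Bool :=
  checkTab D i &&
  (force (D.simple i) fun p => force (D.neg p) fun m =>
  force (pack 8 D.negIdx.toList) fun NT => force (pack 3 (cartRow D i)) fun CT =>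
    Nat.blt p D.nroots && Nat.blt m D.nroots &&
    ((List.range D.nroots).all fun s => force s fun s =>
      checkRoot D (D.chain.getD p #[]).toList (D.chain.getD m #[]).toList p m NT CT s) &&
    ((List.range D.rank).all fun j => force j fun j => force (Nat.add D.nroots j) fun c =>
      sameVec (wcol D [(p, 1), (m, -1), (p, 1)] c) [(c, 1), (Nat.add D.nroots i, -(D.cartan j p))]))

/-! ### Soundness -/

/-- The facts proved by `check`. -/
structure Facts (i : ℕ) : Prop where
  simple_lt : D.simple i < D.nroots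
  neg_simple_lt : D.neg (D.simple i) < D.nroots
  eta_one : ∀ s < D.nroots, eta D i s = 1 ∨ eta D i s = -1
  reflect_lt : ∀ s < D.nroots, D.reflectRoot i s < D.nroots
  eta_mul_reflect : ∀ s < D.nroots, eta D i s * eta D i (D.reflectRoot i s) = (-1) ^ (D.cartan i s).natAbs
  eta_mul_neg : ∀ s < D.nroots, eta D i s * eta D i (D.neg s) = 1
  col_root : ∀ s < D.nroots, ∀ u, coefAt (wcol D [(D.simple i, 1), (D.neg (D.simple i), -1), (D.simple i, 1)] s) u =
    coefAt [(D.reflectRoot i s, eta D i s)] u
  col_cartan : ∀ j < D.rank, ∀ u, coefAt (wcol D [(D.simple i, 1), (D.neg (D.simple i), -1), (D.simple i, 1)]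
    (D.nroots + j)) u = coefAt [(D.nroots + j, 1), (D.nroots + i, -(D.cartan j (D.simple i)))] u

theorem unpack_neg (i : ℕ) (h : checkTab D i = true) (s : ℕ) :
    unpack 8 (pack 8 D.negIdx.toList) s = D.neg s := by
  unfold checkTab at h
  simp only [Bool.and_eq_true, List.all_eq_true, blt_eq_decide, decide_eq_true_eq] at h
  obtain ⟨⟨⟨⟨h1, -⟩, h3⟩, -⟩, -⟩ := h
  have h3' : D.nroots ≤ 256 := Nat.le_of_ble_eq_true h3
  rw [unpack_pack]
  · show D.negIdx.toList.getD s 0 = D.negIdx.getD s 0
    simp
  · intro a ha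
    have := h1 a ha
    omega

theorem unpack_cartan (i : ℕ) (h : checkTab D i = true) (s : ℕ) (hs : s < D.nroots) :
    ((unpack 3 (pack 3 (cartRow D i)) s : ℕ) : ℤ) = D.cartan i s + 3 := by
  unfold checkTab at h
  simp only [Bool.and_eq_true, List.all_eq_true, blt_eq_decide, decide_eq_true_eq] at h
  obtain ⟨⟨⟨-, -⟩, h4⟩, h5⟩ := h
  have h4' : (D.cartanSR.getD i #[]).toList.length = D.nroots := Nat.eq_of_beq_eq_true h4
  rw [unpack_pack]
  · unfold cartRow
    have hs' : s < ((D.cartanSR.getD i #[]).toList.map fun a => (a + 3).toNat).length := by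
      rw [List.length_map, h4']; exact hs
    have hs'' : s < (D.cartanSR.getD i #[]).toList.length := by rw [h4']; exact hs
    rw [List.getD_eq_getElem _ _ hs', List.getElem_map]
    have e : D.cartan i s = (D.cartanSR.getD i #[]).toList[s] := by
      unfold ChevalleyDatum.cartan
      rw [Array.getD_eq_getD_getElem?, ← Array.getElem?_toList, List.getElem?_eq_getElem hs'']
      rfl
    rw [e]
    have := h5 _ (List.getElem_mem hs'')
    omega
  · intro a ha
    unfold cartRow at ha
    rw [List.mem_map] at ha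
    obtain ⟨b, hb, rfl⟩ := ha
    have := h5 b hb
    omega

theorem pow_sub_add_sub (A : ℤ) (a : ℕ) (ha : (a : ℤ) = A + 3) :
    ((-1 : ℤ)) ^ (Nat.sub a 3 + Nat.sub 3 a) = (-1) ^ A.natAbs := by
  congr 1
  show (a - 3) + (3 - a) = _
  omega

theorem facts_of_check (i : ℕ) (h : check D i = true) : Facts D i := by
  unfold check at h
  rw [Bool.and_eq_true] at h
  obtain ⟨hT, h⟩ := h
  simp only [force_eq, Bool.and_eq_true, List.all_eq_true, blt_eq_decide, decide_eq_true_eq, List.mem_range] at h
  obtain ⟨⟨⟨hp, hm⟩, hroot⟩, hcart⟩ := h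
  have hneg : ∀ s, unpack 8 (pack 8 D.negIdx.toList) s = D.neg s := unpack_neg D i hT
  have hc := unpack_cartan D i hT
  have hnegLt : ∀ s < D.nroots, D.neg s < D.nroots := by
    intro s hs
    have h' := hT
    unfold checkTab at h'
    simp only [Bool.and_eq_true, List.all_eq_true, blt_eq_decide, decide_eq_true_eq] at h'
    obtain ⟨⟨⟨⟨h1, h2⟩, -⟩, -⟩, -⟩ := h'
    have h2' : D.negIdx.toList.length = D.nroots := Nat.eq_of_beq_eq_true h2
    have hs'' : s < D.negIdx.toList.length := by rw [h2']; exact hs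
    unfold ChevalleyDatum.neg
    rw [Array.getD_eq_getD_getElem?, ← Array.getElem?_toList, List.getElem?_eq_getElem hs'']
    exact h1 _ (List.getElem_mem hs'')
  have hR : ∀ s < D.nroots,
      (eta D i s = 1 ∨ eta D i s = -1) ∧ D.reflectRoot i s < D.nroots ∧
      eta D i s * eta D i (D.reflectRoot i s) = (-1) ^ (D.cartan i s).natAbs ∧
      eta D i s * eta D i (D.neg s) = 1 ∧
      ∀ u, coefAt (wcol D [(D.simple i, 1), (D.neg (D.simple i), -1), (D.simple i, 1)] s) u =
        coefAt [(D.reflectRoot i s, eta D i s)] u := by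
    intro s hs
    have h1 := hroot s hs
    unfold checkRoot at h1
    simp only [force_eq, hneg] at h1
    rw [reflF_eq D i _ s (hc s hs), etaF_eq D i _ s (hc s hs)] at h1
    simp only [Bool.and_eq_true, Bool.or_eq_true, blt_eq_decide, decide_eq_true_eq] at h1
    obtain ⟨⟨⟨⟨a1, a2⟩, a3⟩, a4⟩, a5⟩ := h1
    rw [etaF_eq D i _ _ (hc _ a2), pow_sub_add_sub _ _ (hc s hs)] at a3
    rw [etaF_eq D i _ _ (hc _ (hnegLt s hs))] at a4
    exact ⟨a1, a2, a3, a4, coefAt_of_sameVec _ _ a5⟩
  exact
    { simple_lt := hp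
      neg_simple_lt := hm
      eta_one := fun s hs => (hR s hs).1
      reflect_lt := fun s hs => (hR s hs).2.1
      eta_mul_reflect := fun s hs => (hR s hs).2.2.1
      eta_mul_neg := fun s hs => (hR s hs).2.2.2.1
      col_root := fun s hs => (hR s hs).2.2.2.2
      col_cartan := fun j hj => coefAt_of_sameVec _ _ (hcart j hj) }

section Matrix

variable (F : Type*) [Field F] {D} {i : ℕ}

theorem nMat_eq_wordMat (p : ℕ) : D.nMat F p 1 =
    D.wordMat F ((([(p, 1), (D.neg p, -1), (p, 1)] : List (ℕ × ℤ))).map fun q => (q.1, (q.2 : F))) := by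
  unfold ChevalleyDatum.nMat ChevalleyDatum.nWord
  simp

theorem nMat_apply (h : Facts D i) (row col : D.Idx) :
    D.nMat F (D.simple i) 1 row col =
      ((coefAt (wcol D [(D.simple i, 1), (D.neg (D.simple i), -1), (D.simple i, 1)] (code D col))
        (code D row) : ℤ) : F) := by
  rw [nMat_eq_wordMat]
  apply wordMat_apply
  intro q hq
  simp only [List.mem_cons, List.not_mem_nil, or_false] at hq
  rcases hq with rfl | rfl | rfl
  · exact h.simple_lt
  · exact h.neg_simple_lt
  · exact h.simple_lt

/-- `n_p(1)` on root vectors. -/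
theorem nMat_apply_inr (h : Facts D i) (row : D.Idx) (s : Fin D.nroots) :
    D.nMat F (D.simple i) 1 row (Sum.inr s) = Sum.elim (fun _ => (0 : F))
      (fun s' : Fin D.nroots => if (s' : ℕ) = D.reflectRoot i s then ((eta D i s : ℤ) : F) else 0) row := by
  rw [nMat_apply F h, code_inr, h.col_root s s.2, coefAt_cons, coefAt_nil, add_zero]
  have h1 := h.reflect_lt s s.2
  rcases row with j | s'
  · rw [code_inl, if_neg (by simp only; omega)]
    simp
  · rw [code_inr, Sum.elim_inr]
    by_cases h2 : (s' : ℕ) = D.reflectRoot i s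
    · rw [if_pos h2, if_pos h2.symm]
    · rw [if_neg h2, if_neg (fun e => h2 e.symm)]
      simp

/-- `n_p(1)` on the fundamental coroots. -/
theorem nMat_apply_inl (h : Facts D i) (row : D.Idx) (j : Fin D.rank) :
    D.nMat F (D.simple i) 1 row (Sum.inl j) = Sum.elim
      (fun j' : Fin D.rank => (if j' = j then (1 : F) else 0) -
        (if (j' : ℕ) = i then ((D.cartan j (D.simple i) : ℤ) : F) else 0))
      (fun _ => (0 : F)) row := by
  rw [nMat_apply F h, code_inl, h.col_cartan j j.2, coefAt_cons, coefAt_cons, coefAt_nil, add_zero]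
  rcases row with j' | s'
  · rw [code_inl, Sum.elim_inl]
    have e1 : (D.nroots + (j : ℕ) = D.nroots + (j' : ℕ)) ↔ j' = j := by
      rw [Fin.ext_iff]
      omega
    have e2 : (D.nroots + i = D.nroots + (j' : ℕ)) ↔ (j' : ℕ) = i := by omega
    simp only [e1, e2]
    split_ifs <;> simp [sub_eq_add_neg]
  · have := s'.2
    rw [code_inr, Sum.elim_inr]
    simp only
    rw [if_neg (by omega), if_neg (by omega)]
    simp

/-- The matrix of `n_p(1)`. -/
theorem nMat_simple_one (h : Facts D i) :
    D.nMat F (D.simple i) 1 = Matrix.of (fun (row col : D.Idx) =>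
        Sum.elim
          (fun j' : Fin D.rank => Sum.elim
            (fun j : Fin D.rank => (if j' = j then (1 : F) else 0) -
              (if (j' : ℕ) = i then ((D.cartan j (D.simple i) : ℤ) : F) else 0))
            (fun _ => (0 : F)) col)
          (fun s' : Fin D.nroots => Sum.elim
            (fun _ => (0 : F))
            (fun s : Fin D.nroots => if (s' : ℕ) = D.reflectRoot i s then ((eta D i s : ℤ) : F) else 0) col)
          row) := by
  ext row col
  rw [Matrix.of_apply]
  rcases col with j | s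
  · rw [nMat_apply_inl F h]
    rcases row with j' | s'
    · simp only [Sum.elim_inl]
    · simp only [Sum.elim_inr, Sum.elim_inl]
  · rw [nMat_apply_inr F h]
    rcases row with j' | s'
    · simp only [Sum.elim_inl, Sum.elim_inr]
    · simp only [Sum.elim_inr]

end Matrix

end Cfsg.Agent.ChevalleyStructure.NSimple
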