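import Cfsg.Agent.ChevalleyStructure.FastFinal
import Cfsg.Agent.ChevalleyStructure.FastDataB2
import Cfsg.Agent.ChevalleyStructure.NSimpleSmall
import Cfsg.Agent.ChevalleyStructure.Good

/-! Reflection compatibility of the chain table of type B2: kernel checks. -/

set_option autoImplicit false
set_option maxRecDepth 100000

namespace Cfsg.Agent.ChevalleyStructure.FastReflB2

open Cfsg.Lie
open Cfsg.Agent.ChevalleyStructure.FastRefl
open Cfsg.Agent.ChevalleyStructure.FastEta
open Cfsg.Agent.ChevalleyStructure.FastFinal
open Cfsg.Agent.ChevalleyStructure.FastDataB2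

/-- packed table of the reflection `w_0` -/
def W0 : ℕ := 0x406020700050103
/-- signs of `w_0` (bit 1 is `-1`) -/
def E0 : ℕ := 0xff

theorem rows0 : rowsT rows (byte W0) (bit1 E0) chevB2.chain.toList 0 = true := by decide +kernel
theorem invol0 : invol (byte W0) chevB2.nroots = true := by decide +kernel
theorem eta0 : etaCheck chevB2 0 W0 E0 = true := by decide +kernel

/-- packed table of the reflection `w_1` -/
def W1 : ℕ := 0x705060304010200
/-- signs of `w_1` (bit 1 is `-1`) -/
def E1 : ℕ := 0x5a

theorem rows1 : rowsT rows (byte W1) (bit1 E1) chevB2.chain.toList 0 = true := by decide +kernel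
theorem invol1 : invol (byte W1) chevB2.nroots = true := by decide +kernel
theorem eta1 : etaCheck chevB2 1 W1 E1 = true := by decide +kernel

theorem lt : ∀ r < chevB2.nroots, ∀ s, ∀ e ∈ chevB2.chainEntry r s, e.1 < chevB2.nroots :=
  fun r hr => (Good.goodAt_of_mem chevB2 (by simp) r hr).lt

theorem compat : ∀ i < chevB2.rank, ReflCompat chevB2 i := by
  intro i hi
  have hi : i < 2 := hi
  have hc := NSimpleSmall.checkB2 i hi
  interval_cases i
  · exact reflCompat rows_check rows0 invol0 eta0 hc lt
  · exact reflCompat rows_check rows1 invol1 eta1 hc lt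

end Cfsg.Agent.ChevalleyStructure.FastReflB2
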