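import Cfsg.Agent.ChevalleyStructure.FastFinal
import Cfsg.Agent.ChevalleyStructure.FastDataD4
import Cfsg.Agent.ChevalleyStructure.NSimpleSmall
import Cfsg.Agent.ChevalleyStructure.Good

/-! Reflection compatibility of the chain table of type D4: kernel checks. -/

set_option autoImplicit false
set_option maxRecDepth 100000

namespace Cfsg.Agent.ChevalleyStructure.FastReflD4

open Cfsg.Lie
open Cfsg.Agent.ChevalleyStructure.FastRefl
open Cfsg.Agent.ChevalleyStructure.FastEta
open Cfsg.Agent.ChevalleyStructure.FastFinal
open Cfsg.Agent.ChevalleyStructure.FastDataD4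

/-- packed table of the reflection `w_0` -/
def W0 : ℕ := 0x1711100f0e05161514130d0c0b0a04030201120908070600
/-- signs of `w_0` (bit 1 is `-1`) -/
def E0 : ℕ := 0x7c3e0

theorem rows0 : rowsT rows (byte W0) (bit1 E0) chevD4.chain.toList 0 = true := by decide +kernel
theorem invol0 : invol (byte W0) chevD4.nroots = true := by decide +kernel
theorem eta0 : etaCheck chevD4 0 W0 E0 = true := by decide +kernel

/-- packed table of the reflection `w_1` -/
def W1 : ℕ := 0x161715141213110d0c09100f08070e0b0a06040503020001
/-- signs of `w_1` (bit 1 is `-1`) -/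
def E1 : ℕ := 0x887e11

theorem rows1 : rowsT rows (byte W1) (bit1 E1) chevD4.chain.toList 0 = true := by decide +kernel
theorem invol1 : invol (byte W1) chevD4.nroots = true := by decide +kernel
theorem eta1 : etaCheck chevD4 1 W1 E1 = true := by decide +kernel

/-- packed table of the reflection `w_2` -/
def W2 : ℕ := 0x1714131615120f0e11100a0c0b0d07060908050201040300
/-- signs of `w_2` (bit 1 is `-1`) -/
def E2 : ℕ := 0x6324c6

theorem rows2 : rowsT rows (byte W2) (bit1 E2) chevD4.chain.toList 0 = true := by decide +kernel
theorem invol2 : invol (byte W2) chevD4.nroots = true := by decide +kernel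
theorem eta2 : etaCheck chevD4 2 W2 E2 = true := by decide +kernel

/-- packed table of the reflection `w_3` -/
def W3 : ℕ := 0x17151613141210110e0f0d0b0c0a08090607050304010200
/-- signs of `w_3` (bit 1 is `-1`) -/
def E3 : ℕ := 0x52994a

theorem rows3 : rowsT rows (byte W3) (bit1 E3) chevD4.chain.toList 0 = true := by decide +kernel
theorem invol3 : invol (byte W3) chevD4.nroots = true := by decide +kernel
theorem eta3 : etaCheck chevD4 3 W3 E3 = true := by decide +kernel

theorem lt : ∀ r < chevD4.nroots, ∀ s, ∀ e ∈ chevD4.chainEntry r s, e.1 < chevD4.nroots :=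
  fun r hr => (Good.goodAt_of_mem chevD4 (by simp) r hr).lt

theorem compat : ∀ i < chevD4.rank, ReflCompat chevD4 i := by
  intro i hi
  have hi : i < 4 := hi
  have hc := NSimpleSmall.checkD4 i hi
  interval_cases i
  · exact reflCompat rows_check rows0 invol0 eta0 hc lt
  · exact reflCompat rows_check rows1 invol1 eta1 hc lt
  · exact reflCompat rows_check rows2 invol2 eta2 hc lt
  · exact reflCompat rows_check rows3 invol3 eta3 hc lt

end Cfsg.Agent.ChevalleyStructure.FastReflD4
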