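import Cfsg.Agent.ChevalleyStructure.FastFinal
import Cfsg.Agent.ChevalleyStructure.FastDataE6
import Cfsg.Agent.ChevalleyStructure.NSimpleSmall
import Cfsg.Agent.ChevalleyStructure.Good

/-! Reflection compatibility of the chain table of type E6: kernel checks. -/

set_option autoImplicit false
set_option maxRecDepth 100000

namespace Cfsg.Agent.ChevalleyStructure.FastReflE6

open Cfsg.Lie
open Cfsg.Agent.ChevalleyStructure.FastRefl
open Cfsg.Agent.ChevalleyStructure.FastEta
open Cfsg.Agent.ChevalleyStructure.FastFinal
open Cfsg.Agent.ChevalleyStructure.FastDataE6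

/-- packed table of the reflection `w_0` -/
def W0 : ℕ := 0x47464544433736353433322d2c2b2a0f4241403f3e3d31302f2e3c3b3a39292827262524232221201f1e0e0d0c0b191817160a0908070605381d1c1b1a1514131211100403020100
/-- signs of `w_0` (bit 1 is `-1`) -/
def E0 : ℕ := 0x1fc3c003c3f8000

theorem rows0 : rowsT rows (byte W0) (bit1 E0) chevE6.chain.toList 0 = true := by decide +kernel
theorem invol0 : invol (byte W0) chevE6.nroots = true := by decide +kernel
theorem eta0 : etaCheck chevE6 0 W0 E0 = true := by decide +kernel

/-- packed table of the reflection `w_1` -/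
def W1 : ℕ := 0x46474544434241403c3b3a3f3e3d39383736352d2c2b292827193433322a31302f2625242322211817161d1514132e201f1e1c1b1a1211100f0e0a09080d0c0b0706050403020001
/-- signs of `w_1` (bit 1 is `-1`) -/
def E1 : ℕ := 0x80e01c4381c2380701

theorem rows1 : rowsT rows (byte W1) (bit1 E1) chevE6.chain.toList 0 = true := by decide +kernel
theorem invol1 : invol (byte W1) chevE6.nroots = true := by decide +kernel
theorem eta1 : etaCheck chevE6 1 W1 E1 = true := by decide +kernel

/-- packed table of the reflection `w_2` -/
def W2 : ℕ := 0x47464241404544433f3e3d3c3b3a383937363531302f3433322e2928271d2d2c2b2625242322211c1b1a2a201f1e191514131817161211100e0f0d0c0b0a09080403020706050100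
/-- signs of `w_2` (bit 1 is `-1`) -/
def E2 : ℕ := 0x38021c0781e038401c

theorem rows2 : rowsT rows (byte W2) (bit1 E2) chevE6.chain.toList 0 = true := by decide +kernel
theorem invol2 : invol (byte W2) chevE6.nroots = true := by decide +kernel
theorem eta2 : etaCheck chevE6 2 W2 E2 = true := by decide +kernel

/-- packed table of the reflection `w_3` -/
def W3 : ℕ := 0x4745464443423f3e41403d3c3b393a3837343336353231302e2f2d2c2a2b262520292824231f1e2722211c1d1b1a181917161512111413100f0d0e0c0b0a07060908050403010200
/-- signs of `w_3` (bit 1 is `-1`) -/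
def E3 : ℕ := 0x43046088e7110620c2

theorem rows3 : rowsT rows (byte W3) (bit1 E3) chevE6.chain.toList 0 = true := by decide +kernel
theorem invol3 : invol (byte W3) chevE6.nroots = true := by decide +kernel
theorem eta3 : etaCheck chevE6 3 W3 E3 = true := by decide +kernel

/-- packed table of the reflection `w_4` -/
def W4 : ℕ := 0x47464445434142403f3d3e3c3a3b3938363735343233312f302e2d2b2c2a2927282422262125231f201e1d1b1c1a191718161415131210110f0e0c0d0b090a080705060402030100
/-- signs of `w_4` (bit 1 is `-1`) -/
def E4 : ℕ := 0x244889113c88911224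

theorem rows4 : rowsT rows (byte W4) (bit1 E4) chevE6.chain.toList 0 = true := by decide +kernel
theorem invol4 : invol (byte W4) chevE6.nroots = true := by decide +kernel
theorem eta4 : etaCheck chevE6 4 W4 E4 = true := by decide +kernel

/-- packed table of the reflection `w_5` -/
def W5 : ℕ := 0x47464543444240413e3f3d3b3c3a393837353633343230312f2e2c2d2b2a282927252623242122201e1f1d1c1a1b191816171513141112100f0e0d0b0c0a08090607050304020100
/-- signs of `w_5` (bit 1 is `-1`) -/
def E5 : ℕ := 0x129052225a444a0948

theorem rows5 : rowsT rows (byte W5) (bit1 E5) chevE6.chain.toList 0 = true := by decide +kernel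
theorem invol5 : invol (byte W5) chevE6.nroots = true := by decide +kernel
theorem eta5 : etaCheck chevE6 5 W5 E5 = true := by decide +kernel

theorem lt : ∀ r < chevE6.nroots, ∀ s, ∀ e ∈ chevE6.chainEntry r s, e.1 < chevE6.nroots :=
  fun r hr => (Good.goodAt_of_mem chevE6 (by simp) r hr).lt

theorem compat : ∀ i < chevE6.rank, ReflCompat chevE6 i := by
  intro i hi
  have hi : i < 6 := hi
  have hc := NSimpleSmall.checkE6 i hi
  interval_cases i
  · exact reflCompat rows_check rows0 invol0 eta0 hc lt
  · exact reflCompat rows_check rows1 invol1 eta1 hc lt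
  · exact reflCompat rows_check rows2 invol2 eta2 hc lt
  · exact reflCompat rows_check rows3 invol3 eta3 hc lt
  · exact reflCompat rows_check rows4 invol4 eta4 hc lt
  · exact reflCompat rows_check rows5 invol5 eta5 hc lt

end Cfsg.Agent.ChevalleyStructure.FastReflE6
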