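import Cfsg.Agent.ChevalleyStructure.FastFinal
import Cfsg.Agent.ChevalleyStructure.FastDataE7
import Cfsg.Agent.ChevalleyStructure.NSimpleE7
import Cfsg.Agent.ChevalleyStructure.Good

/-! Reflection compatibility of the chain table of type E7: kernel checks. -/

set_option autoImplicit false
set_option maxRecDepth 100000

namespace Cfsg.Agent.ChevalleyStructure.FastReflE7

open Cfsg.Lie
open Cfsg.Agent.ChevalleyStructure.FastRefl
open Cfsg.Agent.ChevalleyStructure.FastEta
open Cfsg.Agent.ChevalleyStructure.FastFinal
open Cfsg.Agent.ChevalleyStructure.FastDataE7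

/-- packed table of the reflection `w_0` -/
def W0 : ℕ := 0x7c7d7b7a797877767574737271706f6e6d5c5b5a595857565554534d4c4b4a49206c6b6a696867666564635251504f4e6261605f5e4847464544434241403f3e3d3c3b3a39383736351f1e1d1c1b2f2e2d2c2b1a1918171615141312115d34333231302a292827262524232221100f0e0d0c0b0a09080706050403020001
/-- signs of `w_0` (bit 1 is `-1`) -/
def E0 : ℕ := 0x200000003ff83e00001f07ff00000001

theorem rows0 : rowsT rows (byte W0) (bit1 E0) chevE7.chain.toList 0 = true := by decide +kernel
theorem invol0 : invol (byte W0) chevE7.nroots = true := by decide +kernel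
theorem eta0 : etaCheck chevE7 0 W0 E0 = true := by decide +kernel

/-- packed table of the reflection `w_1` -/
def W1 : ℕ := 0x7d7c7b767574737a7978777271706f6e6d6c6b6a6968676261605f666564635e5d5c5b5a5958574d4c4b4a484746452f56555453495251504f44434241403f3e3d3c3b3a392e2d2c2b342a2928274e3837363533323130262524232221201f1a1918171e1d1c1b161514131211100f0e0d0c0b060504030a090807020100
/-- signs of `w_1` (bit 1 is `-1`) -/
def E1 : ℕ := 0x7800078007841e001e0878007800078

theorem rows1 : rowsT rows (byte W1) (bit1 E1) chevE7.chain.toList 0 = true := by decide +kernel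
theorem invol1 : invol (byte W1) chevE7.nroots = true := by decide +kernel
theorem eta1 : etaCheck chevE7 1 W1 E1 = true := by decide +kernel

/-- packed table of the reflection `w_2` -/
def W2 : ℕ := 0x7d7b7c7a797877767574736c6b6a6968677271706f6e6d666564636261605f5d5e5c5b5a5958575251504f565554534e48474645344d4c4b4a44434241403f3e3d3c3b3a393332313049383736352f2a2928272e2d2c2b2625242322211f201e1d1c1b1a191817100f0e0d0c0b1615141312110a09080706050403010200
/-- signs of `w_2` (bit 1 is `-1`) -/
def E2 : ℕ := 0x1007e000407803e001f007808001f802

theorem rows2 : rowsT rows (byte W2) (bit1 E2) chevE7.chain.toList 0 = true := by decide +kernel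
theorem invol2 : invol (byte W2) chevE7.nroots = true := by decide +kernel
theorem eta2 : etaCheck chevE7 2 W2 E2 = true := by decide +kernel

/-- packed table of the reflection `w_3` -/
def W3 : ℕ := 0x7d7c7a7b797877767271707574736f6e6d6c6b6a666564696867636261605e5f5d5c5b5a565554595857535251504e4f4d4c4b494a4443423848474641403f3e3d3c373635453b3a3933343231302e2f2d2c2b2a262524292827232221201e1f1d1c1b1a161514191817131211100f0e0a09080d0c0b0706050402030100
/-- signs of `w_3` (bit 1 is `-1`) -/
def E3 : ℕ := 0x83803808380843c0f08407040700704

theorem rows3 : rowsT rows (byte W3) (bit1 E3) chevE7.chain.toList 0 = true := by decide +kernel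
theorem invol3 : invol (byte W3) chevE7.nroots = true := by decide +kernel
theorem eta3 : etaCheck chevE7 3 W3 E3 = true := by decide +kernel

/-- packed table of the reflection `w_4` -/
def W4 : ℕ := 0x7d7c7b797a787775767473726f6e71706d6c69686b6a676665636462615f605e5d5c59585b5a575655535452514f504e4d4c4a4b494847454641403b44433f3e3a39423d3c3738363534323331302f2d2e2c2b292a2827262322252421201f1d1e1c1b191a1817161312151411100d0c0f0e0b0a09070806050304020100
/-- signs of `w_4` (bit 1 is `-1`) -/
def E4 : ℕ := 0x4430c110c1108473884220c220c3088

theorem rows4 : rowsT rows (byte W4) (bit1 E4) chevE7.chain.toList 0 = true := by decide +kernel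
theorem invol4 : invol (byte W4) chevE7.nroots = true := by decide +kernel
theorem eta4 : etaCheck chevE7 4 W4 E4 = true := by decide +kernel

/-- packed table of the reflection `w_5` -/
def W5 : ℕ := 0x7d7c7b7a787977767475737172706f6d6e6b6c6a696768666465636260615f5e5d5b5c5a595758565455535250514f4e4d4b4c4a49484647454442433f3d413c403e3a3b393836373534333132302f2e2c2d2b2a282927252624232122201f1e1c1d1b1a1819171516141311120f100e0d0b0c0a08090706040503020100
/-- signs of `w_5` (bit 1 is `-1`) -/
def E5 : ℕ := 0x224512211221089e442112211228910

theorem rows5 : rowsT rows (byte W5) (bit1 E5) chevE7.chain.toList 0 = true := by decide +kernel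
theorem invol5 : invol (byte W5) chevE7.nroots = true := by decide +kernel
theorem eta5 : etaCheck chevE7 5 W5 E5 = true := by decide +kernel

/-- packed table of the reflection `w_6` -/
def W6 : ℕ := 0x7d7c7b7a797778767573747270716e6f6d6c6a6b686967656664636162605f5e5d5c5a5b585957555654535152504f4e4c4d4b4a494748464543444240413e3f3c3d3b393a3837353634333230312f2e2d2b2c2a292728262425222321201f1e1d1b1c1a191718161415121311100e0f0c0d0b090a080705060403020100
/-- signs of `w_6` (bit 1 is `-1`) -/
def E6 : ℕ := 0x1128a440a442112d221089408945220

theorem rows6 : rowsT rows (byte W6) (bit1 E6) chevE7.chain.toList 0 = true := by decide +kernel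
theorem invol6 : invol (byte W6) chevE7.nroots = true := by decide +kernel
theorem eta6 : etaCheck chevE7 6 W6 E6 = true := by decide +kernel

theorem lt : ∀ r < chevE7.nroots, ∀ s, ∀ e ∈ chevE7.chainEntry r s, e.1 < chevE7.nroots :=
  fun r hr => (Good.goodAt_of_mem chevE7 (by simp) r hr).lt

theorem compat : ∀ i < chevE7.rank, ReflCompat chevE7 i := by
  intro i hi
  have hi : i < 7 := hi
  have hc := NSimpleE7.checkE7 i hi
  interval_cases i
  · exact reflCompat rows_check rows0 invol0 eta0 hc lt
  · exact reflCompat rows_check rows1 invol1 eta1 hc lt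
  · exact reflCompat rows_check rows2 invol2 eta2 hc lt
  · exact reflCompat rows_check rows3 invol3 eta3 hc lt
  · exact reflCompat rows_check rows4 invol4 eta4 hc lt
  · exact reflCompat rows_check rows5 invol5 eta5 hc lt
  · exact reflCompat rows_check rows6 invol6 eta6 hc lt

end Cfsg.Agent.ChevalleyStructure.FastReflE7
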