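import Cfsg.Agent.ChevalleyStructure.FastFinal
import Cfsg.Agent.ChevalleyStructure.FastDataF4
import Cfsg.Agent.ChevalleyStructure.NSimpleSmall
import Cfsg.Agent.ChevalleyStructure.Good

/-! Reflection compatibility of the chain table of type F4: kernel checks. -/

set_option autoImplicit false
set_option maxRecDepth 100000

namespace Cfsg.Agent.ChevalleyStructure.FastReflF4

open Cfsg.Lie
open Cfsg.Agent.ChevalleyStructure.FastRefl
open Cfsg.Agent.ChevalleyStructure.FastEta
open Cfsg.Agent.ChevalleyStructure.FastFinal
open Cfsg.Agent.ChevalleyStructure.FastDataF4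

/-- packed table of the reflection `w_0` -/
def W0 : ℕ := 0x2f2e2d28201f1e2c2726251d1c1b0e2b2a292423221a19181716150d0c0b060504211413120a09080311100f07020100
/-- signs of `w_0` (bit 1 is `-1`) -/
def E0 : ℕ := 0x1ee3f81fc778

theorem rows0 : rowsT rows (byte W0) (bit1 E0) chevF4.chain.toList 0 = true := by decide +kernel
theorem invol0 : invol (byte W0) chevF4.nroots = true := by decide +kernel
theorem eta0 : etaCheck chevF4 0 W0 E0 = true := by decide +kernel

/-- packed table of the reflection `w_1` -/
def W1 : ℕ := 0x2f2e2b2c2d2a292728242326252122201a191d1c141f1e181711101b131216150f0d0e0a090c0b070806050203040100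
/-- signs of `w_1` (bit 1 is `-1`) -/
def E1 : ℕ := 0x1164fe7f2688

theorem rows1 : rowsT rows (byte W1) (bit1 E1) chevF4.chain.toList 0 = true := by decide +kernel
theorem invol1 : invol (byte W1) chevF4.nroots = true := by decide +kernel
theorem eta1 : etaCheck chevF4 1 W1 E1 = true := by decide +kernel

/-- packed table of the reflection `w_2` -/
def W2 : ℕ := 0x2f2d2e2c2a2b2928262725242223211f201e1d1b1c18161a151917131412110f100e0c0d0b0a08090706040503010200
/-- signs of `w_2` (bit 1 is `-1`) -/
def E2 : ℕ := 0x488913c89112

theorem rows2 : rowsT rows (byte W2) (bit1 E2) chevF4.chain.toList 0 = true := by decide +kernel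
theorem invol2 : invol (byte W2) chevF4.nroots = true := by decide +kernel
theorem eta2 : etaCheck chevF4 2 W2 E2 = true := by decide +kernel

/-- packed table of the reflection `w_3` -/
def W3 : ℕ := 0x2e2f2d2c2b292a2827252623242221201e1f1c1d1b191a1718151614121310110f0e0d0b0c090a080705060403020001
/-- signs of `w_3` (bit 1 is `-1`) -/
def E3 : ℕ := 0x8450a5a50a21

theorem rows3 : rowsT rows (byte W3) (bit1 E3) chevF4.chain.toList 0 = true := by decide +kernel
theorem invol3 : invol (byte W3) chevF4.nroots = true := by decide +kernel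
theorem eta3 : etaCheck chevF4 3 W3 E3 = true := by decide +kernel

theorem lt : ∀ r < chevF4.nroots, ∀ s, ∀ e ∈ chevF4.chainEntry r s, e.1 < chevF4.nroots :=
  fun r hr => (Good.goodAt_of_mem chevF4 (by simp) r hr).lt

theorem compat : ∀ i < chevF4.rank, ReflCompat chevF4 i := by
  intro i hi
  have hi : i < 4 := hi
  have hc := NSimpleSmall.checkF4 i hi
  interval_cases i
  · exact reflCompat rows_check rows0 invol0 eta0 hc lt
  · exact reflCompat rows_check rows1 invol1 eta1 hc lt
  · exact reflCompat rows_check rows2 invol2 eta2 hc lt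
  · exact reflCompat rows_check rows3 invol3 eta3 hc lt

end Cfsg.Agent.ChevalleyStructure.FastReflF4
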