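import Cfsg.Agent.ChevalleyStructure.FastReflG2
import Cfsg.Agent.ChevalleyStructure.FastReflB2
import Cfsg.Agent.ChevalleyStructure.FastReflD4
import Cfsg.Agent.ChevalleyStructure.FastReflF4
import Cfsg.Agent.ChevalleyStructure.FastReflE6
import Cfsg.Agent.ChevalleyStructure.FastReflE7
import Cfsg.Agent.ChevalleyStructure.FastReflE8

/-!
Reflection compatibility of the chain tables, all seven types; consequences in terms of `chainRoot` and `chainM`.
-/

set_option autoImplicit false

namespace Cfsg.Agent.ChevalleyStructure.FastReflAll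

open Cfsg.Lie
open Cfsg.Agent.ChevalleyStructure.FastFinal
open Cfsg.Agent.ChevalleyStructure.NSimple (eta)

/-- Reflection compatibility for all seven types. -/
theorem reflCompat {D : ChevalleyDatum} (hD : D ∈ [chevG2, chevB2, chevD4, chevF4, chevE6, chevE7, chevE8])
    {i : ℕ} (hi : i < D.rank) : ReflCompat D i := by
  simp only [List.mem_cons, List.not_mem_nil, or_false] at hD
  rcases hD with rfl | rfl | rfl | rfl | rfl | rfl | rfl
  · exact FastReflG2.compat i hi
  · exact FastReflB2.compat i hi
  · exact FastReflD4.compat i hi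
  · exact FastReflF4.compat i hi
  · exact FastReflE6.compat i hi
  · exact FastReflE7.compat i hi
  · exact FastReflE8.compat i hi

/-- The entry of the chain table for `(w r, w s)`. -/
theorem chainEntry_reflect {D : ChevalleyDatum}
    (hD : D ∈ [chevG2, chevB2, chevD4, chevF4, chevE6, chevE7, chevE8]) {i r s : ℕ} (hi : i < D.rank)
    (hr : r < D.nroots) (hs : s < D.nroots) :
    D.chainEntry (D.reflectRoot i r) (D.reflectRoot i s) =
      (D.chainEntry r s).mapIdx fun k x =>
        (D.reflectRoot i x.1, eta D i r ^ (k + 1) * eta D i s * eta D i x.1 * x.2) :=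
  (reflCompat hD hi).chainEntry_reflect r hr s hs

theorem chainRoot_reflect {D : ChevalleyDatum}
    (hD : D ∈ [chevG2, chevB2, chevD4, chevF4, chevE6, chevE7, chevE8]) {i r s : ℕ} (hi : i < D.rank)
    (hr : r < D.nroots) (hs : s < D.nroots) (k : ℕ) :
    D.chainRoot (D.reflectRoot i r) (D.reflectRoot i s) k = (D.chainRoot r s k).map (D.reflectRoot i) := by
  unfold ChevalleyDatum.chainRoot
  rw [chainEntry_reflect hD hi hr hs, List.getElem?_mapIdx, Option.map_map, Option.map_map]
  rfl

/-- `M_{w r, w s, k} = η_r^k η_s η_{k r + s} M_{r,s,k}` (for `k ≥ 1`). -/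
theorem chainM_reflect {D : ChevalleyDatum}
    (hD : D ∈ [chevG2, chevB2, chevD4, chevF4, chevE6, chevE7, chevE8]) {i r s : ℕ} (hi : i < D.rank)
    (hr : r < D.nroots) (hs : s < D.nroots) {k u : ℕ} (hk : 0 < k) (hu : D.chainRoot r s k = some u) :
    D.chainM (D.reflectRoot i r) (D.reflectRoot i s) k =
      eta D i r ^ k * eta D i s * eta D i u * D.chainM r s k := by
  unfold ChevalleyDatum.chainM
  unfold ChevalleyDatum.chainRoot at hu
  rw [chainEntry_reflect hD hi hr hs, List.getElem?_mapIdx]
  cases h : (D.chainEntry r s)[k - 1]? with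
  | none => rw [h] at hu; simp at hu
  | some x =>
    rw [h] at hu
    simp only [Option.map_some, Option.some.injEq] at hu
    simp only [Option.map_some, Option.getD_some]
    rw [hu, Nat.sub_add_cancel hk]

theorem chainM_eq_zero {D : ChevalleyDatum} {r s k : ℕ} (hu : D.chainRoot r s k = none) : D.chainM r s k = 0 := by
  unfold ChevalleyDatum.chainM
  unfold ChevalleyDatum.chainRoot at hu
  cases h : (D.chainEntry r s)[k - 1]? with
  | none => rfl
  | some x => rw [h] at hu; simp at hu

end Cfsg.Agent.ChevalleyStructure.FastReflAll
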