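import Cfsg.Prelude.Def_ChevE8
import Cfsg.Agent.ChevalleyStructure.NSimple

/-! Kernel checks of the columns of `n_p(1)` for the type E8. -/

set_option autoImplicit false

namespace Cfsg.Agent.ChevalleyStructure.NSimpleE8

open Cfsg.Lie Cfsg.Agent.ChevalleyStructure.NSimple

theorem checkE8 (i : ℕ) (hi : i < 8) : check chevE8 i = true := by
  have h : ∀ i < 8, check chevE8 i = true := by decide +kernel
  exact h i hi

end Cfsg.Agent.ChevalleyStructure.NSimpleE8
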