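import Cfsg.Agent.ChevalleyStructure.NSimpleSmall
import Cfsg.Agent.ChevalleyStructure.NSimpleE7
import Cfsg.Agent.ChevalleyStructure.NSimpleE8

/-! The facts about `n_p(1)` for the seven types. -/

set_option autoImplicit false

namespace Cfsg.Agent.ChevalleyStructure.NSimpleAll

open Cfsg.Lie Cfsg.Agent.ChevalleyStructure.NSimple

theorem facts {D : ChevalleyDatum} (hD : D ∈ [chevG2, chevB2, chevD4, chevF4, chevE6, chevE7, chevE8]) {i : ℕ}
    (hi : i < D.rank) : Facts D i := by
  apply facts_of_check
  simp only [List.mem_cons, List.not_mem_nil, or_false] at hD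
  rcases hD with rfl | rfl | rfl | rfl | rfl | rfl | rfl
  · exact NSimpleSmall.checkG2 i hi
  · exact NSimpleSmall.checkB2 i hi
  · exact NSimpleSmall.checkD4 i hi
  · exact NSimpleSmall.checkF4 i hi
  · exact NSimpleSmall.checkE6 i hi
  · exact NSimpleE7.checkE7 i hi
  · exact NSimpleE8.checkE8 i hi

end Cfsg.Agent.ChevalleyStructure.NSimpleAll
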