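import Cfsg.Agent.ChevalleyStructure.RootCombGood
import Cfsg.Agent.ChevalleyStructure.RootCombTab
import Cfsg.Prelude.Def_ChevG2
import Cfsg.Prelude.Def_ChevB2
import Cfsg.Prelude.Def_ChevD4
import Cfsg.Prelude.Def_ChevF4
import Cfsg.Prelude.Def_ChevE6
import Cfsg.Prelude.Def_ChevE7
import Cfsg.Prelude.Def_ChevE8

/-!
`good_of_mem`: the seven tabulated data satisfy the combinatorial facts `Good D`.
-/

set_option autoImplicit false

namespace Cfsg.Agent.ChevalleyStructure.RootComb

open Cfsg.Lie Cfsg.Agent.ChevalleyStructure.RootCombTab Cfsg.Agent.ChevalleyStructure.RootCombBridge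
  Cfsg.Agent.ChevalleyStructure.RootCombBase Cfsg.Agent.ChevalleyStructure.RootCombGood

theorem goodG2 : Good chevG2 := good_of_check (T := tabG2) (by decide +kernel) (by decide +kernel)
theorem goodB2 : Good chevB2 := good_of_check (T := tabB2) (by decide +kernel) (by decide +kernel)
theorem goodD4 : Good chevD4 := good_of_check (T := tabD4) (by decide +kernel) (by decide +kernel)
theorem goodF4 : Good chevF4 := good_of_check (T := tabF4) (by decide +kernel) (by decide +kernel)
theorem goodE6 : Good chevE6 := good_of_check (T := tabE6) (by decide +kernel) (by decide +kernel)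
theorem goodE7 : Good chevE7 := good_of_check (T := tabE7) (by decide +kernel) (by decide +kernel)
theorem goodE8 : Good chevE8 := good_of_check (T := tabE8) (by decide +kernel) (by decide +kernel)

theorem good_of_mem {D : ChevalleyDatum} (hD : D ∈ [chevG2, chevB2, chevD4, chevF4, chevE6, chevE7, chevE8]) :
    Good D := by
  simp only [List.mem_cons, List.not_mem_nil, or_false] at hD
  rcases hD with rfl | rfl | rfl | rfl | rfl | rfl | rfl
  · exact goodG2
  · exact goodB2
  · exact goodD4
  · exact goodF4
  · exact goodE6
  · exact goodE7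
  · exact goodE8

end Cfsg.Agent.ChevalleyStructure.RootComb
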