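import Cfsg.Agent.ChevalleyStructure.ConjSimple
import Cfsg.Agent.ChevalleyStructure.FastReflAll
import Cfsg.Agent.ChevalleyStructure.NSimpleAll
import Cfsg.Agent.ChevalleyStructure.RootComb

/-!
`n_p(1) x_s(t) = x_{w_p(s)}(η_s t) n_p(1)` with the explicit sign `η_s = NSimple.eta D i s`, all seven types.
-/

set_option autoImplicit false

namespace Cfsg.Agent.ChevalleyStructure.ConjSimpleAll

open Cfsg.Lie
open Cfsg.Agent.ChevalleyStructure.NSimple (eta)

theorem nMat_mul_x {F : Type*} [Field F] {D : ChevalleyDatum}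
    (hD : D ∈ [chevG2, chevB2, chevD4, chevF4, chevE6, chevE7, chevE8]) {i s : ℕ} (hi : i < D.rank)
    (hs : s < D.nroots) (t : F) :
    D.nMat F (D.simple i) 1 * D.x F s t =
      D.x F (D.reflectRoot i s) (((eta D i s : ℤ) : F) * t) * D.nMat F (D.simple i) 1 :=
  ConjSimple.nMat_mul_x (NSimpleAll.facts hD hi) (FastReflAll.reflCompat hD hi) (RootComb.good_of_mem hD) hi
    (fun r hr => ConjSimple.nodup_of_sorted _ 0 (Good.goodAt_of_mem D hD r hr).sorted)
    (fun r hr => (Good.goodAt_of_mem D hD r hr).lt) hs t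

end Cfsg.Agent.ChevalleyStructure.ConjSimpleAll
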