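/-
helper600: additive root coordinates of the Chevalley tables, part 1: packed tables and kernel checks.
-/
import Mathlib
import Cfsg.Prelude.Def_ChevStructure
import Cfsg.Prelude.Def_LieChev
import Cfsg.Prelude.Def_ChevB2
import Cfsg.Prelude.Def_ChevD4

set_option autoImplicit false

namespace Cfsg.Agent.ChevalleyStructure.RootVecTab

open Cfsg.Lie

/-- packed table of the root coefficient vectors of type G2 -/
def packG2 : ℕ := 0x2ca2c92892492482092071c81c7187147146

/-- packed table of the Cartan integers of type G2 -/
def packCG2 : ℕ := 0x97897a6978978b97a5b69758

/-- packed table of the root coefficient vectors of type B2 -/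
def packB2 : ℕ := 0x2892492482092071c81c7187

/-- packed table of the Cartan integers of type B2 -/
def packCB2 : ℕ := 0x897a6978a8a6a686

/-- packed table of the root coefficient vectors of type D4 -/
def packD4 : ℕ := 0x24a2492492492492482492092492082482082092492092482092092092082082482082092082072081c82072082072072071c82071c71c82081c72081c72071c71c81c71c71c61c7

/-- packed table of the Cartan integers of type D4 -/
def packCD4 : ℕ := 0x89797897978a6897978979788997789977a8869977899778978897899a7799677897889789999a777788889999677778

/-- packed table of the root coefficient vectors of type F4 -/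
def packF4 : ℕ := 0x28c2ca28c2c928c28928b28928a28928a24928a24824b28924a28924a24924a24824924924924824920824820820a28920a24920a2482092492092482092082082492082482082092082072081c82081c72072082071c82071c72061c82061c72061871c82081c72081c71c81c71c71c61c81c61c71c61871c51871861c81861c7186187185187184187184147184146

/-- packed table of the Cartan integers of type F4 -/
def packCF4 : ℕ := 0x97888978897978889797897a6978979788897978897888978978978897889789788979a796797889789788978897897888a8688979977978aa88a6688aa6886689799779788a86888889aaa7888999a666777888888999aaa677788896667888

/-- packed table of the root coefficient vectors of type E6 -/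
def packE6 : ℕ := 0x24a28b28924928b28924928a28924928a24924928a24824924a28924924a24924924a24824924924924924924824924920824824924924824924824824920824824820824820820820924a28920924a24920924a2482092492492092492482092492082092092492092092482092092082092082082082492492082492482082492082082482082082092492082092482082092082082082492082082482082082092082082072082081c82082081c72082072082082071c82082071c72081c82082081c72082081c71c82081c71c72072082082072072082072071c82072071c72071c72082071c71c82071c71c72071c61c82071c61c72071c61871c82082081c81c82081c81c72081c81c71c81c81c71c71c71c72081c71c71c81c71c71c71c71c61c81c71c61c71c71c61871c71861c81c71861c71c71861871c71851871c6185187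

/-- packed table of the Cartan integers of type E6 -/
def packCE6 : ℕ := 0x88897897978978888979789788978897897a6978978897889789797888897897978978888897897889789788978897897889788979a796797889788978978897889789788978978889788899778889788997788897889799a77889967797889788899778897888997788897888999777888888978889997778999a7778888889996777899977788897888888999777889788888899977788888999999a7778777888888999899967777778888899977788888897888889999999999a77777788887777888888888888999988889999996777777777788888

/-- packed table of the root coefficient vectors of type E7 -/
def packE7 : ℕ := 0x28a2cc2ca24928b30b28924a28c2ca24928a2cb28924a28b28a24928a2ca24924a28b28920924a2cb28924928b28a24924a2ca24924928b28920924a28a28924928a28924924a28a24824928a24924924a28924824928a24820924928a28924924a28924924928a24824924a24924924928924824924a24820924924924924924924920924924920824924920820920924924924824924920920924920824824920820920920820824820820820824928a28920924a28924824928a24820924a24924824928924820924a24820824924924920924924920824924920820924920820824824924920920924920824824920820920920820824820820820824924924820924924820824924820820924820820824820820820824924920820924920820824920820820920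82082082092492082082492082082092082082082092482082082482082082082482082082072082082072082082081c72082081c82082082071c82082081c71c82081c82082082071c82082081c71c82082071c71c82072082082081c72082082071c72082081c71c72082071c71c72072082082081c81c82082072071c82081c81c71c82072071c71c81c71c82082071c71c82081c71c71c82071c71c71c81c71872082071c61c72081c71871c72071c61872081c71861c72071c61861c72082082081c81c82082072071c82081c81c71c82072071c71c81c81c71c71c71c71c82081c71c71c82071c71c71c81c71c71c71c71c71872081c71c61c72071c71871c71c71c61872071c71861c71c71c61861c71c61872081c71861c72071c61871c71c71861872071c61861c71c71861861c71c61461c81c71851871c71c61461871c71851461c71861461c81c61851871c71861461871c61851461c71861051871c61441461c6185105187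

/-- packed table of the Cartan integers of type E7 -/
def packCE7 : ℕ := 0x88888978897897978897978978897888889797897889788897888978897897a6978978897888978889788978979788888978897897978897978978897888888888978897897889797889789788978889788978978897888978889788979a796797889788897888978897897889788897889789788979788978978897888888897889788899778899778889788978889977888978897888978889799a77889967797888978889788978889977888978897888997788997788897889788888978888999777888888999777888897888899977788889788897999a7778888889996777978889788889997778888978888999777888888999777888897888978888888899999977777788888888978888889999777789999a777788888888888899996777789999777788888897888888889999997777778888888897888899997777888888888888999977778888888899999999a77778777788888888888899998999967777777788888888999977778888888888889999777788897888888888888888999999999999999a777777777788888777778888888888888888888899999888889999999999677777777777777788888888888888897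

/-- packed table of the root coefficient vectors of type E8 -/
def packE8 : ℕ := 0x28b30e34c2ca28b30e34c2c928b30e34c28928b30e34b28928b30e30b28928b30d30b28928b2cd30b28928a30d30b28928a2cd30b28928a2cc30b28928a2cc2cb28928a2cc2ca28928a2cc2ca24928a2cc2ca24824b2cd30b28924a2cd30b28924a2cc30b28924a2cc2cb28924a2cc2ca28924a2cc2ca24924a2cc2ca24824a28c30b28924a28c2cb28924a28c2ca28924a28c2ca24924a28c2ca24824a28b2cb28924a28b2ca28924a28b2ca24924a28b2ca24824a28b28a28924a28b28a24924a28b28a24824a28b28924924a28b28924824a28b28920824928b2cb28924928b2ca28924928b2ca24924928b2ca24824928b28a28924928b28a24924928b28a24824928b28924924928b28924824928b28920824928a28a28924928a28a24924928a28a24824928a28924924928a28924824928a28920824928a24924924928a24924824928a24920824928a24820824924a28a28924924a28a24924924a28a24824924a28924924924a28924824924a28920824924a24924924924a24924824924a24920824924a24820824924924924924924924924824924924920824924924820824924920820824824924924924824924924824824924920824824924820824824920820824824820820824820820820820924a28a28920924a28a24920924a28a24820924a28924920924a28924820924a28920820924a24924920924a24924820924a24920820924a2482082092492492492092492492482092492492082092492482082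092492082082092092492492092092492482092092492082092092482082092092082082092082082082082492492492082492492482082492492082082492482082082492082082082482082082082092492492082092492482082092492082082092482082082092082082082082492492082082492482082082492082082082482082082082092492082082092482082082092082082082082492082082082482082082082092082082082072082082081c82082082081c72082082072082082082071c82082082071c72082081c82082082081c72082082081c71c82082081c71c72082072082082082071c82082082071c72082082071c71c82082071c71c72081c82082082081c72082082081c71c82082081c71c72082081c71c71c82081c71c71c72072082082082072072082082072071c82082072071c72082072071c71c82072071c71c72071c72082082071c71c82082071c71c72082071c71c71c82071c71c71c72071c61c82082071c61c72082071c61c71c82071c61c71c72071c61872082071c61871c82071c61871c72071c61861c82071c61861c72071c61861871c82082082081c81c82082081c81c72082081c81c71c82081c81c71c72081c81c71c71c81c81c71c71c71c71c72082081c71c71c82081c71c71c72081c71c71c71c81c71c71c71c71c71c61c82081c71c61c72081c71c61c71c81c71c61c71c71c71c61872081c71c61871c81c71c61871c71c71c61861c81c71c61861c71c71c61861871c71861c82081c71861c72081c71861c71c81c71861c71c71c71861872081c71861871c81c71861871c71c71861861c81c71861861c71c71861861871c71851872081c71851871c81c71851871c71c71851861c81c71851861c71c71851861871c71851461c81c71851461c71c71851461871c71851451871c61851872081c61851871c81c61851871c71c61851861c81c61851861c71c61851861871c61851461c81c61851461c71c61851461871c61851451871c61841461c81c61841461c71c61841461871c61841451871c61841051871c61441461c81c61441461c71c61441461871c61441451871c61441051871c61431051871c51431051871861441461c81861441461c71861441461871861441451871861441051871861431051871861031051871851431051871851031051871851021051871851020c51871851020c41871851020c41471851020c4146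

/-- packed table of the Cartan integers of type E8 -/
def packCE8 : ℕ := 0x97888888888897888889788897889789797888978979788979789788897978978897888978888889797897889788897888897888897888978897897a6978978897888978888978888978889788978979788888897888978897897978889789797889797897888979789788978889788888978888888888978978888888897888889788897889789788978978978897978897897897889789788978889788889788978978897888978888978888978889788979a796797889788897888897888897888978897897889788889788897889789788978978978897978897897897889789788978889788888978888888897888978888889788888978889788978889977897888997788997788897899778889788978889788889977888978897888978888978888978889799a77889967797888978888978888978889788978889977888897888978897888997789788899778899778889789977888978897888978888897888888978888897888897888889788897888899977788889997778888889997778888999777888897888978888899977788889788897888897888897999a7778888889996777978888978888978889788889997778888897888978888999777888899977788888899977788889997778888978889788888978888978888888978897888889788888999977778888888888999999777777888888888899997777888889788888889999777788888978888979999a7777888888888888999967777978888978888899997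77788888889788888999977778888888888999999777777888888888899997777888889788888978897888888888979788888889999977777888888888888888888889999999999777777777788888888889788888888889999977777899999a77777888888888888888888889999967777789999977777888888888897888888888899999999997777777777888888888888888888889999977777888888897978888888888997788888978888888888999999999977777777778888888888888888888899999777778888888888889999999999a77777877777888888888888888888889999989999967777777777888888888888999997777788888888888888888888999999999977777777778888888888978888899778888888888898999999777777788888888888888888888888888888888888999999999999999999999a777777777777777888888777777888888888888888888888888888888999999888888999999999999999677777777777777777777788888888888888888888888888888888888999999977777787888888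

/-- The packed root table of a datum (selected by the number of roots). -/
def packTab (D : ChevalleyDatum) : ℕ :=
  if D.nroots = 12 then packG2 else if D.nroots = 8 then packB2 else if D.nroots = 24 then packD4
  else if D.nroots = 48 then packF4 else if D.nroots = 72 then packE6
  else if D.nroots = 126 then packE7 else packE8

/-- The packed Cartan table of a datum (selected by the number of roots). -/
def packCTab (D : ChevalleyDatum) : ℕ :=
  if D.nroots = 12 then packCG2 else if D.nroots = 8 then packCB2 else if D.nroots = 24 then packCD4
  else if D.nroots = 48 then packCF4 else if D.nroots = 72 then packCE6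
  else if D.nroots = 126 then packCE7 else packCE8

/-- Code of the root with index `r`: the digits (base 64) are the root coefficients plus 8, the first
coefficient being the most significant one. -/
def code (D : ChevalleyDatum) (r : ℕ) : ℕ :=
  Nat.mod (Nat.shiftRight (packTab D) (6 * D.rank * r)) (2 ^ (6 * D.rank))

/-- `j`-th digit to the base 64. -/
def dig (c j : ℕ) : ℕ := Nat.mod (Nat.shiftRight c (6 * j)) 64

/-- The code of the zero vector. -/
def offs (D : ChevalleyDatum) : ℕ := (List.range D.rank).foldl (fun a _ => 64 * a + 8) 0

/-- Cartan integer plus 8. -/
def cart (D : ChevalleyDatum) (i r : ℕ) : ℕ :=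
  Nat.mod (Nat.shiftRight (packCTab D) (4 * (i * D.nroots + r))) 16

def chkEnt (D : ChevalleyDatum) (n O cr cs : ℕ) : List (ℕ × ℤ) → ℕ → Bool
  | [], _ => true
  | q :: t, k => (Nat.ble k 3 && Nat.blt q.1 n &&
      Nat.beq (Nat.add (code D q.1) (Nat.mul k O)) (Nat.add cs (Nat.mul k cr)))
      && chkEnt D n O cr cs t (k + 1)

def chkRow (D : ChevalleyDatum) (n O cr : ℕ) : List (ℕ × Array (ℕ × ℤ)) → ℕ → Bool
  | [], _ => true
  | e :: t, lb => (Nat.ble lb e.1 && Nat.blt e.1 n && chkEnt D n O cr (code D e.1) e.2.toList 1)
      && chkRow D n O cr t (e.1 + 1)

def chkRows (D : ChevalleyDatum) (n O : ℕ) : List (Array (ℕ × Array (ℕ × ℤ))) → ℕ → Bool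
  | [], r => Nat.beq r n
  | row :: t, r => chkRow D n O (code D r) row.toList 0 && chkRows D n O t (r + 1)

def chkChain (D : ChevalleyDatum) : Bool := chkRows D D.nroots (offs D) D.chain.toList 0

/-- `f` holds on all numbers below `n`. -/
def allLT (f : ℕ → Bool) : ℕ → Bool
  | 0 => true
  | n + 1 => f n && allLT f n

/-- `f` holds somewhere below `n`. -/
def anyLT (f : ℕ → Bool) : ℕ → Bool
  | 0 => false
  | n + 1 => f n || anyLT f n

/-- sum of `f` below `n` -/
def sumLT (f : ℕ → ℕ) : ℕ → ℕ
  | 0 => 0
  | n + 1 => Nat.add (f n) (sumLT f n)

/-- sign of the coroot coefficient agrees with the digit -/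
def chkSign (c : ℤ) (d : ℕ) : Bool :=
  match c with
  | Int.ofNat 0 => Nat.beq d 8
  | Int.ofNat (_ + 1) => Nat.blt 8 d
  | Int.negSucc _ => Nat.blt d 8

def chkSigns (c l : ℕ) : List ℤ → ℕ → Bool
  | [], i => Nat.beq i l
  | a :: t, i => (chkSign a (dig c (l - 1 - i)) && Nat.blt (dig c (l - 1 - i)) 16) && chkSigns c l t (i + 1)

def chkCo (D : ChevalleyDatum) (l : ℕ) : List (Array ℤ) → ℕ → Bool
  | [], _ => true
  | row :: t, r => chkSigns (code D r) l row.toList 0 && chkCo D l t (r + 1)

/-- signs of coroot coefficients and digits -/
def chkCoroot (D : ChevalleyDatum) : Bool :=
  Nat.beq D.coroot.size D.nroots && chkCo D D.rank D.coroot.toList 0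

def chkNegL (D : ChevalleyDatum) (n O : ℕ) : List ℕ → ℕ → Bool
  | [], r => Nat.beq r n
  | a :: t, r => (Nat.beq (a + r + 1) n && Nat.beq (Nat.add (code D a) (code D r)) (Nat.mul 2 O))
      && chkNegL D n O t (r + 1)

/-- negatives -/
def chkNeg (D : ChevalleyDatum) : Bool := chkNegL D D.nroots (offs D) D.negIdx.toList 0

/-- every root is positive or negative -/
def chkPosNeg (D : ChevalleyDatum) : Bool :=
  allLT (fun r => (Nat.blt (offs D) (code D r) && allLT (fun i => Nat.ble 8 (dig (code D r) i)) D.rank) ||
    (Nat.blt (code D r) (offs D) && allLT (fun i => Nat.ble (dig (code D r) i) 8) D.rank)) D.nroots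

/-- the offset -/
def chkOffs (D : ChevalleyDatum) : Bool :=
  allLT (fun i => Nat.beq (dig (offs D) i) 8) D.rank && Nat.blt (offs D) (64 ^ D.rank) && Nat.blt 0 D.rank
    && Nat.blt 0 D.nroots

/-- codes are strictly increasing -/
def chkMono (D : ChevalleyDatum) : Bool := allLT (fun r => Nat.blt (code D r) (code D (r + 1))) (D.nroots - 1)

/-- the simple roots -/
def chkSimple (D : ChevalleyDatum) : Bool :=
  allLT (fun i => Nat.blt (D.simple i) D.nroots && Nat.beq (code D (D.simple i)) (offs D + 64 ^ (D.rank - 1 - i))
    && Nat.beq (cart D i (D.simple i)) 10) D.rank

def chkCartRow (D : ChevalleyDatum) (n i : ℕ) : List ℤ → ℕ → Bool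
  | [], r => Nat.beq r n
  | a :: t, r => decide (a = (cart D i r : ℤ) - 8) && chkCartRow D n i t (r + 1)

def chkCartRows (D : ChevalleyDatum) (n l : ℕ) : List (Array ℤ) → ℕ → Bool
  | [], i => Nat.beq i l
  | row :: t, i => chkCartRow D n i row.toList 0 && chkCartRows D n l t (i + 1)

/-- the packed Cartan table is the Cartan table -/
def chkCart (D : ChevalleyDatum) : Bool := chkCartRows D D.nroots D.rank D.cartanSR.toList 0

/-- cartan integers are additive -/
def chkCartAdd (D : ChevalleyDatum) : Bool :=
  allLT (fun i => allLT (fun r => Nat.beq
    (Nat.add (cart D i r) (Nat.mul 8 (Nat.add (sumLT (fun j => dig (code D r) (D.rank - 1 - j)) D.rank)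
      (sumLT (fun j => cart D i (D.simple j)) D.rank))))
    (Nat.add (Nat.add 8 (Nat.mul 64 D.rank))
      (sumLT (fun j => Nat.mul (dig (code D r) (D.rank - 1 - j)) (cart D i (D.simple j))) D.rank)))
      D.nroots) D.rank

def chkMerge (f : ℕ → ℕ) : ℕ → ℕ → List (ℕ × Array (ℕ × ℤ)) → Bool
  | 0, _, _ => true
  | fuel + 1, s, [] => Nat.beq (f s) 0 && chkMerge f fuel (s + 1) []
  | fuel + 1, s, e :: t =>
    bif Nat.beq e.1 s then Nat.ble (f s) e.2.toList.length && chkMerge f fuel (s + 1) t
    else Nat.beq (f s) 0 && chkMerge f fuel (s + 1) (e :: t)

/-- reflections stay in the root system -/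
def chkRefl (D : ChevalleyDatum) : Bool :=
  allLT (fun i =>
    chkMerge (fun s => bif (Nat.beq s (D.simple i) || Nat.beq s (D.neg (D.simple i))) then 0
      else Nat.sub 8 (cart D i s)) D.nroots 0 (D.chain.getD (D.simple i) #[]).toList &&
    chkMerge (fun s => bif (Nat.beq s (D.simple i) || Nat.beq s (D.neg (D.simple i))) then 0
      else Nat.sub (cart D i s) 8) D.nroots 0 (D.chain.getD (D.neg (D.simple i)) #[]).toList) D.rank

/-- a negative root has a negative coefficient with negative Cartan integer -/
def chkDescent (D : ChevalleyDatum) : Bool :=
  allLT (fun r => Nat.blt (offs D) (code D r) ||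
    anyLT (fun i => Nat.blt (dig (code D r) (D.rank - 1 - i)) 8 && Nat.blt (cart D i r) 8) D.rank) D.nroots

theorem chkChain_G2 : chkChain chevG2 = true := by decide +kernel
theorem chkChain_B2 : chkChain chevB2 = true := by decide +kernel
theorem chkChain_D4 : chkChain chevD4 = true := by decide +kernel
theorem chkChain_F4 : chkChain chevF4 = true := by decide +kernel
theorem chkChain_E6 : chkChain chevE6 = true := by decide +kernel
theorem chkChain_E7 : chkChain chevE7 = true := by decide +kernel
theorem chkChain_E8 : chkChain chevE8 = true := by decide +kernel

theorem chkCoroot_G2 : chkCoroot chevG2 = true := by decide +kernel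
theorem chkCoroot_B2 : chkCoroot chevB2 = true := by decide +kernel
theorem chkCoroot_D4 : chkCoroot chevD4 = true := by decide +kernel
theorem chkCoroot_F4 : chkCoroot chevF4 = true := by decide +kernel
theorem chkCoroot_E6 : chkCoroot chevE6 = true := by decide +kernel
theorem chkCoroot_E7 : chkCoroot chevE7 = true := by decide +kernel
theorem chkCoroot_E8 : chkCoroot chevE8 = true := by decide +kernel

theorem chkNeg_G2 : chkNeg chevG2 = true := by decide +kernel
theorem chkNeg_B2 : chkNeg chevB2 = true := by decide +kernel
theorem chkNeg_D4 : chkNeg chevD4 = true := by decide +kernel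
theorem chkNeg_F4 : chkNeg chevF4 = true := by decide +kernel
theorem chkNeg_E6 : chkNeg chevE6 = true := by decide +kernel
theorem chkNeg_E7 : chkNeg chevE7 = true := by decide +kernel
theorem chkNeg_E8 : chkNeg chevE8 = true := by decide +kernel

theorem chkPosNeg_G2 : chkPosNeg chevG2 = true := by decide +kernel
theorem chkPosNeg_B2 : chkPosNeg chevB2 = true := by decide +kernel
theorem chkPosNeg_D4 : chkPosNeg chevD4 = true := by decide +kernel
theorem chkPosNeg_F4 : chkPosNeg chevF4 = true := by decide +kernel
theorem chkPosNeg_E6 : chkPosNeg chevE6 = true := by decide +kernel
theorem chkPosNeg_E7 : chkPosNeg chevE7 = true := by decide +kernel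
theorem chkPosNeg_E8 : chkPosNeg chevE8 = true := by decide +kernel

theorem chkOffs_G2 : chkOffs chevG2 = true := by decide +kernel
theorem chkOffs_B2 : chkOffs chevB2 = true := by decide +kernel
theorem chkOffs_D4 : chkOffs chevD4 = true := by decide +kernel
theorem chkOffs_F4 : chkOffs chevF4 = true := by decide +kernel
theorem chkOffs_E6 : chkOffs chevE6 = true := by decide +kernel
theorem chkOffs_E7 : chkOffs chevE7 = true := by decide +kernel
theorem chkOffs_E8 : chkOffs chevE8 = true := by decide +kernel

theorem chkMono_G2 : chkMono chevG2 = true := by decide +kernel
theorem chkMono_B2 : chkMono chevB2 = true := by decide +kernel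
theorem chkMono_D4 : chkMono chevD4 = true := by decide +kernel
theorem chkMono_F4 : chkMono chevF4 = true := by decide +kernel
theorem chkMono_E6 : chkMono chevE6 = true := by decide +kernel
theorem chkMono_E7 : chkMono chevE7 = true := by decide +kernel
theorem chkMono_E8 : chkMono chevE8 = true := by decide +kernel

theorem chkSimple_G2 : chkSimple chevG2 = true := by decide +kernel
theorem chkSimple_B2 : chkSimple chevB2 = true := by decide +kernel
theorem chkSimple_D4 : chkSimple chevD4 = true := by decide +kernel
theorem chkSimple_F4 : chkSimple chevF4 = true := by decide +kernel
theorem chkSimple_E6 : chkSimple chevE6 = true := by decide +kernel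
theorem chkSimple_E7 : chkSimple chevE7 = true := by decide +kernel
theorem chkSimple_E8 : chkSimple chevE8 = true := by decide +kernel

theorem chkCart_G2 : chkCart chevG2 = true := by decide +kernel
theorem chkCart_B2 : chkCart chevB2 = true := by decide +kernel
theorem chkCart_D4 : chkCart chevD4 = true := by decide +kernel
theorem chkCart_F4 : chkCart chevF4 = true := by decide +kernel
theorem chkCart_E6 : chkCart chevE6 = true := by decide +kernel
theorem chkCart_E7 : chkCart chevE7 = true := by decide +kernel
theorem chkCart_E8 : chkCart chevE8 = true := by decide +kernel

theorem chkCartAdd_G2 : chkCartAdd chevG2 = true := by decide +kernel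
theorem chkCartAdd_B2 : chkCartAdd chevB2 = true := by decide +kernel
theorem chkCartAdd_D4 : chkCartAdd chevD4 = true := by decide +kernel
theorem chkCartAdd_F4 : chkCartAdd chevF4 = true := by decide +kernel
theorem chkCartAdd_E6 : chkCartAdd chevE6 = true := by decide +kernel
theorem chkCartAdd_E7 : chkCartAdd chevE7 = true := by decide +kernel
theorem chkCartAdd_E8 : chkCartAdd chevE8 = true := by decide +kernel

theorem chkRefl_G2 : chkRefl chevG2 = true := by decide +kernel
theorem chkRefl_B2 : chkRefl chevB2 = true := by decide +kernel
theorem chkRefl_D4 : chkRefl chevD4 = true := by decide +kernel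
theorem chkRefl_F4 : chkRefl chevF4 = true := by decide +kernel
theorem chkRefl_E6 : chkRefl chevE6 = true := by decide +kernel
theorem chkRefl_E7 : chkRefl chevE7 = true := by decide +kernel
theorem chkRefl_E8 : chkRefl chevE8 = true := by decide +kernel

theorem chkDescent_G2 : chkDescent chevG2 = true := by decide +kernel
theorem chkDescent_B2 : chkDescent chevB2 = true := by decide +kernel
theorem chkDescent_D4 : chkDescent chevD4 = true := by decide +kernel
theorem chkDescent_F4 : chkDescent chevF4 = true := by decide +kernel
theorem chkDescent_E6 : chkDescent chevE6 = true := by decide +kernel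
theorem chkDescent_E7 : chkDescent chevE7 = true := by decide +kernel
theorem chkDescent_E8 : chkDescent chevE8 = true := by decide +kernel

/-- All checks. -/
structure Checked (D : ChevalleyDatum) : Prop where
  chkChain : chkChain D = true
  chkCoroot : chkCoroot D = true
  chkNeg : chkNeg D = true
  chkPosNeg : chkPosNeg D = true
  chkOffs : chkOffs D = true
  chkMono : chkMono D = true
  chkSimple : chkSimple D = true
  chkCart : chkCart D = true
  chkCartAdd : chkCartAdd D = true
  chkRefl : chkRefl D = true
  chkDescent : chkDescent D = true

theorem checked_G2 : Checked chevG2 := ⟨chkChain_G2, chkCoroot_G2, chkNeg_G2, chkPosNeg_G2, chkOffs_G2, chkMono_G2, chkSimple_G2, chkCart_G2, chkCartAdd_G2, chkRefl_G2, chkDescent_G2⟩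
theorem checked_B2 : Checked chevB2 := ⟨chkChain_B2, chkCoroot_B2, chkNeg_B2, chkPosNeg_B2, chkOffs_B2, chkMono_B2, chkSimple_B2, chkCart_B2, chkCartAdd_B2, chkRefl_B2, chkDescent_B2⟩
theorem checked_D4 : Checked chevD4 := ⟨chkChain_D4, chkCoroot_D4, chkNeg_D4, chkPosNeg_D4, chkOffs_D4, chkMono_D4, chkSimple_D4, chkCart_D4, chkCartAdd_D4, chkRefl_D4, chkDescent_D4⟩
theorem checked_F4 : Checked chevF4 := ⟨chkChain_F4, chkCoroot_F4, chkNeg_F4, chkPosNeg_F4, chkOffs_F4, chkMono_F4, chkSimple_F4, chkCart_F4, chkCartAdd_F4, chkRefl_F4, chkDescent_F4⟩
theorem checked_E6 : Checked chevE6 := ⟨chkChain_E6, chkCoroot_E6, chkNeg_E6, chkPosNeg_E6, chkOffs_E6, chkMono_E6, chkSimple_E6, chkCart_E6, chkCartAdd_E6, chkRefl_E6, chkDescent_E6⟩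
theorem checked_E7 : Checked chevE7 := ⟨chkChain_E7, chkCoroot_E7, chkNeg_E7, chkPosNeg_E7, chkOffs_E7, chkMono_E7, chkSimple_E7, chkCart_E7, chkCartAdd_E7, chkRefl_E7, chkDescent_E7⟩
theorem checked_E8 : Checked chevE8 := ⟨chkChain_E8, chkCoroot_E8, chkNeg_E8, chkPosNeg_E8, chkOffs_E8, chkMono_E8, chkSimple_E8, chkCart_E8, chkCartAdd_E8, chkRefl_E8, chkDescent_E8⟩

theorem checked_of_mem {D : ChevalleyDatum}
    (hD : D ∈ [chevG2, chevB2, chevD4, chevF4, chevE6, chevE7, chevE8]) : Checked D := by
  simp only [List.mem_cons, List.mem_nil_iff, or_false] at hD
  rcases hD with rfl | rfl | rfl | rfl | rfl | rfl | rfl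
  · exact checked_G2
  · exact checked_B2
  · exact checked_D4
  · exact checked_F4
  · exact checked_E6
  · exact checked_E7
  · exact checked_E8

end Cfsg.Agent.ChevalleyStructure.RootVecTab
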