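/-
helper600: additive root coordinates of the Chevalley tables, part 2: the API.
`rt D r i` is the coefficient of the root with index `r` on the fundamental root p_{i+1}.
-/
import Mathlib
import Cfsg.Agent.ChevalleyStructure.RootVecTab

set_option autoImplicit false

namespace Cfsg.Agent.ChevalleyStructure.RootVec

open Cfsg.Lie Cfsg.Agent.ChevalleyStructure.RootVecTab

/-! ### digits -/

theorem dig_zero (c : ℕ) : dig c 0 = c % 64 := by
  show (Nat.shiftRight c (6 * 0)) % 64 = c % 64
  rfl

theorem dig_eq (c j : ℕ) : dig c j = c / 64 ^ j % 64 := by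
  show (c >>> (6 * j)) % 64 = _
  rw [Nat.shiftRight_eq_div_pow, pow_mul]
  norm_num

theorem dig_succ (c j : ℕ) : dig c (j + 1) = dig (c / 64) j := by
  rw [dig_eq, dig_eq, Nat.div_div_eq_div_mul, pow_succ, mul_comm]

theorem dig_add_mul (k : ℕ) : ∀ (j x y : ℕ), (∀ i ≤ j, dig x i + k * dig y i < 64) →
    dig (x + k * y) j = dig x j + k * dig y j := by
  intro j
  induction j with
  | zero =>
    intro x y h
    have h0 := h 0 le_rfl
    rw [dig_zero, dig_zero] at *
    rw [dig_zero]
    have hx := Nat.div_add_mod x 64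
    have hy := Nat.div_add_mod y 64
    have : x + k * y = (x % 64 + k * (y % 64)) + 64 * (x / 64 + k * (y / 64)) := by
      conv_lhs => rw [← hx, ← hy]
      ring
    rw [this, Nat.add_mul_mod_self_left, Nat.mod_eq_of_lt h0]
  | succ j ih =>
    intro x y h
    have h0 := h 0 (Nat.zero_le _)
    rw [dig_zero, dig_zero] at h0
    rw [dig_succ, dig_succ, dig_succ]
    have hx := Nat.div_add_mod x 64
    have hy := Nat.div_add_mod y 64
    have e : x + k * y = (x % 64 + k * (y % 64)) + 64 * (x / 64 + k * (y / 64)) := by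
      conv_lhs => rw [← hx, ← hy]
      ring
    have : (x + k * y) / 64 = x / 64 + k * (y / 64) := by
      rw [e, Nat.add_mul_div_left _ _ (by norm_num : 0 < 64), Nat.div_eq_of_lt h0, zero_add]
    rw [this]
    apply ih
    intro i hi
    have := h (i + 1) (by omega)
    rwa [dig_succ, dig_succ] at this

theorem eq_of_dig (l : ℕ) : ∀ x y : ℕ, x < 64 ^ l → y < 64 ^ l → (∀ j < l, dig x j = dig y j) → x = y := by
  induction l with
  | zero => intro x y hx hy _; simp at hx hy; omega
  | succ l ih =>
    intro x y hx hy h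
    have h0 := h 0 (Nat.succ_pos _)
    rw [dig_zero, dig_zero] at h0
    have : x / 64 = y / 64 := by
      apply ih
      · rw [Nat.div_lt_iff_lt_mul (by norm_num)]; rwa [pow_succ] at hx
      · rw [Nat.div_lt_iff_lt_mul (by norm_num)]; rwa [pow_succ] at hy
      · intro j hj
        have := h (j + 1) (by omega)
        rwa [dig_succ, dig_succ] at this
    omega

theorem dig_pow (m j : ℕ) : dig (64 ^ m) j = if j = m then 1 else 0 := by
  rw [dig_eq]
  rcases lt_trichotomy j m with h | h | h
  · rw [if_neg (by omega), Nat.pow_div h.le (by norm_num)]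
    obtain ⟨d, hd⟩ : ∃ d, m - j = d + 1 := ⟨m - j - 1, by omega⟩
    rw [hd, pow_succ]; simp
  · subst h; rw [if_pos rfl, Nat.div_self (by positivity)]
  · rw [if_neg (by omega), Nat.div_eq_of_lt (Nat.pow_lt_pow_right (by norm_num) h)]

/-! ### loops -/

theorem allLT_iff (f : ℕ → Bool) (n : ℕ) : allLT f n = true ↔ ∀ i < n, f i = true := by
  induction n with
  | zero => simp [allLT]
  | succ n ih =>
    simp only [allLT, Bool.and_eq_true, ih]
    constructor
    · rintro ⟨h1, h2⟩ i hi
      rcases Nat.lt_succ_iff_lt_or_eq.mp hi with h | h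
      · exact h2 i h
      · rw [h]; exact h1
    · intro h
      exact ⟨h n (Nat.lt_succ_self n), fun i hi => h i (Nat.lt_succ_of_lt hi)⟩

theorem anyLT_iff (f : ℕ → Bool) (n : ℕ) : anyLT f n = true ↔ ∃ i < n, f i = true := by
  induction n with
  | zero => simp [anyLT]
  | succ n ih =>
    simp only [anyLT, Bool.or_eq_true, ih]
    constructor
    · rintro (h | ⟨i, hi, h⟩)
      · exact ⟨n, Nat.lt_succ_self n, h⟩
      · exact ⟨i, Nat.lt_succ_of_lt hi, h⟩
    · rintro ⟨i, hi, h⟩
      rcases Nat.lt_succ_iff_lt_or_eq.mp hi with h' | h'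
      · exact Or.inr ⟨i, h', h⟩
      · exact Or.inl (h' ▸ h)

theorem sumLT_eq (f : ℕ → ℕ) (n : ℕ) : sumLT f n = ∑ i ∈ Finset.range n, f i := by
  induction n with
  | zero => simp [sumLT]
  | succ n ih =>
    rw [Finset.sum_range_succ, ← ih]
    show Nat.add (f n) (sumLT f n) = _
    exact Nat.add_comm _ _

theorem blt_iff {a b : ℕ} : Nat.blt a b = true ↔ a < b := by
  rw [Nat.blt_eq]

theorem beq_iff {a b : ℕ} : Nat.beq a b = true ↔ a = b :=
  ⟨Nat.eq_of_beq_eq_true, fun h => h ▸ Nat.beq_refl a⟩

theorem ble_iff {a b : ℕ} : Nat.ble a b = true ↔ a ≤ b := by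
  rw [Nat.ble_eq]

/-! ### the coordinates -/

/-- The coefficient of the root with index `r` on the fundamental root p_{i+1} (0 if out of range). -/
def rt (D : ChevalleyDatum) (r i : ℕ) : ℤ :=
  if r < D.nroots ∧ i < D.rank then (dig (code D r) (D.rank - 1 - i) : ℤ) - 8 else 0

/-- The coefficient of the coroot of `r` on the fundamental coroot h_{p_{i+1}}. -/
def co (D : ChevalleyDatum) (r i : ℕ) : ℤ := (D.coroot.getD r #[]).getD i 0

theorem co_def (D : ChevalleyDatum) (r i : ℕ) : co D r i = (D.coroot.getD r #[]).getD i 0 := rfl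

variable {D : ChevalleyDatum}

theorem rt_of_lt {r i : ℕ} (hr : r < D.nroots) (hi : i < D.rank) :
    rt D r i = (dig (code D r) (D.rank - 1 - i) : ℤ) - 8 := if_pos ⟨hr, hi⟩

theorem rt_of_rank_le {r i : ℕ} (hi : D.rank ≤ i) : rt D r i = 0 :=
  if_neg (by omega)

theorem rt_of_nroots_le {r i : ℕ} (hr : D.nroots ≤ r) : rt D r i = 0 :=
  if_neg (by omega)

theorem code_lt (r : ℕ) : code D r < 64 ^ D.rank := by
  have : code D r < 2 ^ (6 * D.rank) := Nat.mod_lt _ (by positivity)
  rw [pow_mul] at this
  norm_num at this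
  exact this

theorem rank_pos (h : Checked D) : 0 < D.rank := by
  have := h.chkOffs
  simp only [chkOffs, Bool.and_eq_true, blt_iff] at this
  exact this.1.2

theorem nroots_pos (h : Checked D) : 0 < D.nroots := by
  have := h.chkOffs
  simp only [chkOffs, Bool.and_eq_true, blt_iff] at this
  exact this.2

theorem dig_offs (h : Checked D) {j : ℕ} (hj : j < D.rank) : dig (offs D) j = 8 := by
  have := h.chkOffs
  simp only [chkOffs, Bool.and_eq_true, blt_iff, allLT_iff, beq_iff] at this
  exact this.1.1.1 j hj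

/-! ### coroots -/

theorem getD_toList {α : Type*} (a : Array α) (d : α) {i : ℕ} (h : i < a.toList.length) :
    a.getD i d = a.toList[i] := by
  rw [Array.getD_eq_getD_getElem?, Array.getElem?_eq_getElem (by rwa [Array.length_toList] at h)]
  simp

theorem co_soundL (l : ℕ) : ∀ (rows : List (Array ℤ)) (r : ℕ), chkCo D l rows r = true →
    ∀ (k : ℕ) (hk : k < rows.length), chkSigns (code D (r + k)) l (rows[k]).toList 0 = true := by
  intro rows
  induction rows with
  | nil => intro r _ k hk; simp at hk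
  | cons a t ih =>
    intro r h k hk
    simp only [chkCo, Bool.and_eq_true] at h
    cases k with
    | zero => exact h.1
    | succ k =>
      have := ih (r + 1) h.2 k (by simpa using hk)
      rw [show r + (k + 1) = r + 1 + k by ring]
      exact this

theorem signs_sound (c l : ℕ) : ∀ (row : List ℤ) (i : ℕ), chkSigns c l row i = true →
    i + row.length = l ∧ ∀ (k : ℕ) (hk : k < row.length),
      chkSign (row[k]) (dig c (l - 1 - (i + k))) = true ∧ dig c (l - 1 - (i + k)) < 16 := by
  intro row
  induction row with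
  | nil => intro i h; simp only [chkSigns, beq_iff] at h; simp [h]
  | cons a t ih =>
    intro i h
    simp only [chkSigns, Bool.and_eq_true, blt_iff] at h
    obtain ⟨h1, h2⟩ := ih (i + 1) h.2
    refine ⟨by simp only [List.length_cons]; omega, ?_⟩
    intro k hk
    cases k with
    | zero => exact h.1
    | succ k =>
      have := h2 k (by simpa using hk)
      rw [show i + (k + 1) = i + 1 + k by ring]
      exact this

theorem sign_sound {c : ℤ} {d : ℕ} (h : chkSign c d = true) :
    (0 < c ↔ 8 < d) ∧ (c < 0 ↔ d < 8) ∧ (c = 0 ↔ d = 8) := by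
  match c, h with
  | Int.ofNat 0, h =>
    have : d = 8 := beq_iff.mp h
    subst this
    simp
  | Int.ofNat (n + 1), h =>
    have h8 : 8 < d := blt_iff.mp h
    have : (0 : ℤ) < Int.ofNat (n + 1) := by simp [Int.ofNat_eq_natCast]
    refine ⟨⟨fun _ => h8, fun _ => this⟩, ⟨fun hc => by omega, fun hc => by omega⟩,
      ⟨fun hc => by omega, fun hc => by omega⟩⟩
  | Int.negSucc n, h =>
    have h8 : d < 8 := blt_iff.mp h
    have : Int.negSucc n < 0 := Int.negSucc_lt_zero n
    refine ⟨⟨fun hc => by omega, fun hc => by omega⟩, ⟨fun _ => h8, fun _ => this⟩,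
      ⟨fun hc => by omega, fun hc => by omega⟩⟩

theorem coroot_row (h : Checked D) {r : ℕ} (hr : r < D.nroots) :
    (D.coroot.getD r #[]).size = D.rank ∧ ∀ i < D.rank,
      chkSign (co D r i) (dig (code D r) (D.rank - 1 - i)) = true ∧ dig (code D r) (D.rank - 1 - i) < 16 := by
  have h1 := h.chkCoroot
  simp only [chkCoroot, Bool.and_eq_true, beq_iff] at h1
  obtain ⟨hsz, h2⟩ := h1
  have hr' : r < D.coroot.toList.length := by rw [Array.length_toList, hsz]; exact hr
  have h3 := co_soundL D.rank D.coroot.toList 0 h2 r hr'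
  rw [zero_add] at h3
  have e : D.coroot.getD r #[] = D.coroot.toList[r] := getD_toList _ _ hr'
  obtain ⟨h4, h5⟩ := signs_sound _ _ _ _ h3
  rw [← e] at h4 h5
  rw [zero_add, Array.length_toList] at h4
  refine ⟨h4, ?_⟩
  intro i hi
  have := h5 i (by rw [Array.length_toList, h4]; exact hi)
  rw [zero_add] at this
  have e2 : co D r i = (D.coroot.getD r #[]).toList[i]'(by rw [Array.length_toList, h4]; exact hi) :=
    getD_toList _ _ _
  rw [e2]
  exact this

theorem dig_lt (h : Checked D) {r j : ℕ} (hr : r < D.nroots) (hj : j < D.rank) : dig (code D r) j < 16 := by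
  have := ((coroot_row h hr).2 (D.rank - 1 - j) (by omega)).2
  rwa [show D.rank - 1 - (D.rank - 1 - j) = j by omega] at this

theorem co_pos_iff (h : Checked D) {r i : ℕ} (hr : r < D.nroots) (hi : i < D.rank) :
    0 < co D r i ↔ 0 < rt D r i := by
  rw [(sign_sound ((coroot_row h hr).2 i hi).1).1, rt_of_lt hr hi]; omega

theorem co_neg_iff (h : Checked D) {r i : ℕ} (hr : r < D.nroots) (hi : i < D.rank) :
    co D r i < 0 ↔ rt D r i < 0 := by
  rw [(sign_sound ((coroot_row h hr).2 i hi).1).2.1, rt_of_lt hr hi]; omega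

theorem co_eq_zero_iff (h : Checked D) {r i : ℕ} (hr : r < D.nroots) (hi : i < D.rank) :
    co D r i = 0 ↔ rt D r i = 0 := by
  rw [(sign_sound ((coroot_row h hr).2 i hi).1).2.2, rt_of_lt hr hi]; omega

theorem mem_coroot_row (h : Checked D) {r : ℕ} (hr : r < D.nroots) (c : ℤ) :
    c ∈ (D.coroot.getD r #[]).toList ↔ ∃ i < D.rank, co D r i = c := by
  have hsz := (coroot_row h hr).1
  rw [List.mem_iff_getElem]
  constructor
  · rintro ⟨i, hi, rfl⟩
    have hi' : i < D.rank := by rwa [Array.length_toList, hsz] at hi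
    exact ⟨i, hi', getD_toList _ _ _⟩
  · rintro ⟨i, hi, rfl⟩
    exact ⟨i, by rw [Array.length_toList, hsz]; exact hi, (getD_toList _ _ _).symm⟩

theorem isPosRoot_iff (h : Checked D) (r : ℕ) :
    D.IsPosRoot r ↔ r < D.nroots ∧ ∀ i < D.rank, 0 ≤ rt D r i := by
  show (r < D.nroots ∧ ∀ c ∈ (D.coroot.getD r #[]).toList, 0 ≤ c) ↔ _
  refine and_congr_right fun hr => ?_
  simp only [mem_coroot_row h hr]
  constructor
  · intro H i hi
    have := H _ ⟨i, hi, rfl⟩
    have := (co_neg_iff h hr hi).not
    omega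
  · rintro H c ⟨i, hi, rfl⟩
    have := H i hi
    have := (co_neg_iff h hr hi).not
    omega

theorem isNegRoot_iff (h : Checked D) (r : ℕ) :
    D.IsNegRoot r ↔ r < D.nroots ∧ ∀ i < D.rank, rt D r i ≤ 0 := by
  show (r < D.nroots ∧ ∀ c ∈ (D.coroot.getD r #[]).toList, c ≤ 0) ↔ _
  refine and_congr_right fun hr => ?_
  simp only [mem_coroot_row h hr]
  constructor
  · intro H i hi
    have := H _ ⟨i, hi, rfl⟩
    have := (co_pos_iff h hr hi).not
    omega
  · rintro H c ⟨i, hi, rfl⟩
    have := H i hi
    have := (co_pos_iff h hr hi).not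
    omega

theorem inRootSub_iff (h : Checked D) (J : Set ℕ) (r : ℕ) :
    D.InRootSub J r ↔ r < D.nroots ∧ ∀ i < D.rank, i ∉ J → rt D r i = 0 := by
  show (r < D.nroots ∧ ∀ i < D.rank, i ∉ J → co D r i = 0) ↔ _
  refine and_congr_right fun hr => ?_
  constructor
  · intro H i hi hJ
    exact (co_eq_zero_iff h hr hi).mp (H i hi hJ)
  · intro H i hi hJ
    exact (co_eq_zero_iff h hr hi).mpr (H i hi hJ)

/-! ### negatives -/

theorem negL_sound (n O : ℕ) : ∀ (l : List ℕ) (r : ℕ), chkNegL D n O l r = true →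
    r + l.length = n ∧ ∀ (k : ℕ) (hk : k < l.length),
      l[k] + (r + k) + 1 = n ∧ code D l[k] + code D (r + k) = 2 * O := by
  intro l
  induction l with
  | nil => intro r h; simp only [chkNegL, beq_iff] at h; simp [h]
  | cons a t ih =>
    intro r h
    simp only [chkNegL, Bool.and_eq_true, beq_iff] at h
    obtain ⟨h1, h2⟩ := ih (r + 1) h.2
    refine ⟨by simp only [List.length_cons]; omega, ?_⟩
    intro k hk
    cases k with
    | zero => exact ⟨h.1.1, h.1.2⟩
    | succ k =>
      have := h2 k (by simpa using hk)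
      rw [show r + (k + 1) = r + 1 + k by ring]
      exact this

theorem neg_facts (h : Checked D) {r : ℕ} (hr : r < D.nroots) :
    D.neg r + r + 1 = D.nroots ∧ code D (D.neg r) + code D r = 2 * offs D := by
  have h1 := negL_sound _ _ _ _ h.chkNeg
  rw [zero_add] at h1
  have hr' : r < D.negIdx.toList.length := by rw [h1.1]; exact hr
  have h2 := h1.2 r hr'
  rw [zero_add, ← getD_toList D.negIdx 0 hr'] at h2
  exact h2

theorem neg_add (h : Checked D) {r : ℕ} (hr : r < D.nroots) : D.neg r + r + 1 = D.nroots :=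
  (neg_facts h hr).1

theorem neg_eq (h : Checked D) {r : ℕ} (hr : r < D.nroots) : D.neg r = D.nroots - 1 - r := by
  have := neg_add h hr; omega

theorem neg_lt (h : Checked D) {r : ℕ} (hr : r < D.nroots) : D.neg r < D.nroots := by
  have := neg_add h hr; omega

theorem neg_neg (h : Checked D) {r : ℕ} (hr : r < D.nroots) : D.neg (D.neg r) = r := by
  have := neg_add h hr; have := neg_add h (neg_lt h hr); omega

theorem neg_inj (h : Checked D) {r s : ℕ} (hr : r < D.nroots) (hs : s < D.nroots)
    (e : D.neg r = D.neg s) : r = s := by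
  have := neg_add h hr; have := neg_add h hs; omega

theorem rt_neg (h : Checked D) {r : ℕ} (hr : r < D.nroots) (i : ℕ) : rt D (D.neg r) i = - rt D r i := by
  by_cases hi : i < D.rank
  · have hn := neg_lt h hr
    have e := (neg_facts h hr).2
    have e' : code D (D.neg r) + 1 * code D r = offs D + 1 * offs D := by rw [one_mul, one_mul, e, two_mul]
    have d1 := dig_add_mul 1 (D.rank - 1 - i) (code D (D.neg r)) (code D r) (by
      intro j hj
      have := dig_lt h (j := j) hn (by omega)
      have := dig_lt h (j := j) hr (by omega)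
      omega)
    have d2 := dig_add_mul 1 (D.rank - 1 - i) (offs D) (offs D) (by
      intro j hj
      have := dig_offs h (j := j) (by omega)
      omega)
    rw [e', d2, dig_offs h (by omega)] at d1
    rw [rt_of_lt hn hi, rt_of_lt hr hi]
    omega
  · rw [rt_of_rank_le (by omega), rt_of_rank_le (by omega), neg_zero]

/-! ### order and injectivity -/

theorem code_lt_succ (h : Checked D) {r : ℕ} (hr : r + 1 < D.nroots) : code D r < code D (r + 1) := by
  have h1 := h.chkMono
  simp only [chkMono, allLT_iff, blt_iff] at h1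
  exact h1 r (by omega)

theorem code_strictMono (h : Checked D) {r s : ℕ} (hrs : r < s) (hs : s < D.nroots) : code D r < code D s := by
  induction s, hrs using Nat.le_induction with
  | base => exact code_lt_succ h hs
  | succ s hs' ih => exact (ih (by omega)).trans (code_lt_succ h hs)

theorem code_lt_iff (h : Checked D) {r s : ℕ} (hr : r < D.nroots) (hs : s < D.nroots) :
    code D r < code D s ↔ r < s := by
  constructor
  · intro hc
    rcases lt_trichotomy r s with h1 | h1 | h1
    · exact h1
    · subst h1; omega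
    · have := code_strictMono h h1 hr; omega
  · intro h1; exact code_strictMono h h1 hs

theorem code_inj (h : Checked D) {r s : ℕ} (hr : r < D.nroots) (hs : s < D.nroots)
    (e : code D r = code D s) : r = s := by
  rcases lt_trichotomy r s with h1 | h1 | h1
  · have := code_strictMono h h1 hs; omega
  · exact h1
  · have := code_strictMono h h1 hr; omega

/-- A root is determined by its coefficient vector. -/
theorem rt_inj (h : Checked D) {r s : ℕ} (hr : r < D.nroots) (hs : s < D.nroots)
    (e : ∀ i < D.rank, rt D r i = rt D s i) : r = s := by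
  apply code_inj h hr hs
  apply eq_of_dig D.rank _ _ (code_lt r) (code_lt s)
  intro j hj
  have := e (D.rank - 1 - j) (by omega)
  rw [rt_of_lt hr (by omega), rt_of_lt hs (by omega)] at this
  rw [show D.rank - 1 - (D.rank - 1 - j) = j by omega] at this
  omega

theorem pos_or_neg' (h : Checked D) {r : ℕ} (hr : r < D.nroots) :
    (offs D < code D r ∧ ∀ i < D.rank, 0 ≤ rt D r i) ∨ (code D r < offs D ∧ ∀ i < D.rank, rt D r i ≤ 0) := by
  have h1 := h.chkPosNeg
  simp only [chkPosNeg, allLT_iff, blt_iff, ble_iff, Bool.or_eq_true, Bool.and_eq_true] at h1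
  rcases h1 r hr with ⟨h2, h3⟩ | ⟨h2, h3⟩
  · refine Or.inl ⟨h2, fun i hi => ?_⟩
    have := h3 (D.rank - 1 - i) (by omega)
    rw [rt_of_lt hr hi]; omega
  · refine Or.inr ⟨h2, fun i hi => ?_⟩
    have := h3 (D.rank - 1 - i) (by omega)
    rw [rt_of_lt hr hi]; omega

theorem pos_or_neg (h : Checked D) {r : ℕ} (hr : r < D.nroots) : D.IsPosRoot r ∨ D.IsNegRoot r := by
  rcases pos_or_neg' h hr with h1 | h1
  · exact Or.inl ((isPosRoot_iff h r).mpr ⟨hr, h1.2⟩)
  · exact Or.inr ((isNegRoot_iff h r).mpr ⟨hr, h1.2⟩)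

/-- No root has coefficient vector zero. -/
theorem exists_rt_ne_zero (h : Checked D) {r : ℕ} (hr : r < D.nroots) : ∃ i < D.rank, rt D r i ≠ 0 := by
  by_contra hc
  push Not at hc
  have e : code D r = offs D := by
    have h1 := h.chkOffs
    simp only [chkOffs, Bool.and_eq_true, blt_iff, allLT_iff, beq_iff] at h1
    apply eq_of_dig D.rank _ _ (code_lt r) h1.1.1.2
    intro j hj
    rw [dig_offs h hj]
    have := hc (D.rank - 1 - j) (by omega)
    rw [rt_of_lt hr (by omega), show D.rank - 1 - (D.rank - 1 - j) = j by omega] at this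
    omega
  rcases pos_or_neg' h hr with h1 | h1 <;> omega

theorem not_pos_and_neg (h : Checked D) {r : ℕ} (hp : D.IsPosRoot r) (hn : D.IsNegRoot r) : False := by
  rw [isPosRoot_iff h] at hp
  rw [isNegRoot_iff h] at hn
  obtain ⟨i, hi, hne⟩ := exists_rt_ne_zero h hp.1
  have := hp.2 i hi
  have := hn.2 i hi
  omega

theorem isPosRoot_iff_code (h : Checked D) {r : ℕ} (hr : r < D.nroots) : D.IsPosRoot r ↔ offs D < code D r := by
  rcases pos_or_neg' h hr with h1 | h1
  · exact ⟨fun _ => h1.1, fun _ => (isPosRoot_iff h r).mpr ⟨hr, h1.2⟩⟩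
  · refine ⟨fun hp => (not_pos_and_neg h hp ((isNegRoot_iff h r).mpr ⟨hr, h1.2⟩)).elim, fun hc => by omega⟩

theorem isNegRoot_iff_code (h : Checked D) {r : ℕ} (hr : r < D.nroots) : D.IsNegRoot r ↔ code D r < offs D := by
  rcases pos_or_neg' h hr with h1 | h1
  · refine ⟨fun hp => (not_pos_and_neg h ((isPosRoot_iff h r).mpr ⟨hr, h1.2⟩) hp).elim, fun hc => by omega⟩
  · exact ⟨fun _ => h1.1, fun _ => (isNegRoot_iff h r).mpr ⟨hr, h1.2⟩⟩

theorem isPosRoot_neg_iff (h : Checked D) {r : ℕ} (hr : r < D.nroots) :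
    D.IsPosRoot (D.neg r) ↔ D.IsNegRoot r := by
  rw [isPosRoot_iff h, isNegRoot_iff h]
  simp only [rt_neg h hr, neg_lt h hr, hr, true_and]
  exact forall_congr' fun i => imp_congr_right fun _ => by omega

theorem isNegRoot_neg_iff (h : Checked D) {r : ℕ} (hr : r < D.nroots) :
    D.IsNegRoot (D.neg r) ↔ D.IsPosRoot r := by
  rw [isPosRoot_iff h, isNegRoot_iff h]
  simp only [rt_neg h hr, neg_lt h hr, hr, true_and]
  exact forall_congr' fun i => imp_congr_right fun _ => by omega

/-- The positive roots are the indices in the upper half. -/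
theorem isPosRoot_iff_index (h : Checked D) {r : ℕ} (hr : r < D.nroots) : D.IsPosRoot r ↔ D.neg r < r := by
  have hn := neg_lt h hr
  have e := (neg_facts h hr).2
  rw [isPosRoot_iff_code h hr, ← code_lt_iff h hn hr]
  omega

theorem neg_ne (h : Checked D) {r : ℕ} (hr : r < D.nroots) : D.neg r ≠ r := by
  intro e
  rcases pos_or_neg h hr with h1 | h1
  · rw [isPosRoot_iff_index h hr] at h1; omega
  · rw [← isPosRoot_neg_iff h hr, isPosRoot_iff_index h (neg_lt h hr), neg_neg h hr] at h1; omega

/-! ### simple roots -/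

theorem simple_facts (h : Checked D) {i : ℕ} (hi : i < D.rank) :
    (D.simple i < D.nroots ∧ code D (D.simple i) = offs D + 64 ^ (D.rank - 1 - i)) ∧
      cart D i (D.simple i) = 10 := by
  have h1 := h.chkSimple
  simp only [chkSimple, allLT_iff, blt_iff, beq_iff, Bool.and_eq_true] at h1
  exact h1 i hi

theorem simple_lt (h : Checked D) {i : ℕ} (hi : i < D.rank) : D.simple i < D.nroots := (simple_facts h hi).1.1

theorem rt_simple (h : Checked D) {i : ℕ} (hi : i < D.rank) (j : ℕ) :
    rt D (D.simple i) j = if j = i then 1 else 0 := by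
  by_cases hj : j < D.rank
  · rw [rt_of_lt (simple_lt h hi) hj, (simple_facts h hi).1.2]
    have := dig_add_mul 1 (D.rank - 1 - j) (offs D) (64 ^ (D.rank - 1 - i)) (by
      intro k hk
      rw [dig_offs h (by omega), dig_pow]
      split_ifs <;> omega)
    rw [one_mul, dig_offs h (by omega), dig_pow] at this
    rw [this]
    by_cases hji : j = i
    · subst hji; simp
    · rw [if_neg (by omega), if_neg hji]; simp
  · rw [rt_of_rank_le (by omega), if_neg (by omega)]

theorem simple_pos (h : Checked D) {i : ℕ} (hi : i < D.rank) : D.IsPosRoot (D.simple i) := by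
  rw [isPosRoot_iff h]
  refine ⟨simple_lt h hi, fun j _ => ?_⟩
  rw [rt_simple h hi]
  split_ifs <;> omega

theorem simple_inj (h : Checked D) {i j : ℕ} (hi : i < D.rank) (hj : j < D.rank)
    (e : D.simple i = D.simple j) : i = j := by
  have h1 := rt_simple h hi i
  rw [e, rt_simple h hj] at h1
  by_contra hne
  simp [hne] at h1

/-! ### Cartan integers -/

theorem cartRow_sound (n i : ℕ) : ∀ (l : List ℤ) (r : ℕ), chkCartRow D n i l r = true →
    r + l.length = n ∧ ∀ (k : ℕ) (hk : k < l.length), l[k] = (cart D i (r + k) : ℤ) - 8 := by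
  intro l
  induction l with
  | nil => intro r h; simp only [chkCartRow, beq_iff] at h; simp [h]
  | cons a t ih =>
    intro r h
    simp only [chkCartRow, Bool.and_eq_true, decide_eq_true_eq] at h
    obtain ⟨h1, h2⟩ := ih (r + 1) h.2
    refine ⟨by simp only [List.length_cons]; omega, ?_⟩
    intro k hk
    cases k with
    | zero => exact h.1
    | succ k =>
      have := h2 k (by simpa using hk)
      rw [show r + (k + 1) = r + 1 + k by ring]
      exact this

theorem cartRows_sound (n l : ℕ) : ∀ (rows : List (Array ℤ)) (i : ℕ), chkCartRows D n l rows i = true →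
    i + rows.length = l ∧ ∀ (k : ℕ) (hk : k < rows.length),
      chkCartRow D n (i + k) (rows[k]).toList 0 = true := by
  intro rows
  induction rows with
  | nil => intro i h; simp only [chkCartRows, beq_iff] at h; simp [h]
  | cons a t ih =>
    intro i h
    simp only [chkCartRows, Bool.and_eq_true] at h
    obtain ⟨h1, h2⟩ := ih (i + 1) h.2
    refine ⟨by simp only [List.length_cons]; omega, ?_⟩
    intro k hk
    cases k with
    | zero => exact h.1
    | succ k =>
      have := h2 k (by simpa using hk)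
      rw [show i + (k + 1) = i + 1 + k by ring]
      exact this

theorem cartan_eq_cart (h : Checked D) {i r : ℕ} (hi : i < D.rank) (hr : r < D.nroots) :
    D.cartan i r = (cart D i r : ℤ) - 8 := by
  obtain ⟨h1, h2⟩ := cartRows_sound _ _ _ _ h.chkCart
  rw [zero_add] at h1
  have hi' : i < D.cartanSR.toList.length := by rw [h1]; exact hi
  have h3 := h2 i hi'
  rw [zero_add, ← getD_toList D.cartanSR #[] hi'] at h3
  obtain ⟨h4, h5⟩ := cartRow_sound _ _ _ _ h3
  rw [zero_add] at h4
  have hr' : r < (D.cartanSR.getD i #[]).toList.length := by rw [h4]; exact hr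
  have h6 := h5 r hr'
  rw [zero_add, ← getD_toList (D.cartanSR.getD i #[]) 0 hr'] at h6
  exact h6

theorem cartan_simple_self (h : Checked D) {i : ℕ} (hi : i < D.rank) : D.cartan i (D.simple i) = 2 := by
  rw [cartan_eq_cart h hi (simple_lt h hi), (simple_facts h hi).2]; norm_num

/-- Cartan integers A_{p_i, r} are additive in `r`. -/
theorem cartan_eq_sum (h : Checked D) {i r : ℕ} (hi : i < D.rank) (hr : r < D.nroots) :
    D.cartan i r = ∑ j ∈ Finset.range D.rank, rt D r j * D.cartan i (D.simple j) := by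
  have h1 := h.chkCartAdd
  simp only [chkCartAdd, allLT_iff, beq_iff, sumLT_eq] at h1
  have h2 := h1 i hi r hr
  have h3 : (cart D i r : ℤ) + 8 * ((∑ j ∈ Finset.range D.rank, (dig (code D r) (D.rank - 1 - j) : ℤ))
      + ∑ j ∈ Finset.range D.rank, (cart D i (D.simple j) : ℤ)) = (8 + 64 * D.rank)
      + ∑ j ∈ Finset.range D.rank, (dig (code D r) (D.rank - 1 - j) : ℤ) * (cart D i (D.simple j) : ℤ) := by
    exact_mod_cast h2
  rw [cartan_eq_cart h hi hr]
  have h4 : ∑ j ∈ Finset.range D.rank, rt D r j * D.cartan i (D.simple j) =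
      ∑ j ∈ Finset.range D.rank, ((dig (code D r) (D.rank - 1 - j) : ℤ) * (cart D i (D.simple j) : ℤ)
        - 8 * (dig (code D r) (D.rank - 1 - j) : ℤ) - 8 * (cart D i (D.simple j) : ℤ) + 64) := by
    apply Finset.sum_congr rfl
    intro j hj
    rw [Finset.mem_range] at hj
    rw [rt_of_lt hr hj, cartan_eq_cart h hi (simple_lt h hj)]
    ring
  rw [h4, Finset.sum_add_distrib, Finset.sum_sub_distrib, Finset.sum_sub_distrib, ← Finset.mul_sum,
    ← Finset.mul_sum, Finset.sum_const, Finset.card_range, nsmul_eq_mul]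
  linarith

theorem cartan_neg (h : Checked D) {i r : ℕ} (hi : i < D.rank) (hr : r < D.nroots) :
    D.cartan i (D.neg r) = - D.cartan i r := by
  rw [cartan_eq_sum h hi hr, cartan_eq_sum h hi (neg_lt h hr), ← Finset.sum_neg_distrib]
  exact Finset.sum_congr rfl fun j _ => by rw [rt_neg h hr]; ring

/-- Linear combinations of coefficient vectors give the same linear combination of Cartan integers. -/
theorem cartan_of_rt (h : Checked D) {u r s : ℕ} {a b : ℤ} (hu : u < D.nroots) (hr : r < D.nroots)
    (hs : s < D.nroots) (e : ∀ i < D.rank, rt D u i = a * rt D r i + b * rt D s i) {i : ℕ} (hi : i < D.rank) :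
    D.cartan i u = a * D.cartan i r + b * D.cartan i s := by
  rw [cartan_eq_sum h hi hr, cartan_eq_sum h hi hu, cartan_eq_sum h hi hs, Finset.mul_sum, Finset.mul_sum,
    ← Finset.sum_add_distrib]
  refine Finset.sum_congr rfl fun j hj => ?_
  rw [e j (Finset.mem_range.mp hj)]; ring

/-! ### chains -/

theorem rows_sound (n O : ℕ) : ∀ (rows : List (Array (ℕ × Array (ℕ × ℤ)))) (r : ℕ),
    chkRows D n O rows r = true → r + rows.length = n ∧ ∀ (k : ℕ) (hk : k < rows.length),
      chkRow D n O (code D (r + k)) (rows[k]).toList 0 = true := by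
  intro rows
  induction rows with
  | nil => intro r h; simp only [chkRows, beq_iff] at h; simp [h]
  | cons a t ih =>
    intro r h
    simp only [chkRows, Bool.and_eq_true] at h
    obtain ⟨h1, h2⟩ := ih (r + 1) h.2
    refine ⟨by simp only [List.length_cons]; omega, ?_⟩
    intro k hk
    cases k with
    | zero => exact h.1
    | succ k =>
      have := h2 k (by simpa using hk)
      rw [show r + (k + 1) = r + 1 + k by ring]
      exact this

theorem row_sound (n O cr : ℕ) : ∀ (row : List (ℕ × Array (ℕ × ℤ))) (lb : ℕ), chkRow D n O cr row lb = true →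
    (∀ e ∈ row, lb ≤ e.1 ∧ e.1 < n ∧ chkEnt D n O cr (code D e.1) e.2.toList 1 = true) ∧
    (row.map Prod.fst).Pairwise (· < ·) := by
  intro row
  induction row with
  | nil => intro lb _; simp
  | cons a t ih =>
    intro lb h
    simp only [chkRow, Bool.and_eq_true, blt_iff, ble_iff] at h
    obtain ⟨⟨⟨ha, hb⟩, hc⟩, hd⟩ := h
    obtain ⟨h1, h2⟩ := ih _ hd
    constructor
    · intro e he
      rcases List.mem_cons.mp he with rfl | he
      · exact ⟨ha, hb, hc⟩
      · obtain ⟨h3, h4⟩ := h1 e he
        exact ⟨by omega, h4⟩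
    · rw [List.map_cons, List.pairwise_cons]
      refine ⟨?_, h2⟩
      intro b hb'
      obtain ⟨e, he, rfl⟩ := List.mem_map.mp hb'
      have := (h1 e he).1
      omega

theorem ent_sound (n O cr cs : ℕ) : ∀ (l : List (ℕ × ℤ)) (k : ℕ), chkEnt D n O cr cs l k = true →
    ∀ (j : ℕ) (hj : j < l.length),
      (k + j ≤ 3 ∧ l[j].1 < n) ∧ code D l[j].1 + (k + j) * O = cs + (k + j) * cr := by
  intro l
  induction l with
  | nil => intro k _ j hj; simp at hj
  | cons a t ih =>
    intro k h j hj
    simp only [chkEnt, Bool.and_eq_true, blt_iff, ble_iff, beq_iff] at h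
    cases j with
    | zero => exact h.1
    | succ j =>
      have := ih (k + 1) h.2 j (by simpa using hj)
      rw [show k + (j + 1) = k + 1 + j by ring]
      exact this

/-- The row of the chain table. -/
def row (D : ChevalleyDatum) (r : ℕ) : List (ℕ × Array (ℕ × ℤ)) := (D.chain.getD r #[]).toList

theorem row_def (D : ChevalleyDatum) (r : ℕ) : row D r = (D.chain.getD r #[]).toList := rfl

theorem chain_size (h : Checked D) : D.chain.toList.length = D.nroots := by
  have := (rows_sound _ _ _ _ h.chkChain).1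
  rwa [zero_add] at this

theorem row_of_le (h : Checked D) {r : ℕ} (hr : D.nroots ≤ r) : row D r = [] := by
  rw [row_def, Array.getD_eq_getD_getElem?, Array.getElem?_eq_none]
  · simp
  · have := chain_size h; rw [Array.length_toList] at this; omega

theorem row_chk (h : Checked D) {r : ℕ} (hr : r < D.nroots) :
    chkRow D D.nroots (offs D) (code D r) (row D r) 0 = true := by
  have h1 := (rows_sound _ _ _ _ h.chkChain).2
  have hr' : r < D.chain.toList.length := by rw [chain_size h]; exact hr
  have h2 := h1 r hr'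
  rw [zero_add, ← getD_toList D.chain #[] hr'] at h2
  exact h2

theorem row_pairwise (h : Checked D) (r : ℕ) : ((row D r).map Prod.fst).Pairwise (· < ·) := by
  by_cases hr : r < D.nroots
  · exact (row_sound _ _ _ _ _ (row_chk h hr)).2
  · rw [row_of_le h (by omega)]; simp

theorem lt_of_mem_row (h : Checked D) {r : ℕ} {e : ℕ × Array (ℕ × ℤ)} (he : e ∈ row D r) :
    r < D.nroots := by
  by_contra hr
  rw [row_of_le h (by omega)] at he
  simp at he

theorem key_lt (h : Checked D) {r : ℕ} {e : ℕ × Array (ℕ × ℤ)} (he : e ∈ row D r) : e.1 < D.nroots :=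
  ((row_sound _ _ _ _ _ (row_chk h (lt_of_mem_row h he))).1 e he).2.1

theorem row_key_inj (h : Checked D) {r : ℕ} {e e' : ℕ × Array (ℕ × ℤ)} (he : e ∈ row D r)
    (he' : e' ∈ row D r) (hk : e.1 = e'.1) : e = e' := by
  have hn : ((row D r).map Prod.fst).Nodup := (row_pairwise h r).imp (fun h => ne_of_lt h)
  exact List.inj_on_of_nodup_map hn he he' hk

theorem dig_comb (h : Checked D) {u s r k : ℕ} (hu : u < D.nroots) (hs : s < D.nroots) (hr : r < D.nroots)
    (hk : k ≤ 3) (e : code D u + k * offs D = code D s + k * code D r) (i : ℕ) :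
    rt D u i = rt D s i + k * rt D r i := by
  by_cases hi : i < D.rank
  · have d1 := dig_add_mul k (D.rank - 1 - i) (code D u) (offs D) (by
      intro j hj
      have := dig_lt h (j := j) hu (by omega)
      have := dig_offs h (j := j) (by omega)
      rw [this]
      omega)
    have d2 := dig_add_mul k (D.rank - 1 - i) (code D s) (code D r) (by
      intro j hj
      have := dig_lt h (j := j) hs (by omega)
      have := dig_lt h (j := j) hr (by omega)
      have : k * dig (code D r) j ≤ 3 * 15 := Nat.mul_le_mul hk (by omega)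
      omega)
    rw [e, d2, dig_offs h (by omega)] at d1
    rw [rt_of_lt hu hi, rt_of_lt hr hi, rt_of_lt hs hi]
    have d3 : (dig (code D s) (D.rank - 1 - i) : ℤ) + k * (dig (code D r) (D.rank - 1 - i) : ℤ) =
      (dig (code D u) (D.rank - 1 - i) : ℤ) + k * 8 := by exact_mod_cast d1
    linarith
  · simp only [rt_of_rank_le (le_of_not_gt hi)]; ring

/-- Coefficient vector of the `k`-th entry of the chain through `e.1`. -/
theorem row_entry (h : Checked D) {r k : ℕ} {e : ℕ × Array (ℕ × ℤ)} {q : ℕ × ℤ} (he : e ∈ row D r)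
    (hq : e.2.toList[k]? = some q) :
    q.1 < D.nroots ∧ ∀ i, rt D q.1 i = rt D e.1 i + ((k + 1 : ℕ) : ℤ) * rt D r i := by
  have hr := lt_of_mem_row h he
  obtain ⟨h1, _⟩ := row_sound _ _ _ _ _ (row_chk h hr)
  obtain ⟨_, h3, h4⟩ := h1 e he
  obtain ⟨hk, rfl⟩ := List.getElem?_eq_some_iff.mp hq
  obtain ⟨⟨h7, h5⟩, h6⟩ := ent_sound _ _ _ _ _ _ h4 k hk
  refine ⟨h5, fun i => ?_⟩
  apply dig_comb h h5 h3 hr
  · omega
  · rw [add_comm k 1]; exact h6

theorem chainEntry_eq_some (r s : ℕ) (hne : D.chainEntry r s ≠ []) :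
    ∃ e ∈ row D r, e.1 = s ∧ D.chainEntry r s = e.2.toList := by
  have hdef : D.chainEntry r s = match (row D r).find? (fun e => e.1 = s) with
    | none => []
    | some e => e.2.toList := rfl
  rw [hdef] at hne ⊢
  rcases hf : (row D r).find? (fun e => e.1 = s) with _ | e
  · rw [hf] at hne; exact (hne rfl).elim
  · refine ⟨e, List.mem_of_find?_eq_some hf, ?_, ?_⟩
    · simpa using List.find?_some hf
    · rw [hf]

theorem chainEntry_of_mem (h : Checked D) {r : ℕ} {e : ℕ × Array (ℕ × ℤ)} (he : e ∈ row D r) :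
    D.chainEntry r e.1 = e.2.toList := by
  have hdef : D.chainEntry r e.1 = match (row D r).find? (fun e' => e'.1 = e.1) with
    | none => []
    | some e => e.2.toList := rfl
  rw [hdef]
  rcases hf : (row D r).find? (fun e' => e'.1 = e.1) with _ | e'
  · rw [List.find?_eq_none] at hf
    exact absurd (decide_eq_true (rfl : e.1 = e.1)) (hf e he)
  · have h1 : e'.1 = e.1 := by simpa using List.find?_some hf
    rw [hf]
    have h2 := row_key_inj h (List.mem_of_find?_eq_some hf) he h1
    subst h2
    rfl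

theorem chainEntry_get (h : Checked D) {r s k : ℕ} {q : ℕ × ℤ} (hq : (D.chainEntry r s)[k]? = some q) :
    q.1 < D.nroots ∧ r < D.nroots ∧ s < D.nroots ∧
      ∀ i, rt D q.1 i = rt D s i + ((k + 1 : ℕ) : ℤ) * rt D r i := by
  obtain ⟨e, he, rfl, h1⟩ := chainEntry_eq_some (D := D) r s (by
    intro h0; rw [h0] at hq; simp at hq)
  rw [h1] at hq
  obtain ⟨h2, h3⟩ := row_entry h he hq
  exact ⟨h2, lt_of_mem_row h he, key_lt h he, h3⟩

theorem chainRoot_rt (h : Checked D) {r s k u : ℕ} (hk : 1 ≤ k) (hu : D.chainRoot r s k = some u) :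
    u < D.nroots ∧ r < D.nroots ∧ s < D.nroots ∧ ∀ i, rt D u i = rt D s i + (k : ℤ) * rt D r i := by
  have hdef : D.chainRoot r s k = ((D.chainEntry r s)[k - 1]?).map Prod.fst := rfl
  rw [hdef, Option.map_eq_some_iff] at hu
  obtain ⟨q, hq, rfl⟩ := hu
  have := chainEntry_get h hq
  rwa [show k - 1 + 1 = k by omega] at this

/-- Terms of the commutator formula have root `i r + j s`. -/
theorem commTerms_rt (h : Checked D) {r s u i j : ℕ} {C : ℤ} (hu : (u, C, i, j) ∈ D.commTerms r s) :
    u < D.nroots ∧ r < D.nroots ∧ s < D.nroots ∧ 1 ≤ i ∧ 1 ≤ j ∧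
      ∀ a, rt D u a = (i : ℤ) * rt D r a + (j : ℤ) * rt D s a := by
  have hdef : D.commTerms r s = ([ (D.chainRoot r s 1, D.chainM r s 1, 1, 1),
      (D.chainRoot r s 2, D.chainM r s 2, 2, 1),
      (D.chainRoot s r 2, D.chainM s r 2, 1, 2),
      (D.chainRoot r s 3, D.chainM r s 3, 3, 1),
      (D.chainRoot s r 3, - D.chainM s r 3, 1, 3),
      ((D.chainRoot r s 3).bind fun k => D.chainRoot k s 1, ((D.chainRoot r s 1).map fun k => D.chainM k r 2 / 3).getD 0, 3, 2),
      ((D.chainRoot s r 3).bind fun k => D.chainRoot k r 1, ((D.chainRoot r s 1).map fun k => -2 * D.chainM k s 2 / 3).getD 0, 2, 3) ] :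
      List (Option ℕ × ℤ × ℕ × ℕ)).filterMap fun c => c.1.map fun k => (k, c.2) := rfl
  rw [hdef, List.mem_filterMap] at hu
  obtain ⟨c, hc, he⟩ := hu
  rw [Option.map_eq_some_iff] at he
  obtain ⟨k, hk, he⟩ := he
  obtain ⟨rfl, hc2⟩ := Prod.mk.inj he
  simp only [List.mem_cons, List.mem_nil_iff, or_false] at hc
  rcases hc with rfl | rfl | rfl | rfl | rfl | rfl | rfl <;> simp only [Prod.mk.injEq] at hc2 <;>
    obtain ⟨_, rfl, rfl⟩ := hc2
  · obtain ⟨h1, h2, h3, h4⟩ := chainRoot_rt h (by norm_num) hk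
    exact ⟨h1, h2, h3, by norm_num, by norm_num, fun a => by rw [h4]; push_cast; ring⟩
  · obtain ⟨h1, h2, h3, h4⟩ := chainRoot_rt h (by norm_num) hk
    exact ⟨h1, h2, h3, by norm_num, by norm_num, fun a => by rw [h4]; push_cast; ring⟩
  · obtain ⟨h1, h2, h3, h4⟩ := chainRoot_rt h (by norm_num) hk
    exact ⟨h1, h3, h2, by norm_num, by norm_num, fun a => by rw [h4]; push_cast; ring⟩
  · obtain ⟨h1, h2, h3, h4⟩ := chainRoot_rt h (by norm_num) hk
    exact ⟨h1, h2, h3, by norm_num, by norm_num, fun a => by rw [h4]; push_cast; ring⟩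
  · obtain ⟨h1, h2, h3, h4⟩ := chainRoot_rt h (by norm_num) hk
    exact ⟨h1, h3, h2, by norm_num, by norm_num, fun a => by rw [h4]; push_cast; ring⟩
  · simp only [Option.bind_eq_some_iff] at hk
    obtain ⟨v, hv, hk⟩ := hk
    obtain ⟨h1, h2, h3, h4⟩ := chainRoot_rt h (by norm_num) hv
    obtain ⟨h5, h6, h7, h8⟩ := chainRoot_rt h (by norm_num) hk
    exact ⟨h5, h2, h3, by norm_num, by norm_num, fun a => by rw [h8, h4]; push_cast; ring⟩
  · simp only [Option.bind_eq_some_iff] at hk
    obtain ⟨v, hv, hk⟩ := hk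
    obtain ⟨h1, h2, h3, h4⟩ := chainRoot_rt h (by norm_num) hv
    obtain ⟨h5, h6, h7, h8⟩ := chainRoot_rt h (by norm_num) hk
    exact ⟨h5, h3, h2, by norm_num, by norm_num, fun a => by rw [h8, h4]; push_cast; ring⟩

/-! ### reflections -/

theorem merge_sound (f : ℕ → ℕ) : ∀ (fuel s : ℕ) (rw' : List (ℕ × Array (ℕ × ℤ))), chkMerge f fuel s rw' = true →
    ∀ s', s ≤ s' → s' < s + fuel → f s' = 0 ∨ ∃ e ∈ rw', e.1 = s' ∧ f s' ≤ e.2.toList.length := by
  intro fuel
  induction fuel with
  | zero => intro s l _ s' h1 h2; omega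
  | succ fuel ih =>
    intro s l h s' h1 h2
    cases l with
    | nil =>
      simp only [chkMerge, Bool.and_eq_true, beq_iff] at h
      rcases Nat.eq_or_lt_of_le h1 with rfl | h3
      · exact Or.inl h.1
      · exact ih (s + 1) [] h.2 s' h3 (by omega)
    | cons e t =>
      simp only [chkMerge] at h
      cases hb : Nat.beq e.1 s with
      | true =>
        rw [hb, cond_true, Bool.and_eq_true, ble_iff] at h
        rcases Nat.eq_or_lt_of_le h1 with rfl | h3
        · exact Or.inr ⟨e, List.mem_cons_self, beq_iff.mp hb, h.1⟩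
        · rcases ih (s + 1) t h.2 s' h3 (by omega) with h4 | ⟨e', he', h5⟩
          · exact Or.inl h4
          · exact Or.inr ⟨e', List.mem_cons_of_mem _ he', h5⟩
      | false =>
        rw [hb, cond_false, Bool.and_eq_true, beq_iff] at h
        rcases Nat.eq_or_lt_of_le h1 with rfl | h3
        · exact Or.inl h.1
        · exact ih (s + 1) (e :: t) h.2 s' h3 (by omega)

theorem bne_cond {s p q m : ℕ} (hp : s ≠ p) (hq : s ≠ q) :
    (bif (Nat.beq s p || Nat.beq s q) then 0 else m) = m := by
  have h1 : Nat.beq s p = false := by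
    rw [← Bool.not_eq_true, beq_iff]; exact hp
  have h2 : Nat.beq s q = false := by
    rw [← Bool.not_eq_true, beq_iff]; exact hq
  rw [h1, h2]; rfl

theorem chainRoot_isSome (h : Checked D) {r k : ℕ} {e : ℕ × Array (ℕ × ℤ)} (he : e ∈ row D r) (hk : 1 ≤ k)
    (hk' : k ≤ e.2.toList.length) : ∃ u, D.chainRoot r e.1 k = some u := by
  have hdef : D.chainRoot r e.1 k = ((D.chainEntry r e.1)[k - 1]?).map Prod.fst := rfl
  rw [hdef, chainEntry_of_mem h he, List.getElem?_eq_getElem (by omega)]
  exact ⟨_, rfl⟩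

theorem refl_pos (h : Checked D) {i s : ℕ} (hi : i < D.rank) (hs : s < D.nroots) (h1 : s ≠ D.simple i)
    (h2 : s ≠ D.neg (D.simple i)) (hA : 0 < D.cartan i s) :
    ∃ u, D.chainRoot (D.neg (D.simple i)) s (D.cartan i s).toNat = some u := by
  have h3 := h.chkRefl
  simp only [chkRefl, allLT_iff, Bool.and_eq_true] at h3
  have h4 := merge_sound _ _ _ _ (h3 i hi).2 s (Nat.zero_le _) (by omega)
  simp only [bne_cond h1 h2] at h4
  have hA' := cartan_eq_cart h hi hs
  rcases h4 with h4 | ⟨e, he, rfl, h5⟩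
  · have : Nat.sub (cart D i s) 8 = cart D i s - 8 := rfl
    omega
  · have : Nat.sub (cart D i e.1) 8 = cart D i e.1 - 8 := rfl
    exact chainRoot_isSome h he (by omega) (by omega)

theorem refl_neg (h : Checked D) {i s : ℕ} (hi : i < D.rank) (hs : s < D.nroots) (h1 : s ≠ D.simple i)
    (h2 : s ≠ D.neg (D.simple i)) (hA : D.cartan i s < 0) :
    ∃ u, D.chainRoot (D.simple i) s (-D.cartan i s).toNat = some u := by
  have h3 := h.chkRefl
  simp only [chkRefl, allLT_iff, Bool.and_eq_true] at h3
  have h4 := merge_sound _ _ _ _ (h3 i hi).1 s (Nat.zero_le _) (by omega)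
  simp only [bne_cond h1 h2] at h4
  have hA' := cartan_eq_cart h hi hs
  rcases h4 with h4 | ⟨e, he, rfl, h5⟩
  · have : Nat.sub 8 (cart D i s) = 8 - cart D i s := rfl
    omega
  · have : Nat.sub 8 (cart D i e.1) = 8 - cart D i e.1 := rfl
    exact chainRoot_isSome h he (by omega) (by omega)

/-- The reflected root: `w_p(s) = s - A_{p,s} p`. -/
theorem reflectRoot_rt (h : Checked D) {i s : ℕ} (hi : i < D.rank) (hs : s < D.nroots) :
    D.reflectRoot i s < D.nroots ∧
      ∀ j, rt D (D.reflectRoot i s) j = rt D s j - D.cartan i s * (if j = i then 1 else 0) := by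
  have hp := simple_lt h hi
  have hdef : D.reflectRoot i s = if s = D.simple i then D.neg (D.simple i)
    else if s = D.neg (D.simple i) then D.simple i
    else if 0 < D.cartan i s then (D.chainRoot (D.neg (D.simple i)) s (D.cartan i s).toNat).getD s
    else if D.cartan i s < 0 then (D.chainRoot (D.simple i) s (-D.cartan i s).toNat).getD s
    else s := rfl
  rw [hdef]
  by_cases h1 : s = D.simple i
  · rw [if_pos h1]
    refine ⟨neg_lt h hp, fun j => ?_⟩
    rw [rt_neg h hp, h1, cartan_simple_self h hi, rt_simple h hi]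
    split_ifs <;> ring
  rw [if_neg h1]
  by_cases h2 : s = D.neg (D.simple i)
  · rw [if_pos h2]
    refine ⟨hp, fun j => ?_⟩
    rw [h2, cartan_neg h hi hp, cartan_simple_self h hi, rt_neg h hp, rt_simple h hi]
    split_ifs <;> ring
  rw [if_neg h2]
  by_cases h3 : 0 < D.cartan i s
  · rw [if_pos h3]
    obtain ⟨u, hu⟩ := refl_pos h hi hs h1 h2 h3
    obtain ⟨h4, _, _, h5⟩ := chainRoot_rt h (by omega) hu
    rw [hu]
    refine ⟨h4, fun j => ?_⟩
    show rt D u j = _
    rw [h5, rt_neg h hp, rt_simple h hi, Int.toNat_of_nonneg h3.le]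
    ring
  rw [if_neg h3]
  by_cases h4 : D.cartan i s < 0
  · rw [if_pos h4]
    obtain ⟨u, hu⟩ := refl_neg h hi hs h1 h2 h4
    obtain ⟨h5, _, _, h6⟩ := chainRoot_rt h (by omega) hu
    rw [hu]
    refine ⟨h5, fun j => ?_⟩
    show rt D u j = _
    rw [h6, rt_simple h hi, Int.toNat_of_nonneg (by omega)]
    ring
  · rw [if_neg h4]
    refine ⟨hs, fun j => ?_⟩
    have : D.cartan i s = 0 := by omega
    rw [this]; ring

/-- Descent: for a negative root there is a simple root in its support whose reflection increases it. -/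
theorem exists_descent (h : Checked D) {r : ℕ} (hr : D.IsNegRoot r) :
    ∃ i < D.rank, rt D r i < 0 ∧ D.cartan i r < 0 := by
  have h1 := h.chkDescent
  simp only [chkDescent, allLT_iff, anyLT_iff, Bool.or_eq_true, Bool.and_eq_true, blt_iff] at h1
  have hr' := hr.1
  rw [isNegRoot_iff_code h hr'] at hr
  rcases h1 r hr' with h2 | ⟨i, hi, h2, h3⟩
  · omega
  · refine ⟨i, hi, ?_, ?_⟩
    · rw [rt_of_lt hr' hi]; omega
    · rw [cartan_eq_cart h hi hr']; omega

end Cfsg.Agent.ChevalleyStructure.RootVec
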