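/-
helper590: conjugation of root elements by diagonal matrices diag(1, c^(m s)) for an additive
function m on the root system: D_m(c) x_r(t) = x_r(c^(m r) t) D_m(c).
-/
import Mathlib
import Cfsg.Agent.ChevalleyStructure.RootVec

set_option autoImplicit false

namespace Cfsg.Agent.ChevalleyStructure.TorusConj

open Cfsg.Lie Cfsg.Agent.ChevalleyStructure.RootVecTab Cfsg.Agent.ChevalleyStructure.RootVec

variable {D : ChevalleyDatum} {F : Type*} [Field F]

/-- The coefficient list: each term `(k, M)` of `chainCoeff r s u` has `u = s + k r`. -/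
theorem chainCoeff_wt (h : Checked D) {r s u : ℕ} {km : ℕ × ℤ} (hkm : km ∈ D.chainCoeff r s u) :
    u < D.nroots ∧ ∀ i, rt D u i = rt D s i + (km.1 : ℤ) * rt D r i := by
  have hdef : D.chainCoeff r s u = (((row D r).filter (fun e => e.1 = s)).flatMap fun e =>
    ((e.2.toList.zipIdx).filter (fun q => q.1.1 = u)).map fun q => (q.2 + 1, q.1.2)) := rfl
  rw [hdef, List.mem_flatMap] at hkm
  obtain ⟨e, he, hkm⟩ := hkm
  rw [List.mem_filter] at he
  obtain ⟨he, hes⟩ := he
  rw [List.mem_map] at hkm
  obtain ⟨q, hq, rfl⟩ := hkm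
  rw [List.mem_filter] at hq
  obtain ⟨hq, hqu⟩ := hq
  rw [List.mem_zipIdx_iff_getElem?] at hq
  obtain ⟨h1, h2⟩ := row_entry h he hq
  have hes' : e.1 = s := by simpa using hes
  have hqu' : q.1.1 = u := by simpa using hqu
  rw [hqu'] at h1
  refine ⟨h1, fun i => ?_⟩
  have := h2 i
  rw [hes', hqu'] at this
  exact this

/-- A function on the roots which is additive, i.e. given by a linear form in the root coordinates. -/
def IsAdditive (D : ChevalleyDatum) (m : ℕ → ℤ) : Prop :=
  ∃ a : ℕ → ℤ, ∀ s < D.nroots, m s = ∑ j ∈ Finset.range D.rank, a j * rt D s j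

theorem isAdditive_def (m : ℕ → ℤ) :
    IsAdditive D m ↔ ∃ a : ℕ → ℤ, ∀ s < D.nroots, m s = ∑ j ∈ Finset.range D.rank, a j * rt D s j :=
  Iff.rfl

theorem IsAdditive.neg_eq (h : Checked D) {m : ℕ → ℤ} (hm : IsAdditive D m) {r : ℕ} (hr : r < D.nroots) :
    m (D.neg r) = - m r := by
  obtain ⟨a, ha⟩ := hm
  rw [ha _ (neg_lt h hr), ha _ hr, ← Finset.sum_neg_distrib]
  exact Finset.sum_congr rfl fun j _ => by rw [rt_neg h hr]; ring

theorem IsAdditive.comb {m : ℕ → ℤ} (hm : IsAdditive D m) {u r s : ℕ} {k : ℤ}
    (hu : u < D.nroots) (hr : r < D.nroots) (hs : s < D.nroots)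
    (e : ∀ i, rt D u i = rt D s i + k * rt D r i) : m u = m s + k * m r := by
  obtain ⟨a, ha⟩ := hm
  rw [ha _ hu, ha _ hr, ha _ hs, Finset.mul_sum, ← Finset.sum_add_distrib]
  exact Finset.sum_congr rfl fun j _ => by rw [e]; ring

/-- The coordinate functions (coefficient of the fundamental root `p_{i+1}`) are additive. -/
theorem isAdditive_rt (D : ChevalleyDatum) {i : ℕ} (hi : i < D.rank) : IsAdditive D (fun s => rt D s i) := by
  refine ⟨fun j => if j = i then 1 else 0, fun s _ => ?_⟩
  simp only [ite_mul, one_mul, zero_mul]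
  rw [Finset.sum_ite_eq' (Finset.range D.rank) i (fun j => rt D s j), if_pos (Finset.mem_range.2 hi)]

/-- The Cartan integers `s ↦ A_{p, s}` are additive. -/
theorem isAdditive_cartan (h : Checked D) {i : ℕ} (hi : i < D.rank) : IsAdditive D (fun s => D.cartan i s) := by
  refine ⟨fun j => D.cartan i (D.simple j), fun s hs => ?_⟩
  show D.cartan i s = _
  rw [cartan_eq_sum h hi hs]
  exact Finset.sum_congr rfl fun j _ => by ring

/-- The diagonal matrix `D_m(c)`: it fixes the `h_{p_i}` and multiplies `e_s` by `c^(m s)`. -/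
def torus (D : ChevalleyDatum) (F : Type*) [Field F] (m : ℕ → ℤ) (c : F) : Matrix D.Idx D.Idx F :=
  Matrix.diagonal (Sum.elim (fun _ => (1 : F)) (fun s : Fin D.nroots => c ^ (m s.val)))

theorem torus_def (m : ℕ → ℤ) (c : F) : torus D F m c =
  Matrix.diagonal (Sum.elim (fun _ => (1 : F)) (fun s : Fin D.nroots => c ^ (m s.val))) := rfl

/-- **Conjugation by torus elements**: `D_m(c) x_r(t) D_m(c)⁻¹ = x_r(c^(m r) t)`. -/
theorem torus_mul_x (h : Checked D) {m : ℕ → ℤ} (hm : IsAdditive D m) {c : F} (hc : c ≠ 0) (r : ℕ)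
    (t : F) (hr : r < D.nroots) :
    torus D F m c * D.x F r t = D.x F r (c ^ (m r) * t) * torus D F m c := by
  have hx : ∀ u : F, D.x F r u = D.xMat F ⟨r, hr⟩ u := fun u => dif_pos hr
  rw [hx, hx, torus_def]
  ext v w
  rw [Matrix.diagonal_mul, Matrix.mul_diagonal]
  rcases w with i | s
  · rcases v with j | u
    · show (1 : F) * (if j = i then 1 else 0) = (if j = i then 1 else 0) * 1
      ring
    · show c ^ (m u.val) * (if u = ⟨r, hr⟩ then - (((D.cartanSR.getD i.val #[]).getD r 0 : ℤ) : F) * t else 0)
        = (if u = ⟨r, hr⟩ then - (((D.cartanSR.getD i.val #[]).getD r 0 : ℤ) : F) * (c ^ (m r) * t) else 0) * 1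
      by_cases hu : u = ⟨r, hr⟩
      · subst hu
        rw [if_pos rfl, if_pos rfl]; ring
      · rw [if_neg hu, if_neg hu]; ring
  · by_cases hsr : s = ⟨r, hr⟩
    · subst hsr
      rcases v with j | u
      · show (1 : F) * (if _ then (0 : F) else _) = (if _ then (0 : F) else _) * _
        rw [if_pos rfl, if_pos rfl]; ring
      · show c ^ (m u.val) * (if _ then (if u = _ then (1 : F) else 0) else _)
          = (if _ then (if u = _ then (1 : F) else 0) else _) * c ^ (m r)
        rw [if_pos rfl, if_pos rfl]
        by_cases hu : u = ⟨r, hr⟩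
        · subst hu
          rw [if_pos rfl]; ring
        · rw [if_neg hu]; ring
    · by_cases hsn : s.val = D.negIdx.getD r 0
      · have hsn' : s.val = D.neg r := hsn
        have hms : m s.val = - m r := by rw [hsn', hm.neg_eq h hr]
        rcases v with j | u
        · show (1 : F) * (if s = ⟨r, hr⟩ then (0 : F) else if s.val = D.negIdx.getD r 0 then
              (((D.coroot.getD r #[]).getD j.val 0 : ℤ) : F) * t else 0)
            = (if s = ⟨r, hr⟩ then (0 : F) else if s.val = D.negIdx.getD r 0 then
              (((D.coroot.getD r #[]).getD j.val 0 : ℤ) : F) * (c ^ (m r) * t) else 0) * c ^ (m s.val)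
          rw [if_neg hsr, if_neg hsr, if_pos hsn, if_pos hsn, hms, zpow_neg]
          have := zpow_ne_zero (m r) hc
          field_simp
        · show c ^ (m u.val) * (if s = ⟨r, hr⟩ then (if u = ⟨r, hr⟩ then (1 : F) else 0) else
              if s.val = D.negIdx.getD r 0 then (if u = s then 1 else if u = ⟨r, hr⟩ then -(t ^ 2) else 0)
              else _)
            = (if s = ⟨r, hr⟩ then (if u = ⟨r, hr⟩ then (1 : F) else 0) else
              if s.val = D.negIdx.getD r 0 then (if u = s then 1 else if u = ⟨r, hr⟩ then -((c ^ (m r) * t) ^ 2)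
                else 0) else _) * c ^ (m s.val)
          rw [if_neg hsr, if_neg hsr, if_pos hsn, if_pos hsn]
          by_cases hus : u = s
          · rw [if_pos hus, if_pos hus, hus]; ring
          · rw [if_neg hus, if_neg hus]
            by_cases hur : u = ⟨r, hr⟩
            · rw [if_pos hur, if_pos hur, hms, hur, zpow_neg]
              have := zpow_ne_zero (m r) hc
              show c ^ (m r) * -(t ^ 2) = _
              field_simp
            · rw [if_neg hur, if_neg hur]; ring
      · rcases v with j | u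
        · show (1 : F) * (if s = ⟨r, hr⟩ then (0 : F) else if s.val = D.negIdx.getD r 0 then
              (((D.coroot.getD r #[]).getD j.val 0 : ℤ) : F) * t else 0)
            = (if s = ⟨r, hr⟩ then (0 : F) else if s.val = D.negIdx.getD r 0 then
              (((D.coroot.getD r #[]).getD j.val 0 : ℤ) : F) * (c ^ (m r) * t) else 0) * c ^ (m s.val)
          rw [if_neg hsr, if_neg hsr, if_neg hsn, if_neg hsn]; ring
        · have e1 : ∀ t : F, D.xMat F ⟨r, hr⟩ t (Sum.inr u) (Sum.inr s) = (if u = s then 1 else 0) +
              ((D.chainCoeff r s.val u.val).map fun km => ((km.2 : ℤ) : F) * t ^ km.1).sum := by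
            intro t
            show (if s = ⟨r, hr⟩ then (if u = ⟨r, hr⟩ then (1 : F) else 0) else
              if s.val = D.negIdx.getD r 0 then _ else _) = _
            rw [if_neg hsr, if_neg hsn]
          rw [e1, e1, Sum.elim_inr, Sum.elim_inr, mul_add, add_mul]
          congr 1
          · by_cases hus : u = s
            · subst hus; ring
            · rw [if_neg hus]; ring
          · rw [← List.sum_map_mul_left, ← List.sum_map_mul_right]
            congr 1
            apply List.map_congr_left
            intro km hkm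
            obtain ⟨_, h2⟩ := chainCoeff_wt h hkm
            rw [hm.comb u.isLt hr s.isLt h2, zpow_add₀ hc, mul_comm (km.1 : ℤ), zpow_mul, zpow_natCast,
              mul_pow]
            ring

/-- `D_m(c) D_m(d) = D_m(c d)`. -/
theorem torus_mul (m : ℕ → ℤ) (c d : F) : torus D F m c * torus D F m d = torus D F m (c * d) := by
  rw [torus_def, torus_def, torus_def, Matrix.diagonal_mul_diagonal]
  congr 1
  funext v
  rcases v with j | s
  · exact one_mul 1
  · exact (mul_zpow c d (m s.val)).symm

theorem torus_one (m : ℕ → ℤ) : torus D F m 1 = 1 := by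
  rw [torus_def, ← Matrix.diagonal_one]
  congr 1
  funext v
  rcases v with j | s
  · rfl
  · exact one_zpow _

end Cfsg.Agent.ChevalleyStructure.TorusConj
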