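import Cfsg.Agent.ChevalleyStructure.NSimple
import Cfsg.Agent.ChevalleyStructure.Elts

/-!
Conjugation of root elements by diagonal matrices `diag(1; τ ^ f(s))`, for a function `f` on the roots which is additive
along the `r`-chains (and a table check for `r = ±p`, `p` fundamental, `f = ⌊A_{p,s}/2⌋`); this gives
`h_p(c) = diag(1; c ^ A_{p,s})`.
-/

set_option autoImplicit false

namespace Cfsg.Agent.ChevalleyStructure.DiagConj

open Cfsg.Lie Cfsg.Agent.ChevalleyStructure.NSimple Cfsg.Agent.ChevalleyStructure.SparseWord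

variable (D : ChevalleyDatum)

/-- `f` is additive along the `r`-chains. -/
structure ChainAdd (r : ℕ) (f : ℕ → ℤ) : Prop where
  self : f r = 1
  neg : f (D.neg r) = -1
  chain : ∀ e ∈ (D.chain.getD r #[]).toList, ∀ (j : ℕ) (q : ℕ × ℤ), e.2.toList[j]? = some q → q.1 < D.nroots →
    f q.1 = f e.1 + (j + 1)

theorem ChainAdd.coeff {D : ChevalleyDatum} {r : ℕ} {f : ℕ → ℤ} (h : ChainAdd D r f) {s u : ℕ} (hu : u < D.nroots)
    {km : ℕ × ℤ} (hkm : km ∈ D.chainCoeff r s u) : f u = f s + km.1 ∧ 0 < km.1 := by
  unfold ChevalleyDatum.chainCoeff at hkm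
  simp only [List.mem_flatMap, List.mem_filter, List.mem_map, decide_eq_true_eq] at hkm
  obtain ⟨e, ⟨he, rfl⟩, q, ⟨hq, rfl⟩, rfl⟩ := hkm
  have h1 : e.2.toList[q.2]? = some q.1 := by
    rw [List.mem_zipIdx_iff_getElem?] at hq
    exact hq
  refine ⟨?_, Nat.succ_pos _⟩
  rw [h.chain e he q.2 q.1 h1 hu]
  push_cast
  ring

variable {D} (F : Type*) [Field F]

/-- The diagonal matrix `diag(1; τ ^ f(s))`. -/
def dg (D : ChevalleyDatum) (τ : F) (f : ℕ → ℤ) : Matrix D.Idx D.Idx F :=
  Matrix.diagonal (Sum.elim (fun _ => (1 : F)) (fun s : Fin D.nroots => τ ^ (f s)))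

variable {F}

/-- Conjugation of `x_r(c)` by `diag(1; τ ^ f(s))`. -/
theorem x_mul_dg {r : ℕ} {f : ℕ → ℤ} (hr : r < D.nroots) (h : ChainAdd D r f) {τ : F} (hτ : τ ≠ 0) (c : F) :
    D.x F r (τ * c) * dg F D τ f = dg F D τ f * D.x F r c := by
  unfold dg ChevalleyDatum.x
  rw [dif_pos hr, dif_pos hr]
  ext row col
  rw [Matrix.mul_diagonal, Matrix.diagonal_mul]
  unfold ChevalleyDatum.xMat
  rw [Matrix.of_apply, Matrix.of_apply]
  rcases col with j | s
  · rcases row with i | u
    · simp
    · simp only [Sum.elim_inl, Sum.elim_inr]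
      by_cases hu : u = ⟨r, hr⟩
      · rw [if_pos hu, if_pos hu, hu]
        simp only [h.self, zpow_one]
        ring
      · rw [if_neg hu, if_neg hu]
        ring
  · simp only [Sum.elim_inr]
    by_cases h1 : s = ⟨r, hr⟩
    · simp only [h1, if_true]
      rcases row with i | u
      · simp
      · simp only [Sum.elim_inr]
        by_cases hu : u = ⟨r, hr⟩
        · simp [hu]
        · simp [hu]
    · simp only [h1, if_false]
      by_cases h2 : (s : ℕ) = D.negIdx.getD r 0
      · have h2' : f s = -1 := by
          rw [h2]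
          exact h.neg
        rw [if_pos h2, if_pos h2]
        rcases row with i | u
        · simp only [Sum.elim_inl, h2', zpow_neg, zpow_one]
          field_simp
        · simp only [Sum.elim_inr]
          by_cases h3 : u = s
          · rw [if_pos h3, if_pos h3, h3]
            ring
          · rw [if_neg h3, if_neg h3]
            by_cases h4 : u = ⟨r, hr⟩
            · rw [if_pos h4, if_pos h4, h4]
              simp only [h.self, h2', zpow_neg, zpow_one]
              field_simp
            · rw [if_neg h4, if_neg h4]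
              ring
      · rw [if_neg h2, if_neg h2]
        rcases row with i | u
        · simp
        · simp only [Sum.elim_inr]
          have key : ∀ l : List (ℕ × ℤ), (∀ km ∈ l, f u = f s + km.1) →
              (l.map fun km => ((km.2 : ℤ) : F) * (τ * c) ^ km.1).sum * τ ^ f s =
              τ ^ f u * (l.map fun km => ((km.2 : ℤ) : F) * c ^ km.1).sum := by
            intro l hl
            induction l with
            | nil => simp
            | cons km l ih =>
              rw [List.map_cons, List.sum_cons, List.map_cons, List.sum_cons, add_mul, mul_add,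
                ih fun km' hkm' => hl km' (List.mem_cons_of_mem _ hkm')]
              congr 1
              rw [hl km (List.mem_cons_self ..), zpow_add₀ hτ, zpow_natCast, mul_pow]
              ring
          rw [add_mul, mul_add, key _ fun km hkm => (h.coeff u.2 hkm).1]
          congr 1
          by_cases h3 : u = s
          · rw [if_pos h3, h3]
            ring
          · rw [if_neg h3]
            ring

theorem dg_mul (τ : F) (hτ : τ ≠ 0) (f g : ℕ → ℤ) : dg F D τ f * dg F D τ g = dg F D τ (fun s => f s + g s) := by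
  unfold dg
  rw [Matrix.diagonal_mul_diagonal]
  congr 1
  funext c
  rcases c with c | c
  · simp
  · simp [zpow_add₀ hτ]

theorem dg_zero (τ : F) : dg F D τ (fun _ => 0) = 1 := by
  unfold dg
  rw [← Matrix.diagonal_one]
  congr 1
  funext c
  rcases c with c | c <;> simp

/-- Moving `diag(1; τ ^ f(s))` past the monomial matrix `n_p(1)`. -/
theorem nMat_mul_dg {i : ℕ} (h : Facts D i) {τ : F} {f g : ℕ → ℤ}
    (hfg : ∀ s < D.nroots, g (D.reflectRoot i s) = f s) :
    D.nMat F (D.simple i) 1 * dg F D τ f = dg F D τ g * D.nMat F (D.simple i) 1 := by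
  unfold dg
  ext row col
  rw [Matrix.mul_diagonal, Matrix.diagonal_mul]
  rcases col with j | s
  · rw [nMat_apply_inl F h]
    rcases row with j' | u
    · simp
    · simp
  · rw [nMat_apply_inr F h]
    rcases row with j' | u
    · simp
    · simp only [Sum.elim_inr]
      by_cases hu : (u : ℕ) = D.reflectRoot i s
      · rw [if_pos hu, hu, hfg s s.2]
        ring
      · rw [if_neg hu]
        ring

/-- The data needed for `h_p(c)`: `f` is additive along the `p`-chains, `-f` along the `-p`-chains and
`f(s) - f(w_p s) = A_{p,s}`. -/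
structure HData (D : ChevalleyDatum) (i : ℕ) (f : ℕ → ℤ) : Prop where
  facts : Facts D i
  neg_neg : D.neg (D.neg (D.simple i)) = D.simple i
  pos_chain : ChainAdd D (D.simple i) f
  neg_chain : ChainAdd D (D.neg (D.simple i)) (fun s => - f s)
  reflect_reflect : ∀ s < D.nroots, D.reflectRoot i (D.reflectRoot i s) = s
  sub : ∀ s < D.nroots, f s - f (D.reflectRoot i s) = D.cartan i s

theorem wordMat_three (p : ℕ) (c : F) : D.nMat F p c = D.x F p c * (D.x F (D.neg p) (-c⁻¹) * D.x F p c) := by
  show (List.map (fun q : ℕ × F => D.x F q.1 q.2) [(p, c), (D.neg p, -c⁻¹), (p, c)]).prod = _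
  simp only [List.map_cons, List.map_nil, List.prod_cons, List.prod_nil, mul_one]

/-- `n_p(c) = D n_p(1) D⁻¹`. -/
theorem nMat_mul {i : ℕ} {f : ℕ → ℤ} (h : HData D i f) {c : F} (hc : c ≠ 0) :
    D.nMat F (D.simple i) c * dg F D c f = dg F D c f * D.nMat F (D.simple i) 1 := by
  have h1 : D.x F (D.simple i) c * dg F D c f = dg F D c f * D.x F (D.simple i) 1 := by
    have := x_mul_dg h.facts.simple_lt h.pos_chain hc 1
    rwa [mul_one] at this
  have h2 : D.x F (D.neg (D.simple i)) (-c⁻¹) * dg F D c f =
      dg F D c f * D.x F (D.neg (D.simple i)) (-1⁻¹) := by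
    have := x_mul_dg h.facts.neg_simple_lt h.neg_chain (inv_ne_zero hc) (-(1 : F)⁻¹)
    have e : dg F D c⁻¹ (fun s => - f s) = dg F D c f := by
      unfold dg
      congr 1
      funext x
      rcases x with x | x
      · simp
      · simp
    rw [e] at this
    rw [← this]
    congr 2
    rw [inv_one, mul_neg, mul_one]
  rw [wordMat_three, wordMat_three, mul_assoc, mul_assoc, h1, ← mul_assoc (D.x F (D.neg (D.simple i)) (-c⁻¹)), h2,
    mul_assoc (dg F D c f), ← mul_assoc (D.x F (D.simple i) c), h1, mul_assoc]

/-- `h_p(c) = diag(1; c ^ A_{p,s})`, given that `n_p(1) n_p(-1) = 1`. -/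
theorem hMat_eq {i : ℕ} {f : ℕ → ℤ} (h : HData D i f)
    (hn : D.nMat F (D.simple i) 1 * D.nMat F (D.simple i) (-1) = 1) {c : F} (hc : c ≠ 0) :
    D.hMat F (D.simple i) c = dg F D c (fun s => D.cartan i s) := by
  have e1 : D.hMat F (D.simple i) c = D.nMat F (D.simple i) c * D.nMat F (D.simple i) (-1) := by
    show (List.map (fun q : ℕ × F => D.x F q.1 q.2)
      (D.nWord (D.simple i) c ++ D.nWord (D.simple i) (-1))).prod = _
    rw [List.map_append, List.prod_append]
    rfl
  have e2 : dg F D c f * dg F D c (fun s => - f s) = 1 := by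
    rw [dg_mul c hc, ← dg_zero c]
    congr 1
    funext s
    ring
  have e3 : D.nMat F (D.simple i) c =
      dg F D c f * (D.nMat F (D.simple i) 1 * dg F D c (fun s => - f s)) := by
    rw [← mul_assoc, ← nMat_mul h hc, mul_assoc, e2, mul_one]
  have e4 : D.nMat F (D.simple i) 1 * dg F D c (fun s => - f s) =
      dg F D c (fun s => - f (D.reflectRoot i s)) * D.nMat F (D.simple i) 1 := by
    apply nMat_mul_dg h.facts
    intro s hs
    show - f (D.reflectRoot i (D.reflectRoot i s)) = - f s
    rw [h.reflect_reflect s hs]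
  rw [e1, e3, e4, mul_assoc, mul_assoc, hn, mul_one, dg_mul c hc]
  unfold dg
  congr 1
  funext x
  rcases x with x | x
  · simp
  · simp only [Sum.elim_inr]
    rw [← sub_eq_add_neg, h.sub x x.2]

end Cfsg.Agent.ChevalleyStructure.DiagConj
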