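import Cfsg.Prelude.Def_ChevE6
import Cfsg.Prelude.Def_ChevE7
import Cfsg.Prelude.Def_ChevE8
import Cfsg.Agent.ChevalleyStructure.NSimpleAll
import Cfsg.Agent.ChevalleyStructure.RootComb
import Cfsg.Agent.ChevalleyStructure.DiagConj

/-!
Kernel check: for `p` fundamental, `⌊A_{p,s}/2⌋` is additive along the `p`-chains.
-/

set_option autoImplicit false

namespace Cfsg.Agent.ChevalleyStructure.SimpleChains

open Cfsg.Lie Cfsg.Agent.ChevalleyStructure.NSimple Cfsg.Agent.ChevalleyStructure.SparseWord
  Cfsg.Agent.ChevalleyStructure.DiagConj Cfsg.Agent.ChevalleyStructure.RootCombBase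

/-- `⌊A/2⌋ + 2` from the packed row. -/
def half (CT s : ℕ) : ℕ := (unpack 3 CT s + 1) / 2

/-- check of one chain row; `g a b k` says that the value at the k-th member is right. -/
def rowOK (CT n : ℕ) (up : Bool) (row : List (ℕ × Array (ℕ × ℤ))) : Bool :=
  row.all fun e => e.2.toList.zipIdx.all fun q =>
    Nat.ble n q.1.1 || (Nat.blt e.1 n &&
      (if up then Nat.beq (half CT q.1.1) (half CT e.1 + (q.2 + 1))
        else Nat.beq (half CT e.1) (half CT q.1.1 + (q.2 + 1))))

noncomputable def chk (D : ChevalleyDatum) (i : ℕ) : Bool :=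
  checkTab D i &&
  (force (D.simple i) fun p => force (D.neg p) fun m => force (pack 3 (cartRow D i)) fun CT =>
    rowOK CT D.nroots true (D.chain.getD p #[]).toList && rowOK CT D.nroots false (D.chain.getD m #[]).toList)

/-- `⌊A_{p,s}/2⌋`. -/
def fl (D : ChevalleyDatum) (i s : ℕ) : ℤ := D.cartan i s / 2

theorem half_eq {D : ChevalleyDatum} {i : ℕ} (h : checkTab D i = true) {s : ℕ} (hs : s < D.nroots) :
    (half (pack 3 (cartRow D i)) s : ℤ) = fl D i s + 2 := by
  have := unpack_cartan D i h s hs
  unfold half fl
  push_cast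
  omega

theorem hData_of_check {D : ChevalleyDatum} (G : RootCombGood.Good D) {i : ℕ} (hi : i < D.rank)
    (hF : Facts D i) (h : chk D i = true) : HData D i (fl D i) := by
  unfold chk at h
  simp only [force_eq, Bool.and_eq_true] at h
  obtain ⟨hT, h1, h2⟩ := h
  have hs := G.simple_lt hi
  have hms := hF.neg_simple_lt
  have hneg : ∀ s < D.nroots, D.neg (D.neg s) = s := by
    intro s hs
    have e1 := G.neg_eq hs
    rw [G.neg_eq (r := D.neg s) (by omega)]
    omega
  have c1 := G.cartan_simple hi
  have c2 : D.cartan i (D.neg (D.simple i)) = -2 := by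
    rw [G.cartan_neg hi hs, c1]
  have key : ∀ (up : Bool) (row : List (ℕ × Array (ℕ × ℤ))),
      rowOK (pack 3 (cartRow D i)) D.nroots up row = true → ∀ e ∈ row, ∀ (j : ℕ) (q : ℕ × ℤ),
      e.2.toList[j]? = some q → q.1 < D.nroots →
      fl D i q.1 = if up then fl D i e.1 + (j + 1) else fl D i e.1 - (j + 1) := by
    intro up row hrow e he j q hq hlt
    unfold rowOK at hrow
    rw [List.all_eq_true] at hrow
    have h3 := hrow e he
    rw [List.all_eq_true] at h3
    have h4 := h3 (q, j) (by rw [List.mem_zipIdx_iff_getElem?]; exact hq)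
    simp only [Bool.or_eq_true, Bool.and_eq_true] at h4
    rcases h4 with h4 | ⟨h4, h5⟩
    · have := Nat.le_of_ble_eq_true h4
      omega
    · rw [blt_eq_decide, decide_eq_true_eq] at h4
      have e1 := half_eq hT h4
      have e2 := half_eq hT hlt
      cases up with
      | true =>
        simp only [if_true] at h5 ⊢
        have := Nat.eq_of_beq_eq_true h5
        omega
      | false =>
        simp only [Bool.false_eq_true, if_false] at h5 ⊢
        have := Nat.eq_of_beq_eq_true h5
        omega
  refine
    { facts := hF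
      neg_neg := hneg _ hs
      pos_chain := ⟨?_, ?_, ?_⟩
      neg_chain := ⟨?_, ?_, ?_⟩
      reflect_reflect := fun s hs => G.reflect_reflect hi hs
      sub := ?_ }
  · show D.cartan i (D.simple i) / 2 = 1
    rw [c1]; norm_num
  · show D.cartan i (D.neg (D.simple i)) / 2 = -1
    rw [c2]; norm_num
  · intro e he j q hq hlt
    have := key true _ h1 e he j q hq hlt
    simpa using this
  · show - (D.cartan i (D.neg (D.simple i)) / 2) = 1
    rw [c2]; norm_num
  · show - (D.cartan i (D.neg (D.neg (D.simple i))) / 2) = -1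
    rw [hneg _ hs, c1]; norm_num
  · intro e he j q hq hlt
    have := key false _ h2 e he j q hq hlt
    simp only [Bool.false_eq_true, if_false] at this
    omega
  · intro s hs'
    have := G.cartan_reflect hi hs' hi
    rw [c1] at this
    unfold fl
    omega

theorem chk_of_mem {D : ChevalleyDatum} (hD : D ∈ [chevG2, chevB2, chevD4, chevF4, chevE6, chevE7, chevE8]) {i : ℕ}
    (hi : i < D.rank) : chk D i = true := by
  simp only [List.mem_cons, List.not_mem_nil, or_false] at hD
  rcases hD with rfl | rfl | rfl | rfl | rfl | rfl | rfl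
  · have h : ∀ i < 2, chk chevG2 i = true := by decide +kernel
    exact h i hi
  · have h : ∀ i < 2, chk chevB2 i = true := by decide +kernel
    exact h i hi
  · have h : ∀ i < 4, chk chevD4 i = true := by decide +kernel
    exact h i hi
  · have h : ∀ i < 4, chk chevF4 i = true := by decide +kernel
    exact h i hi
  · have h : ∀ i < 6, chk chevE6 i = true := by decide +kernel
    exact h i hi
  · have h : ∀ i < 7, chk chevE7 i = true := by decide +kernel
    exact h i hi
  · have h : ∀ i < 8, chk chevE8 i = true := by decide +kernel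
    exact h i hi

theorem hData {D : ChevalleyDatum} (hD : D ∈ [chevG2, chevB2, chevD4, chevF4, chevE6, chevE7, chevE8]) {i : ℕ}
    (hi : i < D.rank) : HData D i (fl D i) :=
  hData_of_check (RootComb.good_of_mem hD) hi (NSimpleAll.facts hD hi) (chk_of_mem hD hi)

end Cfsg.Agent.ChevalleyStructure.SimpleChains
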