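import Cfsg.Agent.ChevalleyStructure.StringTables

/-!
# `RootOK` and `HasStrings` for every root of the seven tabulated data; explicit `h_r(t)`
-/

set_option autoImplicit false

namespace Cfsg.Agent.ChevalleyStructure.StringMem

open Cfsg Cfsg.Lie
open Cfsg.Agent.ChevalleyStructure.Strings
open Cfsg.Agent.ChevalleyStructure.StringTables

universe u

theorem strb_G2 : strb chevG2 = true := by decide +kernel
theorem strb_B2 : strb chevB2 = true := by decide +kernel
theorem strb_D4 : strb chevD4 = true := by decide +kernel
theorem strb_F4 : strb chevF4 = true := by decide +kernel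
theorem strb_E6 : strb chevE6 = true := by decide +kernel
theorem strb_E7 : strb chevE7 = true := by decide +kernel
theorem strb_E8 : strb chevE8 = true := by decide +kernel

theorem strb_of_mem {D : ChevalleyDatum} (hD : D ∈ [chevG2, chevB2, chevD4, chevF4, chevE6, chevE7, chevE8]) :
    strb D = true := by
  simp only [List.mem_cons, List.not_mem_nil, or_false] at hD
  rcases hD with rfl | rfl | rfl | rfl | rfl | rfl | rfl
  · exact strb_G2
  · exact strb_B2
  · exact strb_D4
  · exact strb_F4
  · exact strb_E6
  · exact strb_E7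
  · exact strb_E8

theorem rootOK_of_mem {D : ChevalleyDatum} (hD : D ∈ [chevG2, chevB2, chevD4, chevF4, chevE6, chevE7, chevE8])
    {r : ℕ} (hr : r < D.nroots) : RootOK D r :=
  rootOK_of_good (RootComb.good_of_mem hD) (fun s hs => Good.goodAt_of_mem D hD s hs) hr

theorem hasStrings_of_mem {D : ChevalleyDatum} (hD : D ∈ [chevG2, chevB2, chevD4, chevF4, chevE6, chevE7, chevE8])
    {r : ℕ} (hr : r < D.nroots) : HasStrings D r :=
  hasStrings_of_check (RootComb.good_of_mem hD) (fun s hs => Good.goodAt_of_mem D hD s hs) (strb_of_mem hD) hr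

/-- `h_r(t)` for every root `r`: the diagonal matrix `1` on the `h_{p_i}` and `t^{A_{r,s}}` at `e_s`. -/
theorem hMat_eq {D : ChevalleyDatum} (hD : D ∈ [chevG2, chevB2, chevD4, chevF4, chevE6, chevE7, chevE8])
    {F : Type u} [Field F] {r : ℕ} (hr : r < D.nroots) {t : F} (ht : t ≠ 0) :
    D.hMat F r t = Matrix.diagonal (Sum.elim (fun _ => (1 : F)) (fun s : Fin D.nroots => t ^ cartanR D r s)) :=
  hMat_eq_diagonal (rootOK_of_mem hD hr) (hasStrings_of_mem hD hr) ht

theorem cartanR_simple {D : ChevalleyDatum} (hD : D ∈ [chevG2, chevB2, chevD4, chevF4, chevE6, chevE7, chevE8])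
    {i : ℕ} (hi : i < D.rank) (s : ℕ) : cartanR D (D.simple i) s = D.cartan i s := by
  have hG := RootComb.good_of_mem hD
  rw [cartanR, Finset.sum_eq_single i]
  · have := hG.co_simple hi hi
    rw [if_pos rfl] at this
    rw [show co D (D.simple i) i = 1 from this, one_mul]
  · intro j hj hji
    have := hG.co_simple hi (Finset.mem_range.1 hj)
    rw [if_neg (fun h => hji h.symm)] at this
    rw [show co D (D.simple i) j = 0 from this, zero_mul]
  · intro h
    exact absurd (Finset.mem_range.2 hi) h

end Cfsg.Agent.ChevalleyStructure.StringMem
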