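import Cfsg.Agent.ChevalleyStructure.TorusCert

/-!
`H` is the range of the torus homomorphism, under explicit hypotheses:
(A) `h_{p_i}(c)` is the diagonal matrix `(1; c ^ A_{p_i, s})`, (all roots) likewise.
Author: helper592.
-/

set_option autoImplicit false

namespace Cfsg.Agent.ChevalleyStructure.TorusRange

open Cfsg.Lie Cfsg.Agent.ChevalleyStructure.TorusCount
open scoped MatrixGroups Matrix

section

variable (D : ChevalleyDatum) (F : Type*) [Field F]

theorem wordMat_nil : D.wordMat F [] = 1 := rfl

theorem wordMat_append (w₁ w₂ : List (ℕ × F)) :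
    D.wordMat F (w₁ ++ w₂) = D.wordMat F w₁ * D.wordMat F w₂ := by
  show ((w₁ ++ w₂).map _).prod = _
  rw [List.map_append, List.prod_append]
  rfl

/-- Hypothesis (A): simple `h_p(c)` are the expected diagonal matrices. -/
def SimpleDiag : Prop := ∀ i < D.rank, ∀ c : F, c ≠ 0 →
  D.hMat F (D.simple i) c =
    Matrix.diagonal (Sum.elim (fun _ => (1 : F)) (fun s : Fin D.nroots => c ^ (D.cartan i s)))

/-- The pairing `A_{r,s} = ∑_i c_i(r) A_{p_i,s}`. -/
def pairing (r s : ℕ) : ℤ := ∑ i ∈ Finset.range D.rank, (D.coroot.getD r #[]).getD i 0 * D.cartan i s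

theorem pairing_def (r s : ℕ) :
    pairing D r s = ∑ i ∈ Finset.range D.rank, (D.coroot.getD r #[]).getD i 0 * D.cartan i s := rfl

/-- Hypothesis: all `h_r(c)` are the expected diagonal matrices. -/
def AllDiag : Prop := ∀ r < D.nroots, ∀ c : F, c ≠ 0 →
  D.hMat F r c =
    Matrix.diagonal (Sum.elim (fun _ => (1 : F)) (fun s : Fin D.nroots => c ^ (pairing D r s)))

variable {D F}

theorem wordMat_flatMap_range (hA : SimpleDiag D F) (c : ℕ → F) (hc : ∀ i < D.rank, c i ≠ 0)
    (n : ℕ) (hn : n ≤ D.rank) :
    D.wordMat F ((List.range n).flatMap fun i => D.hWord (D.simple i) (c i)) =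
      Matrix.diagonal (Sum.elim (fun _ => (1 : F))
        (fun s : Fin D.nroots => ∏ i ∈ Finset.range n, c i ^ (D.cartan i s))) := by
  induction n with
  | zero =>
    rw [List.range_zero, List.flatMap_nil, wordMat_nil, ← Matrix.diagonal_one]
    congr 1
    funext x
    rcases x with i | s
    · rfl
    · simp
  | succ n ih =>
    rw [List.range_succ, List.flatMap_append, wordMat_append, ih (by omega), List.flatMap_cons,
      List.flatMap_nil, List.append_nil]
    show _ * D.hMat F (D.simple n) (c n) = _
    rw [hA n (by omega) (c n) (hc n (by omega)), Matrix.diagonal_mul_diagonal]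
    congr 1
    funext x
    rcases x with i | s
    · simp
    · simp [Finset.prod_range_succ]

theorem coe_torusHom_eq_wordMat (hA : SimpleDiag D F) (u : Fin D.rank → Fˣ) (c : ℕ → F)
    (hc : ∀ i : Fin D.rank, c i = u i) :
    ((torusHom D F u : GL D.Idx F) : Matrix D.Idx D.Idx F) =
      D.wordMat F ((List.range D.rank).flatMap fun i => D.hWord (D.simple i) (c i)) := by
  rw [wordMat_flatMap_range hA c _ D.rank le_rfl, coe_torusHom]
  · congr 1
    funext x
    rcases x with i | s
    · rfl
    · simp only [Sum.elim_inr]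
      rw [mon_def, Finset.prod_range, Units.coe_prod]
      refine Finset.prod_congr rfl fun i _ => ?_
      rw [hc, Units.val_zpow_eq_zpow_val]
      rfl
  · intro i hi
    rw [hc ⟨i, hi⟩]
    exact Units.ne_zero _

theorem torusHom_mulSingle_mem (hA : SimpleDiag D F) (hs : ∀ i < D.rank, D.simple i < D.nroots)
    (i : Fin D.rank) (z : Fˣ) : torusHom D F (Pi.mulSingle i z) ∈ D.diagonalSubgroup F := by
  refine Subgroup.subset_closure ⟨D.simple i, z, hs i i.2, Units.ne_zero z, ?_⟩
  rw [hA i i.2 z (Units.ne_zero z), coe_torusHom]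
  congr 1
  funext x
  rcases x with j | s
  · rfl
  · simp only [Sum.elim_inr]
    rw [mon_def, Finset.prod_eq_single i]
    · rw [Pi.mulSingle_eq_same, Units.val_zpow_eq_zpow_val]
      rfl
    · intro j _ hj
      rw [Pi.mulSingle_eq_of_ne hj, one_zpow]
    · intro h
      exact absurd (Finset.mem_univ i) h

/-- Every element of the form `diag(1; ∏ c_i^{A_{p_i,s}})` lies in `H`. -/
theorem torusHom_mem (hA : SimpleDiag D F) (hs : ∀ i < D.rank, D.simple i < D.nroots)
    (u : Fin D.rank → Fˣ) : torusHom D F u ∈ D.diagonalSubgroup F := by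
  classical
  have h1 : ∀ t : Finset (Fin D.rank),
      torusHom D F (∏ i ∈ t, Pi.mulSingle i (u i)) ∈ D.diagonalSubgroup F := by
    intro t
    induction t using Finset.induction_on with
    | empty => rw [Finset.prod_empty, map_one]; exact one_mem _
    | insert a t ha ih =>
      rw [Finset.prod_insert ha, map_mul]
      exact mul_mem (torusHom_mulSingle_mem hA hs a (u a)) ih
  have h2 := h1 Finset.univ
  rwa [Finset.univ_prod_mulSingle] at h2

/-- If all `h_r(c)` are diagonal of the expected form, `H` is contained in the range of the torus homomorphism. -/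
theorem le_range_of_allDiag (hB : AllDiag D F) : D.diagonalSubgroup F ≤ (torusHom D F).range := by
  refine (Subgroup.closure_le _).2 ?_
  rintro g ⟨r, t, hr, ht, hg⟩
  refine ⟨fun i => Units.mk0 t ht ^ ((D.coroot.getD r #[]).getD i 0), ?_⟩
  refine Units.ext ?_
  rw [hg, hB r hr t ht, coe_torusHom]
  congr 1
  funext x
  rcases x with j | s
  · rfl
  · simp only [Sum.elim_inr]
    have h1 : mon (fun i : Fin D.rank => Units.mk0 t ht ^ ((D.coroot.getD r #[]).getD i 0)) (col D s) =
        Units.mk0 t ht ^ (pairing D r s) := by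
      rw [mon_def, pairing_def, Finset.sum_range, zpow_sum_eq]
      refine Finset.prod_congr rfl fun i _ => ?_
      rw [zpow_mul]
      rfl
    rw [h1, Units.val_zpow_eq_zpow_val]
    rfl

/-- The word form of the elements in the range of the torus homomorphism. -/
theorem exists_word_of_mem_range (hA : SimpleDiag D F) (g : GL D.Idx F) (hg : g ∈ (torusHom D F).range) :
    ∃ c : ℕ → F, (∀ i < D.rank, c i ≠ 0) ∧
      (g : Matrix D.Idx D.Idx F) = D.wordMat F ((List.range D.rank).flatMap fun i => D.hWord (D.simple i) (c i)) := by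
  obtain ⟨u, rfl⟩ := hg
  refine ⟨fun i => if h : i < D.rank then (u ⟨i, h⟩ : F) else 1, ?_, ?_⟩
  · intro i hi
    simp only [dif_pos hi]
    exact Units.ne_zero _
  · refine coe_torusHom_eq_wordMat hA u _ ?_
    intro i
    simp only [dif_pos i.2]

/-- The conclusion of S1034 from the diagonal form of all `h_r(c)`. -/
theorem exists_word (hA : SimpleDiag D F) (hB : AllDiag D F) (g : GL D.Idx F) (hg : g ∈ D.diagonalSubgroup F) :
    ∃ c : ℕ → F, (∀ i < D.rank, c i ≠ 0) ∧
      (g : Matrix D.Idx D.Idx F) = D.wordMat F ((List.range D.rank).flatMap fun i => D.hWord (D.simple i) (c i)) :=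
  exists_word_of_mem_range hA g (le_range_of_allDiag hB hg)

/-- `H` is the range of the torus homomorphism, given the conclusion of S1034. -/
theorem diagonalSubgroup_eq_range (hA : SimpleDiag D F) (hs : ∀ i < D.rank, D.simple i < D.nroots)
    (hP : ∀ g : GL D.Idx F, g ∈ D.diagonalSubgroup F → ∃ c : ℕ → F, (∀ i < D.rank, c i ≠ 0) ∧
      (g : Matrix D.Idx D.Idx F) = D.wordMat F ((List.range D.rank).flatMap fun i => D.hWord (D.simple i) (c i))) :
    D.diagonalSubgroup F = (torusHom D F).range := by
  apply le_antisymm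
  · intro g hg
    obtain ⟨c, hc, hgc⟩ := hP g hg
    refine ⟨fun i => Units.mk0 (c i) (hc i i.2), Units.ext ?_⟩
    rw [hgc]
    exact coe_torusHom_eq_wordMat hA _ c fun i => rfl
  · rintro g ⟨u, rfl⟩
    exact torusHom_mem hA hs u

end

end Cfsg.Agent.ChevalleyStructure.TorusRange
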