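/-
Table facts for the seven tabulated Chevalley data: the coroot coefficients of every root are coprime (so the
coroot `h_r` is non-zero over every field), every root is positive or negative, `negIdx` is the reversal of the list.
-/
import Cfsg.Prelude.Def_ChevStructure
import Cfsg.Prelude.Def_ChevG2
import Cfsg.Prelude.Def_ChevB2
import Cfsg.Prelude.Def_ChevD4
import Cfsg.Prelude.Def_ChevF4
import Cfsg.Prelude.Def_ChevE6
import Cfsg.Prelude.Def_ChevE7
import Cfsg.Prelude.Def_ChevE8

set_option autoImplicit false

namespace Cfsg.Agent.ChevalleyStructure.CorootGcd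

open Cfsg.Lie Cfsg.Lie.ChevalleyDatum

/-- The greatest common divisor of a list of integers. -/
def gcdList : List ℤ → ℕ
  | [] => 0
  | a :: l => Int.gcd a (gcdList l)

theorem gcdList_nil : gcdList [] = 0 := rfl
theorem gcdList_cons (a : ℤ) (l : List ℤ) : gcdList (a :: l) = Int.gcd a (gcdList l) := rfl

/-- One pass over the coroot table and the table of negatives. -/
def check (D : ChevalleyDatum) : Bool :=
  ((D.coroot.toList.all fun c => decide (gcdList c.toList = 1) && decide (c.toList.length = D.rank)
      && (decide (∀ x ∈ c.toList, (0 : ℤ) ≤ x) || decide (∀ x ∈ c.toList, x ≤ (0 : ℤ))))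
    && decide (D.coroot.toList.length = D.nroots))
    && decide (D.negIdx.toList = (List.range D.nroots).reverse)

theorem check_G2 : check chevG2 = true := by decide +kernel
theorem check_B2 : check chevB2 = true := by decide +kernel
theorem check_D4 : check chevD4 = true := by decide +kernel
theorem check_F4 : check chevF4 = true := by decide +kernel
theorem check_E6 : check chevE6 = true := by decide +kernel
theorem check_E7 : check chevE7 = true := by decide +kernel
theorem check_E8 : check chevE8 = true := by decide +kernel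

theorem check_of_mem (D : ChevalleyDatum)
    (hD : D ∈ [chevG2, chevB2, chevD4, chevF4, chevE6, chevE7, chevE8]) : check D = true := by
  simp only [List.mem_cons, List.not_mem_nil, or_false] at hD
  rcases hD with h | h | h | h | h | h | h <;> rw [h]
  · exact check_G2
  · exact check_B2
  · exact check_D4
  · exact check_F4
  · exact check_E6
  · exact check_E7
  · exact check_E8

theorem check_spec {D : ChevalleyDatum} (h : check D = true) :
    (∀ c ∈ D.coroot.toList, gcdList c.toList = 1 ∧ c.toList.length = D.rank ∧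
      ((∀ x ∈ c.toList, (0 : ℤ) ≤ x) ∨ (∀ x ∈ c.toList, x ≤ (0 : ℤ)))) ∧
    D.coroot.toList.length = D.nroots ∧ D.negIdx.toList = (List.range D.nroots).reverse := by
  unfold check at h
  rw [Bool.and_eq_true, Bool.and_eq_true, decide_eq_true_eq, decide_eq_true_eq] at h
  refine ⟨fun c hc => ?_, h.1.2, h.2⟩
  have h1 := (List.all_eq_true.1 h.1.1) c hc
  rw [Bool.and_eq_true, Bool.and_eq_true, Bool.or_eq_true, decide_eq_true_eq, decide_eq_true_eq,
    decide_eq_true_eq, decide_eq_true_eq] at h1
  exact ⟨h1.1.1, h1.1.2, h1.2⟩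

theorem coroot_getD_mem {D : ChevalleyDatum} (h : D.coroot.toList.length = D.nroots) {r : ℕ}
    (hr : r < D.nroots) : D.coroot.getD r #[] ∈ D.coroot.toList := by
  have hs : r < D.coroot.size := by rw [← Array.length_toList, h]; exact hr
  rw [← Array.getElem_eq_getD (h := hs)]
  exact Array.mem_toList_iff.2 (Array.getElem_mem hs)

theorem neg_eq {D : ChevalleyDatum}
    (hD : D ∈ [chevG2, chevB2, chevD4, chevF4, chevE6, chevE7, chevE8]) {r : ℕ} (hr : r < D.nroots) :
    D.negIdx.getD r 0 = D.nroots - 1 - r := by
  obtain ⟨-, -, h⟩ := check_spec (check_of_mem D hD)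
  have hs : r < D.negIdx.size := by
    rw [← Array.length_toList, h, List.length_reverse, List.length_range]; exact hr
  rw [← Array.getElem_eq_getD (h := hs), ← Array.getElem_toList]
  simp only [h, List.getElem_reverse, List.getElem_range, List.length_range]

theorem nroots_pos {D : ChevalleyDatum}
    (hD : D ∈ [chevG2, chevB2, chevD4, chevF4, chevE6, chevE7, chevE8]) : 0 < D.nroots ∧ 2 ∣ D.nroots := by
  simp only [List.mem_cons, List.not_mem_nil, or_false] at hD
  rcases hD with h | h | h | h | h | h | h <;> rw [h] <;> decide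

theorem isPosRoot_or_isNegRoot {D : ChevalleyDatum}
    (hD : D ∈ [chevG2, chevB2, chevD4, chevF4, chevE6, chevE7, chevE8]) {r : ℕ} (hr : r < D.nroots) :
    D.IsPosRoot r ∨ D.IsNegRoot r := by
  obtain ⟨h1, h2, -⟩ := check_spec (check_of_mem D hD)
  rcases (h1 _ (coroot_getD_mem h2 hr)).2.2 with h | h
  · exact Or.inl ⟨hr, h⟩
  · exact Or.inr ⟨hr, h⟩

theorem gcdList_cast_eq_zero {F : Type*} [Field F] :
    ∀ l : List ℤ, (∀ x ∈ l, (x : F) = 0) → ((gcdList l : ℕ) : F) = 0
  | [], _ => by rw [gcdList_nil, Nat.cast_zero]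
  | a :: l, h => by
    have ha : (a : F) = 0 := h a List.mem_cons_self
    have hl : ((gcdList l : ℕ) : F) = 0 :=
      gcdList_cast_eq_zero l fun x hx => h x (List.mem_cons_of_mem _ hx)
    rw [gcdList_cons]
    have e := Int.gcd_eq_gcd_ab a (gcdList l : ℤ)
    have e' := congrArg (Int.cast : ℤ → F) e
    push_cast at e'
    rw [e', ha, hl]
    ring

/-- Over every field some coefficient of the coroot `h_r` on the fundamental coroots is non-zero. -/
theorem exists_coroot_ne_zero {F : Type*} [Field F] {D : ChevalleyDatum}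
    (hD : D ∈ [chevG2, chevB2, chevD4, chevF4, chevE6, chevE7, chevE8]) {r : ℕ} (hr : r < D.nroots) :
    ∃ i : Fin D.rank, (((D.coroot.getD r #[]).getD i.val 0 : ℤ) : F) ≠ 0 := by
  obtain ⟨h1, h2, -⟩ := check_spec (check_of_mem D hD)
  obtain ⟨hg, hl, -⟩ := h1 _ (coroot_getD_mem h2 hr)
  by_contra hcon
  have hcon' : ∀ i : Fin D.rank, (((D.coroot.getD r #[]).getD i.val 0 : ℤ) : F) = 0 := by
    intro i
    by_contra hi
    exact hcon ⟨i, hi⟩
  have h0 := gcdList_cast_eq_zero (F := F) (D.coroot.getD r #[]).toList (by
    intro x hx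
    obtain ⟨i, hi, rfl⟩ := List.getElem_of_mem hx
    have hi' : i < D.rank := by rw [← hl]; exact hi
    have := hcon' ⟨i, hi'⟩
    have hs : i < (D.coroot.getD r #[]).size := by rw [← Array.length_toList]; exact hi
    rw [← Array.getElem_eq_getD (h := hs)] at this
    rw [Array.getElem_toList]
    exact this)
  rw [hg, Nat.cast_one] at h0
  exact one_ne_zero h0

end Cfsg.Agent.ChevalleyStructure.CorootGcd
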