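import Cfsg.Agent.ChevalleyStructure.MonomialNormal
import Cfsg.Agent.ChevalleyStructure.CorootGcd
import Cfsg.Agent.ChevalleyStructure.Reach
import Cfsg.Agent.S1031
import Cfsg.Agent.S1095

/-!
The signs of `n_p x_s(t) n_p⁻¹ = x_{w_p s}(η t)` for `s` and `-s` agree (from S1031, S1095 and the coroot tables),
so that `n_p n_s(t) n_p⁻¹ = n_{w_p s}(η t)`.
-/

set_option autoImplicit false

namespace Cfsg.Agent.ChevalleyStructure.SharpSign

open Cfsg.Lie Cfsg.Agent.ChevalleyStructure.Elts Cfsg.Agent.ChevalleyStructure.MonomialNormal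

universe u

/-- `h_{-r} = - h_r` on the coroot table. -/
def corootNegOK (D : ChevalleyDatum) : Bool :=
  decide ((D.coroot.toList.map Array.toList).reverse =
    (D.coroot.toList.map Array.toList).map (fun l => l.map fun c => -c))

theorem cn_G2 : corootNegOK chevG2 = true := by decide +kernel
theorem cn_B2 : corootNegOK chevB2 = true := by decide +kernel
theorem cn_D4 : corootNegOK chevD4 = true := by decide +kernel
theorem cn_F4 : corootNegOK chevF4 = true := by decide +kernel
theorem cn_E6 : corootNegOK chevE6 = true := by decide +kernel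
theorem cn_E7 : corootNegOK chevE7 = true := by decide +kernel
theorem cn_E8 : corootNegOK chevE8 = true := by decide +kernel

theorem cn_of_mem {D : ChevalleyDatum} (hD : InList D) : corootNegOK D = true := by
  simp only [InList, List.mem_cons, List.not_mem_nil, or_false] at hD
  rcases hD with rfl | rfl | rfl | rfl | rfl | rfl | rfl
  · exact cn_G2
  · exact cn_B2
  · exact cn_D4
  · exact cn_F4
  · exact cn_E6
  · exact cn_E7
  · exact cn_E8

/-- The coefficient of the coroot `h_r` on the `j`-th fundamental coroot. -/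
def co (D : ChevalleyDatum) (r j : ℕ) : ℤ := (D.coroot.getD r #[]).getD j 0

theorem co_neg {D : ChevalleyDatum} (hD : InList D) {r : ℕ} (hr : r < D.nroots) (j : ℕ) :
    co D (D.neg r) j = - co D r j := by
  have h := of_decide_eq_true (cn_of_mem hD)
  obtain ⟨-, hlen, -⟩ := CorootGcd.check_spec (CorootGcd.check_of_mem D hD)
  have hneg : D.neg r = D.nroots - 1 - r := CorootGcd.neg_eq hD hr
  have hlt : D.neg r < D.nroots := by omega
  have hget : ∀ k < D.nroots, (D.coroot.toList.map Array.toList)[k]? = some (D.coroot.getD k #[]).toList := by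
    intro k hk
    have hs : k < D.coroot.size := by rw [← Array.length_toList, hlen]; exact hk
    rw [List.getElem?_map, Array.getElem?_toList, Array.getElem?_eq_getElem hs, Option.map_some,
      Array.getD_eq_getD_getElem?, Array.getElem?_eq_getElem hs, Option.getD_some]
  have h1 := congrArg (fun l : List (List ℤ) => l[r]?) h
  rw [List.getElem?_map, hget r hr, List.getElem?_reverse (by rw [List.length_map, hlen]; exact hr),
    List.length_map, hlen, ← hneg, hget _ hlt, Option.map_some, Option.some_inj] at h1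
  unfold co
  rw [Array.getD_eq_getD_getElem?, Array.getD_eq_getD_getElem? (xs := D.coroot.getD r #[]),
    ← Array.getElem?_toList, ← Array.getElem?_toList, h1, List.getElem?_map]
  rcases (D.coroot.getD r #[]).toList[j]? with _ | c <;> simp

variable {D : ChevalleyDatum} {F : Type u} [Field F]

/-- The `h`-rows of the column `e_{-r}` of `x_r(t)`. -/
theorem x_inl_neg (hD : InList D) {r : ℕ} (hr : r < D.nroots) (t : F) (j : Fin D.rank)
    (hn : D.neg r < D.nroots) :
    D.x F r t (Sum.inl j) (Sum.inr ⟨D.neg r, hn⟩) = (co D r j.val : F) * t := by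
  rw [x_of_lt hr]
  have h1 : (⟨D.neg r, hn⟩ : Fin D.nroots) ≠ ⟨r, hr⟩ := by
    intro h
    have h2 : D.neg r = r := congrArg Fin.val h
    have h3 := Unitriangular.neg_add (Unitriangular.orderCheck_of_mem hD) hr
    obtain ⟨-, h4⟩ := CorootGcd.nroots_pos hD
    omega
  simp only [ChevalleyDatum.xMat, Matrix.of_apply]
  rw [if_neg h1, if_pos (show D.neg r = D.negIdx.getD r 0 from rfl)]
  rfl

/-- The sharp form of S1031. -/
theorem conj_sharp (hD : InList D) {i s : ℕ} (hi : i < D.rank) (hs : s < D.nroots) :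
    ∃ η : F, (η = 1 ∨ η = -1) ∧ ∀ t : F,
      D.nMat F (D.simple i) 1 * D.x F s t = D.x F (D.reflectRoot i s) (η * t) * D.nMat F (D.simple i) 1 ∧
      D.nMat F (D.simple i) 1 * D.x F (D.neg s) t =
        D.x F (D.neg (D.reflectRoot i s)) (η * t) * D.nMat F (D.simple i) 1 := by
  have hns : D.neg s < D.nroots := Reach.neg_lt hD hs
  have hws : D.reflectRoot i s < D.nroots := Reach.reflect_lt hD hi hs
  have hnws : D.neg (D.reflectRoot i s) < D.nroots := Reach.neg_lt hD hws
  obtain ⟨η, hη, h⟩ := Cfsg.Agent.S1031.result (F := F) D hD i s hi hs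
  obtain ⟨θ, hθ, h'⟩ := Cfsg.Agent.S1031.result (F := F) D hD i (D.neg s) hi hns
  rw [Reach.reflect_neg hD hi hs] at h'
  obtain ⟨e, he1, -, -, he2, hN⟩ := Cfsg.Agent.S1095.result (F := F) D hD i hi
  -- the entry `(h_j, e_{-r})` of both sides, for any root `r`
  have entry : ∀ (r : ℕ) (hr : r < D.nroots) (κ : ℤ) (j : Fin D.rank),
      D.nMat F (D.simple i) 1 * D.x F r (1 : F) =
        D.x F (D.reflectRoot i r) ((κ : F) * 1) * D.nMat F (D.simple i) 1 →
      (∑ j' : Fin D.rank, D.nMat F (D.simple i) 1 (Sum.inl j) (Sum.inl j') * (co D r j'.val : F)) =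
        (co D (D.reflectRoot i r) j.val : F) * (κ : F) * ((e (D.neg r) : ℤ) : F) := by
    intro r hr κ j hrel
    have hnr : D.neg r < D.nroots := Reach.neg_lt hD hr
    have hwr : D.reflectRoot i r < D.nroots := Reach.reflect_lt hD hi hr
    have hnwr : D.neg (D.reflectRoot i r) < D.nroots := Reach.neg_lt hD hwr
    have h1 := congrFun (congrFun hrel (Sum.inl j)) (Sum.inr ⟨D.neg r, hnr⟩)
    rw [Matrix.mul_apply, Matrix.mul_apply, Fintype.sum_sum_type, Fintype.sum_sum_type] at h1
    have hL2 : ∑ k : Fin D.nroots, D.nMat F (D.simple i) 1 (Sum.inl j) (Sum.inr k) *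
        D.x F r (1 : F) (Sum.inr k) (Sum.inr ⟨D.neg r, hnr⟩) = 0 := by
      apply Finset.sum_eq_zero
      intro k _
      rw [hN]
      simp
    have hR1 : ∑ k : Fin D.rank, D.x F (D.reflectRoot i r) ((κ : F) * 1) (Sum.inl j) (Sum.inl k) *
        D.nMat F (D.simple i) 1 (Sum.inl k) (Sum.inr ⟨D.neg r, hnr⟩) = 0 := by
      apply Finset.sum_eq_zero
      intro k _
      rw [hN]
      simp
    have hR2 : ∑ k : Fin D.nroots, D.x F (D.reflectRoot i r) ((κ : F) * 1) (Sum.inl j) (Sum.inr k) *
        D.nMat F (D.simple i) 1 (Sum.inr k) (Sum.inr ⟨D.neg r, hnr⟩) =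
        (co D (D.reflectRoot i r) j.val : F) * (κ : F) * ((e (D.neg r) : ℤ) : F) := by
      have hw : D.reflectRoot i (D.neg r) = D.neg (D.reflectRoot i r) := Reach.reflect_neg hD hi hr
      rw [Finset.sum_eq_single (⟨D.neg (D.reflectRoot i r), hnwr⟩ : Fin D.nroots)]
      · rw [x_inl_neg hD hwr, hN]
        simp [hw]
      · intro k _ hk
        have hk' : (k : ℕ) ≠ D.neg (D.reflectRoot i r) := fun h => hk (Fin.ext h)
        rw [hN]
        simp [hw, hk']
      · intro hk
        exact absurd (Finset.mem_univ _) hk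
    rw [hL2, hR1, hR2, zero_add, add_zero] at h1
    rw [← h1]
    apply Finset.sum_congr rfl
    intro j' _
    rw [x_inl_neg hD hr, mul_one]
  -- the comparison
  have e1 := fun j => entry s hs η j (h 1)
  have e2 := fun j => entry (D.neg s) hns θ j (by
    have := h' 1
    rwa [← Reach.reflect_neg hD hi hs] at this)
  obtain ⟨j, hj⟩ := CorootGcd.exists_coroot_ne_zero (F := F) hD hws
  have hj' : (co D (D.reflectRoot i s) j.val : F) ≠ 0 := hj
  have e3 := e2 j
  rw [Reach.reflect_neg hD hi hs, Reach.neg_neg hD hs] at e3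
  have e4 : (∑ j' : Fin D.rank, D.nMat F (D.simple i) 1 (Sum.inl j) (Sum.inl j') *
      (co D (D.neg s) j'.val : F)) = - ∑ j' : Fin D.rank, D.nMat F (D.simple i) 1 (Sum.inl j) (Sum.inl j') *
      (co D s j'.val : F) := by
    rw [← Finset.sum_neg_distrib]
    apply Finset.sum_congr rfl
    intro j' _
    rw [co_neg hD hs]
    push_cast
    ring
  rw [e4, e1 j, co_neg hD hws] at e3
  have hes : e s * e (D.neg s) = 1 := (he2 s hs).2
  have hes' : e s = e (D.neg s) := by
    rcases he1 s hs with h1 | h1 <;> rw [h1] at hes ⊢ <;> omega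
  have hene : ((e s : ℤ) : F) ≠ 0 := by
    rcases he1 s hs with h1 | h1 <;> rw [h1] <;> simp
  rw [← hes'] at e3
  push_cast at e3
  have hηθ : (η : F) = (θ : F) := by
    have e5 : (co D (D.reflectRoot i s) j.val : F) * ((e s : ℤ) : F) * ((η : F) - (θ : F)) = 0 := by
      linear_combination (-1 : F) * e3
    rcases mul_eq_zero.1 e5 with h6 | h6
    · exact absurd h6 (mul_ne_zero hj' hene)
    · exact sub_eq_zero.1 h6
  refine ⟨(η : F), ?_, fun t => ⟨h t, ?_⟩⟩
  · rcases hη with rfl | rfl
    · left; simp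
    · right; simp
  · rw [hηθ]
    exact h' t

theorem reach_word (hD : InList D) : ∀ r < D.nroots, ∃ w : List ℕ, (∀ i ∈ w, i < D.rank) ∧ ∃ j < D.rank,
    w.foldr D.reflectRoot (D.simple j) = r := by
  apply Reach.reach hD
  · intro j hj
    exact ⟨[], fun i hi => absurd hi List.not_mem_nil, j, hj, rfl⟩
  · rintro i hi _ _ ⟨w, hw, j, hj, rfl⟩
    refine ⟨i :: w, ?_, j, hj, rfl⟩
    intro k hk
    rcases List.mem_cons.1 hk with rfl | hk
    · exact hi
    · exact hw k hk

theorem simple_lt (hD : InList D) : ∀ i < D.rank, D.simple i < D.nroots := by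
  simp only [InList, List.mem_cons, List.not_mem_nil, or_false] at hD
  rcases hD with rfl | rfl | rfl | rfl | rfl | rfl | rfl <;> decide

theorem sharp (hD : InList D) : Sharp D F where
  neg_lt _ hs := Reach.neg_lt hD hs
  refl_lt _ hi _ hs := Reach.reflect_lt hD hi hs
  simple_lt := simple_lt hD
  conj _ hi _ hs := conj_sharp hD hi hs
  reach := reach_word hD

end Cfsg.Agent.ChevalleyStructure.SharpSign
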