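import Cfsg.Agent.ChevalleyStructure.Elts
import Cfsg.Agent.S1031

/-!
# Conjugating root elements by words in the `n_p`, `p` fundamental

`nWord hD w` for a list `w` of indices of fundamental roots is the product of the `n_{p_i}`, `i ∈ w`, in `GL`.
Conditional on S1023, S1024 and S1031.
-/

set_option autoImplicit false

namespace Cfsg.Agent.ChevalleyStructure.WeylConj

open Cfsg.Lie
open Cfsg.Agent.ChevalleyStructure.Elts

universe u

variable {F : Type u} [Field F] {D : ChevalleyDatum}

/-- `n_p` for the `i`-th fundamental root. -/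
def nS (hD : InList D) (F : Type u) [Field F] (i : ℕ) : GL D.Idx F := nG hD (D.simple i) (1 : F)

/-- The product of the `n_{p_i}` along a word. -/
def nW (hD : InList D) (F : Type u) [Field F] (w : List ℕ) : GL D.Idx F := (w.map (nS hD F)).prod

/-- The action of a word on root indices (the last letter acts first). -/
def actW (D : ChevalleyDatum) (w : List ℕ) (s : ℕ) : ℕ := w.foldr D.reflectRoot s

theorem actW_nil (D : ChevalleyDatum) (s : ℕ) : actW D [] s = s := rfl

theorem actW_cons (D : ChevalleyDatum) (i : ℕ) (w : List ℕ) (s : ℕ) :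
    actW D (i :: w) s = D.reflectRoot i (actW D w s) := rfl

theorem actW_append (D : ChevalleyDatum) (w v : List ℕ) (s : ℕ) :
    actW D (w ++ v) s = actW D w (actW D v s) := List.foldr_append

theorem nW_nil (hD : InList D) : nW hD F [] = 1 := rfl

theorem nW_cons (hD : InList D) (i : ℕ) (w : List ℕ) : nW hD F (i :: w) = nS hD F i * nW hD F w := by
  simp [nW]

theorem nW_append (hD : InList D) (w v : List ℕ) : nW hD F (w ++ v) = nW hD F w * nW hD F v := by
  simp [nW]

theorem nS_conj (hD : InList D) (F : Type u) [Field F] {i s : ℕ} (hi : i < D.rank) (hs : s < D.nroots) :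
    ∃ η : ℤ, (η = 1 ∨ η = -1) ∧
      ∀ t : F, nS hD F i * xG hD s t * (nS hD F i)⁻¹ = xG hD (D.reflectRoot i s) ((η : F) * t) := by
  obtain ⟨η, hη, h⟩ := Cfsg.Agent.S1031.result (F := F) D hD i s hi hs
  refine ⟨η, hη, fun t => ?_⟩
  rw [mul_inv_eq_iff_eq_mul]
  apply Units.ext
  rw [Units.val_mul, Units.val_mul]
  show ((nG hD (D.simple i) (1 : F) : GL D.Idx F) : Matrix D.Idx D.Idx F) * D.x F s t =
    D.x F (D.reflectRoot i s) ((η : F) * t) * ((nG hD (D.simple i) (1 : F) : GL D.Idx F) : Matrix D.Idx D.Idx F)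
  rw [coe_nG]
  exact h t

theorem nW_conj (hD : InList D) (F : Type u) [Field F]
    (hlt : ∀ i < D.rank, ∀ s < D.nroots, D.reflectRoot i s < D.nroots)
    (w : List ℕ) (hw : ∀ i ∈ w, i < D.rank) {s : ℕ} (hs : s < D.nroots) :
    actW D w s < D.nroots ∧ ∃ η : ℤ, (η = 1 ∨ η = -1) ∧
      ∀ t : F, nW hD F w * xG hD s t * (nW hD F w)⁻¹ = xG hD (actW D w s) ((η : F) * t) := by
  induction w with
  | nil => exact ⟨hs, 1, Or.inl rfl, fun t => by simp [nW_nil, actW_nil]⟩
  | cons i w ih =>
    obtain ⟨h1, η, hη, h2⟩ := ih fun j hj => hw j (List.mem_cons_of_mem _ hj)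
    have hi := hw i List.mem_cons_self
    refine ⟨hlt i hi _ h1, ?_⟩
    obtain ⟨θ, hθ, h3⟩ := nS_conj hD F hi h1
    refine ⟨θ * η, ?_, fun t => ?_⟩
    · rcases hη with rfl | rfl <;> rcases hθ with rfl | rfl <;> simp
    · rw [nW_cons, mul_inv_rev, actW_cons]
      have : nS hD F i * nW hD F w * xG hD s t * ((nW hD F w)⁻¹ * (nS hD F i)⁻¹) =
          nS hD F i * (nW hD F w * xG hD s t * (nW hD F w)⁻¹) * (nS hD F i)⁻¹ := by group
      rw [this, h2, h3]
      push_cast
      rw [mul_assoc]

theorem nS_mem_monomial (hD : InList D) (F : Type u) [Field F] {i : ℕ} (hi : D.simple i < D.nroots) :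
    nS hD F i ∈ D.monomialSubgroup F := nG_one_mem_monomial hD hi

theorem nW_mem_monomial (hD : InList D) (F : Type u) [Field F] {w : List ℕ}
    (hw : ∀ i ∈ w, D.simple i < D.nroots) : nW hD F w ∈ D.monomialSubgroup F := by
  induction w with
  | nil => exact Subgroup.one_mem _
  | cons i w ih =>
    rw [nW_cons]
    exact Subgroup.mul_mem _ (nS_mem_monomial hD F (hw i List.mem_cons_self))
      (ih fun j hj => hw j (List.mem_cons_of_mem _ hj))

/-- If a word maps positive roots to negative roots and negative roots to positive roots and its square acts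
trivially on the roots, then the corresponding element of `N` conjugates `U` onto `V`. -/
theorem exists_conj_of_word (hD : InList D) (F : Type u) [Field F]
    (hlt : ∀ i < D.rank, ∀ s < D.nroots, D.reflectRoot i s < D.nroots)
    (w : List ℕ) (hw : ∀ i ∈ w, i < D.rank) (hw' : ∀ i ∈ w, D.simple i < D.nroots)
    (hpos : ∀ s, D.IsPosRoot s → D.IsNegRoot (actW D w s))
    (hneg : ∀ s, D.IsNegRoot s → D.IsPosRoot (actW D w s) ∧ actW D w (actW D w s) = s) :
    ∃ n ∈ D.monomialSubgroup F, (D.posUnipotent F).map (MulAut.conj n).toMonoidHom = D.negUnipotent F := by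
  refine ⟨nW hD F w, nW_mem_monomial hD F hw', le_antisymm ?_ ?_⟩
  · rw [Subgroup.map_le_iff_le_comap, posUnipotent_le_iff hD]
    intro r hr t
    obtain ⟨-, η, -, h⟩ := nW_conj hD F hlt w hw hr.1
    show nW hD F w * xG hD r t * (nW hD F w)⁻¹ ∈ D.negUnipotent F
    rw [h t]
    exact xG_mem_negUnipotent hD (hpos r hr) _
  · rw [negUnipotent_le_iff hD]
    intro r hr t
    obtain ⟨h1, h2⟩ := hneg r hr
    obtain ⟨-, η, hη, h⟩ := nW_conj hD F hlt w hw h1.1
    refine ⟨xG hD (actW D w r) ((η : F) * t), xG_mem_posUnipotent hD h1 _, ?_⟩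
    show nW hD F w * xG hD (actW D w r) ((η : F) * t) * (nW hD F w)⁻¹ = xG hD r t
    rw [h, h2, ← mul_assoc]
    rcases hη with rfl | rfl <;> simp

end Cfsg.Agent.ChevalleyStructure.WeylConj
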