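import Cfsg.Agent.ChevalleyStructure.BlockMonomial
import Cfsg.Agent.ChevalleyStructure.WeylConj
import Cfsg.Agent.ChevalleyStructure.Reach
import Cfsg.Agent.ChevalleyStructure.HDiag
import Cfsg.Agent.S1095

/-!
Every `n_r(1)` is a block-monomial matrix (from S1023, S1024, S1031, S1095), and so is every element of `H`
(S1033, S1034).
-/

set_option autoImplicit false

namespace Cfsg.Agent.ChevalleyStructure.NBlock

open Cfsg.Lie Cfsg.Agent.ChevalleyStructure.BlockMonomial Cfsg.Agent.ChevalleyStructure.Elts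
  Cfsg.Agent.ChevalleyStructure.WeylConj

universe u

variable {D : ChevalleyDatum} {F : Type u} [Field F]

theorem isBM_diagonal (hD : InList D) : ∀ g ∈ D.diagonalSubgroup F, IsBM (g : Matrix D.Idx D.Idx F) := by
  intro g hg
  obtain ⟨χ, -, h⟩ := HDiag.exists_dmat D hD g hg
  rw [h]
  exact IsBM.diagonal _

theorem isBM_nS (hD : InList D) {i : ℕ} (hi : i < D.rank) :
    nS hD F i ∈ BM (Fin D.rank) (Fin D.nroots) F := by
  obtain ⟨η, -, -, -, -, h⟩ := Cfsg.Agent.S1095.result (F := F) D hD i hi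
  show IsBM ((nG hD (D.simple i) (1 : F) : GL D.Idx F) : Matrix D.Idx D.Idx F)
  rw [coe_nG, h]
  refine ⟨fun u j => rfl, fun j s => rfl, fun s => ?_⟩
  refine ⟨⟨D.reflectRoot i s, Reach.reflect_lt hD hi s.2⟩, fun u hu => ?_⟩
  show (if (u : ℕ) = D.reflectRoot i s then ((η s : ℤ) : F) else 0) = 0
  exact if_neg (fun h' => hu (Fin.ext h'))

/-! ### The entries of root elements in the columns of `e_{±r}` and `h_i` -/

theorem x_self {r : ℕ} (hr : r < D.nroots) (t : F) (k : D.Idx) :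
    D.x F r t k (Sum.inr ⟨r, hr⟩) = if k = Sum.inr ⟨r, hr⟩ then 1 else 0 := by
  rw [x_of_lt hr]
  rcases k with i | u
  · show (if (⟨r, hr⟩ : Fin D.nroots) = ⟨r, hr⟩ then (0 : F) else _) = _
    rw [if_pos rfl, if_neg (by simp)]
  · show (if (⟨r, hr⟩ : Fin D.nroots) = ⟨r, hr⟩ then (if u = ⟨r, hr⟩ then (1 : F) else 0) else _) = _
    rw [if_pos rfl]
    by_cases h : u = ⟨r, hr⟩
    · rw [if_pos h, if_pos (by rw [h])]
    · rw [if_neg h, if_neg (fun h' => h (Sum.inr_injective h'))]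

theorem x_neg_inl {r : ℕ} (hr : r < D.nroots) (hn : D.neg r < D.nroots) (hne : D.neg r ≠ r) (t : F)
    (i : Fin D.rank) :
    D.x F r t (Sum.inl i) (Sum.inr ⟨D.neg r, hn⟩) = (((D.coroot.getD r #[]).getD i.val 0 : ℤ) : F) * t := by
  rw [x_of_lt hr]
  show (if (⟨D.neg r, hn⟩ : Fin D.nroots) = ⟨r, hr⟩ then (0 : F) else if D.neg r = D.negIdx.getD r 0 then _ else _) = _
  rw [if_neg (fun h => hne (Fin.ext_iff.1 h)), if_pos (show D.neg r = D.negIdx.getD r 0 from rfl)]

theorem x_neg_inr {r : ℕ} (hr : r < D.nroots) (hn : D.neg r < D.nroots) (hne : D.neg r ≠ r) (t : F)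
    (u : Fin D.nroots) :
    D.x F r t (Sum.inr u) (Sum.inr ⟨D.neg r, hn⟩) =
      if u = ⟨D.neg r, hn⟩ then 1 else if u = ⟨r, hr⟩ then -(t ^ 2) else 0 := by
  rw [x_of_lt hr]
  show (if (⟨D.neg r, hn⟩ : Fin D.nroots) = ⟨r, hr⟩ then (if u = ⟨r, hr⟩ then (1 : F) else 0) else
    if D.neg r = D.negIdx.getD r 0 then _ else _) = _
  rw [if_neg (fun h => hne (Fin.ext_iff.1 h)), if_pos (show D.neg r = D.negIdx.getD r 0 from rfl)]

theorem x_inr_inl {r : ℕ} (hr : r < D.nroots) (t : F) (u : Fin D.nroots) (i : Fin D.rank) :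
    D.x F r t (Sum.inr u) (Sum.inl i) =
      if u = ⟨r, hr⟩ then - (((D.cartan i r : ℤ)) : F) * t else 0 := by
  rw [x_of_lt hr]
  rfl

theorem x_inl_inl {r : ℕ} (hr : r < D.nroots) (t : F) (j i : Fin D.rank) :
    D.x F r t (Sum.inl j) (Sum.inl i) = if j = i then 1 else 0 := by
  rw [x_of_lt hr]
  rfl

/-- `∑ c_i(r) A_{i,r} = 2`, deduced from the additivity of `x_r`. -/
theorem sum_coroot_cartan (hD : InList D) (F : Type u) [Field F] {r : ℕ} (hr : r < D.nroots) :
    ∑ i : Fin D.rank, (((D.coroot.getD r #[]).getD i.val 0 : ℤ) : F) * ((D.cartan i r : ℤ) : F) = 2 := by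
  have hn : D.neg r < D.nroots := Reach.neg_lt hD hr
  have hneq : D.neg r ≠ r := by
    have h1 := Reach.neg_eq hD hr
    have h2 := Reach.neg_eq hD hn
    have h3 : D.nroots % 2 = 0 := by
      simp only [List.mem_cons, List.not_mem_nil, or_false] at hD
      rcases hD with h | h | h | h | h | h | h <;> rw [h] <;> rfl
    omega
  have h := congrFun (congrFun (x_add (F := F) hD r 1 1) (Sum.inr ⟨r, hr⟩)) (Sum.inr ⟨D.neg r, hn⟩)
  rw [Matrix.mul_apply, Fintype.sum_sum_type] at h
  simp only [x_neg_inl hr hn hneq, x_neg_inr hr hn hneq, x_inr_inl hr, if_true] at h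
  have hrn : (⟨r, hr⟩ : Fin D.nroots) ≠ ⟨D.neg r, hn⟩ := fun h => hneq (Fin.ext_iff.1 h).symm
  rw [if_neg hrn] at h
  have h2 : ∑ u : Fin D.nroots, D.x F r 1 (Sum.inr ⟨r, hr⟩) (Sum.inr u) *
      (if u = (⟨D.neg r, hn⟩ : Fin D.nroots) then (1 : F) else if u = ⟨r, hr⟩ then -(1 ^ 2) else 0) = -2 := by
    rw [Finset.sum_eq_add (⟨D.neg r, hn⟩ : Fin D.nroots) ⟨r, hr⟩ hrn.symm]
    · rw [if_pos rfl, if_neg hrn, if_pos rfl, x_self hr, if_pos rfl, x_neg_inr hr hn hneq, if_neg hrn, if_pos rfl]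
      ring
    · intro c _ hc
      rw [if_neg hc.1, if_neg hc.2, mul_zero]
    · intro h'
      exact absurd (Finset.mem_univ _) h'
    · intro h'
      exact absurd (Finset.mem_univ _) h'
  rw [h2] at h
  have h3 : ∑ i : Fin D.rank, -((D.cartan i r : ℤ) : F) * 1 * ((((D.coroot.getD r #[]).getD i.val 0 : ℤ) : F) * 1) =
      - ∑ i : Fin D.rank, (((D.coroot.getD r #[]).getD i.val 0 : ℤ) : F) * ((D.cartan i r : ℤ) : F) := by
    rw [← Finset.sum_neg_distrib]
    refine Finset.sum_congr rfl fun i _ => ?_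
    ring
  rw [h3] at h
  linear_combination (-1 : F) * h

/-! ### `A_{i,-r} = - A_{i,r}` -/

/-- the rows of the Cartan table are antisymmetric under reversal -/
def antiCheck (D : ChevalleyDatum) : Bool :=
  D.cartanSR.toList.all fun row =>
    decide (row.toList.reverse = row.toList.map fun a => -a) && decide (row.toList.length = D.nroots)

theorem antiG2 : antiCheck chevG2 = true := by decide +kernel
theorem antiB2 : antiCheck chevB2 = true := by decide +kernel
theorem antiD4 : antiCheck chevD4 = true := by decide +kernel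
theorem antiF4 : antiCheck chevF4 = true := by decide +kernel
theorem antiE6 : antiCheck chevE6 = true := by decide +kernel
theorem antiE7 : antiCheck chevE7 = true := by decide +kernel
theorem antiE8 : antiCheck chevE8 = true := by decide +kernel

theorem antiCheck_of_mem (hD : InList D) : antiCheck D = true := by
  simp only [List.mem_cons, List.not_mem_nil, or_false] at hD
  rcases hD with h | h | h | h | h | h | h <;> rw [h]
  · exact antiG2
  · exact antiB2
  · exact antiD4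
  · exact antiF4
  · exact antiE6
  · exact antiE7
  · exact antiE8

theorem cartan_neg (hD : InList D) (i : ℕ) {r : ℕ} (hr : r < D.nroots) :
    D.cartan i (D.neg r) = - D.cartan i r := by
  rw [Reach.neg_eq hD hr]
  show (D.cartanSR.getD i #[]).getD (D.nroots - 1 - r) 0 = -(D.cartanSR.getD i #[]).getD r 0
  by_cases hi : i < D.cartanSR.size
  · have hrow : D.cartanSR.getD i #[] ∈ D.cartanSR.toList := by
      rw [Array.getD_eq_getD_getElem?, Array.getElem?_eq_getElem hi]
      simp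
    have h := List.all_eq_true.1 (antiCheck_of_mem hD) _ hrow
    rw [Bool.and_eq_true, decide_eq_true_eq, decide_eq_true_eq] at h
    obtain ⟨h1, h2⟩ := h
    generalize D.cartanSR.getD i #[] = row at h1 h2
    have hlen : row.size = D.nroots := by simpa using h2
    have h3 := congrArg (fun l => l[r]?) h1
    simp only [List.getElem?_map] at h3
    rw [List.getElem?_reverse (by omega)] at h3
    rw [h2] at h3
    rw [Array.getD_eq_getD_getElem?, Array.getD_eq_getD_getElem?]
    have h4 : row[D.nroots - 1 - r]? = row.toList[D.nroots - 1 - r]? := by simp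
    have h5 : row[r]? = row.toList[r]? := by simp
    rw [h4, h5, h3]
    have h6 : r < row.toList.length := by omega
    rw [List.getElem?_eq_getElem h6]
    rfl
  · have hnone : D.cartanSR.getD i #[] = #[] := by
      rw [Array.getD_eq_getD_getElem?, Array.getElem?_eq_none (by omega)]
      rfl
    rw [hnone]
    simp

/-- `x_r(a) x_{-r}(a) x_r(a)`, `a² = 1`, is not block-monomial unless the characteristic is 2. -/
theorem two_eq_zero (hD : InList D) {r : ℕ} (hr : r < D.nroots) (a : F) (ha : a * a = 1)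
    (h : IsBM (D.x F r a * (D.x F (D.neg r) a * D.x F r a))) : (2 : F) = 0 := by
  have hn : D.neg r < D.nroots := Reach.neg_lt hD hr
  have hnn : D.neg (D.neg r) = r := Reach.neg_neg hD hr
  have hneq : D.neg r ≠ r := by
    have h1 := Reach.neg_eq hD hr
    have h2 := Reach.neg_eq hD hn
    have h3 : D.nroots % 2 = 0 := by
      simp only [List.mem_cons, List.not_mem_nil, or_false] at hD
      rcases hD with h | h | h | h | h | h | h <;> rw [h] <;> rfl
    omega
  have hnn' : D.neg (D.neg r) < D.nroots := by rw [hnn]; exact hr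
  have hneq' : D.neg (D.neg r) ≠ D.neg r := by rw [hnn]; exact hneq.symm
  have hrr : (⟨D.neg (D.neg r), hnn'⟩ : Fin D.nroots) = ⟨r, hr⟩ := Fin.ext hnn
  have hrn : (⟨r, hr⟩ : Fin D.nroots) ≠ ⟨D.neg r, hn⟩ := fun h => hneq (Fin.ext_iff.1 h).symm
  have hcol : ∀ k, (D.x F (D.neg r) a * D.x F r a) k (Sum.inr ⟨r, hr⟩) = D.x F (D.neg r) a k (Sum.inr ⟨r, hr⟩) := by
    intro k
    rw [Matrix.mul_apply, Finset.sum_eq_single (Sum.inr (⟨r, hr⟩ : Fin D.nroots))]
    · rw [x_self hr, if_pos rfl, mul_one]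
    · intro b _ hb
      rw [x_self hr, if_neg hb, mul_zero]
    · intro h'
      exact absurd (Finset.mem_univ _) h'
  have hinl : ∀ i : Fin D.rank, D.x F (D.neg r) a (Sum.inl i) (Sum.inr ⟨r, hr⟩) =
      (((D.coroot.getD (D.neg r) #[]).getD i.val 0 : ℤ) : F) * a := by
    intro i
    have := x_neg_inl hn hnn' hneq' a i
    rwa [hrr] at this
  have hinr : ∀ u : Fin D.nroots, D.x F (D.neg r) a (Sum.inr u) (Sum.inr ⟨r, hr⟩) =
      if u = ⟨r, hr⟩ then 1 else if u = ⟨D.neg r, hn⟩ then -(a ^ 2) else 0 := by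
    intro u
    have := x_neg_inr hn hnn' hneq' a u
    rwa [hrr] at this
  have hentry : ∀ v : Fin D.nroots, (D.x F r a * (D.x F (D.neg r) a * D.x F r a)) (Sum.inr v) (Sum.inr ⟨r, hr⟩) =
      (∑ i : Fin D.rank, D.x F r a (Sum.inr v) (Sum.inl i) * ((((D.coroot.getD (D.neg r) #[]).getD i.val 0 : ℤ) : F) * a))
      + (D.x F r a (Sum.inr v) (Sum.inr ⟨r, hr⟩) - D.x F r a (Sum.inr v) (Sum.inr ⟨D.neg r, hn⟩) * a ^ 2) := by
    intro v
    rw [Matrix.mul_apply, Fintype.sum_sum_type]
    simp only [hcol, hinl, hinr]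
    congr 1
    rw [Finset.sum_eq_add (⟨r, hr⟩ : Fin D.nroots) ⟨D.neg r, hn⟩ hrn]
    · rw [if_pos rfl, if_neg hrn.symm, if_pos rfl]
      ring
    · intro c _ hc
      rw [if_neg hc.1, if_neg hc.2, mul_zero]
    · intro h'
      exact absurd (Finset.mem_univ _) h'
    · intro h'
      exact absurd (Finset.mem_univ _) h'
  have e1 : (D.x F r a * (D.x F (D.neg r) a * D.x F r a)) (Sum.inr ⟨D.neg r, hn⟩) (Sum.inr ⟨r, hr⟩) = -1 := by
    rw [hentry, x_self hr, if_neg (fun h => hrn.symm (Sum.inr_injective h)), x_neg_inr hr hn hneq, if_pos rfl]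
    simp only [x_inr_inl hr, if_neg hrn.symm, zero_mul, Finset.sum_const_zero]
    linear_combination (-1 : F) * ha
  have e2 : (D.x F r a * (D.x F (D.neg r) a * D.x F r a)) (Sum.inr ⟨r, hr⟩) (Sum.inr ⟨r, hr⟩) = 2 * 2 := by
    rw [hentry, x_self hr, if_pos rfl, x_neg_inr hr hn hneq, if_neg hrn, if_pos rfl]
    have hs := sum_coroot_cartan hD F hn
    have h3 : ∑ i : Fin D.rank, D.x F r a (Sum.inr ⟨r, hr⟩) (Sum.inl i) *
        ((((D.coroot.getD (D.neg r) #[]).getD i.val 0 : ℤ) : F) * a) = (a * a) *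
        ∑ i : Fin D.rank, (((D.coroot.getD (D.neg r) #[]).getD i.val 0 : ℤ) : F) * ((D.cartan i (D.neg r) : ℤ) : F) := by
      rw [Finset.mul_sum]
      refine Finset.sum_congr rfl fun i _ => ?_
      rw [x_inr_inl hr, if_pos rfl, cartan_neg hD _ hr]
      push_cast
      ring
    rw [h3, hs]
    linear_combination (a * a + 3) * ha
  obtain ⟨-, -, h3⟩ := h
  obtain ⟨s', hs'⟩ := h3 ⟨r, hr⟩
  by_cases h4 : (⟨r, hr⟩ : Fin D.nroots) = s'
  · have := hs' ⟨D.neg r, hn⟩ (fun h' => hrn (h4.trans h'.symm))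
    rw [e1] at this
    exact absurd (neg_eq_zero.1 this) one_ne_zero
  · have := hs' ⟨r, hr⟩ h4
    rw [e2] at this
    exact mul_self_eq_zero.1 this

theorem isBM_step (hD : InList D) {i s : ℕ} (hi : i < D.rank) (hs : s < D.nroots)
    (h : nG hD s (1 : F) ∈ BM (Fin D.rank) (Fin D.nroots) F) :
    nG hD (D.reflectRoot i s) (1 : F) ∈ BM (Fin D.rank) (Fin D.nroots) F := by
  have hw : D.reflectRoot i s < D.nroots := Reach.reflect_lt hD hi hs
  have hns : D.neg s < D.nroots := Reach.neg_lt hD hs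
  obtain ⟨η, hη, h1⟩ := nS_conj hD F hi hs
  obtain ⟨θ, hθ, h2⟩ := nS_conj hD F hi hns
  rw [Reach.reflect_neg hD hi hs] at h2
  have hmem := (BM (Fin D.rank) (Fin D.nroots) F).mul_mem
    ((BM (Fin D.rank) (Fin D.nroots) F).mul_mem (isBM_nS (F := F) hD hi) h)
    ((BM (Fin D.rank) (Fin D.nroots) F).inv_mem (isBM_nS (F := F) hD hi))
  have key : nS hD F i * nG hD s (1 : F) * (nS hD F i)⁻¹ =
      xG hD (D.reflectRoot i s) (η : F) * (xG hD (D.neg (D.reflectRoot i s)) (-(θ : F)) *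
        xG hD (D.reflectRoot i s) (η : F)) := by
    have : nS hD F i * nG hD s (1 : F) * (nS hD F i)⁻¹ =
        (nS hD F i * xG hD s 1 * (nS hD F i)⁻¹) * ((nS hD F i * xG hD (D.neg s) (-1⁻¹) * (nS hD F i)⁻¹) *
          (nS hD F i * xG hD s 1 * (nS hD F i)⁻¹)) := by
      rw [nG_def]
      group
    rw [this, h1, h2]
    simp
  rw [key] at hmem
  set w := D.reflectRoot i s with hwdef
  -- the good case: opposite signs
  have good : ∀ a : F, a * a = 1 → (a = 1 ∨ a = -1) →
      xG hD w a * (xG hD (D.neg w) (-a) * xG hD w a) ∈ BM (Fin D.rank) (Fin D.nroots) F →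
      nG hD w (1 : F) ∈ BM (Fin D.rank) (Fin D.nroots) F := by
    intro a _ ha h3
    rcases ha with rfl | rfl
    · rw [nG_def, inv_one]
      exact h3
    · have : nG hD w (1 : F) = (xG hD w (-1) * (xG hD (D.neg w) (- -1) * xG hD w (-1)))⁻¹ := by
        rw [nG_def, mul_inv_rev, mul_inv_rev, xG_inv, xG_inv]
        simp only [_root_.neg_neg, inv_one, mul_assoc]
      rw [this]
      exact (BM (Fin D.rank) (Fin D.nroots) F).inv_mem h3
  have sq1 : ((η : ℤ) : F) * ((η : ℤ) : F) = 1 := by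
    rcases hη with rfl | rfl <;> simp
  have ηF : ((η : ℤ) : F) = 1 ∨ ((η : ℤ) : F) = -1 := by
    rcases hη with rfl | rfl <;> simp
  by_cases hηθ : ((θ : ℤ) : F) = ((η : ℤ) : F)
  · rw [hηθ] at hmem
    exact good _ sq1 ηF hmem
  · have hθη : -((θ : ℤ) : F) = ((η : ℤ) : F) := by
      rcases hη with rfl | rfl <;> rcases hθ with rfl | rfl <;> simp_all
    rw [hθη] at hmem
    have h2 : (2 : F) = 0 := two_eq_zero hD hw _ sq1 hmem
    exfalso
    apply hηθ
    have : ((η : ℤ) : F) = - ((η : ℤ) : F) := by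
      have : ((η : ℤ) : F) + ((η : ℤ) : F) = 0 := by
        rw [← two_mul, h2, zero_mul]
      exact eq_neg_of_add_eq_zero_left this
    rw [this, ← hθη, _root_.neg_neg]

/-- Every `n_r(1)` is block-monomial. -/
theorem isBM_nMat (hD : InList D) (F : Type u) [Field F] : ∀ r < D.nroots, IsBM (D.nMat F r 1) := by
  intro r hr
  have : nG hD r (1 : F) ∈ BM (Fin D.rank) (Fin D.nroots) F := by
    refine Reach.reach hD (fun r => nG hD r (1 : F) ∈ BM (Fin D.rank) (Fin D.nroots) F) ?_ ?_ r hr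
    · intro i hi
      exact isBM_nS hD hi
    · intro i hi s hs h
      exact isBM_step hD hi hs h
  have h2 : IsBM ((nG hD r (1 : F) : GL D.Idx F) : Matrix D.Idx D.Idx F) := this
  rwa [coe_nG] at h2

end Cfsg.Agent.ChevalleyStructure.NBlock
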