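import Cfsg.Agent.ChevalleyStructure.BlockMonomial
import Cfsg.Agent.ChevStructure.PosUnip

/-!
`U ∩ N = 1` and `B ∩ N = H` for a tabulated Chevalley datum, from: the generators of `N` are block-monomial
matrices, and `H` normalises `U`.
-/

set_option autoImplicit false

namespace Cfsg.Agent.ChevalleyStructure.UnipMonomial

open Cfsg.Lie Cfsg.Agent.ChevalleyStructure.BlockMonomial Cfsg.Agent.ChevStructure.Level
  Cfsg.Agent.ChevStructure.PosUnip

variable {D : ChevalleyDatum} {F : Type*} [Field F]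

/-- entries of an element of `U`: unitriangular for the level, identity on the Cartan block -/
theorem entry_of_mem_pos (hc : checkPos D = true) {g : GL D.Idx F} (hg : g ∈ D.posUnipotent F)
    {i j : D.Idx} (hij : lev D i ≤ lev D j) : (g : Matrix D.Idx D.Idx F) i j = if i = j then 1 else 0 := by
  have h1 : Raises (lev D) 1 ((g : Matrix D.Idx D.Idx F) - 1) := posUnipotent_le_unip hc F hg
  have h2 : ((g : Matrix D.Idx D.Idx F) - 1) i j = 0 := by
    by_contra h
    have := h1 i j h
    omega
  rw [Matrix.sub_apply, sub_eq_zero] at h2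
  rw [h2, Matrix.one_apply]

/-- A block-monomial element of `U` is trivial. -/
theorem eq_one_of_mem_pos (hc : checkPos D = true) {g : GL D.Idx F} (hg : g ∈ D.posUnipotent F)
    (hb : IsBM (g : Matrix D.Idx D.Idx F)) : g = 1 := by
  apply Units.ext
  refine hb.eq_one (fun s => ?_) (fun i j => ?_)
  · rw [entry_of_mem_pos hc hg le_rfl, if_pos rfl]
  · have : lev D (Sum.inl i) ≤ lev D (Sum.inl j) := le_rfl
    rw [entry_of_mem_pos hc hg this]
    by_cases h : i = j
    · rw [if_pos h, if_pos (by rw [h])]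
    · rw [if_neg h, if_neg (fun h' => h (Sum.inl_injective h'))]

/-- `N` is block-monomial if its generators are. -/
theorem monomial_le_BM (hN : ∀ r < D.nroots, IsBM (D.nMat F r 1))
    (hH : ∀ g ∈ D.diagonalSubgroup F, IsBM (g : Matrix D.Idx D.Idx F)) :
    D.monomialSubgroup F ≤ BM (Fin D.rank) (Fin D.nroots) F := by
  refine sup_le hH ((Subgroup.closure_le _).2 ?_)
  rintro g ⟨r, hr, hg⟩
  show IsBM (g : Matrix D.Idx D.Idx F)
  rw [hg]
  exact hN r hr

theorem unipotent_inf_monomial (hc : checkPos D = true) (hN : ∀ r < D.nroots, IsBM (D.nMat F r 1))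
    (hH : ∀ g ∈ D.diagonalSubgroup F, IsBM (g : Matrix D.Idx D.Idx F)) :
    D.posUnipotent F ⊓ D.monomialSubgroup F = ⊥ := by
  rw [eq_bot_iff]
  rintro g ⟨h1, h2⟩
  exact Subgroup.mem_bot.2 (eq_one_of_mem_pos hc h1 (monomial_le_BM hN hH h2))

theorem borel_inf_monomial (hc : checkPos D = true) (hN : ∀ r < D.nroots, IsBM (D.nMat F r 1))
    (hH : ∀ g ∈ D.diagonalSubgroup F, IsBM (g : Matrix D.Idx D.Idx F))
    (hU : D.diagonalSubgroup F ≤ Subgroup.normalizer (D.posUnipotent F : Set (GL D.Idx F))) :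
    D.borelSubgroup F ⊓ D.monomialSubgroup F = D.diagonalSubgroup F := by
  have hHN : D.diagonalSubgroup F ≤ D.monomialSubgroup F := le_sup_left
  apply le_antisymm
  · rintro g ⟨h1, h2⟩
    have h3 : g ∈ ((D.posUnipotent F ⊔ D.diagonalSubgroup F : Subgroup (GL D.Idx F)) : Set (GL D.Idx F)) := h1
    rw [Subgroup.coe_mul_of_right_le_normalizer_left _ _ hU] at h3
    obtain ⟨u, hu, h, hh, rfl⟩ := h3
    have h4 : u ∈ D.monomialSubgroup F := by
      have := (D.monomialSubgroup F).mul_mem h2 ((D.monomialSubgroup F).inv_mem (hHN hh))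
      simpa using this
    have h5 : u = 1 := eq_one_of_mem_pos hc hu (monomial_le_BM hN hH h4)
    show u * h ∈ _
    rw [h5, one_mul]
    exact hh
  · exact le_inf le_sup_right hHN

end Cfsg.Agent.ChevalleyStructure.UnipMonomial
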