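import Cfsg.Agent.ChevalleyStructure.NConj
import Cfsg.Agent.S1032
import Cfsg.Agent.S1034

/-!
# The action of `N` on the root subgroups

`acts`: every `m ∈ N` (and `m⁻¹`) maps each root subgroup `X_r` into a root subgroup `X_{π r}` with
`π (-r) = -π r`. Consequently `m⁻¹ X_r m ≤ U` or `m⁻¹ X_{-r} m ≤ U`.
-/

set_option autoImplicit false

namespace Cfsg.Agent.ChevalleyStructure.BNChev

open Cfsg.Lie Cfsg.Agent.ChevalleyStructure.Elts Cfsg.Agent.ChevalleyStructure.NConj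

universe u

section

variable {D : ChevalleyDatum} (hD : InList D) {F : Type u} [Field F]

/-! ### `H` normalises the root subgroups -/

/-- For `h ∈ H` and a root `s` there is `c ≠ 0` with `h x_s(t) h⁻¹ = x_s(c t)` for all `t`. -/
theorem diagonal_conj {h : GL D.Idx F} (hh : h ∈ D.diagonalSubgroup F) {s : ℕ} (hs : s < D.nroots) :
    ∃ c : F, c ≠ 0 ∧ ∀ t : F, h * xG hD s t * h⁻¹ = xG hD s (c * t) := by
  obtain ⟨c, hc, hw⟩ := S1034.result D hD h hh
  have key : ∀ l : List ℕ, (∀ i ∈ l, i < D.rank) → ∃ d : F, d ≠ 0 ∧ ∀ t : F,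
      D.wordMat F (l.flatMap fun i => D.hWord (D.simple i) (c i)) * D.x F s t =
        D.x F s (d * t) * D.wordMat F (l.flatMap fun i => D.hWord (D.simple i) (c i)) := by
    intro l
    induction l with
    | nil =>
      intro _
      refine ⟨1, one_ne_zero, fun t => ?_⟩
      rw [List.flatMap_nil, wordMat_nil, one_mul, one_mul, mul_one]
    | cons i l ih =>
      intro hl
      obtain ⟨d, hd, hdt⟩ := ih fun j hj => hl j (List.mem_cons_of_mem _ hj)
      have hi := hl i List.mem_cons_self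
      refine ⟨c i ^ D.cartan i s * d, mul_ne_zero (zpow_ne_zero _ (hc i hi)) hd, fun t => ?_⟩
      have h1 : D.wordMat F (D.hWord (D.simple i) (c i)) * D.x F s (d * t) =
          D.x F s (c i ^ D.cartan i s * (d * t)) * D.wordMat F (D.hWord (D.simple i) (c i)) :=
        S1032.result D hD i s hi hs (c i) (hc i hi) (d * t)
      rw [List.flatMap_cons, wordMat_append, mul_assoc, hdt, ← mul_assoc, h1, mul_assoc, mul_assoc (c i ^ _)]
  obtain ⟨d, hd, hdt⟩ := key (List.range D.rank) fun i hi => List.mem_range.1 hi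
  refine ⟨d, hd, fun t => ?_⟩
  rw [mul_inv_eq_iff_eq_mul]
  refine Units.ext ?_
  rw [Units.val_mul, Units.val_mul, coe_xG, coe_xG, hw]
  exact hdt t

/-! ### Elements acting on the root subgroups -/

/-- `g` maps the root subgroup `X_r` into `X_{π r}`, with `π (-r) = - π r`. -/
def Acts (hD : InList D) (g : GL D.Idx F) : Prop :=
  ∃ π : ℕ → ℕ, ∀ r < D.nroots, π r < D.nroots ∧ π (D.neg r) = D.neg (π r) ∧
    ∀ t : F, ∃ u : F, g * xG hD r t * g⁻¹ = xG hD (π r) u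

theorem Acts.mul {hD : InList D} {g k : GL D.Idx F} (hg : Acts hD g) (hk : Acts hD k) :
    Acts hD (g * k) := by
  obtain ⟨π, hπ⟩ := hg
  obtain ⟨ρ, hρ⟩ := hk
  refine ⟨fun r => π (ρ r), fun r hr => ?_⟩
  obtain ⟨h1, h2, h3⟩ := hρ r hr
  obtain ⟨k1, k2, k3⟩ := hπ (ρ r) h1
  refine ⟨k1, ?_, fun t => ?_⟩
  · show π (ρ (D.neg r)) = D.neg (π (ρ r))
    rw [h2, k2]
  · obtain ⟨u, hu⟩ := h3 t
    obtain ⟨v, hv⟩ := k3 u
    refine ⟨v, ?_⟩
    have e : g * k * xG hD r t * (g * k)⁻¹ = g * (k * xG hD r t * k⁻¹) * g⁻¹ := by group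
    rw [e, hu, hv]

theorem acts_one (hD : InList D) : Acts hD (1 : GL D.Idx F) :=
  ⟨fun r => r, fun r hr => ⟨hr, rfl, fun t => ⟨t, by rw [one_mul, inv_one, mul_one]⟩⟩⟩

theorem acts_diagonal {h : GL D.Idx F} (hh : h ∈ D.diagonalSubgroup F) : Acts hD h :=
  ⟨fun r => r, fun r hr => ⟨hr, rfl, fun t => by
    obtain ⟨c, -, hc⟩ := diagonal_conj hD hh hr
    exact ⟨_, hc t⟩⟩⟩

theorem acts_nS {i : ℕ} (hi : i < D.rank) : Acts hD (nS hD F i) :=
  ⟨D.reflectRoot i, fun r hr => ⟨Reach.reflect_lt hD hi hr, Reach.reflect_neg hD hi hr, fun t => by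
    obtain ⟨η, -, h1, -⟩ := conj_x (F := F) hD hi hr
    exact ⟨_, h1 t⟩⟩⟩

theorem acts_nS_inv {i : ℕ} (hi : i < D.rank) : Acts hD (nS hD F i)⁻¹ :=
  ⟨D.reflectRoot i, fun r hr => ⟨Reach.reflect_lt hD hi hr, Reach.reflect_neg hD hi hr, fun t => by
    obtain ⟨η, hη, h1, -⟩ := conj_x (F := F) hD hi (Reach.reflect_lt hD hi hr)
    rw [Reach.reflect_reflect hD hi hr] at h1
    refine ⟨η * t, ?_⟩
    have h2 := h1 (η * t)
    rw [← mul_assoc, sign_mul_self hη, one_mul] at h2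
    rw [← h2]
    group⟩⟩

/-- The elements `g` such that `g` and `g⁻¹` act on the root subgroups. -/
def actSub (hD : InList D) (F : Type u) [Field F] : Subgroup (GL D.Idx F) where
  carrier := {g | Acts hD g ∧ Acts hD g⁻¹}
  mul_mem' := by
    rintro a b ⟨h1, h2⟩ ⟨h3, h4⟩
    refine ⟨h1.mul h3, ?_⟩
    rw [mul_inv_rev]
    exact h4.mul h2
  one_mem' := ⟨acts_one hD, by rw [inv_one]; exact acts_one hD⟩
  inv_mem' := by
    rintro a ⟨h1, h2⟩
    exact ⟨h2, by rwa [inv_inv]⟩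

theorem monomial_le_actSub (F : Type u) [Field F] : D.monomialSubgroup F ≤ actSub hD F :=
  monomial_le_of hD (fun _ hh => ⟨acts_diagonal hD hh, acts_diagonal hD (inv_mem hh)⟩)
    fun _ hi => ⟨acts_nS hD hi, acts_nS_inv hD hi⟩

theorem acts_of_mem {m : GL D.Idx F} (hm : m ∈ D.monomialSubgroup F) : Acts hD m ∧ Acts hD m⁻¹ :=
  monomial_le_actSub hD F hm

/-- For `m ∈ N` and a root `r`: `m⁻¹ X_r m ≤ U` or `m⁻¹ X_{-r} m ≤ U`. -/
theorem root_cases {m : GL D.Idx F} (hm : m ∈ D.monomialSubgroup F) {r : ℕ} (hr : r < D.nroots) :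
    (∀ t : F, m⁻¹ * xG hD r t * m ∈ D.posUnipotent F) ∨
      (∀ t : F, m⁻¹ * xG hD (D.neg r) t * m ∈ D.posUnipotent F) := by
  obtain ⟨π, hπ⟩ := (acts_of_mem hD hm).2
  obtain ⟨h1, h2, h3⟩ := hπ r hr
  have hG := RootComb.good_of_mem hD
  by_cases hp : D.IsPosRoot (π r)
  · left
    intro t
    obtain ⟨u, hu⟩ := h3 t
    rw [inv_inv] at hu
    rw [hu]
    exact xG_mem_posUnipotent hD hp u
  · right
    intro t
    obtain ⟨-, -, k3⟩ := hπ (D.neg r) (Reach.neg_lt hD hr)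
    obtain ⟨u, hu⟩ := k3 t
    rw [inv_inv, h2] at hu
    rw [hu]
    refine xG_mem_posUnipotent hD ?_ u
    rw [hG.isPosRoot_iff] at hp ⊢
    have e1 := Reach.neg_eq hD h1
    have e2 := hG.nroots_eq
    omega

/-- Conjugation by `n_p` maps `X_s`, `s > 0`, `s ≠ p`, into `U`. -/
theorem conj_nS_mem_pos {i s : ℕ} (hi : i < D.rank) (hs : D.IsPosRoot s) (hne : s ≠ D.simple i) (t : F) :
    nS hD F i * xG hD s t * (nS hD F i)⁻¹ ∈ D.posUnipotent F := by
  obtain ⟨η, -, h1, -⟩ := conj_x (F := F) hD hi hs.1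
  rw [h1]
  exact xG_mem_posUnipotent hD ((RootComb.good_of_mem hD).reflect_pos hi hs hne) _

end

end Cfsg.Agent.ChevalleyStructure.BNChev
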