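import Mathlib

/-!
Triangular and unitriangular subgroups of `GL n F` with respect to an injective key `n → α`, their diagonal
parts, and the consequences for three subgroups `U` (lower unitriangular), `V` (upper unitriangular) and `H` (diagonal).
-/

set_option autoImplicit false

namespace Cfsg.Agent.ChevalleyStructure.TriAbstract

open Matrix

variable {n α F : Type*} [Fintype n] [DecidableEq n] [LinearOrder α] [Field F]

/-- The subgroup of all invertible matrices that are block triangular for the key `b` (entry `(i,j)` vanishes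
if `b j < b i`). -/
def tri (F : Type*) [Field F] (b : n → α) : Subgroup (GL n F) where
  carrier := {g | (g : Matrix n n F).BlockTriangular b}
  mul_mem' := by
    intro g h hg hh
    simp only [Set.mem_ofPred_eq, Units.val_mul] at *
    exact hg.mul hh
  one_mem' := by
    simp only [Set.mem_ofPred_eq, Units.val_one]
    exact blockTriangular_one
  inv_mem' := by
    intro g hg
    simp only [Set.mem_ofPred_eq] at *
    have : Invertible (g : Matrix n n F) := Units.invertible g
    have := blockTriangular_inv_of_blockTriangular hg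
    rwa [Matrix.coe_units_inv]

theorem mem_tri {b : n → α} {g : GL n F} : g ∈ tri F b ↔ (g : Matrix n n F).BlockTriangular b := Iff.rfl

omit [DecidableEq n] in
/-- Diagonal entries of a product of triangular matrices. -/
theorem mul_diag {b : n → α} (hb : Function.Injective b) {A B : Matrix n n F}
    (hA : A.BlockTriangular b) (hB : B.BlockTriangular b) (i : n) : (A * B) i i = A i i * B i i := by
  rw [Matrix.mul_apply]
  apply Finset.sum_eq_single i
  · intro j _ hji
    rcases lt_trichotomy (b i) (b j) with h | h | h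
    · rw [hB h, mul_zero]
    · exact absurd (hb h).symm hji
    · rw [hA h, zero_mul]
  · intro h
    exact absurd (Finset.mem_univ i) h

/-- The diagonal of a triangular matrix, as a monoid hom to functions. -/
def diagFun (F : Type*) [Field F] (b : n → α) (hb : Function.Injective b) : ↥(tri F b) →* (n → F) where
  toFun g i := ((g : GL n F) : Matrix n n F) i i
  map_one' := by
    funext i
    simp
  map_mul' g h := by
    funext i
    have := mul_diag hb (A := ((g : GL n F) : Matrix n n F)) (B := ((h : GL n F) : Matrix n n F)) g.2 h.2 i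
    simpa using this

/-- The diagonal part of a triangular matrix, as a group hom to `GL n F`. -/
def diagGL (F : Type*) [Field F] (b : n → α) (hb : Function.Injective b) : ↥(tri F b) →* GL n F :=
  (Units.map ((Matrix.diagonalRingHom n F : (n → F) →+* Matrix n n F) : (n → F) →* Matrix n n F)).comp
    (diagFun F b hb).toHomUnits

theorem coe_diagGL (b : n → α) (hb : Function.Injective b) (g : ↥(tri F b)) :
    ((diagGL F b hb g : GL n F) : Matrix n n F) = Matrix.diagonal fun i => ((g : GL n F) : Matrix n n F) i i := rfl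

/-- The subgroup of diagonal invertible matrices. -/
def diagSub (n F : Type*) [Fintype n] [DecidableEq n] [Field F] : Subgroup (GL n F) :=
  (Units.map ((Matrix.diagonalRingHom n F : (n → F) →+* Matrix n n F) : (n → F) →* Matrix n n F)).range

theorem mem_diagSub {g : GL n F} : g ∈ diagSub n F ↔ ∀ i j, i ≠ j → (g : Matrix n n F) i j = 0 := by
  constructor
  · rintro ⟨d, rfl⟩ i j hij
    exact Matrix.diagonal_apply_ne _ hij
  · intro h
    have hg : (g : Matrix n n F) = Matrix.diagonal fun i => (g : Matrix n n F) i i := by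
      ext i j
      by_cases hij : i = j
      · subst hij; simp
      · rw [h i j hij, Matrix.diagonal_apply_ne _ hij]
    have hne : ∀ i, (g : Matrix n n F) i i ≠ 0 := by
      intro i hi
      have hdet : (g : Matrix n n F).det ≠ 0 := by
        have := (Matrix.isUnit_iff_isUnit_det (g : Matrix n n F)).1 g.isUnit
        exact this.ne_zero
      apply hdet
      rw [hg, Matrix.det_diagonal]
      exact Finset.prod_eq_zero (Finset.mem_univ i) hi
    refine ⟨MulEquiv.piUnits.symm fun i => Units.mk0 _ (hne i), ?_⟩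
    apply Units.ext
    exact hg.symm

theorem mem_diagSub' {g : GL n F} : g ∈ diagSub n F ↔ ∃ d : n → F, (g : Matrix n n F) = Matrix.diagonal d := by
  constructor
  · rintro ⟨d, rfl⟩
    exact ⟨_, rfl⟩
  · rintro ⟨d, hd⟩
    rw [mem_diagSub]
    intro i j hij
    rw [hd, Matrix.diagonal_apply_ne _ hij]

theorem diagSub_le_tri (b : n → α) : diagSub n F ≤ tri F b := by
  intro g hg
  obtain ⟨d, hd⟩ := mem_diagSub'.1 hg
  rw [mem_tri, hd]
  exact blockTriangular_diagonal d

/-- The subgroup of unitriangular matrices. -/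
def uni (F : Type*) [Field F] (b : n → α) (hb : Function.Injective b) : Subgroup (GL n F) :=
  (diagFun F b hb).ker.map (tri F b).subtype

theorem mem_uni {b : n → α} {hb : Function.Injective b} {g : GL n F} :
    g ∈ uni F b hb ↔ (g : Matrix n n F).BlockTriangular b ∧ ∀ i, (g : Matrix n n F) i i = 1 := by
  constructor
  · rintro ⟨g, hg, rfl⟩
    refine ⟨g.2, fun i => ?_⟩
    have : diagFun F b hb g = 1 := hg
    exact congrFun this i
  · rintro ⟨h1, h2⟩
    refine ⟨⟨g, h1⟩, ?_, rfl⟩
    show diagFun F b hb ⟨g, h1⟩ = 1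
    funext i
    exact h2 i

theorem uni_le_tri (b : n → α) (hb : Function.Injective b) : uni F b hb ≤ tri F b := by
  intro g hg
  exact (mem_uni.1 hg).1

theorem diag_entry_ne_zero {b : n → α} (hb : Function.Injective b) {g : GL n F} (hg : g ∈ tri F b) (i : n) :
    (g : Matrix n n F) i i ≠ 0 := by
  have h := mul_diag hb (A := (g : Matrix n n F)) (B := ((g⁻¹ : GL n F) : Matrix n n F)) hg
    ((tri F b).inv_mem hg) i
  rw [← Units.val_mul, mul_inv_cancel, Units.val_one, Matrix.one_apply_eq] at h
  intro h0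
  rw [h0, zero_mul] at h
  exact one_ne_zero h

/-- upper and lower triangular is diagonal -/
theorem mem_diagSub_of_tri {b : n → α} (hb : Function.Injective b) {g : GL n F} (h1 : g ∈ tri F b)
    (h2 : g ∈ tri F (OrderDual.toDual ∘ b)) : g ∈ diagSub n F := by
  rw [mem_diagSub]
  intro i j hij
  rcases lt_trichotomy (b i) (b j) with h | h | h
  · exact h2 (i := i) (j := j) h
  · exact absurd (hb h) hij
  · exact h1 h

section Subgroups

variable {b : n → α} (hb : Function.Injective b) {U H : Subgroup (GL n F)}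

/-- If `U` is unitriangular and `H` is diagonal then the diagonal part of every element of `U ⊔ H` lies in `H`. -/
theorem diag_mem_of_mem_sup (hU : U ≤ uni F b hb) (hH : H ≤ diagSub n F) {g : GL n F} (hg : g ∈ U ⊔ H) :
    ∃ (hgt : g ∈ tri F b), diagGL F b hb ⟨g, hgt⟩ ∈ H := by
  have key : U ⊔ H ≤ (H.comap (diagGL F b hb)).map (tri F b).subtype := by
    refine sup_le ?_ ?_
    · intro u hu
      refine ⟨⟨u, uni_le_tri b hb (hU hu)⟩, ?_, rfl⟩
      show diagGL F b hb _ ∈ H
      have : diagGL F b hb ⟨u, uni_le_tri b hb (hU hu)⟩ = 1 := by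
        apply Units.ext
        rw [coe_diagGL]
        have h2 := (mem_uni.1 (hU hu)).2
        simp only [h2]
        exact Matrix.diagonal_one
      rw [this]
      exact H.one_mem
    · intro h hh
      have ht : h ∈ tri F b := diagSub_le_tri b (hH hh)
      refine ⟨⟨h, ht⟩, ?_, rfl⟩
      show diagGL F b hb _ ∈ H
      have : diagGL F b hb ⟨h, ht⟩ = h := by
        apply Units.ext
        rw [coe_diagGL]
        obtain ⟨d, hd⟩ := mem_diagSub'.1 (hH hh)
        simp only [hd, Matrix.diagonal_apply_eq]
      rw [this]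
      exact hh
  obtain ⟨x, hx, rfl⟩ := key hg
  exact ⟨x.2, hx⟩

theorem sup_le_tri (hU : U ≤ uni F b hb) (hH : H ≤ diagSub n F) : U ⊔ H ≤ tri F b :=
  sup_le (hU.trans (uni_le_tri b hb)) (hH.trans (diagSub_le_tri b))

/-- A diagonal element of `U ⊔ H` lies in `H`. -/
theorem mem_of_mem_sup_of_diag (hU : U ≤ uni F b hb) (hH : H ≤ diagSub n F) {g : GL n F} (hg : g ∈ U ⊔ H)
    (hd : g ∈ diagSub n F) : g ∈ H := by
  obtain ⟨hgt, hgH⟩ := diag_mem_of_mem_sup hb hU hH hg
  have : diagGL F b hb ⟨g, hgt⟩ = g := by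
    apply Units.ext
    rw [coe_diagGL]
    obtain ⟨d, hd⟩ := mem_diagSub'.1 hd
    simp only [hd, Matrix.diagonal_apply_eq]
  rwa [this] at hgH

theorem sup_inf_diagSub (hU : U ≤ uni F b hb) (hH : H ≤ diagSub n F) : (U ⊔ H) ⊓ diagSub n F = H := by
  apply le_antisymm
  · rintro g ⟨h1, h2⟩
    exact mem_of_mem_sup_of_diag hb hU hH h1 h2
  · exact le_inf le_sup_right hH

/-- A unitriangular diagonal matrix is the identity. -/
theorem eq_one_of_uni_of_diag {g : GL n F} (h1 : g ∈ uni F b hb) (h2 : g ∈ diagSub n F) : g = 1 := by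
  apply Units.ext
  ext i j
  by_cases hij : i = j
  · subst hij
    rw [(mem_uni.1 h1).2 i, Units.val_one, Matrix.one_apply_eq]
  · rw [mem_diagSub.1 h2 i j hij, Units.val_one, Matrix.one_apply_ne hij]

theorem uni_inf_diagSub : uni F b hb ⊓ diagSub n F = ⊥ := by
  rw [eq_bot_iff]
  rintro g ⟨h1, h2⟩
  exact Subgroup.mem_bot.2 (eq_one_of_uni_of_diag hb h1 h2)

theorem inf_eq_bot_of_uni_of_diag (hU : U ≤ uni F b hb) (hH : H ≤ diagSub n F) : U ⊓ H = ⊥ := by
  rw [eq_bot_iff, ← uni_inf_diagSub hb]
  exact inf_le_inf hU hH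

end Subgroups

section Opposite

variable {b : n → α} (hb : Function.Injective b) (hb' : Function.Injective (OrderDual.toDual ∘ b))
  {U V H : Subgroup (GL n F)}

/-- `U` lower unitriangular, `V` upper unitriangular, `H` diagonal: `(U ⊔ H) ⊓ V = ⊥`. -/
theorem borel_inf_opp (hU : U ≤ uni F (OrderDual.toDual ∘ b) hb') (hV : V ≤ uni F b hb)
    (hH : H ≤ diagSub n F) : (U ⊔ H) ⊓ V = ⊥ := by
  rw [eq_bot_iff]
  rintro g ⟨h1, h2⟩
  have h3 : g ∈ diagSub n F :=
    mem_diagSub_of_tri hb (uni_le_tri b hb (hV h2)) (sup_le_tri hb' hU hH h1)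
  exact Subgroup.mem_bot.2 (eq_one_of_uni_of_diag hb (hV h2) h3)

theorem pos_inf_neg (hU : U ≤ uni F (OrderDual.toDual ∘ b) hb') (hV : V ≤ uni F b hb) : U ⊓ V = ⊥ := by
  have := borel_inf_opp (H := ⊥) hb hb' hU hV bot_le
  rwa [sup_bot_eq] at this

/-- `U` lower unitriangular, `V` upper unitriangular, `H` diagonal: `(U ⊔ H) ⊓ (V ⊔ H) = H`. -/
theorem borel_inf_opp_borel (hU : U ≤ uni F (OrderDual.toDual ∘ b) hb') (hV : V ≤ uni F b hb)
    (hH : H ≤ diagSub n F) : (U ⊔ H) ⊓ (V ⊔ H) = H := by
  apply le_antisymm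
  · rintro g ⟨h1, h2⟩
    have h3 : g ∈ diagSub n F :=
      mem_diagSub_of_tri hb (sup_le_tri hb hV hH h2) (sup_le_tri hb' hU hH h1)
    exact mem_of_mem_sup_of_diag hb hV hH h2 h3
  · exact le_inf le_sup_right le_sup_right

end Opposite

end Cfsg.Agent.ChevalleyStructure.TriAbstract
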