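import Cfsg.Prelude.Def_ChevStructure
import Cfsg.Prelude.Def_LieTypes
import Cfsg.Prelude.Def_ChevB2
import Cfsg.Agent.ChevalleyStructure.TriAbstract

/-!
Chevalley root elements are unitriangular: for every type in the list of seven, order the coordinates as
`negative roots (index order), h_1, …, h_l, positive roots (index order)` (`key`). Then `x_r(t)` is lower unitriangular
for `r > 0` and upper unitriangular for `r < 0`.
-/

set_option autoImplicit false

namespace Cfsg.Agent.ChevalleyStructure.Triangular

open Cfsg.Lie Cfsg.Agent.ChevalleyStructure.TriAbstract Matrix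

/-- The seven-element list of the statements. -/
abbrev types : List ChevalleyDatum := [chevG2, chevB2, chevD4, chevF4, chevE6, chevE7, chevE8]

/-- one row of the chain table is compatible with the index order -/
def rowOK (n2 r : ℕ) (row : Array (ℕ × Array (ℕ × ℤ))) : Bool :=
  row.toList.all fun e => e.2.toList.all fun q => bif Nat.blt r n2 then Nat.blt q.1 e.1 else Nat.blt e.1 q.1

/-- the chain table is compatible with the index order -/
def chainOK (D : ChevalleyDatum) : Bool :=
  (D.chain.toList.zipIdx).all fun p => rowOK (D.nroots / 2) p.2 p.1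

/-- `r` is among the first half of the indices iff `-r` is not -/
def negOK (D : ChevalleyDatum) : Bool :=
  (List.range D.nroots).all fun r =>
    (bif Nat.blt r (D.nroots / 2) then Nat.ble (D.nroots / 2) (D.negIdx.getD r 0) else
      Nat.blt (D.negIdx.getD r 0) (D.nroots / 2)) && Nat.blt (D.negIdx.getD r 0) D.nroots

/-- an index in the first half is not positive, an index in the second half is not negative -/
def signOK (D : ChevalleyDatum) : Bool :=
  (List.range D.nroots).all fun r =>
    bif Nat.blt r (D.nroots / 2) then (D.coroot.getD r #[]).toList.any fun c => decide (c < 0)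
    else (D.coroot.getD r #[]).toList.any fun c => decide (0 < c)

/-- The three checks together. -/
def ok (D : ChevalleyDatum) : Bool := chainOK D && negOK D && signOK D

theorem ok_G2 : ok chevG2 = true := by decide +kernel
theorem ok_B2 : ok chevB2 = true := by decide +kernel
theorem ok_D4 : ok chevD4 = true := by decide +kernel
theorem ok_F4 : ok chevF4 = true := by decide +kernel
theorem ok_E6 : ok chevE6 = true := by decide +kernel
theorem ok_E7 : ok chevE7 = true := by decide +kernel
theorem ok_E8 : ok chevE8 = true := by decide +kernel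

theorem ok_of_mem {D : ChevalleyDatum} (hD : D ∈ types) : ok D = true := by
  simp only [types, List.mem_cons, List.not_mem_nil, or_false] at hD
  rcases hD with rfl | rfl | rfl | rfl | rfl | rfl | rfl
  · exact ok_G2
  · exact ok_B2
  · exact ok_D4
  · exact ok_F4
  · exact ok_E6
  · exact ok_E7
  · exact ok_E8

variable {D : ChevalleyDatum}

theorem chain_lt (hD : D ∈ types) {r : ℕ} {e : ℕ × Array (ℕ × ℤ)} (he : e ∈ (D.chain.getD r #[]).toList)
    {q : ℕ × ℤ} (hq : q ∈ e.2.toList) : if r < D.nroots / 2 then q.1 < e.1 else e.1 < q.1 := by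
  have h := ok_of_mem hD
  simp only [ok, Bool.and_eq_true, chainOK, List.all_eq_true] at h
  have hr : r < D.chain.size := by
    by_contra hr
    rw [Array.getD_eq_getD_getElem?, Array.getElem?_eq_none (not_lt.1 hr)] at he
    simp at he
  have hrow : (D.chain.getD r #[], r) ∈ D.chain.toList.zipIdx := by
    rw [List.mem_zipIdx_iff_getElem?]
    simp only
    rw [Array.getElem?_toList, Array.getD_eq_getD_getElem?, Array.getElem?_eq_getElem hr, Option.getD_some]
  have h2 := h.1.1 _ hrow
  simp only [rowOK, List.all_eq_true] at h2
  have h3 := h2 e he q hq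
  by_cases hlt : r < D.nroots / 2
  · have hb : Nat.blt r (D.nroots / 2) = true := by simpa [Nat.blt_eq] using hlt
    rw [hb, cond_true, Nat.blt_eq] at h3
    rw [if_pos hlt]
    exact h3
  · have hb : Nat.blt r (D.nroots / 2) = false := by
      rw [Bool.eq_false_iff]
      simpa [Nat.blt_eq] using hlt
    rw [hb, cond_false, Nat.blt_eq] at h3
    rw [if_neg hlt]
    exact h3

theorem neg_facts (hD : D ∈ types) {r : ℕ} (hr : r < D.nroots) :
    (r < D.nroots / 2 ↔ ¬ D.neg r < D.nroots / 2) ∧ D.neg r < D.nroots := by
  have h := ok_of_mem hD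
  simp only [ok, Bool.and_eq_true, negOK, List.all_eq_true, List.mem_range, Nat.blt_eq] at h
  obtain ⟨h1, h2⟩ := h.1.2 r hr
  refine ⟨?_, h2⟩
  by_cases hlt : r < D.nroots / 2
  · have hb : Nat.blt r (D.nroots / 2) = true := by simpa [Nat.blt_eq] using hlt
    rw [hb, cond_true, Nat.ble_eq] at h1
    exact ⟨fun _ => not_lt.2 h1, fun _ => hlt⟩
  · have hb : Nat.blt r (D.nroots / 2) = false := by
      rw [Bool.eq_false_iff]
      simpa [Nat.blt_eq] using hlt
    rw [hb, cond_false, Nat.blt_eq] at h1
    exact ⟨fun h' => absurd h' hlt, fun h' => absurd h1 h'⟩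

theorem pos_of_isPosRoot (hD : D ∈ types) {r : ℕ} (hr : D.IsPosRoot r) : D.nroots / 2 ≤ r := by
  by_contra hlt
  rw [not_le] at hlt
  have h := ok_of_mem hD
  simp only [ok, Bool.and_eq_true, signOK, List.all_eq_true, List.mem_range] at h
  have h1 := h.2 r hr.1
  have hb : Nat.blt r (D.nroots / 2) = true := by simpa [Nat.blt_eq] using hlt
  rw [hb, cond_true, List.any_eq_true] at h1
  obtain ⟨c, hc, hc0⟩ := h1
  have := hr.2 c hc
  simp only [decide_eq_true_eq] at hc0
  exact absurd hc0 (not_lt.2 this)

theorem neg_of_isNegRoot (hD : D ∈ types) {r : ℕ} (hr : D.IsNegRoot r) : r < D.nroots / 2 := by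
  by_contra hlt
  have h := ok_of_mem hD
  simp only [ok, Bool.and_eq_true, signOK, List.all_eq_true, List.mem_range] at h
  have h1 := h.2 r hr.1
  have hb : Nat.blt r (D.nroots / 2) = false := by
    rw [Bool.eq_false_iff]
    simpa [Nat.blt_eq] using hlt
  rw [hb, cond_false, List.any_eq_true] at h1
  obtain ⟨c, hc, hc0⟩ := h1
  have := hr.2 c hc
  simp only [decide_eq_true_eq] at hc0
  exact absurd hc0 (not_lt.2 this)

/-- The key of a coordinate: negative roots, then the `h_i`, then the positive roots. -/
def key (D : ChevalleyDatum) : D.Idx → ℕ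
  | Sum.inl i => D.nroots / 2 + i.val
  | Sum.inr s => if s.val < D.nroots / 2 then s.val else s.val + D.rank

theorem key_inl (i : Fin D.rank) : key D (Sum.inl i) = D.nroots / 2 + i.val := rfl

theorem key_inr (s : Fin D.nroots) :
    key D (Sum.inr s) = if s.val < D.nroots / 2 then s.val else s.val + D.rank := rfl

theorem key_injective (D : ChevalleyDatum) : Function.Injective (key D) := by
  rintro (i | s) (j | u) h
  · rw [key_inl, key_inl] at h
    congr 1
    apply Fin.ext
    omega
  · rw [key_inl, key_inr] at h
    have := i.2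
    split_ifs at h <;> omega
  · rw [key_inl, key_inr] at h
    have := j.2
    split_ifs at h <;> omega
  · rw [key_inr, key_inr] at h
    congr 1
    apply Fin.ext
    split_ifs at h <;> omega

/-- The dual key -/
theorem key_injective' (D : ChevalleyDatum) : Function.Injective (OrderDual.toDual ∘ key D) :=
  OrderDual.toDual.injective.comp (key_injective D)

theorem key_lt_key_iff {s u : Fin D.nroots} : key D (Sum.inr s) < key D (Sum.inr u) ↔ s < u := by
  rw [key_inr, key_inr, Fin.lt_def]
  split_ifs <;> omega

theorem chainCoeff_eq_nil {r s u : ℕ} (h : ∀ e ∈ (D.chain.getD r #[]).toList, ∀ q ∈ e.2.toList, e.1 = s → q.1 ≠ u) :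
    D.chainCoeff r s u = [] := by
  unfold ChevalleyDatum.chainCoeff
  rw [List.flatMap_eq_nil_iff]
  intro e he
  rw [List.mem_filter] at he
  rw [List.map_eq_nil_iff, List.filter_eq_nil_iff]
  rintro ⟨q, k⟩ hq
  have hq' : q ∈ e.2.toList := by
    have := List.mem_zipIdx' hq
    exact this.2 ▸ List.getElem_mem _
  have := h e he.1 q hq' (by simpa using he.2)
  simpa using this

variable {F : Type*} [Field F]

/-- The diagonal entries of `x_r(t)` are 1. -/
theorem xMat_diag (hD : D ∈ types) (r : Fin D.nroots) (t : F) (i : D.Idx) : D.xMat F r t i i = 1 := by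
  rcases i with i | s
  · simp [ChevalleyDatum.xMat]
  · simp only [ChevalleyDatum.xMat, Matrix.of_apply]
    by_cases hsr : s = r
    · simp [hsr]
    · rw [if_neg hsr]
      by_cases hneg : s.val = D.negIdx.getD r.val 0
      · rw [if_pos hneg]; simp
      · rw [if_neg hneg, chainCoeff_eq_nil]
        · simp
        · intro e he q hq hes hqs
          have := chain_lt hD he hq
          rw [hes, hqs] at this
          split_ifs at this <;> omega

/-- `x_r(t)` for a root in the upper half of the index list: entries vanish above the diagonal. -/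
theorem xMat_lower (hD : D ∈ types) (r : Fin D.nroots) (hr : D.nroots / 2 ≤ r.val) (t : F) {i j : D.Idx}
    (hij : key D i < key D j) : D.xMat F r t i j = 0 := by
  have hnr := neg_facts hD r.2
  rcases j with j | s
  · rcases i with i | u
    · have hne : i ≠ j := by rintro rfl; exact lt_irrefl _ hij
      simp [ChevalleyDatum.xMat, hne]
    · have hne : u ≠ r := by
        rintro rfl
        rw [key_inr, key_inl, if_neg (not_lt.2 hr)] at hij
        have := j.2
        omega
      simp [ChevalleyDatum.xMat, hne]
  · simp only [ChevalleyDatum.xMat, Matrix.of_apply]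
    by_cases hsr : s = r
    · rw [if_pos hsr]
      rcases i with i | u
      · rfl
      · have hne : u ≠ r := by rintro rfl; subst hsr; exact lt_irrefl _ hij
        simp [hne]
    · rw [if_neg hsr]
      by_cases hneg : s.val = D.negIdx.getD r.val 0
      · rw [if_pos hneg]
        have hs : s.val < D.nroots / 2 := by
          have h1 : D.neg r.val = s.val := hneg.symm
          rw [h1] at hnr
          by_contra h2
          exact absurd (hnr.1.2 h2) (not_lt.2 hr)
        rcases i with i | u
        · exfalso
          rw [key_inl, key_inr, if_pos hs] at hij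
          omega
        · have h1 : u ≠ s := by rintro rfl; exact lt_irrefl _ hij
          have h2 : u ≠ r := by
            rintro rfl
            rw [key_lt_key_iff, Fin.lt_def] at hij
            omega
          simp [h1, h2]
      · rw [if_neg hneg]
        rcases i with i | u
        · rfl
        · have h1 : u ≠ s := by rintro rfl; exact lt_irrefl _ hij
          simp only [if_neg h1, zero_add]
          rw [chainCoeff_eq_nil]
          · simp
          · intro e he q hq hes hqs
            have := chain_lt hD he hq
            rw [hes, hqs, if_neg (not_lt.2 hr)] at this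
            rw [key_lt_key_iff, Fin.lt_def] at hij
            omega

/-- `x_r(t)` for a root in the lower half of the index list: entries vanish below the diagonal. -/
theorem xMat_upper (hD : D ∈ types) (r : Fin D.nroots) (hr : r.val < D.nroots / 2) (t : F) {i j : D.Idx}
    (hij : key D j < key D i) : D.xMat F r t i j = 0 := by
  have hnr := neg_facts hD r.2
  rcases j with j | s
  · rcases i with i | u
    · have hne : i ≠ j := by rintro rfl; exact lt_irrefl _ hij
      simp [ChevalleyDatum.xMat, hne]
    · have hne : u ≠ r := by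
        rintro rfl
        rw [key_inr, key_inl, if_pos hr] at hij
        omega
      simp [ChevalleyDatum.xMat, hne]
  · simp only [ChevalleyDatum.xMat, Matrix.of_apply]
    by_cases hsr : s = r
    · rw [if_pos hsr]
      rcases i with i | u
      · rfl
      · have hne : u ≠ r := by rintro rfl; subst hsr; exact lt_irrefl _ hij
        simp [hne]
    · rw [if_neg hsr]
      by_cases hneg : s.val = D.negIdx.getD r.val 0
      · rw [if_pos hneg]
        have hs : ¬ s.val < D.nroots / 2 := by
          have h1 : D.neg r.val = s.val := hneg.symm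
          rw [h1] at hnr
          exact hnr.1.1 hr
        rcases i with i | u
        · exfalso
          rw [key_inl, key_inr, if_neg hs] at hij
          have := i.2
          omega
        · have h1 : u ≠ s := by rintro rfl; exact lt_irrefl _ hij
          have h2 : u ≠ r := by
            rintro rfl
            rw [key_lt_key_iff, Fin.lt_def] at hij
            omega
          simp [h1, h2]
      · rw [if_neg hneg]
        rcases i with i | u
        · rfl
        · have h1 : u ≠ s := by rintro rfl; exact lt_irrefl _ hij
          simp only [if_neg h1, zero_add]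
          rw [chainCoeff_eq_nil]
          · simp
          · intro e he q hq hes hqs
            have := chain_lt hD he hq
            rw [hes, hqs, if_pos hr] at this
            rw [key_lt_key_iff, Fin.lt_def] at hij
            omega

/-- The group of lower unitriangular matrices for the key. -/
def loUni (D : ChevalleyDatum) (F : Type*) [Field F] : Subgroup (GL D.Idx F) :=
  uni F (OrderDual.toDual ∘ key D) (key_injective' D)

/-- The group of upper unitriangular matrices for the key. -/
def upUni (D : ChevalleyDatum) (F : Type*) [Field F] : Subgroup (GL D.Idx F) :=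
  uni F (key D) (key_injective D)

/-- The group of lower triangular matrices for the key. -/
def loTri (D : ChevalleyDatum) (F : Type*) [Field F] : Subgroup (GL D.Idx F) :=
  tri F (OrderDual.toDual ∘ key D)

/-- The group of upper triangular matrices for the key. -/
def upTri (D : ChevalleyDatum) (F : Type*) [Field F] : Subgroup (GL D.Idx F) :=
  tri F (key D)

theorem mem_loUni {g : GL D.Idx F} : g ∈ loUni D F ↔
    (∀ i j, key D i < key D j → (g : Matrix D.Idx D.Idx F) i j = 0) ∧ ∀ i, (g : Matrix D.Idx D.Idx F) i i = 1 :=
  mem_uni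

theorem mem_upUni {g : GL D.Idx F} : g ∈ upUni D F ↔
    (∀ i j, key D j < key D i → (g : Matrix D.Idx D.Idx F) i j = 0) ∧ ∀ i, (g : Matrix D.Idx D.Idx F) i i = 1 :=
  mem_uni

theorem mem_loTri {g : GL D.Idx F} : g ∈ loTri D F ↔
    ∀ i j, key D i < key D j → (g : Matrix D.Idx D.Idx F) i j = 0 :=
  mem_tri

theorem mem_upTri {g : GL D.Idx F} : g ∈ upTri D F ↔
    ∀ i j, key D j < key D i → (g : Matrix D.Idx D.Idx F) i j = 0 :=
  mem_tri

theorem mem_loUni_of_pos (hD : D ∈ types) {r : ℕ} (hr : D.IsPosRoot r) {t : F} {g : GL D.Idx F}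
    (hg : (g : Matrix D.Idx D.Idx F) = D.x F r t) : g ∈ loUni D F := by
  have hx : D.x F r t = D.xMat F ⟨r, hr.1⟩ t := dif_pos hr.1
  rw [mem_loUni, hg, hx]
  exact ⟨fun i j h => xMat_lower hD ⟨r, hr.1⟩ (pos_of_isPosRoot hD hr) t h, fun i => xMat_diag hD _ t i⟩

theorem mem_upUni_of_neg (hD : D ∈ types) {r : ℕ} (hr : D.IsNegRoot r) {t : F} {g : GL D.Idx F}
    (hg : (g : Matrix D.Idx D.Idx F) = D.x F r t) : g ∈ upUni D F := by
  have hx : D.x F r t = D.xMat F ⟨r, hr.1⟩ t := dif_pos hr.1
  rw [mem_upUni, hg, hx]
  exact ⟨fun i j h => xMat_upper hD ⟨r, hr.1⟩ (neg_of_isNegRoot hD hr) t h, fun i => xMat_diag hD _ t i⟩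

/-- `U` is lower unitriangular. -/
theorem posUnipotent_le_loUni (hD : D ∈ types) : D.posUnipotent F ≤ loUni D F := by
  unfold ChevalleyDatum.posUnipotent
  rw [Subgroup.closure_le]
  rintro g ⟨r, t, hr, hg⟩
  exact mem_loUni_of_pos hD hr hg

/-- `V` is upper unitriangular. -/
theorem negUnipotent_le_upUni (hD : D ∈ types) : D.negUnipotent F ≤ upUni D F := by
  unfold ChevalleyDatum.negUnipotent
  rw [Subgroup.closure_le]
  rintro g ⟨r, t, hr, hg⟩
  exact mem_upUni_of_neg hD hr hg

theorem pos_inf_neg_eq_bot (hD : D ∈ types) : D.posUnipotent F ⊓ D.negUnipotent F = ⊥ :=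
  pos_inf_neg (key_injective D) (key_injective' D) (posUnipotent_le_loUni hD) (negUnipotent_le_upUni hD)

section Diagonal

/-! Consequences of "`H` consists of diagonal matrices". -/

variable (hD : D ∈ types) (hH : D.diagonalSubgroup F ≤ diagSub D.Idx F)

include hD hH

theorem pos_inf_diagonal : D.posUnipotent F ⊓ D.diagonalSubgroup F = ⊥ :=
  inf_eq_bot_of_uni_of_diag (key_injective' D) (posUnipotent_le_loUni hD) hH

theorem neg_inf_diagonal : D.negUnipotent F ⊓ D.diagonalSubgroup F = ⊥ :=
  inf_eq_bot_of_uni_of_diag (key_injective D) (negUnipotent_le_upUni hD) hH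

theorem borel_inf_neg : D.borelSubgroup F ⊓ D.negUnipotent F = ⊥ :=
  borel_inf_opp (key_injective D) (key_injective' D) (posUnipotent_le_loUni hD) (negUnipotent_le_upUni hD) hH

theorem borel_inf_neg_sup :
    D.borelSubgroup F ⊓ (D.negUnipotent F ⊔ D.diagonalSubgroup F) = D.diagonalSubgroup F :=
  borel_inf_opp_borel (key_injective D) (key_injective' D) (posUnipotent_le_loUni hD)
    (negUnipotent_le_upUni hD) hH

theorem borel_le_loTri : D.borelSubgroup F ≤ loTri D F :=
  sup_le_tri (key_injective' D) (posUnipotent_le_loUni hD) hH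

/-- A diagonal matrix in `B` lies in `H`. -/
theorem borel_inf_diag : D.borelSubgroup F ⊓ diagSub D.Idx F = D.diagonalSubgroup F :=
  sup_inf_diagSub (key_injective' D) (posUnipotent_le_loUni hD) hH

/-- The diagonal part of an element of `B` lies in `H`. -/
theorem exists_diag_mem_of_mem_borel {g : GL D.Idx F} (hg : g ∈ D.borelSubgroup F) :
    ∃ h ∈ D.diagonalSubgroup F,
      (h : Matrix D.Idx D.Idx F) = Matrix.diagonal fun i => (g : Matrix D.Idx D.Idx F) i i := by
  obtain ⟨hgt, hgH⟩ := diag_mem_of_mem_sup (key_injective' D) (posUnipotent_le_loUni hD) hH hg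
  exact ⟨_, hgH, coe_diagGL _ _ _⟩

end Diagonal

end Cfsg.Agent.ChevalleyStructure.Triangular
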