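import Cfsg.Agent.ChevalleyStructure.Unitriangular

/-!
# The root elements have determinant one; `G = ⟨B, N⟩` unconditionally

No additivity of root elements is used here.
-/

set_option autoImplicit false

namespace Cfsg.Agent.ChevalleyStructure.XUnit

open Cfsg.Lie Cfsg.Agent.ChevalleyStructure.Unitriangular

variable {D : ChevalleyDatum} {F : Type*} [Field F]

theorem det_of_lower {M : Matrix D.Idx D.Idx F} (h : Lower D M) : M.det = 1 := by
  have hb : M.BlockTriangular (fun i => OrderDual.toDual (key D i)) := by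
    intro i j hij
    have hij' : key D i < key D j := hij
    rw [h i j hij'.le, if_neg]
    rintro rfl
    exact lt_irrefl _ hij'
  rw [hb.det]
  refine Finset.prod_eq_one fun k _ => ?_
  have : M.toSquareBlock (fun i => OrderDual.toDual (key D i)) k = 1 := by
    refine Matrix.ext fun i j => ?_
    rw [Matrix.toSquareBlock_def, Matrix.of_apply, Matrix.one_apply]
    have hi : key D i.1 = key D j.1 := by
      have h1 : OrderDual.toDual (key D i.1) = k := i.2
      have h2 : OrderDual.toDual (key D j.1) = k := j.2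
      exact OrderDual.toDual.injective (h1.trans h2.symm)
    rw [h i.1 j.1 hi.le]
    simp only [Subtype.ext_iff]
  rw [this, Matrix.det_one]

theorem det_of_upper {M : Matrix D.Idx D.Idx F} (h : Upper D M) : M.det = 1 := by
  have hb : M.BlockTriangular (key D) := by
    intro i j hij
    rw [h i j hij.le, if_neg]
    rintro rfl
    exact lt_irrefl _ hij
  rw [hb.det]
  refine Finset.prod_eq_one fun k _ => ?_
  have : M.toSquareBlock (key D) k = 1 := by
    refine Matrix.ext fun i j => ?_
    rw [Matrix.toSquareBlock_def, Matrix.of_apply, Matrix.one_apply]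
    have hi : key D i.1 = key D j.1 := i.2.trans j.2.symm
    rw [h i.1 j.1 hi.ge]
    simp only [Subtype.ext_iff]
  rw [this, Matrix.det_one]

theorem det_x (h : orderCheck D = true) (r : ℕ) (t : F) : (D.x F r t).det = 1 := by
  by_cases hr : r < D.nroots
  · by_cases hp : D.nroots ≤ 2 * r
    · exact det_of_lower (x_lower h ((isPosRoot_iff h r).2 ⟨hr, hp⟩) t)
    · exact det_of_upper (x_upper h ((isNegRoot_iff h r).2 (by omega)) t)
  · have e : D.x F r t = 1 := dif_neg hr
    rw [e, Matrix.det_one]

/-- The root element `x_r(t)` as an invertible matrix. -/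
noncomputable def xU (h : orderCheck D = true) (r : ℕ) (t : F) : GL D.Idx F :=
  Matrix.GeneralLinearGroup.mk'' (D.x F r t) (by rw [det_x h]; exact isUnit_one)

theorem coe_xU (h : orderCheck D = true) (r : ℕ) (t : F) :
    ((xU h r t : GL D.Idx F) : Matrix D.Idx D.Idx F) = D.x F r t := rfl

theorem sum_chain_zero (r s u : ℕ) : ((D.chainCoeff r s u).map
    fun km => ((km.2 : ℤ) : F) * (0 : F) ^ km.1).sum = 0 := by
  apply List.sum_eq_zero
  intro y hy
  rw [List.mem_map] at hy
  obtain ⟨km, hkm, rfl⟩ := hy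
  have h0 : km.1 ≠ 0 := by
    change km ∈ List.flatMap _ _ at hkm
    rw [List.mem_flatMap] at hkm
    obtain ⟨e, -, he⟩ := hkm
    rw [List.mem_map] at he
    obtain ⟨q, -, rfl⟩ := he
    exact Nat.succ_ne_zero _
  rw [zero_pow h0, mul_zero]

/-- `x_r(0) = 1`, for every datum. -/
theorem x_zero (D : ChevalleyDatum) (F : Type*) [Field F] (r : ℕ) : D.x F r (0 : F) = 1 := by
  by_cases hr : r < D.nroots
  · have e : D.x F r (0 : F) = D.xMat F ⟨r, hr⟩ 0 := dif_pos hr
    rw [e]
    refine Matrix.ext fun row col => ?_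
    rcases col with i | s
    · rcases row with i' | u
      · change (if i' = i then (1 : F) else 0) = _
        rw [Matrix.one_apply]
        simp only [Sum.inl.injEq]
      · change (if u = ⟨r, hr⟩ then _ * (0 : F) else 0) = _
        rw [mul_zero, ite_self, Matrix.one_apply, if_neg (by simp)]
    · rcases row with i' | u
      · rw [Matrix.one_apply, if_neg (by simp)]
        change (if s = ⟨r, hr⟩ then (0 : F) else if s.val = D.negIdx.getD r 0 then _ * (0 : F) else 0) = _
        rw [mul_zero, ite_self, ite_self]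
      · rw [Matrix.one_apply]
        change (if s = ⟨r, hr⟩ then (if u = ⟨r, hr⟩ then (1 : F) else 0)
                else if s.val = D.negIdx.getD r 0 then
                  (if u = s then (1 : F) else if u = ⟨r, hr⟩ then -((0 : F) ^ 2) else 0) else
                  (if u = s then (1 : F) else 0) +
                    ((D.chainCoeff r s.val u.val).map fun km => ((km.2 : ℤ) : F) * (0 : F) ^ km.1).sum) = _
        rw [sum_chain_zero]
        by_cases hs : s = ⟨r, hr⟩
        · subst hs
          simp only [Sum.inr.injEq, if_true]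
        · simp only [Sum.inr.injEq, if_neg hs, ne_eq, OfNat.ofNat_ne_zero, not_false_eq_true, zero_pow,
            neg_zero, ite_self, add_zero]
  · exact dif_neg hr

/-! ### Membership -/

theorem wordMat_append (w₁ w₂ : List (ℕ × F)) :
    D.wordMat F (w₁ ++ w₂) = D.wordMat F w₁ * D.wordMat F w₂ := by
  change ((w₁ ++ w₂).map fun p => D.x F p.1 p.2).prod =
    (w₁.map fun p => D.x F p.1 p.2).prod * (w₂.map fun p => D.x F p.1 p.2).prod
  rw [List.map_append, List.prod_append]

theorem nMat_eq (r : ℕ) (t : F) :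
    D.nMat F r t = D.x F r t * (D.x F (D.neg r) (-t⁻¹) * (D.x F r t * 1)) := rfl

/-- `n_r(t)`. -/
noncomputable def nU (h : orderCheck D = true) (r : ℕ) (t : F) : GL D.Idx F :=
  xU h r t * xU h (D.neg r) (-t⁻¹) * xU h r t

theorem coe_nU (h : orderCheck D = true) (r : ℕ) (t : F) :
    ((nU h r t : GL D.Idx F) : Matrix D.Idx D.Idx F) = D.nMat F r t := by
  rw [nMat_eq, nU, Units.val_mul, Units.val_mul, coe_xU, coe_xU, mul_one, mul_assoc]

/-- `h_r(t)`. -/
noncomputable def hU (h : orderCheck D = true) (r : ℕ) (t : F) : GL D.Idx F :=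
  nU h r t * nU h r (-1)

theorem coe_hU (h : orderCheck D = true) (r : ℕ) (t : F) :
    ((hU h r t : GL D.Idx F) : Matrix D.Idx D.Idx F) = D.hMat F r t := by
  rw [hU, Units.val_mul, coe_nU, coe_nU]
  exact (wordMat_append (D.nWord r t) (D.nWord r (-1))).symm

theorem xU_mem_group (h : orderCheck D = true) (r : ℕ) (t : F) : xU h r t ∈ D.group F := by
  by_cases hr : r < D.nroots
  · refine Subgroup.subset_closure ⟨⟨r, hr⟩, t, ?_⟩
    rw [coe_xU]
    exact dif_pos hr
  · have : xU h r t = 1 := Units.ext (dif_neg hr)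
    rw [this]
    exact one_mem _

theorem nU_mem_group (h : orderCheck D = true) (r : ℕ) (t : F) : nU h r t ∈ D.group F :=
  mul_mem (mul_mem (xU_mem_group h _ _) (xU_mem_group h _ _)) (xU_mem_group h _ _)

theorem hU_mem_group (h : orderCheck D = true) (r : ℕ) (t : F) : hU h r t ∈ D.group F :=
  mul_mem (nU_mem_group h _ _) (nU_mem_group h _ _)

theorem posUnipotent_le_group (h : orderCheck D = true) : D.posUnipotent F ≤ D.group F := by
  change Subgroup.closure _ ≤ _
  rw [Subgroup.closure_le]
  rintro g ⟨r, t, _, hg⟩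
  have : g = xU h r t := Units.ext hg
  rw [this]
  exact xU_mem_group h r t

theorem diagonal_le_group (h : orderCheck D = true) : D.diagonalSubgroup F ≤ D.group F := by
  change Subgroup.closure _ ≤ _
  rw [Subgroup.closure_le]
  rintro g ⟨r, t, _, _, hg⟩
  have : g = hU h r t := Units.ext (hg.trans (coe_hU h r t).symm)
  rw [this]
  exact hU_mem_group h r t

theorem borel_le_group (h : orderCheck D = true) : D.borelSubgroup F ≤ D.group F :=
  sup_le (posUnipotent_le_group h) (diagonal_le_group h)

theorem monomial_le_group (h : orderCheck D = true) : D.monomialSubgroup F ≤ D.group F := by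
  refine sup_le (diagonal_le_group h) ?_
  rw [Subgroup.closure_le]
  rintro g ⟨r, _, hg⟩
  have : g = nU h r 1 := Units.ext (hg.trans (coe_nU h r 1).symm)
  rw [this]
  exact nU_mem_group h r 1

theorem hU_mem_diagonal (h : orderCheck D = true) {r : ℕ} (hr : r < D.nroots) {t : F}
    (ht : t ≠ 0) : hU h r t ∈ D.diagonalSubgroup F :=
  Subgroup.subset_closure ⟨r, t, hr, ht, coe_hU h r t⟩

theorem nU_one_mem_monomial (h : orderCheck D = true) {r : ℕ} (hr : r < D.nroots) :
    nU h r (1 : F) ∈ D.monomialSubgroup F :=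
  Subgroup.mem_sup_right (Subgroup.subset_closure ⟨r, hr, coe_nU h r 1⟩)

theorem nU_neg_one_mem_monomial (h : orderCheck D = true) {r : ℕ} (hr : r < D.nroots) :
    nU h r (-1 : F) ∈ D.monomialSubgroup F := by
  have h1 : hU h r (1 : F) ∈ D.monomialSubgroup F :=
    Subgroup.mem_sup_left (hU_mem_diagonal h hr one_ne_zero)
  have h2 : nU h r (-1 : F) = (nU h r 1)⁻¹ * hU h r 1 := by rw [hU, inv_mul_cancel_left]
  rw [h2]
  exact mul_mem (inv_mem (nU_one_mem_monomial h hr)) h1

theorem nU_mem_monomial (h : orderCheck D = true) {r : ℕ} (hr : r < D.nroots) {t : F}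
    (ht : t ≠ 0) : nU h r t ∈ D.monomialSubgroup F := by
  have h2 : nU h r t = hU h r t * (nU h r (-1))⁻¹ := by rw [hU, mul_inv_cancel_right]
  rw [h2]
  exact mul_mem (Subgroup.mem_sup_left (hU_mem_diagonal h hr ht))
    (inv_mem (nU_neg_one_mem_monomial h hr))

theorem nroots_even (hD : D ∈ [chevG2, chevB2, chevD4, chevF4, chevE6, chevE7, chevE8]) :
    D.nroots = 2 * (D.nroots / 2) := by
  simp only [List.mem_cons, List.not_mem_nil, or_false] at hD
  rcases hD with rfl | rfl | rfl | rfl | rfl | rfl | rfl <;> rfl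

/-- `G = ⟨B, N⟩`. -/
theorem borel_sup_monomial (h : orderCheck D = true) (he : D.nroots = 2 * (D.nroots / 2)) :
    D.borelSubgroup F ⊔ D.monomialSubgroup F = D.group F := by
  apply le_antisymm (sup_le (borel_le_group h) (monomial_le_group h))
  change Subgroup.closure _ ≤ _
  rw [Subgroup.closure_le]
  rintro g ⟨⟨r, hr⟩, t, hg⟩
  have hx : D.x F r t = D.xMat F ⟨r, hr⟩ t := dif_pos hr
  have hg' : g = xU h r t := Units.ext (hg.trans hx.symm)
  rw [hg']
  have hpos : ∀ s, D.IsPosRoot s → ∀ u : F,
      xU h s u ∈ D.borelSubgroup F ⊔ D.monomialSubgroup F := fun s hs u =>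
    Subgroup.mem_sup_left (Subgroup.mem_sup_left (Subgroup.subset_closure ⟨s, u, hs, rfl⟩))
  by_cases hp : D.nroots ≤ 2 * r
  · exact hpos r ((isPosRoot_iff h r).2 ⟨hr, hp⟩) t
  · have hneg := neg_add h hr
    have hs : D.IsPosRoot (D.neg r) := by
      rw [isPosRoot_iff h]
      exact ⟨neg_lt h hr, by omega⟩
    have hsr : D.neg (D.neg r) = r := neg_neg' h hr
    by_cases ht : t = 0
    · have : xU h r t = 1 := by
        rw [ht]
        exact Units.ext (x_zero D F r)
      rw [this]
      exact one_mem _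
    · set s := D.neg r with hsdef
      have hu : -t⁻¹ ≠ 0 := neg_ne_zero.2 (inv_ne_zero ht)
      have e1 : nU h s (-t⁻¹) = xU h s (-t⁻¹) * xU h r t * xU h s (-t⁻¹) := by
        rw [nU, hsr, inv_neg, inv_inv, neg_neg]
      have e2 : xU h r t = (xU h s (-t⁻¹))⁻¹ * nU h s (-t⁻¹) * (xU h s (-t⁻¹))⁻¹ := by
        rw [e1]; group
      rw [e2]
      exact mul_mem (mul_mem (inv_mem (hpos s hs _))
        (Subgroup.mem_sup_right (nU_mem_monomial h hs.1 hu))) (inv_mem (hpos s hs _))

end Cfsg.Agent.ChevalleyStructure.XUnit
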