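import Cfsg.Agent.ChevalleyStructure.SimpleComplement

/-!
From additivity (`S1023`) and the commutator formula (`S1025`), taken as hypotheses: `X_{±p}` normalises
`U_p = ⟨X_s : s > 0, s ≠ p⟩` and `U = U_p X_p`.
-/

set_option autoImplicit false

namespace Cfsg.Agent.ChevalleyStructure.SimpleComplementNorm

open Cfsg.Lie
open Cfsg.Agent.ChevalleyStructure.SimpleComplement

variable {F : Type*} [Field F] {D : ChevalleyDatum}

/-- `x_r(0) = 1` for every datum. -/
theorem x_zero (D : ChevalleyDatum) (r : ℕ) : D.x F r (0 : F) = 1 := by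
  unfold ChevalleyDatum.x
  split_ifs with h
  · ext a b
    rcases b with j | s
    · rcases a with j' | u
      · simp [ChevalleyDatum.xMat, Matrix.one_apply]
      · simp [ChevalleyDatum.xMat, Matrix.one_apply]
    · have hsum : ∀ u : ℕ, ((D.chainCoeff r s.val u).map
          fun km => ((km.2 : ℤ) : F) * (0 : F) ^ km.1).sum = 0 := by
        intro u
        apply List.sum_eq_zero
        intro y hy
        rw [List.mem_map] at hy
        obtain ⟨km, hkm, rfl⟩ := hy
        have : km.1 ≠ 0 := by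
          unfold ChevalleyDatum.chainCoeff at hkm
          rw [List.mem_flatMap] at hkm
          obtain ⟨e, -, he⟩ := hkm
          rw [List.mem_map] at he
          obtain ⟨q, -, rfl⟩ := he
          exact Nat.succ_ne_zero _
        rw [zero_pow this, mul_zero]
      rcases a with j' | u
      · simp only [ChevalleyDatum.xMat, Matrix.of_apply, Matrix.one_apply]
        split_ifs <;> simp_all
      · simp only [ChevalleyDatum.xMat, Matrix.of_apply, Matrix.one_apply, hsum, Sum.inr.injEq]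
        split_ifs <;> simp_all
  · rfl

/-- Additivity of the root elements as a hypothesis. -/
def Additive (F : Type*) [Field F] (D : ChevalleyDatum) : Prop :=
  ∀ r < D.nroots, ∀ t₁ t₂ : F, D.x F r t₁ * D.x F r t₂ = D.x F r (t₁ + t₂)

/-- Commutator formula as a hypothesis. -/
def CommFormula (F : Type*) [Field F] (D : ChevalleyDatum) : Prop :=
  ∀ r s : ℕ, r < D.nroots → s < D.nroots → s ≠ r → s ≠ D.neg r → ∀ t u : F,
    D.x F s u * D.x F r t = D.x F r t * D.x F s u * D.wordMat F (D.commWord F r s t u)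

theorem x_add (hadd : Additive F D) (r : ℕ) (t₁ t₂ : F) :
    D.x F r t₁ * D.x F r t₂ = D.x F r (t₁ + t₂) := by
  by_cases h : r < D.nroots
  · exact hadd r h t₁ t₂
  · simp [ChevalleyDatum.x, h]

theorem x_mul_x_neg (hadd : Additive F D) (r : ℕ) (t : F) : D.x F r t * D.x F r (-t) = 1 := by
  rw [x_add hadd, add_neg_cancel, x_zero]

theorem x_neg_mul_x (hadd : Additive F D) (r : ℕ) (t : F) : D.x F r (-t) * D.x F r t = 1 := by
  rw [x_add hadd, neg_add_cancel, x_zero]

/-- The root element as an element of the general linear group. -/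
def xU (hadd : Additive F D) (r : ℕ) (t : F) : GL D.Idx F :=
  ⟨D.x F r t, D.x F r (-t), x_mul_x_neg hadd r t, x_neg_mul_x hadd r t⟩

theorem coe_xU (hadd : Additive F D) (r : ℕ) (t : F) :
    ((xU hadd r t : GL D.Idx F) : Matrix D.Idx D.Idx F) = D.x F r t := rfl

theorem eq_xU (hadd : Additive F D) {g : GL D.Idx F} {r : ℕ} {t : F}
    (h : (g : Matrix D.Idx D.Idx F) = D.x F r t) : g = xU hadd r t := Units.ext h

theorem xU_mul (hadd : Additive F D) (r : ℕ) (t₁ t₂ : F) :
    xU hadd r t₁ * xU hadd r t₂ = xU hadd r (t₁ + t₂) := Units.ext (x_add hadd r t₁ t₂)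

theorem xU_zero (hadd : Additive F D) (r : ℕ) : xU hadd r 0 = 1 := Units.ext (x_zero D r)

theorem xU_inv (hadd : Additive F D) (r : ℕ) (t : F) : (xU hadd r t)⁻¹ = xU hadd r (-t) := by
  rw [inv_eq_iff_mul_eq_one, xU_mul, add_neg_cancel, xU_zero]

/-- The element of the general linear group given by a word. -/
def wU (hadd : Additive F D) (w : List (ℕ × F)) : GL D.Idx F := (w.map fun p => xU hadd p.1 p.2).prod

theorem coe_wU (hadd : Additive F D) (w : List (ℕ × F)) :
    ((wU hadd w : GL D.Idx F) : Matrix D.Idx D.Idx F) = D.wordMat F w := by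
  unfold wU ChevalleyDatum.wordMat
  induction w with
  | nil => rfl
  | cons a w ih => simp [coe_xU, ← ih]

theorem wU_mem (hadd : Additive F D) (w : List (ℕ × F)) (K : Subgroup (GL D.Idx F))
    (h : ∀ p ∈ w, xU hadd p.1 p.2 ∈ K) : wU hadd w ∈ K := by
  apply Subgroup.list_prod_mem
  intro y hy
  rw [List.mem_map] at hy
  obtain ⟨p, hp, rfl⟩ := hy
  exact h p hp

theorem mem_rootSubgroup (hadd : Additive F D) {r : ℕ} {g : GL D.Idx F} :
    g ∈ D.rootSubgroup F r ↔ ∃ t : F, g = xU hadd r t := by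
  constructor
  · intro hg
    unfold ChevalleyDatum.rootSubgroup at hg
    induction hg using Subgroup.closure_induction with
    | mem y hy => obtain ⟨t, ht⟩ := hy; exact ⟨t, eq_xU hadd ht⟩
    | one => exact ⟨0, (xU_zero hadd r).symm⟩
    | mul a b _ _ ha hb =>
      obtain ⟨t, rfl⟩ := ha
      obtain ⟨u, rfl⟩ := hb
      exact ⟨t + u, xU_mul hadd r t u⟩
    | inv a _ ha => obtain ⟨t, rfl⟩ := ha; exact ⟨-t, xU_inv hadd r t⟩
  · rintro ⟨t, rfl⟩
    exact Subgroup.subset_closure ⟨t, rfl⟩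

/-- The generating set of `U_p`. -/
def complSet (F : Type*) [Field F] (D : ChevalleyDatum) (i : ℕ) : Set (GL D.Idx F) :=
  {g : GL D.Idx F | ∃ (s : ℕ) (t : F), D.IsPosRoot s ∧ s ≠ D.simple i ∧
          (g : Matrix D.Idx D.Idx F) = D.x F s t}

theorem xU_mem_compl (hadd : Additive F D) {i s : ℕ} (hs : D.IsPosRoot s) (hne : s ≠ D.simple i) (t : F) :
    xU hadd s t ∈ Subgroup.closure (complSet F D i) :=
  Subgroup.subset_closure ⟨s, t, hs, hne, rfl⟩

theorem wU_commWord_mem (hadd : Additive F D) {i r s : ℕ} (t u : F)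
    (h : ∀ c ∈ D.commTerms r s, D.IsPosRoot c.1 ∧ c.1 ≠ D.simple i) :
    wU hadd (D.commWord F r s t u) ∈ Subgroup.closure (complSet F D i) := by
  apply wU_mem
  intro p hp
  unfold ChevalleyDatum.commWord at hp
  rw [List.mem_map] at hp
  obtain ⟨c, hc, rfl⟩ := hp
  exact xU_mem_compl hadd (h c hc).1 (h c hc).2 _

theorem xU_conj (hadd : Additive F D) (hcomm : CommFormula F D) {r s : ℕ} (hr : r < D.nroots)
    (hs : s < D.nroots) (h1 : s ≠ r) (h2 : s ≠ D.neg r) (t u : F) :
    xU hadd r t * xU hadd s u * (xU hadd r t)⁻¹ = xU hadd s u * wU hadd (D.commWord F r s (-t) u) := by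
  have h : xU hadd s u * xU hadd r (-t) = xU hadd r (-t) * xU hadd s u * wU hadd (D.commWord F r s (-t) u) := by
    apply Units.ext
    have := hcomm r s hr hs h1 h2 (-t) u
    rw [Units.val_mul, Units.val_mul, Units.val_mul, coe_wU]
    exact this
  rw [mul_assoc, xU_inv, h, ← xU_inv]
  group

theorem rootSubgroup_le_normalizer (hadd : Additive F D) (hcomm : CommFormula F D) {i r : ℕ}
    (hr : r < D.nroots)
    (h1 : ∀ s, D.IsPosRoot s → s ≠ D.simple i → s ≠ r)
    (h2 : ∀ s, D.IsPosRoot s → s ≠ D.simple i → s ≠ D.neg r)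
    (h : ∀ s, D.IsPosRoot s → s ≠ D.simple i → ∀ c ∈ D.commTerms r s, D.IsPosRoot c.1 ∧ c.1 ≠ D.simple i) :
    D.rootSubgroup F r ≤ Subgroup.normalizer (Subgroup.closure (complSet F D i) : Set (GL D.Idx F)) := by
  rw [Subgroup.le_normalizer_closure_iff]
  intro g hg k hk
  obtain ⟨t, rfl⟩ := (mem_rootSubgroup hadd).1 hg
  obtain ⟨s, u, hs, hne, hk⟩ := hk
  obtain rfl := eq_xU hadd hk
  rw [xU_conj hadd hcomm hr hs.1 (h1 s hs hne) (h2 s hs hne)]
  exact mul_mem (xU_mem_compl hadd hs hne u) (wU_commWord_mem hadd _ _ (h s hs hne))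

theorem main (hadd : Additive F D) (hcomm : CommFormula F D) {i : ℕ} (hf : SimpleFacts D i) :
    D.rootSubgroup F (D.simple i) ⊔ D.rootSubgroup F (D.neg (D.simple i)) ≤
        Subgroup.normalizer (Subgroup.closure (complSet F D i) : Set (GL D.Idx F)) ∧
      Subgroup.closure (complSet F D i) ⊔ D.rootSubgroup F (D.simple i) = D.posUnipotent F := by
  refine ⟨sup_le ?_ ?_, le_antisymm (sup_le ?_ ?_) ?_⟩
  · exact rootSubgroup_le_normalizer hadd hcomm hf.pos.1 (fun s _ hne => hne) hf.ne_neg hf.comm_pos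
  · refine rootSubgroup_le_normalizer hadd hcomm hf.neg_lt hf.ne_neg (fun s _ hne => ?_) hf.comm_neg
    rw [hf.neg_neg]; exact hne
  · apply Subgroup.closure_mono
    rintro g ⟨s, t, hs, -, hg⟩
    exact ⟨s, t, hs, hg⟩
  · apply Subgroup.closure_mono
    rintro g ⟨t, hg⟩
    exact ⟨D.simple i, t, hf.pos, hg⟩
  · unfold ChevalleyDatum.posUnipotent
    rw [Subgroup.closure_le]
    rintro g ⟨s, t, hs, hg⟩
    by_cases hne : s = D.simple i
    · subst hne
      exact (le_sup_right : _ ≤ Subgroup.closure (complSet F D i) ⊔ _) (Subgroup.subset_closure ⟨t, hg⟩)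
    · exact (le_sup_left : _ ≤ Subgroup.closure (complSet F D i) ⊔ _) (Subgroup.subset_closure ⟨s, t, hs, hne, hg⟩)

end Cfsg.Agent.ChevalleyStructure.SimpleComplementNorm
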