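import Cfsg.Agent.ChevalleyStructure.CommCheck
import Cfsg.Prelude.Def_ChevB2

/-!
Chevalley's commutator formula for type B₂ (all pairs of roots), by kernel checks.
-/

set_option autoImplicit false

namespace Cfsg.Agent.ChevalleyStructure.CommB2

open Cfsg.Lie
open Cfsg.Agent.ChevalleyStructure.LaurentWord
open Cfsg.Agent.ChevalleyStructure.CommTransport
open Cfsg.Agent.ChevalleyStructure.CommCheck

set_option maxRecDepth 100000 in
theorem check_B2_0 : rowPairCheck chevB2 (col chevB2) 0 = true := by decide +kernel
set_option maxRecDepth 100000 in
theorem check_B2_1 : rowPairCheck chevB2 (col chevB2) 1 = true := by decide +kernel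
set_option maxRecDepth 100000 in
theorem check_B2_2 : rowPairCheck chevB2 (col chevB2) 2 = true := by decide +kernel
set_option maxRecDepth 100000 in
theorem check_B2_3 : rowPairCheck chevB2 (col chevB2) 3 = true := by decide +kernel
set_option maxRecDepth 100000 in
theorem check_B2_4 : rowPairCheck chevB2 (col chevB2) 4 = true := by decide +kernel
set_option maxRecDepth 100000 in
theorem check_B2_5 : rowPairCheck chevB2 (col chevB2) 5 = true := by decide +kernel
set_option maxRecDepth 100000 in
theorem check_B2_6 : rowPairCheck chevB2 (col chevB2) 6 = true := by decide +kernel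
set_option maxRecDepth 100000 in
theorem check_B2_7 : rowPairCheck chevB2 (col chevB2) 7 = true := by decide +kernel

/-- The commutator formula for type `B₂`, all pairs of roots, any field. -/
theorem commAt_B2 (F : Type*) [Field F] (r s : ℕ) (hr : r < chevB2.nroots) (hs : s < chevB2.nroots)
    (hrs : s ≠ r) (hneg : s ≠ chevB2.neg r) : CommAt F chevB2 r s := by
  have hr' : r < 8 := hr
  have h : rowPairCheck chevB2 (col chevB2) r = true := by
    interval_cases r
    · exact check_B2_0
    · exact check_B2_1
    · exact check_B2_2
    · exact check_B2_3
    · exact check_B2_4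
    · exact check_B2_5
    · exact check_B2_6
    · exact check_B2_7
  exact commAt_of_rowPairCheck (colsOK_col _) h hs hrs hneg

end Cfsg.Agent.ChevalleyStructure.CommB2
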