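import Cfsg.Agent.ChevalleyStructure.CommCheck
import Cfsg.Prelude.Def_ChevG2

/-!
Chevalley's commutator formula for type G₂ (all pairs of roots), by kernel checks.
-/

set_option autoImplicit false

namespace Cfsg.Agent.ChevalleyStructure.CommG2

open Cfsg.Lie
open Cfsg.Agent.ChevalleyStructure.LaurentWord
open Cfsg.Agent.ChevalleyStructure.CommTransport
open Cfsg.Agent.ChevalleyStructure.CommCheck

set_option maxRecDepth 100000 in
theorem check_G2_0 : rowPairCheck chevG2 (col chevG2) 0 = true := by decide +kernel
set_option maxRecDepth 100000 in
theorem check_G2_1 : rowPairCheck chevG2 (col chevG2) 1 = true := by decide +kernel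
set_option maxRecDepth 100000 in
theorem check_G2_2 : rowPairCheck chevG2 (col chevG2) 2 = true := by decide +kernel
set_option maxRecDepth 100000 in
theorem check_G2_3 : rowPairCheck chevG2 (col chevG2) 3 = true := by decide +kernel
set_option maxRecDepth 100000 in
theorem check_G2_4 : rowPairCheck chevG2 (col chevG2) 4 = true := by decide +kernel
set_option maxRecDepth 100000 in
theorem check_G2_5 : rowPairCheck chevG2 (col chevG2) 5 = true := by decide +kernel
set_option maxRecDepth 100000 in
theorem check_G2_6 : rowPairCheck chevG2 (col chevG2) 6 = true := by decide +kernel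
set_option maxRecDepth 100000 in
theorem check_G2_7 : rowPairCheck chevG2 (col chevG2) 7 = true := by decide +kernel
set_option maxRecDepth 100000 in
theorem check_G2_8 : rowPairCheck chevG2 (col chevG2) 8 = true := by decide +kernel
set_option maxRecDepth 100000 in
theorem check_G2_9 : rowPairCheck chevG2 (col chevG2) 9 = true := by decide +kernel
set_option maxRecDepth 100000 in
theorem check_G2_10 : rowPairCheck chevG2 (col chevG2) 10 = true := by decide +kernel
set_option maxRecDepth 100000 in
theorem check_G2_11 : rowPairCheck chevG2 (col chevG2) 11 = true := by decide +kernel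

/-- The commutator formula for type `G₂`, all pairs of roots, any field. -/
theorem commAt_G2 (F : Type*) [Field F] (r s : ℕ) (hr : r < chevG2.nroots) (hs : s < chevG2.nroots)
    (hrs : s ≠ r) (hneg : s ≠ chevG2.neg r) : CommAt F chevG2 r s := by
  have hr' : r < 12 := hr
  have h : rowPairCheck chevG2 (col chevG2) r = true := by
    interval_cases r
    · exact check_G2_0
    · exact check_G2_1
    · exact check_G2_2
    · exact check_G2_3
    · exact check_G2_4
    · exact check_G2_5
    · exact check_G2_6
    · exact check_G2_7
    · exact check_G2_8
    · exact check_G2_9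
    · exact check_G2_10
    · exact check_G2_11
  exact commAt_of_rowPairCheck (colsOK_col _) h hs hrs hneg

end Cfsg.Agent.ChevalleyStructure.CommG2
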