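import Cfsg.Agent.ChevalleyStructure.CommCheck
import Cfsg.Prelude.Def_ChevE6

/-!
Chevalley's commutator formula for type E₆: the representative pairs `(r, s)`
(`r` the highest root; `s` dominant for the simple reflections fixing `r`), by kernel checks.
-/

set_option autoImplicit false

namespace Cfsg.Agent.ChevalleyStructure.CommE6

open Cfsg.Lie
open Cfsg.Agent.ChevalleyStructure.LaurentWord
open Cfsg.Agent.ChevalleyStructure.CommTransport
open Cfsg.Agent.ChevalleyStructure.CommCheck

/-- The representatives of the pairs of roots `s ≠ ± r` under the Weyl group of type `E₆`. -/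
def reps : List (ℕ × ℕ) :=
  [(71, 25), (71, 60), (71, 70)]

set_option maxRecDepth 100000 in
theorem check_71_25 : pairCheck chevE6 (col chevE6) 71 25 = true := by decide +kernel
set_option maxRecDepth 100000 in
theorem check_71_60 : pairCheck chevE6 (col chevE6) 71 60 = true := by decide +kernel
set_option maxRecDepth 100000 in
theorem check_71_70 : pairCheck chevE6 (col chevE6) 71 70 = true := by decide +kernel

/-- The commutator formula at the representative pairs of `E₆`. -/
theorem commAt_reps (F : Type*) [Field F] (p : ℕ × ℕ) (hp : p ∈ reps) : CommAt F chevE6 p.1 p.2 := by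
  unfold reps at hp
  simp only [List.mem_cons, List.not_mem_nil, or_false] at hp
  rcases hp with rfl | rfl | rfl
  · exact commAt_of_pairCheck (colsOK_col _) check_71_25
  · exact commAt_of_pairCheck (colsOK_col _) check_71_60
  · exact commAt_of_pairCheck (colsOK_col _) check_71_70

end Cfsg.Agent.ChevalleyStructure.CommE6
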