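import Cfsg.Agent.ChevalleyStructure.CommOrbit
import Cfsg.Agent.ChevalleyStructure.CommE7
import Cfsg.Agent.ChevalleyStructure.W0E7
import Cfsg.Agent.ChevalleyStructure.CorootGcd

/-!
The commutator formula of type `E7` from the compatibility of the chain table with the fundamental reflections.
-/

set_option autoImplicit false

namespace Cfsg.Agent.ChevalleyStructure.CommOrbE7

open Cfsg.Lie
open Cfsg.Agent.ChevalleyStructure.CommTransport
open Cfsg.Agent.ChevalleyStructure.CommOrbit
open Cfsg.Agent.ChevalleyStructure.PairOrbit

/-- representatives of pairs -/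
def S (r : ℕ) : List ℕ := if r = 125 then [32, 92, 124] else []

set_option maxRecDepth 100000 in
theorem hS : ([125] : List ℕ).all (fun r0 => Nat.blt r0 chevE7.nroots &&
    repsS W0E7.tabE7 chevE7.rank chevE7.nroots r0 (S r0)) = true := by decide +kernel

set_option maxRecDepth 100000 in
theorem invol : involOK W0E7.tabE7 chevE7.rank chevE7.nroots = true := by decide +kernel

set_option maxRecDepth 100000 in
theorem hR : repsR W0E7.tabE7 chevE7.rank chevE7.nroots [125] = true := by decide +kernel

set_option maxRecDepth 100000 in
theorem short : shortOK chevE7 = true := by decide +kernel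

set_option maxRecDepth 100000 in
theorem range : rangeChainOK chevE7 = true := by decide +kernel

/-- The orbit data of type `E7`. -/
def data : OrbitData chevE7 where
  T := W0E7.tabE7
  R := [125]
  S := S
  tab_ok := W0E7.tabE7_ok
  invol := invol
  hR := hR
  hS := hS
  short := short
  neg_ok := fun r hr => (neg_eq_getD chevE7 r).trans (CorootGcd.neg_eq (D := chevE7) (List.mem_cons_of_mem _ (List.mem_cons_of_mem _ (List.mem_cons_of_mem _ (List.mem_cons_of_mem _ (List.mem_cons_of_mem _ List.mem_cons_self))))) hr)

theorem base_mem : ∀ r0 ∈ ([125] : List ℕ), ∀ s ∈ S r0, (r0, s) ∈ CommE7.reps := by decide +kernel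

theorem base (F : Type*) [Field F] : ∀ r0 ∈ data.R, ∀ s ∈ data.S r0, CommAt F chevE7 r0 s :=
  fun r0 hr0 s hs => CommE7.commAt_reps F (r0, s) (base_mem r0 hr0 s hs)

/-- The commutator formula in type `E7` from the compatibility of the tables with the fundamental reflections. -/
theorem commAt {F : Type*} [Field F] (hc : ∀ i < chevE7.rank, Compat F chevE7 i) (r s : ℕ)
    (hr : r < chevE7.nroots) (hs : s < chevE7.nroots) (hrs : s ≠ r) (hneg : s ≠ chevE7.neg r) :
    CommAt F chevE7 r s :=
  commAt_all data range hc (base F) r s hr hs hrs hneg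

end Cfsg.Agent.ChevalleyStructure.CommOrbE7
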