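import Cfsg.Agent.ChevalleyStructure.CommCheck
import Cfsg.Prelude.Def_ChevE8

/-!
Chevalley's commutator formula for type E₈: the representative pairs `(r, s)`
(`r` the highest root; `s` dominant for the simple reflections fixing `r`), by kernel checks.
-/

set_option autoImplicit false

namespace Cfsg.Agent.ChevalleyStructure.CommE8

open Cfsg.Lie
open Cfsg.Agent.ChevalleyStructure.LaurentWord
open Cfsg.Agent.ChevalleyStructure.CommTransport
open Cfsg.Agent.ChevalleyStructure.CommCheck

/-- The representatives of the pairs of roots `s ≠ ± r` under the Weyl group of type `E₈`. -/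
def reps : List (ℕ × ℕ) :=
  [(239, 119), (239, 226), (239, 238)]

set_option maxRecDepth 100000 in
theorem check_239_119 : pairCheck chevE8 (col chevE8) 239 119 = true := by decide +kernel
set_option maxRecDepth 100000 in
theorem check_239_226 : pairCheck chevE8 (col chevE8) 239 226 = true := by decide +kernel
set_option maxRecDepth 100000 in
theorem check_239_238 : pairCheck chevE8 (col chevE8) 239 238 = true := by decide +kernel

/-- The commutator formula at the representative pairs of `E₈`. -/
theorem commAt_reps (F : Type*) [Field F] (p : ℕ × ℕ) (hp : p ∈ reps) : CommAt F chevE8 p.1 p.2 := by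
  unfold reps at hp
  simp only [List.mem_cons, List.not_mem_nil, or_false] at hp
  rcases hp with rfl | rfl | rfl
  · exact commAt_of_pairCheck (colsOK_col _) check_239_119
  · exact commAt_of_pairCheck (colsOK_col _) check_239_226
  · exact commAt_of_pairCheck (colsOK_col _) check_239_238

end Cfsg.Agent.ChevalleyStructure.CommE8
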