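import Cfsg.Agent.ChevalleyStructure.CommOrbit
import Cfsg.Agent.ChevalleyStructure.CommE8
import Cfsg.Agent.ChevalleyStructure.W0E8
import Cfsg.Agent.ChevalleyStructure.CorootGcd

/-!
The commutator formula of type `E8` from the compatibility of the chain table with the fundamental reflections.
-/

set_option autoImplicit false

namespace Cfsg.Agent.ChevalleyStructure.CommOrbE8

open Cfsg.Lie
open Cfsg.Agent.ChevalleyStructure.CommTransport
open Cfsg.Agent.ChevalleyStructure.CommOrbit
open Cfsg.Agent.ChevalleyStructure.PairOrbit

/-- representatives of pairs -/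
def S (r : ℕ) : List ℕ := if r = 239 then [119, 226, 238] else []

set_option maxRecDepth 100000 in
theorem hS : ([239] : List ℕ).all (fun r0 => Nat.blt r0 chevE8.nroots &&
    repsS W0E8.tabE8 chevE8.rank chevE8.nroots r0 (S r0)) = true := by decide +kernel

set_option maxRecDepth 100000 in
theorem invol : involOK W0E8.tabE8 chevE8.rank chevE8.nroots = true := by decide +kernel

set_option maxRecDepth 100000 in
theorem hR : repsR W0E8.tabE8 chevE8.rank chevE8.nroots [239] = true := by decide +kernel

set_option maxRecDepth 100000 in
theorem short : shortOK chevE8 = true := by decide +kernel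

set_option maxRecDepth 100000 in
theorem range : rangeChainOK chevE8 = true := by decide +kernel

/-- The orbit data of type `E8`. -/
def data : OrbitData chevE8 where
  T := W0E8.tabE8
  R := [239]
  S := S
  tab_ok := W0E8.tabE8_ok
  invol := invol
  hR := hR
  hS := hS
  short := short
  neg_ok := fun r hr => (neg_eq_getD chevE8 r).trans (CorootGcd.neg_eq (D := chevE8) (List.mem_cons_of_mem _ (List.mem_cons_of_mem _ (List.mem_cons_of_mem _ (List.mem_cons_of_mem _ (List.mem_cons_of_mem _ (List.mem_cons_of_mem _ List.mem_cons_self)))))) hr)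

theorem base_mem : ∀ r0 ∈ ([239] : List ℕ), ∀ s ∈ S r0, (r0, s) ∈ CommE8.reps := by decide +kernel

theorem base (F : Type*) [Field F] : ∀ r0 ∈ data.R, ∀ s ∈ data.S r0, CommAt F chevE8 r0 s :=
  fun r0 hr0 s hs => CommE8.commAt_reps F (r0, s) (base_mem r0 hr0 s hs)

/-- The commutator formula in type `E8` from the compatibility of the tables with the fundamental reflections. -/
theorem commAt {F : Type*} [Field F] (hc : ∀ i < chevE8.rank, Compat F chevE8 i) (r s : ℕ)
    (hr : r < chevE8.nroots) (hs : s < chevE8.nroots) (hrs : s ≠ r) (hneg : s ≠ chevE8.neg r) :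
    CommAt F chevE8 r s :=
  commAt_all data range hc (base F) r s hr hs hrs hneg

end Cfsg.Agent.ChevalleyStructure.CommOrbE8
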