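import Cfsg.Agent.ChevalleyStructure.CommCheck
import Cfsg.Prelude.Def_ChevF4

/-!
Chevalley's commutator formula for type F₄: the twelve representative pairs `(r, s)`
(`r` dominant: index 44 (short) or 47 (long); `s` dominant for the simple reflections fixing `r`), by kernel checks.
-/

set_option autoImplicit false

namespace Cfsg.Agent.ChevalleyStructure.CommF4

open Cfsg.Lie
open Cfsg.Agent.ChevalleyStructure.LaurentWord
open Cfsg.Agent.ChevalleyStructure.CommTransport
open Cfsg.Agent.ChevalleyStructure.CommCheck

/-- The representatives of the pairs of roots `s ≠ ± r` under the Weyl group of type `F₄`. -/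
def reps : List (ℕ × ℕ) :=
  [(44, 6), (44, 14), (44, 29), (44, 32), (44, 40), (44, 47), (47, 18), (47, 23), (47, 37), (47, 41), (47, 44),
    (47, 46)]

set_option maxRecDepth 100000 in
theorem check_44_6 : pairCheck chevF4 (col chevF4) 44 6 = true := by decide +kernel
set_option maxRecDepth 100000 in
theorem check_44_14 : pairCheck chevF4 (col chevF4) 44 14 = true := by decide +kernel
set_option maxRecDepth 100000 in
theorem check_44_29 : pairCheck chevF4 (col chevF4) 44 29 = true := by decide +kernel
set_option maxRecDepth 100000 in
theorem check_44_32 : pairCheck chevF4 (col chevF4) 44 32 = true := by decide +kernel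
set_option maxRecDepth 100000 in
theorem check_44_40 : pairCheck chevF4 (col chevF4) 44 40 = true := by decide +kernel
set_option maxRecDepth 100000 in
theorem check_44_47 : pairCheck chevF4 (col chevF4) 44 47 = true := by decide +kernel
set_option maxRecDepth 100000 in
theorem check_47_18 : pairCheck chevF4 (col chevF4) 47 18 = true := by decide +kernel
set_option maxRecDepth 100000 in
theorem check_47_23 : pairCheck chevF4 (col chevF4) 47 23 = true := by decide +kernel
set_option maxRecDepth 100000 in
theorem check_47_37 : pairCheck chevF4 (col chevF4) 47 37 = true := by decide +kernel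
set_option maxRecDepth 100000 in
theorem check_47_41 : pairCheck chevF4 (col chevF4) 47 41 = true := by decide +kernel
set_option maxRecDepth 100000 in
theorem check_47_44 : pairCheck chevF4 (col chevF4) 47 44 = true := by decide +kernel
set_option maxRecDepth 100000 in
theorem check_47_46 : pairCheck chevF4 (col chevF4) 47 46 = true := by decide +kernel

/-- The commutator formula at the representative pairs of `F₄`. -/
theorem commAt_reps (F : Type*) [Field F] (p : ℕ × ℕ) (hp : p ∈ reps) : CommAt F chevF4 p.1 p.2 := by
  unfold reps at hp
  simp only [List.mem_cons, List.not_mem_nil, or_false] at hp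
  rcases hp with rfl | rfl | rfl | rfl | rfl | rfl | rfl | rfl | rfl | rfl | rfl | rfl
  · exact commAt_of_pairCheck (colsOK_col _) check_44_6
  · exact commAt_of_pairCheck (colsOK_col _) check_44_14
  · exact commAt_of_pairCheck (colsOK_col _) check_44_29
  · exact commAt_of_pairCheck (colsOK_col _) check_44_32
  · exact commAt_of_pairCheck (colsOK_col _) check_44_40
  · exact commAt_of_pairCheck (colsOK_col _) check_44_47
  · exact commAt_of_pairCheck (colsOK_col _) check_47_18
  · exact commAt_of_pairCheck (colsOK_col _) check_47_23
  · exact commAt_of_pairCheck (colsOK_col _) check_47_37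
  · exact commAt_of_pairCheck (colsOK_col _) check_47_41
  · exact commAt_of_pairCheck (colsOK_col _) check_47_44
  · exact commAt_of_pairCheck (colsOK_col _) check_47_46

end Cfsg.Agent.ChevalleyStructure.CommF4
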