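import Cfsg.Agent.ChevalleyStructure.CommOrbD4
import Cfsg.Agent.ChevalleyStructure.CommOrbF4
import Cfsg.Agent.ChevalleyStructure.CommOrbE6
import Cfsg.Agent.ChevalleyStructure.CommOrbE7
import Cfsg.Agent.ChevalleyStructure.CommOrbE8
import Cfsg.Agent.ChevalleyStructure.CommG2
import Cfsg.Agent.ChevalleyStructure.CommB2

/-!
Chevalley's commutator formula for the seven data from `CommOrbit.Compat` (compatibility of the chain table and
the root elements with the fundamental reflections).
-/

set_option autoImplicit false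

namespace Cfsg.Agent.ChevalleyStructure.CommFormula

open Cfsg.Lie
open Cfsg.Agent.ChevalleyStructure.CommTransport
open Cfsg.Agent.ChevalleyStructure.CommOrbit

/-- The commutator formula for all seven data. -/
theorem commAt_of_compat {F : Type*} [Field F] (D : ChevalleyDatum)
    (hD : D ∈ [Cfsg.Lie.chevG2, Cfsg.Lie.chevB2, Cfsg.Lie.chevD4, Cfsg.Lie.chevF4, Cfsg.Lie.chevE6, Cfsg.Lie.chevE7, Cfsg.Lie.chevE8])
    (hc : ∀ i < D.rank, Compat F D i) (r s : ℕ) (hr : r < D.nroots) (hs : s < D.nroots)
    (hrs : s ≠ r) (hneg : s ≠ D.neg r) : CommAt F D r s := by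
  simp only [List.mem_cons, List.not_mem_nil, or_false] at hD
  rcases hD with rfl | rfl | rfl | rfl | rfl | rfl | rfl
  · exact CommG2.commAt_G2 F r s hr hs hrs hneg
  · exact CommB2.commAt_B2 F r s hr hs hrs hneg
  · exact CommOrbD4.commAt hc r s hr hs hrs hneg
  · exact CommOrbF4.commAt hc r s hr hs hrs hneg
  · exact CommOrbE6.commAt hc r s hr hs hrs hneg
  · exact CommOrbE7.commAt hc r s hr hs hrs hneg
  · exact CommOrbE8.commAt hc r s hr hs hrs hneg

end Cfsg.Agent.ChevalleyStructure.CommFormula
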