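import Cfsg.Agent.ChevalleyStructure.NConjSharp
import Cfsg.Agent.ChevalleyStructure.CommFormula

/-!
`CommOrbit.Compat` (and hence the commutator formula) from the compatibility of the chain table with the
fundamental reflections (signs `NSimple.eta`).
-/

set_option autoImplicit false

namespace Cfsg.Agent.ChevalleyStructure.CompatOfT1

open Cfsg.Lie
open Cfsg.Agent.ChevalleyStructure.NSimple
open Cfsg.Agent.ChevalleyStructure.CommTransport
open Cfsg.Agent.ChevalleyStructure.CommOrbit

/-- Compatibility of the chain table with the fundamental reflections. -/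
def T1 (D : ChevalleyDatum) : Prop :=
  ∀ i < D.rank, ∀ r < D.nroots, ∀ s < D.nroots, s ≠ r → s ≠ D.neg r →
    D.chainEntry (D.reflectRoot i r) (D.reflectRoot i s) =
      (D.chainEntry r s).mapIdx fun k c =>
        (D.reflectRoot i c.1, eta D i r ^ (k + 1) * eta D i s * eta D i c.1 * c.2)

theorem chainCompat_congr {D : ChevalleyDatum} {w : ℕ → ℕ} {e e' : ℕ → ℤ} {r s n : ℕ}
    (hee : ∀ k < n, e' k = e k) (hr : r < n) (hs : s < n) (hc : ∀ c ∈ D.chainEntry r s, c.1 < n)
    (h : ChainCompat D w e r s) : ChainCompat D w e' r s := by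
  unfold ChainCompat at *
  rw [h]
  apply List.ext_getElem
  · simp
  · intro k h1 h2
    simp only [List.length_mapIdx] at h1 h2
    have a1 := hee _ (hc _ (List.getElem_mem h1))
    have a2 := hee r hr
    have a3 := hee s hs
    simp only [List.getElem_mapIdx, a1, a2, a3]

theorem nMat_right_inv {F : Type*} [Field F] {D : ChevalleyDatum} {p : ℕ}
    (hadd : ∀ r : ℕ, r < D.nroots → ∀ t u : F, D.x F r t * D.x F r u = D.x F r (t + u))
    (hzero : ∀ r : ℕ, r < D.nroots → D.x F r 0 = 1) (hp : p < D.nroots) (hm : D.neg p < D.nroots) :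
    ∃ N' : Matrix D.Idx D.Idx F, D.nMat F p 1 * N' = 1 := by
  refine ⟨D.x F p (-1) * D.x F (D.neg p) 1 * D.x F p (-1), ?_⟩
  have e : D.nMat F p 1 = D.x F p 1 * (D.x F (D.neg p) (-1) * D.x F p 1) := by
    unfold ChevalleyDatum.nMat ChevalleyDatum.nWord ChevalleyDatum.wordMat
    simp
  have c1 : ∀ A : Matrix D.Idx D.Idx F, D.x F p 1 * (D.x F p (-1) * A) = A := by
    intro A
    rw [← mul_assoc, hadd p hp, add_neg_cancel, hzero p hp, one_mul]
  have c2 : ∀ A : Matrix D.Idx D.Idx F, D.x F (D.neg p) (-1) * (D.x F (D.neg p) 1 * A) = A := by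
    intro A
    rw [← mul_assoc, hadd _ hm, neg_add_cancel, hzero _ hm, one_mul]
  rw [e, mul_assoc, mul_assoc, mul_assoc, c1, c2, hadd p hp, add_neg_cancel, hzero p hp]

theorem compat {F : Type*} [Field F] {D : ChevalleyDatum}
    (hD : D ∈ [Cfsg.Lie.chevG2, Cfsg.Lie.chevB2, Cfsg.Lie.chevD4, Cfsg.Lie.chevF4, Cfsg.Lie.chevE6, Cfsg.Lie.chevE7, Cfsg.Lie.chevE8])
    (hT : T1 D) {i : ℕ} (hi : i < D.rank) : Compat F D i := by
  have hgood := Good.goodAt_of_mem D hD
  have h := NSimpleAll.facts hD hi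
  have G := RootComb.good_of_mem hD
  refine ⟨⟨fun k => if k < D.nroots then eta D i k else 1, fun k => ?_, fun r hr s hs hne hneg => ?_,
    fun s hs t => ?_⟩, ?_⟩
  · by_cases hk : k < D.nroots
    · simp only [if_pos hk]
      exact h.eta_one k hk
    · simp [if_neg hk]
  · exact chainCompat_congr (n := D.nroots) (e := eta D i) (fun k hk => if_pos hk) hr hs
      (fun c hc => (hgood r hr).lt s c hc) (hT i hi r hr s hs hne hneg)
  · simp only [if_pos hs]
    exact NConjSharp.conj h G hgood hi hs (fun q hq h1 h2 => hT i hi s hs q hq h1 h2) t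
  · exact nMat_right_inv (fun r hr t u => Additive.x_add r (hgood r hr) t u)
      (fun r hr => Good.x_zero r (hgood r hr)) h.simple_lt h.neg_simple_lt

/-- The commutator formula from `T1`. -/
theorem commAt {F : Type*} [Field F] {D : ChevalleyDatum}
    (hD : D ∈ [Cfsg.Lie.chevG2, Cfsg.Lie.chevB2, Cfsg.Lie.chevD4, Cfsg.Lie.chevF4, Cfsg.Lie.chevE6, Cfsg.Lie.chevE7, Cfsg.Lie.chevE8])
    (hT : T1 D) (r s : ℕ) (hr : r < D.nroots) (hs : s < D.nroots)
    (hrs : s ≠ r) (hneg : s ≠ D.neg r) : CommAt F D r s :=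
  CommFormula.commAt_of_compat D hD (fun _ hi => compat hD hT hi) r s hr hs hrs hneg

end Cfsg.Agent.ChevalleyStructure.CompatOfT1
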