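import Cfsg.Prelude.Def_ChevStructure
import Cfsg.Prelude.Def_LieTypes
import Cfsg.Prelude.Def_ChevB2
import Cfsg.Agent.ChevalleyStructure.Elts
import Cfsg.Agent.ChevalleyStructure.Reach
import Cfsg.Agent.ChevalleyStructure.UnipOrd
import Cfsg.Agent.S1031
import Cfsg.Agent.S1032
import Cfsg.Agent.S1034
import Cfsg.Agent.S1038
import Cfsg.Agent.S1040
import Cfsg.Agent.S1042
import Cfsg.Agent.S0312

/-!
# The permutation action of the monomial subgroup `N` on the roots

For `D` one of the seven tabulated data: every `n ∈ N` permutes the root subgroups `X_r` by conjugation, the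
resulting homomorphism `N → Perm (Fin nroots)` has kernel `H`, and maps `n_{p_i}` to the reflection `reflectRoot i`.
-/

set_option autoImplicit false

namespace Cfsg.Agent.ChevalleyStructure.NPerm

open Cfsg.Lie Cfsg.Agent.ChevalleyStructure.Elts

universe u

variable {F : Type u} [Field F] {D : ChevalleyDatum}

/-! ### Table facts -/

/-- linear check of the chain table: no chain `s + k r` ends in `-s` (`-s` has index `m - s`, `m = nroots - 1`). -/
def chainCheck (m : ℕ) (c : Array (Array (ℕ × Array (ℕ × ℤ)))) : Bool :=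
  c.toList.all fun row => row.toList.all fun e => e.2.toList.all fun p => !(Nat.beq (Nat.add p.1 e.1) m)

theorem chainCheck_G2 : chainCheck 11 chevG2.chain = true := by decide +kernel
theorem chainCheck_B2 : chainCheck 7 chevB2.chain = true := by decide +kernel
theorem chainCheck_D4 : chainCheck 23 chevD4.chain = true := by decide +kernel
theorem chainCheck_F4 : chainCheck 47 chevF4.chain = true := by decide +kernel
theorem chainCheck_E6 : chainCheck 71 chevE6.chain = true := by decide +kernel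
theorem chainCheck_E7 : chainCheck 125 chevE7.chain = true := by decide +kernel
theorem chainCheck_E8 : chainCheck 239 chevE8.chain = true := by decide +kernel

theorem chainCheck_eq (hD : InList D) : chainCheck (D.nroots - 1) D.chain = true := by
  simp only [InList, List.mem_cons, List.not_mem_nil, or_false] at hD
  rcases hD with h | h | h | h | h | h | h <;> rw [h]
  · exact chainCheck_G2
  · exact chainCheck_B2
  · exact chainCheck_D4
  · exact chainCheck_F4
  · exact chainCheck_E6
  · exact chainCheck_E7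
  · exact chainCheck_E8

theorem neg_lt (hD : InList D) {r : ℕ} (hr : r < D.nroots) : D.neg r < D.nroots := Reach.neg_lt hD hr

theorem neg_ne (hD : InList D) {r : ℕ} (hr : r < D.nroots) : D.neg r ≠ r := by
  have h1 := Unitriangular.neg_add (Unitriangular.orderCheck_of_mem hD) hr
  have h2 := UnipOrd.nroots_even hD
  omega

/-- the entry of `x_s(t)` in row `e_r`, column `e_{-r}` vanishes for `s ≠ r`. -/
theorem chainCoeff_neg (hD : InList D) {s r : ℕ} (hr : r < D.nroots) : D.chainCoeff s (D.neg r) r = [] := by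
  have h := chainCheck_eq hD
  rw [chainCheck, List.all_eq_true] at h
  show (((D.chain.getD s #[]).toList.filter (fun e => e.1 = D.neg r)).flatMap fun e =>
    ((e.2.toList.zipIdx).filter (fun q => q.1.1 = r)).map fun q => (q.2 + 1, q.1.2)) = []
  rw [List.flatMap_eq_nil_iff]
  intro e he
  rw [List.mem_filter] at he
  obtain ⟨he1, he2⟩ := he
  have he2 : e.1 = D.neg r := by simpa using he2
  have hrow : D.chain.getD s #[] ∈ D.chain.toList := by
    rw [Array.getD_eq_getD_getElem?]
    by_cases hs : s < D.chain.size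
    · rw [Array.getElem?_eq_getElem hs]
      simp
    · exfalso
      rw [Array.getD_eq_getD_getElem?, Array.getElem?_eq_none (by omega)] at he1
      simp at he1
  have h1 := h _ hrow
  rw [List.all_eq_true] at h1
  have h2 := h1 e he1
  rw [List.all_eq_true] at h2
  rw [List.map_eq_nil_iff, List.filter_eq_nil_iff]
  rintro ⟨p, k⟩ hp
  have hp' : p ∈ e.2.toList := by
    have := List.mem_zipIdx hp
    rw [this.2.2]
    exact List.getElem_mem _
  have h3 := h2 p hp'
  rw [he2] at h3
  have h4 := Unitriangular.neg_add (Unitriangular.orderCheck_of_mem hD) hr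
  have h5 : ¬ p.1 = r := by
    intro hpr
    have h6 : Nat.add p.1 (D.neg r) = D.nroots - 1 := by
      show p.1 + D.neg r = _
      omega
    rw [h6, Nat.beq_refl] at h3
    exact absurd h3 (by decide)
  simpa using h5

/-! ### The root subgroups are pairwise different -/

theorem x_entry_self (hD : InList D) {r : ℕ} (hr : r < D.nroots) (t : F) :
    D.x F r t (Sum.inr ⟨r, hr⟩) (Sum.inr ⟨D.neg r, neg_lt hD hr⟩) = -(t ^ 2) := by
  rw [x_of_lt hr]
  have h1 : (⟨D.neg r, neg_lt hD hr⟩ : Fin D.nroots) ≠ ⟨r, hr⟩ := fun h => neg_ne hD hr (congrArg Fin.val h)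
  show (if (⟨D.neg r, neg_lt hD hr⟩ : Fin D.nroots) = ⟨r, hr⟩ then _ else _) = _
  rw [if_neg h1]
  show (if D.neg r = D.negIdx.getD r 0 then _ else _) = _
  rw [if_pos (show D.neg r = D.negIdx.getD r 0 from rfl)]
  show (if (⟨r, hr⟩ : Fin D.nroots) = ⟨D.neg r, neg_lt hD hr⟩ then _ else _) = _
  rw [if_neg (fun h => h1 h.symm), if_pos rfl]

theorem x_entry_ne (hD : InList D) {r s : ℕ} (hr : r < D.nroots) (hs : s < D.nroots) (hrs : s ≠ r) (t : F) :
    D.x F s t (Sum.inr ⟨r, hr⟩) (Sum.inr ⟨D.neg r, neg_lt hD hr⟩) = 0 := by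
  rw [x_of_lt hs]
  have h1 : (⟨r, hr⟩ : Fin D.nroots) ≠ ⟨D.neg r, neg_lt hD hr⟩ := fun h => neg_ne hD hr (congrArg Fin.val h).symm
  show (if (⟨D.neg r, neg_lt hD hr⟩ : Fin D.nroots) = ⟨s, hs⟩ then
      (if (⟨r, hr⟩ : Fin D.nroots) = ⟨s, hs⟩ then (1 : F) else 0)
    else if D.neg r = D.negIdx.getD s 0 then
      (if (⟨r, hr⟩ : Fin D.nroots) = ⟨D.neg r, neg_lt hD hr⟩ then (1 : F)
        else if (⟨r, hr⟩ : Fin D.nroots) = ⟨s, hs⟩ then -(t ^ 2) else 0)
    else ((if (⟨r, hr⟩ : Fin D.nroots) = ⟨D.neg r, neg_lt hD hr⟩ then (1 : F) else 0) +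
      ((D.chainCoeff s (D.neg r) r).map fun km => ((km.2 : ℤ) : F) * t ^ km.1).sum)) = 0
  have h2 : (⟨r, hr⟩ : Fin D.nroots) ≠ ⟨s, hs⟩ := fun h => hrs (congrArg Fin.val h).symm
  by_cases c1 : (⟨D.neg r, neg_lt hD hr⟩ : Fin D.nroots) = ⟨s, hs⟩
  · rw [if_pos c1, if_neg h2]
  · rw [if_neg c1]
    by_cases c2 : D.neg r = D.negIdx.getD s 0
    · rw [if_pos c2, if_neg h1, if_neg h2]
    · rw [if_neg c2, if_neg h1, chainCoeff_neg hD hr]
      simp

theorem rootSubgroup_injective (hD : InList D) (F : Type u) [Field F] {r s : ℕ} (hr : r < D.nroots)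
    (hs : s < D.nroots) (h : D.rootSubgroup F r = D.rootSubgroup F s) : r = s := by
  by_contra hrs
  have h1 : xG hD r (1 : F) ∈ D.rootSubgroup F s := h ▸ xG_mem_rootSubgroup hD r 1
  obtain ⟨t, ht⟩ := (mem_rootSubgroup_iff hD s _).1 h1
  have h2 := congrArg (fun g : GL D.Idx F => (g : Matrix D.Idx D.Idx F) (Sum.inr ⟨r, hr⟩)
    (Sum.inr ⟨D.neg r, neg_lt hD hr⟩)) ht
  simp only [coe_xG] at h2
  rw [x_entry_self hD hr, x_entry_ne hD hr hs (fun h => hrs h.symm)] at h2
  simp at h2

/-! ### Conjugation of root subgroups -/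

/-- `n X_r n⁻¹ = X_s`. -/
def ConjRoot (D : ChevalleyDatum) (F : Type u) [Field F] (n : GL D.Idx F) (r s : ℕ) : Prop :=
  (D.rootSubgroup F r).map (MulAut.conj n).toMonoidHom = D.rootSubgroup F s

theorem conjRoot_one (r : ℕ) : ConjRoot D F 1 r r := by
  show Subgroup.map _ _ = _
  ext g
  rw [Subgroup.mem_map]
  constructor
  · rintro ⟨x, hx, rfl⟩
    simpa using hx
  · intro hg
    exact ⟨g, hg, by simp⟩

theorem ConjRoot.mul {m n : GL D.Idx F} {r s v : ℕ} (h1 : ConjRoot D F n r s) (h2 : ConjRoot D F m s v) :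
    ConjRoot D F (m * n) r v := by
  show Subgroup.map _ _ = _
  rw [← h2, ← h1, Subgroup.map_map]
  congr 1
  ext x
  simp [mul_assoc]

theorem ConjRoot.inv {n : GL D.Idx F} {r s : ℕ} (h1 : ConjRoot D F n r s) : ConjRoot D F n⁻¹ s r := by
  show Subgroup.map _ _ = _
  rw [← h1, Subgroup.map_map]
  ext g
  rw [Subgroup.mem_map]
  constructor
  · rintro ⟨x, hx, rfl⟩
    simpa [mul_assoc] using hx
  · intro hg
    exact ⟨g, hg, by simp [mul_assoc]⟩

theorem ConjRoot.unique (hD : InList D) {n : GL D.Idx F} {r s s' : ℕ} (h1 : ConjRoot D F n r s)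
    (h2 : ConjRoot D F n r s') (hs : s < D.nroots) (hs' : s' < D.nroots) : s = s' :=
  rootSubgroup_injective hD F hs hs' (h1.symm.trans h2)

theorem conjRoot_of (hD : InList D) {n : GL D.Idx F} {r s : ℕ}
    (h : ∀ t : F, ∃ u : F, n * xG hD r t * n⁻¹ = xG hD s u)
    (h' : ∀ u : F, ∃ t : F, n * xG hD r t * n⁻¹ = xG hD s u) : ConjRoot D F n r s := by
  show Subgroup.map _ _ = _
  ext g
  rw [Subgroup.mem_map, mem_rootSubgroup_iff hD]
  constructor
  · rintro ⟨x, hx, rfl⟩
    obtain ⟨t, rfl⟩ := (mem_rootSubgroup_iff hD r x).1 hx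
    obtain ⟨u, hu⟩ := h t
    exact ⟨u, hu⟩
  · rintro ⟨u, rfl⟩
    obtain ⟨t, ht⟩ := h' u
    exact ⟨xG hD r t, xG_mem_rootSubgroup hD r t, ht⟩

/-- `n_{p_i} X_s n_{p_i}⁻¹ = X_{w_i s}`. -/
theorem conjRoot_nG (hD : InList D) {i s : ℕ} (hi : i < D.rank) (hs : s < D.nroots) :
    ConjRoot D F (nG hD (D.simple i) 1) s (D.reflectRoot i s) := by
  obtain ⟨η, hη, h⟩ := Cfsg.Agent.S1031.result (F := F) D hD i s hi hs
  have key : ∀ t : F, nG hD (D.simple i) (1 : F) * xG hD s t * (nG hD (D.simple i) 1)⁻¹ =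
      xG hD (D.reflectRoot i s) ((η : F) * t) := by
    intro t
    rw [mul_inv_eq_iff_eq_mul]
    apply Units.ext
    rw [Units.val_mul, Units.val_mul, coe_nG, coe_xG, coe_xG]
    exact h t
  have hη2 : (η : F) * (η : F) = 1 := by
    rcases hη with rfl | rfl <;> simp
  refine conjRoot_of hD (fun t => ⟨_, key t⟩) (fun u => ⟨(η : F) * u, ?_⟩)
  rw [key, ← mul_assoc, hη2, one_mul]

theorem conjRoot_hG (hD : InList D) {i s : ℕ} (hi : i < D.rank) (hs : s < D.nroots) {c : F} (hc : c ≠ 0) :
    ConjRoot D F (hG hD (D.simple i) c) s s := by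
  have h := Cfsg.Agent.S1032.result (F := F) D hD i s hi hs c hc
  have key : ∀ t : F, hG hD (D.simple i) c * xG hD s t * (hG hD (D.simple i) c)⁻¹ =
      xG hD s (c ^ (D.cartan i s) * t) := by
    intro t
    rw [mul_inv_eq_iff_eq_mul]
    apply Units.ext
    rw [Units.val_mul, Units.val_mul, coe_hG, coe_xG, coe_xG]
    exact h t
  refine conjRoot_of hD (fun t => ⟨_, key t⟩) (fun u => ⟨(c ^ (D.cartan i s))⁻¹ * u, ?_⟩)
  rw [key, ← mul_assoc, mul_inv_cancel₀ (zpow_ne_zero _ hc), one_mul]

/-- `h X_s h⁻¹ = X_s` for `h ∈ H`. -/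
theorem conjRoot_diagonal (hD : InList D) {h : GL D.Idx F} (hh : h ∈ D.diagonalSubgroup F) {s : ℕ}
    (hs : s < D.nroots) : ConjRoot D F h s s := by
  obtain ⟨c, hc, hg⟩ := Cfsg.Agent.S1034.result D hD h hh
  rw [(eq_wordG_iff hD h _).2 hg]
  have : ∀ l : List ℕ, (∀ i ∈ l, i < D.rank) →
      ConjRoot D F (wordG hD (l.flatMap fun i => D.hWord (D.simple i) (c i))) s s := by
    intro l
    induction l with
    | nil =>
      intro _
      exact conjRoot_one s
    | cons i l ih =>
      intro hl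
      rw [List.flatMap_cons, wordG_append]
      exact (ih fun j hj => hl j (List.mem_cons_of_mem _ hj)).mul
        (conjRoot_hG hD (hl i List.mem_cons_self) hs (hc i (hl i List.mem_cons_self)))
  exact this _ fun i hi => List.mem_range.1 hi

/-! ### Generation of `N` -/

/-- `N` is generated by `H` and the `n_{p_i}`. -/
theorem monomial_eq (hD : InList D) (F : Type u) [Field F] :
    D.monomialSubgroup F =
      Subgroup.closure {g : GL D.Idx F | ∃ i < D.rank, g = nG hD (D.simple i) 1} ⊔ D.diagonalSubgroup F := by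
  obtain ⟨P, hB, hN, hS⟩ := Cfsg.Agent.S1042.result (F := F) D hD
  have h1 := P.closure_sup
  have hBN : P.B ⊓ P.N = (D.diagonalSubgroup F).subgroupOf (D.group F) := by
    rw [hB, hN]
    have := (Cfsg.Agent.S1040.result (F := F) D hD).2
    rw [← this]
    rfl
  rw [hBN, hN] at h1
  have h2 := congrArg (Subgroup.map (D.group F).subtype) h1
  rw [Subgroup.map_sup, Subgroup.subgroupOf_map_subtype, Subgroup.subgroupOf_map_subtype,
    inf_eq_left.2 (diagonal_le_group hD F), inf_eq_left.2 (monomial_le_group hD F),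
    MonoidHom.map_closure] at h2
  rw [← h2]
  congr 2
  ext g
  constructor
  · rintro ⟨x, hx, rfl⟩
    rw [hS] at hx
    obtain ⟨i, hi, hx⟩ := hx
    exact ⟨i, hi, (eq_nG_iff hD _ _ _).2 hx⟩
  · rintro ⟨i, hi, rfl⟩
    refine ⟨⟨nG hD (D.simple i) 1, nG_mem_group hD _ _⟩, ?_, rfl⟩
    rw [hS]
    exact ⟨i, hi, coe_nG hD _ _⟩

theorem simple_lt (hD : InList D) {i : ℕ} (hi : i < D.rank) : D.simple i < D.nroots := by
  have h : ∀ D' : ChevalleyDatum, InList D' → ∀ i < D'.rank, D'.simple i < D'.nroots := by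
    intro D' hD'
    simp only [InList, List.mem_cons, List.not_mem_nil, or_false] at hD'
    rcases hD' with rfl | rfl | rfl | rfl | rfl | rfl | rfl <;> decide +kernel
  exact h D hD i hi

theorem nG_simple_mem (hD : InList D) (F : Type u) [Field F] {i : ℕ} (hi : i < D.rank) :
    nG hD (D.simple i) (1 : F) ∈ D.monomialSubgroup F := nG_one_mem_monomial hD (simple_lt hD hi)

/-! ### reflectRoot stays in range -/

theorem reflectRoot_lt (hD : InList D) {i s : ℕ} (hi : i < D.rank) (hs : s < D.nroots) :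
    D.reflectRoot i s < D.nroots := Reach.reflect_lt hD hi hs

theorem exists_conjRoot (hD : InList D) {n : GL D.Idx F} (hn : n ∈ D.monomialSubgroup F) :
    (∀ r < D.nroots, ∃ s < D.nroots, ConjRoot D F n r s) ∧ (∀ s < D.nroots, ∃ r < D.nroots, ConjRoot D F n r s) := by
  rw [monomial_eq hD F] at hn
  have hcl : Subgroup.closure {g : GL D.Idx F | ∃ i < D.rank, g = nG hD (D.simple i) 1} ⊔ D.diagonalSubgroup F =
      Subgroup.closure ({g : GL D.Idx F | ∃ i < D.rank, g = nG hD (D.simple i) 1} ∪ D.diagonalSubgroup F) := by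
    rw [Subgroup.closure_union, Subgroup.closure_eq]
  rw [hcl] at hn
  induction hn using Subgroup.closure_induction with
  | mem x hx =>
    rcases hx with ⟨i, hi, rfl⟩ | hx
    · refine ⟨fun r hr => ⟨_, reflectRoot_lt hD hi hr, conjRoot_nG hD hi hr⟩, ?_⟩
      -- surjectivity: the map `reflectRoot i` is injective on a finite set
      have hinj : Function.Injective (fun r : Fin D.nroots => (⟨D.reflectRoot i r, reflectRoot_lt hD hi r.2⟩ : Fin D.nroots)) := by
        intro r r' hrr
        have hrr : D.reflectRoot i r = D.reflectRoot i r' := congrArg Fin.val hrr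
        have h1 := conjRoot_nG (F := F) hD hi r.2
        have h2 := conjRoot_nG (F := F) hD hi r'.2
        rw [hrr] at h1
        exact Fin.ext (ConjRoot.unique hD h1.inv h2.inv r.2 r'.2)
      have hsurj := Finite.surjective_of_injective hinj
      intro s hs
      obtain ⟨r, hr⟩ := hsurj ⟨s, hs⟩
      refine ⟨r.1, r.2, ?_⟩
      have hr' : D.reflectRoot i r = s := congrArg Fin.val hr
      rw [← hr']
      exact conjRoot_nG hD hi r.2
    · exact ⟨fun r hr => ⟨r, hr, conjRoot_diagonal hD hx hr⟩, fun r hr => ⟨r, hr, conjRoot_diagonal hD hx hr⟩⟩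
  | one => exact ⟨fun r hr => ⟨r, hr, conjRoot_one r⟩, fun r hr => ⟨r, hr, conjRoot_one r⟩⟩
  | mul x y _ _ hx hy =>
    constructor
    · intro r hr
      obtain ⟨s, hs, h1⟩ := hy.1 r hr
      obtain ⟨v, hv, h2⟩ := hx.1 s hs
      exact ⟨v, hv, h1.mul h2⟩
    · intro v hv
      obtain ⟨s, hs, h1⟩ := hx.2 v hv
      obtain ⟨r, hr, h2⟩ := hy.2 s hs
      exact ⟨r, hr, h2.mul h1⟩
  | inv x _ hx =>
    constructor
    · intro r hr
      obtain ⟨s, hs, h1⟩ := hx.2 r hr
      exact ⟨s, hs, h1.inv⟩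
    · intro r hr
      obtain ⟨s, hs, h1⟩ := hx.1 r hr
      exact ⟨s, hs, h1.inv⟩

/-! ### The homomorphism -/

/-- the root `s` with `n X_r n⁻¹ = X_s`. -/
noncomputable def rootMap (hD : InList D) (n : ↥(D.monomialSubgroup F)) (r : Fin D.nroots) : Fin D.nroots :=
  ⟨((exists_conjRoot hD n.2).1 r.1 r.2).choose, ((exists_conjRoot hD n.2).1 r.1 r.2).choose_spec.1⟩

theorem rootMap_spec (hD : InList D) (n : ↥(D.monomialSubgroup F)) (r : Fin D.nroots) :
    ConjRoot D F n r (rootMap hD n r) :=
  ((exists_conjRoot hD n.2).1 r.1 r.2).choose_spec.2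

theorem rootMap_eq (hD : InList D) {n : ↥(D.monomialSubgroup F)} {r s : Fin D.nroots}
    (h : ConjRoot D F n r s) : rootMap hD n r = s :=
  Fin.ext (ConjRoot.unique hD (rootMap_spec hD n r) h (rootMap hD n r).2 s.2)

/-- The homomorphism `N → Perm Φ`, `n X_r n⁻¹ = X_{π n r}`. -/
noncomputable def permHom (hD : InList D) (F : Type u) [Field F] :
    ↥(D.monomialSubgroup F) →* Equiv.Perm (Fin D.nroots) :=
  MonoidHom.toHomPerm
    { toFun := fun n => (rootMap hD n : Function.End (Fin D.nroots))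
      map_one' := by
        funext r
        exact rootMap_eq hD (conjRoot_one _)
      map_mul' := by
        intro m n
        funext r
        exact rootMap_eq hD ((rootMap_spec hD n r).mul (rootMap_spec hD m _)) }

theorem permHom_apply (hD : InList D) (n : ↥(D.monomialSubgroup F)) (r : Fin D.nroots) :
    permHom hD F n r = rootMap hD n r := rfl

/-- `n X_r n⁻¹ = X_{π n r}` -/
theorem conj_permHom (hD : InList D) (n : ↥(D.monomialSubgroup F)) (r : Fin D.nroots) :
    (D.rootSubgroup F r).map (MulAut.conj (n : GL D.Idx F)).toMonoidHom = D.rootSubgroup F (permHom hD F n r) :=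
  rootMap_spec hD n r

theorem permHom_eq_of_conj (hD : InList D) {n : ↥(D.monomialSubgroup F)} {r s : Fin D.nroots}
    (h : (D.rootSubgroup F r).map (MulAut.conj (n : GL D.Idx F)).toMonoidHom = D.rootSubgroup F s) :
    permHom hD F n r = s := rootMap_eq hD h

/-- `π n_{p_i} = w_i`. -/
theorem permHom_nG (hD : InList D) {i : ℕ} (hi : i < D.rank) (n : ↥(D.monomialSubgroup F))
    (hn : ((n : GL D.Idx F) : Matrix D.Idx D.Idx F) = D.nMat F (D.simple i) 1) (r : Fin D.nroots) :
    ((permHom hD F n r : Fin D.nroots) : ℕ) = D.reflectRoot i r := by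
  have h1 : (n : GL D.Idx F) = nG hD (D.simple i) 1 := (eq_nG_iff hD _ _ _).2 hn
  have h2 : permHom hD F n r = ⟨D.reflectRoot i r, reflectRoot_lt hD hi r.2⟩ := by
    apply permHom_eq_of_conj
    rw [h1]
    exact conjRoot_nG hD hi r.2
  rw [h2]

theorem permHom_diagonal (hD : InList D) {n : ↥(D.monomialSubgroup F)}
    (hn : (n : GL D.Idx F) ∈ D.diagonalSubgroup F) : permHom hD F n = 1 := by
  apply Equiv.ext
  intro r
  exact permHom_eq_of_conj hD (conjRoot_diagonal hD hn r.2)

/-! ### The kernel -/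

/-- the kernel of `N → Perm Φ` is `H`. -/
theorem ker_permHom (hD : InList D) (F : Type u) [Field F] :
    (permHom hD F).ker = (D.diagonalSubgroup F).subgroupOf (D.monomialSubgroup F) := by
  apply le_antisymm
  · intro n hn
    rw [MonoidHom.mem_ker] at hn
    rw [Subgroup.mem_subgroupOf]
    obtain ⟨P, hB, hN, hS⟩ := Cfsg.Agent.S1042.result (F := F) D hD
    have hconj : ∀ r < D.nroots, ConjRoot D F n r r := by
      intro r hr
      have := conj_permHom hD n ⟨r, hr⟩
      rw [hn] at this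
      exact this
    -- `n` normalises `U`
    have hU : ∀ m : ↥(D.monomialSubgroup F), permHom hD F m = 1 → ∀ u ∈ D.posUnipotent F,
        (m : GL D.Idx F) * u * (m : GL D.Idx F)⁻¹ ∈ D.posUnipotent F := by
      intro m hm
      have : D.posUnipotent F ≤ (D.posUnipotent F).comap (MulAut.conj (m : GL D.Idx F)).toMonoidHom := by
        rw [posUnipotent_le_iff hD]
        intro r hr t
        rw [Subgroup.mem_comap]
        have h1 := conj_permHom hD m ⟨r, hr.1⟩
        rw [hm] at h1
        have h2 : (MulAut.conj (m : GL D.Idx F)).toMonoidHom (xG hD r t) ∈ D.rootSubgroup F r := by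
          have h1' : (D.rootSubgroup F r).map (MulAut.conj (m : GL D.Idx F)).toMonoidHom = D.rootSubgroup F r := h1
          rw [← h1']
          exact Subgroup.mem_map_of_mem _ (xG_mem_rootSubgroup hD r t)
        obtain ⟨u, hu⟩ := (mem_rootSubgroup_iff hD r _).1 h2
        rw [hu]
        exact xG_mem_posUnipotent hD hr u
      intro u hu
      exact this hu
    have hH : ∀ m : ↥(D.monomialSubgroup F), ∀ h ∈ D.diagonalSubgroup F,
        (m : GL D.Idx F) * h * (m : GL D.Idx F)⁻¹ ∈ D.diagonalSubgroup F := by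
      intro m h hh
      have := (Cfsg.Agent.S1038.result (F := F) D hD).conj_mem ⟨h, diagonal_le_monomial D F hh⟩ hh m
      exact this
    have hBm : ∀ m : ↥(D.monomialSubgroup F), permHom hD F m = 1 → ∀ b ∈ D.borelSubgroup F,
        (m : GL D.Idx F) * b * (m : GL D.Idx F)⁻¹ ∈ D.borelSubgroup F := by
      intro m hm
      have : D.borelSubgroup F ≤ (D.borelSubgroup F).comap (MulAut.conj (m : GL D.Idx F)).toMonoidHom := by
        refine sup_le ?_ ?_
        · intro u hu
          exact (le_sup_left : D.posUnipotent F ≤ D.borelSubgroup F) (hU m hm u hu)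
        · intro h hh
          exact (le_sup_right : D.diagonalSubgroup F ≤ D.borelSubgroup F) (hH m h hh)
      intro b hb
      exact this hb
    have hnG : (n : GL D.Idx F) ∈ D.group F := monomial_le_group hD F n.2
    have hnorm : (⟨(n : GL D.Idx F), hnG⟩ : ↥(D.group F)) ∈ Subgroup.normalizer (P.parabolic ∅ : Set ↥(D.group F)) := by
      have hpar : P.parabolic ∅ = P.B := by
        show P.B ⊔ Subgroup.closure ∅ = P.B
        rw [Subgroup.closure_empty, sup_bot_eq]
      rw [hpar, Subgroup.mem_normalizer_iff]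
      intro b
      rw [hB, Subgroup.mem_subgroupOf, Subgroup.mem_subgroupOf]
      constructor
      · intro hb
        exact hBm n hn _ hb
      · intro hb
        have h3 := hBm n⁻¹ (by rw [map_inv, hn, inv_one]) _ hb
        simpa [mul_assoc] using h3
    rw [Cfsg.Agent.S0312.result P (Set.empty_subset _)] at hnorm
    have hpar : P.parabolic ∅ = P.B := by
      show P.B ⊔ Subgroup.closure ∅ = P.B
      rw [Subgroup.closure_empty, sup_bot_eq]
    rw [hpar, hB, Subgroup.mem_subgroupOf] at hnorm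
    rw [← (Cfsg.Agent.S1040.result (F := F) D hD).2]
    exact ⟨hnorm, n.2⟩
  · intro n hn
    exact permHom_diagonal hD hn

/-- the image of `N → Perm Φ` is generated by the images of the `n_{p_i}`. -/
theorem range_permHom (hD : InList D) (F : Type u) [Field F] :
    (permHom hD F).range = Subgroup.closure (Set.range fun i : Fin D.rank =>
      permHom hD F ⟨nG hD (D.simple i) 1, nG_simple_mem hD F i.2⟩) := by
  apply le_antisymm
  · rintro _ ⟨n, rfl⟩
    set K := Subgroup.closure (Set.range fun i : Fin D.rank =>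
      permHom hD F ⟨nG hD (D.simple i) 1, nG_simple_mem hD F i.2⟩) with hK
    have hle : D.monomialSubgroup F ≤ (K.comap (permHom hD F)).map (D.monomialSubgroup F).subtype := by
      conv_lhs => rw [monomial_eq hD F]
      refine sup_le ((Subgroup.closure_le _).2 ?_) ?_
      · rintro g ⟨i, hi, rfl⟩
        refine ⟨⟨nG hD (D.simple i) 1, nG_simple_mem hD F hi⟩, ?_, rfl⟩
        show permHom hD F _ ∈ K
        exact Subgroup.subset_closure ⟨⟨i, hi⟩, rfl⟩
      · intro g hg
        refine ⟨⟨g, diagonal_le_monomial D F hg⟩, ?_, rfl⟩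
        show permHom hD F _ ∈ K
        rw [permHom_diagonal hD hg]
        exact K.one_mem
    obtain ⟨m, hm, hmn⟩ := hle n.2
    have : m = n := Subtype.ext hmn
    rw [← this]
    exact hm
  · rw [Subgroup.closure_le]
    rintro _ ⟨i, rfl⟩
    exact ⟨_, rfl⟩

theorem exists_permHom (hD : InList D) (F : Type u) [Field F] :
    ∃ π : ↥(D.monomialSubgroup F) →* Equiv.Perm (Fin D.nroots),
      (∀ (n : ↥(D.monomialSubgroup F)) (r : Fin D.nroots),
        (D.rootSubgroup F r).map (MulAut.conj (n : GL D.Idx F)).toMonoidHom = D.rootSubgroup F (π n r)) ∧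
      (∀ i < D.rank, ∀ n : ↥(D.monomialSubgroup F),
        ((n : GL D.Idx F) : Matrix D.Idx D.Idx F) = D.nMat F (D.simple i) 1 →
          ∀ r : Fin D.nroots, ((π n r : Fin D.nroots) : ℕ) = D.reflectRoot i r) ∧
      π.ker = (D.diagonalSubgroup F).subgroupOf (D.monomialSubgroup F) :=
  ⟨permHom hD F, conj_permHom hD, fun _ hi n hn r => permHom_nG hD hi n hn r, ker_permHom hD F⟩

end Cfsg.Agent.ChevalleyStructure.NPerm
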