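import Mathlib
import Cfsg.Agent.ChevalleyStructure.W0Small
import Cfsg.Agent.ChevalleyStructure.W0E6
import Cfsg.Prelude.Def_LieTwisted

/-!
# The classes of positive roots of the relative simple roots, types ³D₄ and ²E₆

The combinatorial fields of `TwistedOrder.RootAction`.  A permutation `w` of the root indices that
commutes with the diagram symmetry `τ` and with `r ↦ -r` has the same sign on all roots of a class
(an orbit of `τ` on simple roots) and the opposite sign on their negatives.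
-/

set_option autoImplicit false

namespace Cfsg.Agent.ChevalleyStructure.TwistedClasses

open Cfsg.Lie Cfsg.Agent.ChevalleyStructure.W0Core

/-- the checks on tables: `G i` the relative simple reflections, `τ` the diagram symmetry, `Δ i` the
classes; positive indices are those `≥ m`, `-s = n - 1 - s`. -/
def check (n m : ℕ) {ι : Type} [Fintype ι] [DecidableEq ι] (G : ι → ℕ → ℕ) (τ : ℕ → ℕ)
    (Δ : ι → List ℕ) : Prop :=
  (∀ s < n, τ s < n ∧ (m ≤ τ s ↔ m ≤ s)) ∧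
  (∀ s < n, m ≤ n - 1 - s ↔ ¬ m ≤ s) ∧
  (∀ i, ∀ s < n, G i (τ s) = τ (G i s) ∧ G i (n - 1 - s) = n - 1 - G i s) ∧
  (∀ i, ∀ a ∈ Δ i, a < n ∧ m ≤ a ∧ G i a = n - 1 - a) ∧
  (∀ i, ∀ a ∈ Δ i, ∀ b ∈ Δ i, a = b ∨ τ a = b ∨ τ (τ a) = b) ∧
  (∀ i, ∀ s < n, m ≤ s → s ∉ Δ i → m ≤ G i s)

instance (n m : ℕ) {ι : Type} [Fintype ι] [DecidableEq ι] (G : ι → ℕ → ℕ) (τ : ℕ → ℕ)
    (Δ : ι → List ℕ) : Decidable (check n m G τ Δ) := by
  unfold check; infer_instance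

variable {n m : ℕ} {ι : Type} [Fintype ι] [DecidableEq ι] {G : ι → ℕ → ℕ} {τ : ℕ → ℕ}
  {Δ : ι → List ℕ}

theorem check_def : check n m G τ Δ ↔ ((∀ s < n, τ s < n ∧ (m ≤ τ s ↔ m ≤ s)) ∧
  (∀ s < n, m ≤ n - 1 - s ↔ ¬ m ≤ s) ∧
  (∀ i, ∀ s < n, G i (τ s) = τ (G i s) ∧ G i (n - 1 - s) = n - 1 - G i s) ∧
  (∀ i, ∀ a ∈ Δ i, a < n ∧ m ≤ a ∧ G i a = n - 1 - a) ∧
  (∀ i, ∀ a ∈ Δ i, ∀ b ∈ Δ i, a = b ∨ τ a = b ∨ τ (τ a) = b) ∧
  (∀ i, ∀ s < n, m ≤ s → s ∉ Δ i → m ≤ G i s)) := Iff.rfl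

/-- the class as a finset of indices -/
def cls (Δ : ι → List ℕ) (i : ι) : Finset (Fin n) :=
  Finset.univ.filter fun a => (a : ℕ) ∈ Δ i

omit [Fintype ι] [DecidableEq ι] in
theorem mem_cls {i : ι} {a : Fin n} : a ∈ cls Δ i ↔ (a : ℕ) ∈ Δ i := by
  unfold cls
  simp

theorem comm_of_mem_closure (h : check n m G τ Δ) {g : ι → Equiv.Perm (Fin n)}
    (hG : ∀ i r, ((g i r : Fin n) : ℕ) = G i r) {w : Equiv.Perm (Fin n)}
    (hw : w ∈ Subgroup.closure (Set.range g)) :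
    (∀ a b : Fin n, (b : ℕ) = τ a → ((w b : Fin n) : ℕ) = τ (w a)) ∧
    (∀ a b : Fin n, (b : ℕ) = n - 1 - a → ((w b : Fin n) : ℕ) = n - 1 - (w a : Fin n)) := by
  obtain ⟨h1, h2, h3, -⟩ := check_def.1 h
  induction hw using Subgroup.closure_induction with
  | mem x hx =>
    obtain ⟨i, rfl⟩ := hx
    refine ⟨fun a b hab => ?_, fun a b hab => ?_⟩
    · rw [hG, hG, hab]
      exact (h3 i a a.2).1
    · rw [hG, hG, hab]
      exact (h3 i a a.2).2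
  | one => exact ⟨fun a b hab => hab, fun a b hab => hab⟩
  | mul x y _ _ ihx ihy =>
    refine ⟨fun a b hab => ?_, fun a b hab => ?_⟩
    · exact ihx.1 _ _ (ihy.1 a b hab)
    · exact ihx.2 _ _ (ihy.2 a b hab)
  | inv x _ ih =>
    refine ⟨fun a b hab => ?_, fun a b hab => ?_⟩
    · have h4 := ih.1 (x⁻¹ a) ⟨τ (x⁻¹ a), (h1 _ (x⁻¹ a).2).1⟩ rfl
      have h5 : x ⟨τ (x⁻¹ a), (h1 _ (x⁻¹ a).2).1⟩ = b := by
        apply Fin.ext
        rw [h4, ← Equiv.Perm.mul_apply, mul_inv_cancel, Equiv.Perm.one_apply, hab]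
      rw [← h5, ← Equiv.Perm.mul_apply, inv_mul_cancel, Equiv.Perm.one_apply]
    · have hlt : n - 1 - ((x⁻¹ a : Fin n) : ℕ) < n := by
        have := (x⁻¹ a).2
        omega
      have h4 := ih.2 (x⁻¹ a) ⟨n - 1 - (x⁻¹ a : Fin n), hlt⟩ rfl
      have h5 : x ⟨n - 1 - (x⁻¹ a : Fin n), hlt⟩ = b := by
        apply Fin.ext
        rw [h4, ← Equiv.Perm.mul_apply, mul_inv_cancel, Equiv.Perm.one_apply, hab]
      rw [← h5, ← Equiv.Perm.mul_apply, inv_mul_cancel, Equiv.Perm.one_apply]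

theorem cls_pos (h : check n m G τ Δ) (i : ι) (a : Fin n) (ha : a ∈ cls Δ i) : m ≤ (a : ℕ) := by
  obtain ⟨-, -, -, h4, -⟩ := check_def.1 h
  exact (h4 i a (mem_cls.1 ha)).2.1

theorem refl_neg (h : check n m G τ Δ) {g : ι → Equiv.Perm (Fin n)}
    (hG : ∀ i r, ((g i r : Fin n) : ℕ) = G i r) (i : ι) (a : Fin n) (ha : a ∈ cls Δ i) :
    ¬ m ≤ ((g i a : Fin n) : ℕ) := by
  obtain ⟨-, h2, -, h4, -⟩ := check_def.1 h
  have h5 := h4 i a (mem_cls.1 ha)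
  rw [hG, h5.2.2, h2 a a.2]
  exact not_not.2 h5.2.1

theorem refl_pos (h : check n m G τ Δ) {g : ι → Equiv.Perm (Fin n)}
    (hG : ∀ i r, ((g i r : Fin n) : ℕ) = G i r) (i : ι) (a : Fin n) (ha : m ≤ (a : ℕ))
    (ha' : a ∉ cls Δ i) : m ≤ ((g i a : Fin n) : ℕ) := by
  obtain ⟨-, -, -, -, -, h6⟩ := check_def.1 h
  rw [hG]
  exact h6 i a a.2 ha fun h => ha' (mem_cls.2 h)

theorem cases (h : check n m G τ Δ) {g : ι → Equiv.Perm (Fin n)}
    (hG : ∀ i r, ((g i r : Fin n) : ℕ) = G i r) (w : Equiv.Perm (Fin n))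
    (hw : w ∈ Subgroup.closure (Set.range g)) (i : ι) :
    ((∀ a ∈ cls Δ i, m ≤ ((w a : Fin n) : ℕ)) ∧
      ∀ a ∈ cls Δ i, ¬ m ≤ ((w (g i a) : Fin n) : ℕ)) ∨
    ((∀ a ∈ cls Δ i, ¬ m ≤ ((w a : Fin n) : ℕ)) ∧
      ∀ a ∈ cls Δ i, m ≤ ((w (g i a) : Fin n) : ℕ)) := by
  obtain ⟨h1, h2, h3, h4, h5, h6⟩ := check_def.1 h
  obtain ⟨c1, c2⟩ := comm_of_mem_closure h hG hw
  have hτ : ∀ a b : Fin n, (b : ℕ) = τ a → (m ≤ ((w b : Fin n) : ℕ) ↔ m ≤ ((w a : Fin n) : ℕ)) := by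
    intro a b hab
    rw [c1 a b hab]
    exact (h1 _ (w a).2).2
  have hneg : ∀ a ∈ cls Δ i, (m ≤ ((w (g i a) : Fin n) : ℕ) ↔ ¬ m ≤ ((w a : Fin n) : ℕ)) := by
    intro a ha
    rw [c2 a (g i a) (by rw [hG]; exact (h4 i a (mem_cls.1 ha)).2.2)]
    exact h2 _ (w a).2
  have hall : ∀ a ∈ cls Δ i, ∀ b ∈ cls Δ i,
      (m ≤ ((w b : Fin n) : ℕ) ↔ m ≤ ((w a : Fin n) : ℕ)) := by
    intro a ha b hb
    rcases h5 i a (mem_cls.1 ha) b (mem_cls.1 hb) with e | e | e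
    · rw [Fin.ext e]
    · exact hτ a b e.symm
    · have hlt := (h1 a a.2).1
      have e1 := hτ a ⟨τ a, hlt⟩ rfl
      have e2 := hτ ⟨τ a, hlt⟩ b e.symm
      exact e2.trans e1
  by_cases hp : ∃ a ∈ cls Δ i, m ≤ ((w a : Fin n) : ℕ)
  · obtain ⟨a, ha, hwa⟩ := hp
    left
    refine ⟨fun b hb => (hall a ha b hb).2 hwa, fun b hb => ?_⟩
    rw [hneg b hb]
    exact not_not.2 ((hall a ha b hb).2 hwa)
  · push Not at hp
    right
    refine ⟨fun b hb => Nat.not_le.2 (hp b hb), fun b hb => ?_⟩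
    rw [hneg b hb]
    exact Nat.not_le.2 (hp b hb)

/-! ### Type D₄ with triality -/

/-- relative simple reflections of ³D₄: the class `{p₂}` and the class `{p₁, p₃, p₄}` -/
def GD4 : Fin 2 → ℕ → ℕ
  | 0 => fun s => look (W0Small.tabD4 1) s
  | 1 => fun s => look (W0Small.tabD4 0) (look (W0Small.tabD4 2) (look (W0Small.tabD4 3) s))

/-- the triality on root indices: p₁ → p₃ → p₄ → p₁ -/
def τD4 (s : ℕ) : ℕ := look 0x17161115100d140f130e0c12050b090408030a0702060100 s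

def ΔD4 : Fin 2 → List ℕ
  | 0 => [d4p2]
  | 1 => [d4p1, d4p3, d4p4]

theorem checkD4 : check 24 12 GD4 τD4 ΔD4 := by decide +kernel

/-- the relative simple reflections as products of simple reflections -/
def gD4 (s : ℕ → Equiv.Perm (Fin chevD4.nroots)) : Fin 2 → Equiv.Perm (Fin chevD4.nroots)
  | 0 => s 1
  | 1 => s 0 * s 2 * s 3

theorem gD4_apply {s : ℕ → Equiv.Perm (Fin chevD4.nroots)}
    (hs : ∀ i < 4, ∀ r, ((s i r : Fin chevD4.nroots) : ℕ) = chevD4.reflectRoot i r)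
    (i : Fin 2) (r : Fin chevD4.nroots) : ((gD4 s i r : Fin chevD4.nroots) : ℕ) = GD4 i r := by
  have h : ∀ i < 4, ∀ r, ((s i r : Fin chevD4.nroots) : ℕ) = look (W0Small.tabD4 i) r := by
    intro i hi r
    rw [hs i hi, W0Small.tabD4_ok i hi r r.2]
  match i with
  | 0 => exact h 1 (by norm_num) r
  | 1 =>
    show ((s 0 (s 2 (s 3 r)) : Fin chevD4.nroots) : ℕ) = _
    rw [h 0 (by norm_num), h 2 (by norm_num), h 3 (by norm_num)]
    rfl

theorem range_gD4 (s : ℕ → Equiv.Perm (Fin chevD4.nroots)) :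
    Set.range (gD4 s) = {s 1, s 0 * s 2 * s 3} := by
  ext w
  constructor
  · rintro ⟨i, rfl⟩
    match i with
    | 0 => exact Or.inl rfl
    | 1 => exact Or.inr rfl
  · rintro (rfl | rfl)
    · exact ⟨0, rfl⟩
    · exact ⟨1, rfl⟩

theorem posD4 (r : ℕ) (hr : r < chevD4.nroots) : chevD4.IsPosRoot r ↔ 12 ≤ r := by
  rw [pos_iff W0Small.signD4]
  exact ⟨fun h => h.1, fun h => ⟨h, hr⟩⟩

/-! ### Type E₆ with the symmetry of order 2 -/

/-- relative simple reflections of ²E₆: the classes `{p₂}`, `{p₄}`, `{p₃, p₅}`, `{p₁, p₆}` -/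
def GE6 : Fin 4 → ℕ → ℕ
  | 0 => fun s => look (W0E6.tabE6 1) s
  | 1 => fun s => look (W0E6.tabE6 3) s
  | 2 => fun s => look (W0E6.tabE6 2) (look (W0E6.tabE6 4) s)
  | 3 => fun s => look (W0E6.tabE6 0) (look (W0E6.tabE6 5) s)

/-- the diagram symmetry on root indices -/
def τE6 (s : ℕ) : ℕ :=
  look 0x47464542374441363f34313c2d2926244340353e33303d322f2e3b2c28253a2b27392a380f1d0e201c0d221f1b0c1918150a17140912070423211e1a0b1613081106031005020100 s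

def ΔE6 : Fin 4 → List ℕ
  | 0 => [e6p2]
  | 1 => [e6p4]
  | 2 => [e6p3, e6p5]
  | 3 => [e6p1, e6p6]

theorem checkE6 : check 72 36 GE6 τE6 ΔE6 := by decide +kernel

/-- the relative simple reflections as products of simple reflections -/
def gE6 (s : ℕ → Equiv.Perm (Fin chevE6.nroots)) : Fin 4 → Equiv.Perm (Fin chevE6.nroots)
  | 0 => s 1
  | 1 => s 3
  | 2 => s 2 * s 4
  | 3 => s 0 * s 5

theorem gE6_apply {s : ℕ → Equiv.Perm (Fin chevE6.nroots)}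
    (hs : ∀ i < 6, ∀ r, ((s i r : Fin chevE6.nroots) : ℕ) = chevE6.reflectRoot i r)
    (i : Fin 4) (r : Fin chevE6.nroots) : ((gE6 s i r : Fin chevE6.nroots) : ℕ) = GE6 i r := by
  have h : ∀ i < 6, ∀ r, ((s i r : Fin chevE6.nroots) : ℕ) = look (W0E6.tabE6 i) r := by
    intro i hi r
    rw [hs i hi, W0E6.tabE6_ok i hi r r.2]
  match i with
  | 0 => exact h 1 (by norm_num) r
  | 1 => exact h 3 (by norm_num) r
  | 2 =>
    show ((s 2 (s 4 r) : Fin chevE6.nroots) : ℕ) = _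
    rw [h 2 (by norm_num), h 4 (by norm_num)]
    rfl
  | 3 =>
    show ((s 0 (s 5 r) : Fin chevE6.nroots) : ℕ) = _
    rw [h 0 (by norm_num), h 5 (by norm_num)]
    rfl

theorem range_gE6 (s : ℕ → Equiv.Perm (Fin chevE6.nroots)) :
    Set.range (gE6 s) = {s 1, s 3, s 2 * s 4, s 0 * s 5} := by
  ext w
  constructor
  · rintro ⟨i, rfl⟩
    match i with
    | 0 => exact Or.inl rfl
    | 1 => exact Or.inr (Or.inl rfl)
    | 2 => exact Or.inr (Or.inr (Or.inl rfl))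
    | 3 => exact Or.inr (Or.inr (Or.inr rfl))
  · rintro (rfl | rfl | rfl | rfl)
    · exact ⟨0, rfl⟩
    · exact ⟨1, rfl⟩
    · exact ⟨2, rfl⟩
    · exact ⟨3, rfl⟩

theorem posE6 (r : ℕ) (hr : r < chevE6.nroots) : chevE6.IsPosRoot r ↔ 36 ≤ r := by
  rw [pos_iff W0E6.signE6]
  exact ⟨fun h => h.1, fun h => ⟨h, hr⟩⟩

end Cfsg.Agent.ChevalleyStructure.TwistedClasses
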