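import Cfsg.Agent.ChevalleyStructure.TwistedOrder
import Cfsg.Agent.ChevalleyStructure.TwistedClasses
import Cfsg.Agent.ChevalleyStructure.NPerm
import Cfsg.Agent.S1037

/-!
# The order of a twisted group inside a Chevalley group

Combines `TwistedOrder.RootAction` with the permutation action `NPerm.permHom` of the ambient monomial
subgroup on the roots and the class combinatorics of `TwistedClasses`.
-/

set_option autoImplicit false

namespace Cfsg.Agent.ChevalleyStructure.TwistedAction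

open Cfsg.Lie Cfsg.Agent.ChevalleyStructure.Elts
open Cfsg.Agent.ChevalleyStructure.NPerm
open Cfsg.Agent.ChevalleyStructure.BNOrder
open Cfsg.Agent.ChevalleyStructure.TwistedBN
open Cfsg.Agent.ChevalleyStructure.TwistedOrder
open Cfsg.Agent.ChevalleyStructure.TwistedClasses

universe u

variable {K : Type u} [Field K] {D : ChevalleyDatum}

/-- What is needed on top of `TwistedData` inside a tabulated Chevalley group. -/
structure Input (hD : InList D) {ι : Type} [Fintype ι] [DecidableEq ι]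
    (T : TwistedData (GL D.Idx K) ι) (m q : ℕ) (G : ι → ℕ → ℕ) (τ : ℕ → ℕ) (Δ : ι → List ℕ) : Prop where
  hU : T.U = D.posUnipotent K
  hH : T.H = D.diagonalSubgroup K
  hN : T.N = D.monomialSubgroup K
  chk : check D.nroots m G τ Δ
  hpos : ∀ r < D.nroots, D.IsPosRoot r ↔ m ≤ r
  refl : ∀ (i : ι) (r : Fin D.nroots), ∃ hn : T.n i ∈ D.monomialSubgroup K,
    ((permHom hD K ⟨T.n i, hn⟩ r : Fin D.nroots) : ℕ) = G i r
  Xi_le : ∀ i, ∀ x ∈ T.X i, x ∈ T.G →
    x ∈ Subgroup.closure {y : GL D.Idx K | ∃ r ∈ Δ i, y ∈ D.rootSubgroup K r}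
  X_mul : ∀ i, ∀ x ∈ T.X i, ∀ y ∈ T.X i, x⁻¹ * y ∈ T.X i
  Y_le : ∀ i, ∀ y ∈ T.Y i, y ∈ T.G → y ∈ D.negUnipotent K
  card_X : ∀ i, Nat.card {x : GL D.Idx K // x ∈ T.X i ∧ x ∈ T.G} = q ^ (cls (n := D.nroots) Δ i).card

variable {hD : InList D} {ι : Type} [Fintype ι] [DecidableEq ι] {T : TwistedData (GL D.Idx K) ι}
  {m q : ℕ} {G : ι → ℕ → ℕ} {τ : ℕ → ℕ} {Δ : ι → List ℕ}

/-- the action of `T.N` on the roots -/
noncomputable def act (hD : InList D) (T : TwistedData (GL D.Idx K) ι) (hN : T.N = D.monomialSubgroup K) :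
    T.N →* Equiv.Perm (Fin D.nroots) :=
  (permHom hD K).comp (MulEquiv.subgroupCongr hN).toMonoidHom

omit [Fintype ι] [DecidableEq ι] in
theorem act_apply (hD : InList D) (T : TwistedData (GL D.Idx K) ι) (hN : T.N = D.monomialSubgroup K) (g : T.N)
    (hg : (g : GL D.Idx K) ∈ D.monomialSubgroup K) :
    act hD T hN g = permHom hD K ⟨(g : GL D.Idx K), hg⟩ := rfl

theorem rootSubgroup_le_pos {r : ℕ} (hr : D.IsPosRoot r) : D.rootSubgroup K r ≤ D.posUnipotent K := by
  show Subgroup.closure _ ≤ _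
  rw [Subgroup.closure_le]
  rintro g ⟨t, ht⟩
  exact Subgroup.subset_closure ⟨r, t, hr, ht⟩

theorem rootAction (R : Input hD T m q G τ Δ) :
    ∃ A : RootAction T (Fin D.nroots) (fun _ => q),
      A.ρ = act hD T R.hN ∧ A.pos = fun r : Fin D.nroots => m ≤ (r : ℕ) := by
  have hg : ∀ i r, ((act hD T R.hN ⟨T.n i, T.n_mem_N i⟩ r : Fin D.nroots) : ℕ) = G i r := by
    intro i r
    obtain ⟨hn, h⟩ := R.refl i r
    rw [act_apply hD T R.hN _ hn]
    exact h
  refine ⟨{
    Xr := fun r => D.rootSubgroup K r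
    ρ := act hD T R.hN
    ρ_conj := ?_
    ker := ?_
    pos := fun r => m ≤ (r : ℕ)
    Xr_le := ?_
    Δ := fun i => cls Δ i
    Δ_pos := ?_
    Xi_le := ?_
    refl_neg := ?_
    refl_pos := ?_
    cases := ?_
    X_mul := R.X_mul
    Y_inf := ?_
    c_inv := fun _ _ => rfl
    card_X := ?_ }, rfl, rfl⟩
  · intro n r x hx
    have hn : (n : GL D.Idx K) ∈ D.monomialSubgroup K := R.hN ▸ n.2
    have h := conj_permHom hD ⟨(n : GL D.Idx K), hn⟩ r
    rw [act_apply hD T R.hN _ hn, ← h]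
    exact ⟨x, hx, rfl⟩
  · intro n
    have hn : (n : GL D.Idx K) ∈ D.monomialSubgroup K := R.hN ▸ n.2
    rw [act_apply hD T R.hN _ hn, ← MonoidHom.mem_ker, ker_permHom, Subgroup.mem_subgroupOf, R.hH]
  · intro r hr
    rw [R.hU]
    exact rootSubgroup_le_pos ((R.hpos r r.2).2 hr)
  · intro i a ha
    exact cls_pos R.chk i a ha
  · intro i x hx hxG
    refine Subgroup.closure_mono ?_ (R.Xi_le i x hx hxG)
    rintro y ⟨r, hr, hy⟩
    obtain ⟨-, -, -, h4, -⟩ := check_def.1 R.chk
    exact ⟨⟨r, (h4 i r hr).1⟩, mem_cls.2 hr, hy⟩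
  · intro i a ha
    exact refl_neg R.chk hg i a ha
  · intro i a ha ha'
    exact refl_pos R.chk hg i a ha ha'
  · intro w hw i
    exact cases R.chk hg w hw i
  · intro i y hy hyG hB
    have hV := R.Y_le i y hy hyG
    rw [R.hU, R.hH] at hB
    have h := (Cfsg.Agent.S1037.result (F := K) D hD).1
    have : y ∈ (⊥ : Subgroup (GL D.Idx K)) := by
      rw [← h]
      exact ⟨hB, hV⟩
    exact Subgroup.mem_bot.1 this
  · intro i
    rw [Finset.prod_const]
    exact R.card_X i

/-- the sum over `Finset.univ` does not depend on the `Fintype` instance -/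
theorem sum_univ_inst {α : Type*} (i₁ i₂ : Fintype α) (p : α → Prop) (d : DecidablePred p) (f : α → ℕ) :
    ((@Finset.univ α i₁).filter p).sum f = ((@Finset.univ α i₂).filter p).sum f := by
  have h : i₁ = i₂ := Subsingleton.elim _ _
  subst h
  rfl

open Classical in
/-- **The order of a twisted group inside a tabulated Chevalley group.** -/
theorem card_G (R : Input hD T m q G τ Δ) [Finite T.G] (g : ι → Equiv.Perm (Fin D.nroots))
    (hg : ∀ i r, ((g i r : Fin D.nroots) : ℕ) = G i r) :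
    Nat.card T.G =
      (∑ w ∈ Finset.univ.filter (fun w : Equiv.Perm (Fin D.nroots) => w ∈ Subgroup.closure (Set.range g)),
        wt (fun r : Fin D.nroots => D.IsPosRoot r) (fun _ => q) w) *
      (Nat.card ↥(D.posUnipotent K ⊓ T.G) * Nat.card ↥(D.diagonalSubgroup K ⊓ T.G)) := by
  obtain ⟨A, hρ, hp⟩ := rootAction R
  have h := A.card_G
  have h1 : (Set.range fun i => A.ρ (RootAction.nN i)) = Set.range g := by
    congr 1
    funext i
    apply Equiv.ext
    intro r
    apply Fin.ext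
    obtain ⟨hn, h⟩ := R.refl i r
    rw [hρ, act_apply hD T R.hN _ hn, hg i r]
    exact h
  have h2 : (fun r : Fin D.nroots => D.IsPosRoot r) = A.pos := by
    rw [hp]
    funext r
    exact propext (R.hpos r r.2)
  rw [h1, ← h2, R.hU, R.hH] at h
  rw [h]
  exact congrArg (fun z : ℕ => z * (Nat.card ↥(D.posUnipotent K ⊓ T.G) *
    Nat.card ↥(D.diagonalSubgroup K ⊓ T.G))) (sum_univ_inst _ _ _ _ _)

end Cfsg.Agent.ChevalleyStructure.TwistedAction
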