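import Cfsg.Agent.ChevalleyStructure.TwE6BN
import Cfsg.Agent.ChevalleyStructure.TwistedAction
import Cfsg.Agent.ChevalleyStructure.FixedCard

/-!
# The input of the order formula for ²E₆(q)
-/

set_option autoImplicit false

namespace Cfsg.Agent.ChevalleyStructure.TwE6Card

open Cfsg.Lie
open Cfsg.Agent.ChevalleyStructure.Elts hiding x_add x_zero x_eq_one_iff
open Cfsg.Agent.ChevalleyStructure.TwE6Basic
open Cfsg.Agent.ChevalleyStructure.TwE6BN
open Cfsg.Agent.ChevalleyStructure.TwistedBN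
open Cfsg.Agent.ChevalleyStructure.TwistedClasses
open Cfsg.Agent.ChevalleyStructure.TwistedAction
open Cfsg.Agent.ChevalleyStructure.NPerm
open Cfsg.Agent.ChevalleyStructure.FixedCard

universe u

variable {K : Type u} [Field K]

theorem wp_eq : ∀ i : Fin 4, ∀ r : Fin 72, wp i r.val = GE6 i r.val := by decide +kernel

theorem ΔE6_eq : ∀ i : Fin 4, ΔE6 i = posE i := by decide +kernel

theorem conj_root (i : Fin 4) (r : Fin 72) :
    (chevE6.rootSubgroup K r.val).map (MulAut.conj (n (K := K) i)).toMonoidHom =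
      chevE6.rootSubgroup K (wP i r).val := by
  ext y
  rw [Subgroup.mem_map]
  constructor
  · rintro ⟨g, hg, rfl⟩
    exact (n_conj_mem_iff i r g).1 hg
  · intro hy
    refine ⟨(n (K := K) i)⁻¹ * y * n (K := K) i, (n_conj_mem_iff i r _).2 ?_, ?_⟩
    · have e : n (K := K) i * ((n (K := K) i)⁻¹ * y * n (K := K) i) * (n (K := K) i)⁻¹ = y := by group
      rwa [e]
    · show n (K := K) i * ((n (K := K) i)⁻¹ * y * n (K := K) i) * (n (K := K) i)⁻¹ = y
      group

theorem card_single {q : ℕ} (φ : K →+* K) (hφ : ∀ t, φ t = t ^ q) (hqq : ∀ t : K, (t ^ q) ^ q = t)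
    [Fintype K] (hq : 1 < q) (hK : Fintype.card K = q ^ 2) {i : Fin 4} {j : ℕ} (C : SingleOK.{u} i j) :
    Nat.card {x : GL chevE6.Idx K // x ∈ rs K (posE i) ∧ x ∈ twistedE6 K q} = q := by
  refine (card_of_param _ (fun t : {t : K // t ^ q = t} => x j t.1) ?_ ?_).trans
    (card_fixed (K := K) hq hK)
  · intro s t h
    exact Subtype.ext (x_injective C.lt h)
  · intro y
    constructor
    · rintro ⟨h1, h2⟩
      rw [C.pos] at h1
      obtain ⟨t, rfl⟩ := rs_single h1
      exact ⟨⟨t, by rw [← hφ]; exact C.fix_pos (twisted_le_fix φ hφ hqq h2)⟩, rfl⟩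
    · rintro ⟨t, rfl⟩
      exact ⟨x_mem_rs (by rw [C.pos]; simp) _, C.pos_mem_G t.2⟩

theorem card_pair {q : ℕ} (φ : K →+* K) (hφ : ∀ t, φ t = t ^ q) (hqq : ∀ t : K, (t ^ q) ^ q = t)
    [Fintype K] (hK : Fintype.card K = q ^ 2) {i : Fin 4} {j j' : ℕ} (C : PairOK.{u} i j j') :
    Nat.card {x : GL chevE6.Idx K // x ∈ rs K (posE i) ∧ x ∈ twistedE6 K q} = q ^ 2 := by
  refine (card_of_param _ (fun t : K => x j t * x j' (t ^ q)) ?_ ?_).trans
    (Nat.card_eq_fintype_card.trans hK)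
  · intro s t h
    exact (C.x_pair_inj h).1
  · intro y
    constructor
    · rintro ⟨h1, h2⟩
      obtain ⟨t, s, rfl⟩ := C.mem_pos h1
      refine ⟨t, ?_⟩
      have h3 := C.fix_pos (twisted_le_fix φ hφ hqq h2)
      rw [h3, hφ]
    · rintro ⟨t, rfl⟩
      exact ⟨mul_mem (x_mem_rs (by rw [C.pos]; simp) _) (x_mem_rs (by rw [C.pos]; simp) _), C.pos_mem_G t⟩

theorem card_cls : ∀ i : Fin 4, (cls (n := chevE6.nroots) ΔE6 i).card = (posE i).length := by
  decide +kernel

theorem input {q : ℕ} (φ : K →+* K) (hφ : ∀ t, φ t = t ^ q) (hqq : ∀ t : K, (t ^ q) ^ q = t)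
    [Fintype K] (hq : 1 < q) (hK : Fintype.card K = q ^ 2) :
    Input hE6 (T φ q hφ hqq) 36 q GE6 τE6 ΔE6 where
  hU := rfl
  hH := rfl
  hN := rfl
  chk := checkE6
  hpos := posE6
  refl := fun i r => by
    refine ⟨(T φ q hφ hqq).n_mem_N i, ?_⟩
    have h : permHom hE6 K ⟨n (K := K) i, (T φ q hφ hqq).n_mem_N i⟩ r = wP i r :=
      permHom_eq_of_conj hE6 (conj_root i r)
    exact (congrArg Fin.val h).trans (wp_eq i r)
  Xi_le := fun i x hx _ => by
    have h : rs K (posE i) ≤ Subgroup.closure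
        {y : GL chevE6.Idx K | ∃ r ∈ ΔE6 i, y ∈ chevE6.rootSubgroup K r} := by
      refine rs_le fun r hr t => Subgroup.subset_closure ⟨r, ?_, mem_X.2 ⟨t, rfl⟩⟩
      rw [ΔE6_eq]
      exact hr
    exact h hx
  X_mul := fun i x hx y hy => mul_mem (inv_mem hx) hy
  Y_le := fun i y hy _ => rs_negE_le i hy
  card_X := fun i => by
    rw [card_cls]
    rcases classes.{u} i with ⟨j, C⟩ | ⟨j, j', C⟩
    · rw [C.pos, List.length_singleton, pow_one]
      exact card_single φ hφ hqq hq hK C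
    · rw [C.pos]
      exact card_pair φ hφ hqq hK C

open Classical in
/-- **The order of ²E₆(q)** in terms of the relative Weyl group. -/
theorem card_G {q : ℕ} (φ : K →+* K) (hφ : ∀ t, φ t = t ^ q) (hqq : ∀ t : K, (t ^ q) ^ q = t)
    [Fintype K] (hq : 1 < q) (hK : Fintype.card K = q ^ 2) (s : ℕ → Equiv.Perm (Fin chevE6.nroots))
    (hs : ∀ i < 6, ∀ r, ((s i r : Fin chevE6.nroots) : ℕ) = chevE6.reflectRoot i r) :
    Nat.card ↥(twistedE6 K q) =
      (∑ w ∈ Finset.univ.filter (fun w => w ∈ Subgroup.closure {s 1, s 3, s 2 * s 4, s 0 * s 5}),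
        BNOrder.wt (fun r : Fin chevE6.nroots => chevE6.IsPosRoot r) (fun _ => q) w) *
      (Nat.card ↥(chevE6.posUnipotent K ⊓ twistedE6 K q) *
        Nat.card ↥(chevE6.diagonalSubgroup K ⊓ twistedE6 K q)) := by
  have : Finite (T φ q hφ hqq).G := by
    show Finite ↥(twistedE6 K q)
    infer_instance
  have h := TwistedAction.card_G (input φ hφ hqq hq hK) (gE6 s) (gE6_apply hs)
  rw [range_gE6] at h
  exact h

end Cfsg.Agent.ChevalleyStructure.TwE6Card
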