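import Mathlib
import Cfsg.Agent.LieExceptional.BNPairCore

/-!
# The order of a finite group with a (B,N)-pair, with unequal parameters

`P : Cfsg.BNPair G`.  The double coset sizes are multiplicative along products `s n` with
`s B n ⊆ B s n B`:  `|B s B| |B n B| = |B s n B| |B|`.

Given a permutation action `ρ` of `P.N` on a finite set `Φ` of "roots" with kernel `B ⊓ N`, a
positivity predicate, for every distinguished generator `n i` the class `Δ i` of positive roots made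
negative by `n i`, and an invariant weight `c : Φ → ℕ` with `[B : B ∩ n_i B n_i⁻¹] = ∏_{a ∈ Δ i} c a`,
we get `|B n B| = |B| ∏_{a > 0, n⁻¹ a < 0} c a` and `|G| = |B| ∑_{w ∈ ρ(N)} ∏_{a > 0, w a < 0} c a`.
-/

set_option autoImplicit false

namespace Cfsg.Agent.ChevalleyStructure.BNOrder

open Cfsg Cfsg.Agent.LieExceptional.BNPairCore

variable {G : Type*} [Group G] {P : BNPair G}

/-! ### Sizes of double cosets -/

/-- Two factorisations `g = x y`, `x ∈ B s B`, `y ∈ B n B` differ by an element of `B`. -/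
theorem inv_mul_mem_B {s n x x' g : G} (hs : s ∈ P.S) (hn : n ∈ P.N)
    (hmul : ∀ b ∈ P.B, s * b * n ∈ C P (s * n))
    (hx : x ∈ C P s) (hx' : x' ∈ C P s) (hy : x⁻¹ * g ∈ C P n) (hy' : x'⁻¹ * g ∈ C P n) :
    x'⁻¹ * x ∈ P.B := by
  obtain ⟨a, ha, b, hb, rfl⟩ := mem_C.1 hx
  obtain ⟨a', ha', b', hb', rfl⟩ := mem_C.1 hx'
  -- `x'⁻¹ x = b'⁻¹ s⁻¹ (a'⁻¹ a) s b`
  have h1 : (a' * s * b')⁻¹ * (a * s * b) =
      b'⁻¹ * (s * ((s * s)⁻¹ * (a'⁻¹ * a)) * s) * b := by group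
  rcases axiom_left (P := P) hs (mem_N hs)
      (mul_mem (inv_sq_mem hs) (mul_mem (inv_mem ha') ha)) with h | h
  · rw [h1]
    exact mul_mem (mul_mem (inv_mem hb') (mem_B_of_mem_C (P.sq_mem s hs) h)) hb
  · exfalso
    have h2 : (a' * s * b')⁻¹ * (a * s * b) ∈ C P s := by
      rw [h1]
      exact mul_mem_C_right hb (mul_mem_C_left (inv_mem hb') h)
    obtain ⟨c, hc, d, hd, h3⟩ := mem_C.1 h2
    obtain ⟨e, he, f, hf, h4⟩ := mem_C.1 hy
    have h5 : (a' * s * b')⁻¹ * g = c * (s * (d * e) * n) * f := by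
      calc (a' * s * b')⁻¹ * g = ((a' * s * b')⁻¹ * (a * s * b)) * ((a * s * b)⁻¹ * g) := by group
        _ = (c * s * d) * (e * n * f) := by rw [h3, h4]
        _ = _ := by group
    have h6 : (a' * s * b')⁻¹ * g ∈ C P (s * n) := by
      rw [h5]
      exact mul_mem_C_right hf (mul_mem_C_left hc (hmul _ (mul_mem hd he)))
    exact not_C_mul_left_eq hs hn (C_eq_of_mem_mem h6 hy')

/-- `|B s n B| |B| = |B s B| |B n B|` if `s B n ⊆ B s n B`. -/
theorem card_C_mul {s n : G} (hs : s ∈ P.S) (hn : n ∈ P.N)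
    (hmul : ∀ b ∈ P.B, s * b * n ∈ C P (s * n)) :
    Nat.card (C P (s * n)) * Nat.card P.B = Nat.card (C P s) * Nat.card (C P n) := by
  classical
  have hex : ∀ g : C P (s * n), ∃ x : G, x ∈ C P s ∧ x⁻¹ * (g : G) ∈ C P n := by
    rintro ⟨g, hg⟩
    obtain ⟨a, ha, b, hb, rfl⟩ := mem_C.1 hg
    refine ⟨a * s, mem_C.2 ⟨a, ha, 1, one_mem _, by group⟩, ?_⟩
    refine mem_C.2 ⟨1, one_mem _, b, hb, by group⟩
  choose x hx hx' using hex
  rw [← Nat.card_prod, ← Nat.card_prod]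
  refine Nat.card_congr (Equiv.ofBijective
    (fun p : (C P (s * n)) × P.B =>
      ((⟨x p.1 * p.2, mul_mem_C_right p.2.2 (hx p.1)⟩,
        ⟨(x p.1 * p.2)⁻¹ * (p.1 : G), by
          have : (x p.1 * (p.2 : G))⁻¹ * (p.1 : G) = (p.2 : G)⁻¹ * ((x p.1)⁻¹ * (p.1 : G)) := by
            group
          rw [this]
          exact mul_mem_C_left (inv_mem p.2.2) (hx' p.1)⟩) : (C P s) × (C P n))) ⟨?_, ?_⟩)
  · rintro ⟨g, b⟩ ⟨g', b'⟩ h
    have h1 := congrArg (fun p : (C P s) × (C P n) => (p.1 : G)) h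
    have h2 := congrArg (fun p : (C P s) × (C P n) => (p.2 : G)) h
    simp only at h1 h2
    have h3 : (g : G) = g' := by
      calc (g : G) = (x g * b) * ((x g * b)⁻¹ * g) := by group
        _ = (x g' * b') * ((x g' * b')⁻¹ * g') := by rw [h2, h1]
        _ = g' := by group
    have h4 : g = g' := Subtype.ext h3
    subst h4
    have h5 : (b : G) = b' := mul_left_cancel h1
    rw [Subtype.ext h5]
  · rintro ⟨⟨y, hy⟩, ⟨z, hz⟩⟩
    have hg : y * z ∈ C P (s * n) := by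
      obtain ⟨a, ha, b, hb, rfl⟩ := mem_C.1 hy
      obtain ⟨c, hc, d, hd, rfl⟩ := mem_C.1 hz
      have : a * s * b * (c * n * d) = a * (s * (b * c) * n) * d := by group
      rw [this]
      exact mul_mem_C_right hd (mul_mem_C_left ha (hmul _ (mul_mem hb hc)))
    have hb : (x ⟨y * z, hg⟩)⁻¹ * y ∈ P.B := by
      refine inv_mul_mem_B (g := y * z) hs hn hmul hy (hx _) ?_ (hx' ⟨y * z, hg⟩)
      have : y⁻¹ * (y * z) = z := by group
      rw [this]; exact hz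
    refine ⟨(⟨y * z, hg⟩, ⟨_, hb⟩), ?_⟩
    simp only [Prod.mk.injEq, Subtype.mk.injEq]
    constructor
    · group
    · group

/-- `|B n B| = |X| |B|` if `X ≤ B` is a complement to `B ∩ n B n⁻¹` in `B`. -/
theorem card_C_of_complement {n : G} (X : Set G) (hX : ∀ x ∈ X, x ∈ P.B)
    (hdec : ∀ b ∈ P.B, ∃ x ∈ X, ∃ k, n⁻¹ * k * n ∈ P.B ∧ b = x * k)
    (hinj : ∀ x ∈ X, ∀ x' ∈ X, n⁻¹ * (x'⁻¹ * x) * n ∈ P.B → x = x') :
    Nat.card (C P n) = Nat.card X * Nat.card P.B := by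
  rw [← Nat.card_prod]
  symm
  refine Nat.card_congr (Equiv.ofBijective
    (fun p : X × P.B => (⟨(p.1 : G) * n * p.2, mem_C.2 ⟨p.1, hX _ p.1.2, p.2, p.2.2, rfl⟩⟩ :
      C P n)) ⟨?_, ?_⟩)
  · rintro ⟨⟨x, hx⟩, b⟩ ⟨⟨x', hx'⟩, b'⟩ h
    have h1 : x * n * b = x' * n * b' := congrArg Subtype.val h
    have h2 : n⁻¹ * (x'⁻¹ * x) * n = (b' : G) * (b : G)⁻¹ := by
      calc n⁻¹ * (x'⁻¹ * x) * n = n⁻¹ * x'⁻¹ * (x * n * b) * (b : G)⁻¹ := by group
        _ = n⁻¹ * x'⁻¹ * (x' * n * b') * (b : G)⁻¹ := by rw [h1]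
        _ = _ := by group
    have h3 : x = x' := hinj x hx x' hx' (by
      rw [h2]; exact mul_mem b'.2 (inv_mem b.2))
    subst h3
    have h4 : (b : G) = b' := mul_left_cancel h1
    rw [Subtype.ext h4]
  · rintro ⟨g, hg⟩
    obtain ⟨b, hb, b', hb', rfl⟩ := mem_C.1 hg
    obtain ⟨x, hx, k, hk, rfl⟩ := hdec b hb
    refine ⟨(⟨x, hx⟩, ⟨n⁻¹ * k * n * b', mul_mem hk hb'⟩), ?_⟩
    apply Subtype.ext
    show x * n * (n⁻¹ * k * n * b') = x * k * n * b'
    group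

/-- `|B n B| = [B : B ∩ n B n⁻¹] |B|`. -/
theorem card_C_eq_index (n : G) (K : Subgroup G) (hK : ∀ k, k ∈ K ↔ k ∈ P.B ∧ n⁻¹ * k * n ∈ P.B) :
    Nat.card (C P n) * Nat.card K = Nat.card P.B * Nat.card P.B := by
  obtain ⟨T, hT, -⟩ := Subgroup.exists_isComplement_left (K.subgroupOf P.B) 1
  have hKB : K ≤ P.B := fun k hk => ((hK k).1 hk).1
  have h1 : Nat.card (C P n) = Nat.card (Subtype.val '' T : Set G) * Nat.card P.B := by
    apply card_C_of_complement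
    · rintro _ ⟨x, _, rfl⟩
      exact x.2
    · intro b hb
      obtain ⟨⟨⟨x, hx⟩, ⟨k, hk⟩⟩, hxk⟩ := hT.2 ⟨b, hb⟩
      refine ⟨x, ⟨x, hx, rfl⟩, k, ?_, ?_⟩
      · exact ((hK _).1 (Subgroup.mem_subgroupOf.1 hk)).2
      · exact (congrArg Subtype.val hxk).symm
    · rintro _ ⟨x, hx, rfl⟩ _ ⟨x', hx', rfl⟩ h
      have hk : x'⁻¹ * x ∈ K.subgroupOf P.B := by
        rw [Subgroup.mem_subgroupOf, hK]
        exact ⟨(x'⁻¹ * x).2, h⟩
      have := hT.1 (a₁ := (⟨x', hx'⟩, ⟨x'⁻¹ * x, hk⟩)) (a₂ := (⟨x, hx⟩, ⟨1, one_mem _⟩)) (by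
        simp)
      have h2 := congrArg (fun p => ((p.1 : P.B) : G)) this
      exact h2.symm
  have h2 : Nat.card (Subtype.val '' T : Set G) = Nat.card T :=
    Nat.card_image_of_injective Subtype.val_injective T
  have h3 : Nat.card T * Nat.card K = Nat.card P.B := by
    have h4 := hT.card_mul_card
    rw [← h4]
    congr 1
    exact (Nat.card_congr (Subgroup.subgroupOfEquivOfLe hKB).toEquiv).symm
  calc Nat.card (C P n) * Nat.card K = Nat.card T * Nat.card K * Nat.card P.B := by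
        rw [h1, h2]; ring
    _ = _ := by rw [h3]

/-! ### Weights of permutations -/

section weight

variable {Φ : Type*} [Fintype Φ]

open Classical in
/-- The weight of a permutation `w`: the product of `c a` over the positive `a` with `w a` not
positive. -/
noncomputable def wt (pos : Φ → Prop) (c : Φ → ℕ) (w : Equiv.Perm Φ) : ℕ :=
  ∏ a ∈ Finset.univ.filter (fun a => pos a ∧ ¬ pos (w a)), c a

open Classical in
theorem wt_def (pos : Φ → Prop) (c : Φ → ℕ) (w : Equiv.Perm Φ) :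
    wt pos c w = ∏ a ∈ Finset.univ.filter (fun a => pos a ∧ ¬ pos (w a)), c a := rfl

theorem wt_one (pos : Φ → Prop) (c : Φ → ℕ) : wt pos c 1 = 1 := by
  classical
  rw [wt_def]
  apply Finset.prod_eq_one
  intro a ha
  simp at ha

/-- Multiplying by a reflection `r` on the right, when `w` keeps the class `Δ` of `r` positive. -/
theorem wt_mul_refl {pos : Φ → Prop} {c : Φ → ℕ} {r : Equiv.Perm Φ} {Δ : Finset Φ}
    (hr2 : ∀ a, r (r a) = a) (hΔ : ∀ a ∈ Δ, pos a) (hneg : ∀ a ∈ Δ, ¬ pos (r a))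
    (hpos : ∀ a, pos a → a ∉ Δ → pos (r a)) (hc : ∀ a, c (r a) = c a)
    {w : Equiv.Perm Φ} (h1 : ∀ a ∈ Δ, pos (w a)) (h2 : ∀ a ∈ Δ, ¬ pos (w (r a))) :
    wt pos c (w * r) = (∏ a ∈ Δ, c a) * wt pos c w := by
  classical
  rw [wt_def, wt_def]
  have hsplit : Finset.univ.filter (fun a => pos a ∧ ¬ pos ((w * r) a)) =
      Δ ∪ (Finset.univ.filter (fun a => pos a ∧ ¬ pos (w a))).map r.toEmbedding := by
    ext a
    rw [Finset.mem_filter, Equiv.Perm.mul_apply]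
    simp only [Finset.mem_filter, Finset.mem_univ, true_and, Finset.mem_union, Finset.mem_map,
      Equiv.toEmbedding_apply]
    constructor
    · rintro ⟨ha, ha'⟩
      by_cases hmem : a ∈ Δ
      · exact Or.inl hmem
      · exact Or.inr ⟨r a, ⟨hpos a ha hmem, ha'⟩, hr2 a⟩
    · rintro (ha | ⟨b, ⟨hb, hb'⟩, rfl⟩)
      · exact ⟨hΔ a ha, h2 a ha⟩
      · refine ⟨hpos b hb ?_, by rwa [hr2]⟩
        intro hbΔ
        exact hb' (h1 b hbΔ)
  rw [hsplit, Finset.prod_union]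
  · congr 1
    rw [Finset.prod_map]
    exact Finset.prod_congr rfl fun a _ => hc a
  · rw [Finset.disjoint_left]
    intro a ha hmem
    simp only [Finset.mem_map, Finset.mem_filter, Finset.mem_univ, true_and,
      Equiv.toEmbedding_apply] at hmem
    obtain ⟨b, ⟨hb, _⟩, rfl⟩ := hmem
    have := hneg _ ha
    rw [hr2] at this
    exact this hb

end weight

/-! ### The order formula -/

/-- The data needed for the order formula: a permutation action of `N` on a finite set `Φ` of roots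
with kernel `B ⊓ N`, signs, the classes `Δ i` of the generators `n i`, the weights `c`, and the root
groups `X i ≤ B` of the generators. -/
structure Params (P : BNPair G) (ι Φ : Type*) [Fintype Φ] where
  n : ι → G
  n_mem : ∀ i, n i ∈ P.S
  exists_n : ∀ s ∈ P.S, ∃ i, n i = s
  ρ : P.N →* Equiv.Perm Φ
  ker : ∀ m : P.N, ρ m = 1 ↔ (m : G) ∈ P.B
  pos : Φ → Prop
  Δ : ι → Finset Φ
  Δ_pos : ∀ i, ∀ a ∈ Δ i, pos a
  refl_neg : ∀ i, ∀ a ∈ Δ i, ¬ pos (ρ ⟨n i, mem_N (n_mem i)⟩ a)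
  refl_pos : ∀ i a, pos a → a ∉ Δ i → pos (ρ ⟨n i, mem_N (n_mem i)⟩ a)
  cases : ∀ (m : P.N) (i : ι),
    ((∀ a ∈ Δ i, pos (ρ m a)) ∧ ∀ a ∈ Δ i, ¬ pos (ρ m (ρ ⟨n i, mem_N (n_mem i)⟩ a))) ∨
    ((∀ a ∈ Δ i, ¬ pos (ρ m a)) ∧ ∀ a ∈ Δ i, pos (ρ m (ρ ⟨n i, mem_N (n_mem i)⟩ a)))
  c : Φ → ℕ
  c_inv : ∀ i a, c (ρ ⟨n i, mem_N (n_mem i)⟩ a) = c a
  X : ι → Set G
  X_le : ∀ i, ∀ x ∈ X i, x ∈ P.B
  decomp : ∀ i, ∀ b ∈ P.B, ∃ x ∈ X i, ∃ k, (n i)⁻¹ * k * n i ∈ P.B ∧ b = x * k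
  conj_X : ∀ i, ∀ m : P.N, (∀ a ∈ Δ i, pos (ρ m⁻¹ a)) → ∀ x ∈ X i, (m : G)⁻¹ * x * m ∈ P.B
  X_inj : ∀ i, ∀ x ∈ X i, ∀ x' ∈ X i, (n i)⁻¹ * (x'⁻¹ * x) * n i ∈ P.B → x = x'
  X_inv : ∀ i, ∀ x ∈ X i, x⁻¹ ∈ X i
  card_X : ∀ i, Nat.card (X i) = ∏ a ∈ Δ i, c a

namespace Params

variable {ι Φ : Type*} [Fintype Φ] (R : Params P ι Φ)

/-- the generator as an element of `N` -/
def nn (i : ι) : P.N := ⟨R.n i, mem_N (R.n_mem i)⟩

theorem coe_nn (i : ι) : (R.nn i : G) = R.n i := rfl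

theorem ρ_sq (i : ι) (a : Φ) : R.ρ (R.nn i) (R.ρ (R.nn i) a) = a := by
  have h : R.ρ (R.nn i * R.nn i) = 1 := by
    rw [R.ker]
    exact P.sq_mem _ (R.n_mem i)
  rw [map_mul] at h
  have := congrArg (fun σ : Equiv.Perm Φ => σ a) h
  simpa using this

theorem ρ_inv (i : ι) : (R.ρ (R.nn i))⁻¹ = R.ρ (R.nn i) := by
  rw [inv_eq_iff_mul_eq_one]
  ext a
  rw [Equiv.Perm.mul_apply, R.ρ_sq]
  rfl

theorem ρ_eq_of_mem {m m' : P.N} (h : (m : G)⁻¹ * m' ∈ P.B) : R.ρ m = R.ρ m' := by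
  have : R.ρ (m⁻¹ * m') = 1 := (R.ker _).2 h
  rw [map_mul, map_inv, inv_mul_eq_one] at this
  exact this

theorem mem_of_ρ_eq {m m' : P.N} (h : R.ρ m = R.ρ m') : (m : G)⁻¹ * m' ∈ P.B := by
  have : R.ρ (m⁻¹ * m') = 1 := by
    rw [map_mul, map_inv, h, inv_mul_cancel]
  exact (R.ker _).1 this

/-- If `m⁻¹ Δ_i > 0` then `n_i B m ⊆ B n_i m B`. -/
theorem mul_mem_C (i : ι) (m : P.N) (hm : ∀ a ∈ R.Δ i, R.pos (R.ρ m⁻¹ a)) :
    ∀ b ∈ P.B, R.n i * b * m ∈ C P (R.n i * m) := by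
  intro b hb
  obtain ⟨x, hx, k, hk, h⟩ := R.decomp i b⁻¹ (inv_mem hb)
  -- `b = k⁻¹ x⁻¹`
  have hb' : b = k⁻¹ * x⁻¹ := by
    rw [← mul_inv_rev, ← h, inv_inv]
  have hsq : R.n i * R.n i ∈ P.B := P.sq_mem _ (R.n_mem i)
  have hk2 : k ∈ P.B := by
    have : k = x⁻¹ * b⁻¹ := by rw [h]; group
    rw [this]; exact mul_mem (inv_mem (R.X_le i x hx)) (inv_mem hb)
  have hk' : R.n i * k⁻¹ * (R.n i)⁻¹ ∈ P.B := by
    have h2 : R.n i * k⁻¹ * (R.n i)⁻¹ =
        (R.n i * R.n i) * ((R.n i)⁻¹ * k * R.n i)⁻¹ * (R.n i * R.n i)⁻¹ := by group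
    rw [h2]
    exact mul_mem (mul_mem hsq (inv_mem hk)) (inv_mem hsq)
  have hx' : (m : G)⁻¹ * x⁻¹ * m ∈ P.B := R.conj_X i m hm x⁻¹ (R.X_inv i x hx)
  refine mem_C.2 ⟨_, hk', _, hx', ?_⟩
  rw [hb']
  group

theorem card_C_n (i : ι) : Nat.card (C P (R.n i)) = (∏ a ∈ R.Δ i, R.c a) * Nat.card P.B := by
  rw [← R.card_X i]
  exact card_C_of_complement (R.X i) (R.X_le i) (R.decomp i) (R.X_inj i)

/-- one step -/
theorem card_C_step [Finite G] (i : ι) (m : P.N) (hm : ∀ a ∈ R.Δ i, R.pos (R.ρ m⁻¹ a)) :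
    Nat.card (C P (R.n i * m)) = (∏ a ∈ R.Δ i, R.c a) * Nat.card (C P m) := by
  have h := card_C_mul (R.n_mem i) m.2 (R.mul_mem_C i m hm)
  rw [R.card_C_n i] at h
  have hB : 0 < Nat.card P.B := Nat.card_pos
  have h2 : Nat.card P.B * Nat.card (C P (R.n i * m)) =
      Nat.card P.B * ((∏ a ∈ R.Δ i, R.c a) * Nat.card (C P m)) := by
    rw [mul_comm, h]; ring
  exact Nat.eq_of_mul_eq_mul_left hB h2

theorem wt_step (i : ι) (m : P.N) (hm : ∀ a ∈ R.Δ i, R.pos (R.ρ m⁻¹ a)) :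
    wt R.pos R.c (R.ρ (R.nn i * m)⁻¹) = (∏ a ∈ R.Δ i, R.c a) * wt R.pos R.c (R.ρ m⁻¹) := by
  rw [mul_inv_rev, map_mul, map_inv R.ρ (R.nn i), R.ρ_inv]
  rcases R.cases m⁻¹ i with ⟨h1, h2⟩ | ⟨h1, h2⟩
  · exact wt_mul_refl (R.ρ_sq i) (R.Δ_pos i) (R.refl_neg i) (R.refl_pos i) (R.c_inv i) h1 h2
  · by_cases hne : (R.Δ i).Nonempty
    · obtain ⟨a, ha⟩ := hne
      exact absurd (hm a ha) (h1 a ha)
    · rw [Finset.not_nonempty_iff_eq_empty] at hne
      exact wt_mul_refl (R.ρ_sq i) (R.Δ_pos i) (R.refl_neg i) (R.refl_pos i) (R.c_inv i)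
        (by simp [hne]) (by simp [hne])

/-- The size of the double coset `B m B`. -/
theorem card_C [Finite G] (m : P.N) :
    Nat.card (C P (m : G)) = wt R.pos R.c (R.ρ m⁻¹) * Nat.card P.B := by
  obtain ⟨l, hl, hrel⟩ := exists_word (P := P) m.2
  -- reduce to words
  have key : ∀ l : List G, (∀ s ∈ l, s ∈ P.S) → ∀ m : P.N, (m : G) = l.prod →
      Nat.card (C P (m : G)) = wt R.pos R.c (R.ρ m⁻¹) * Nat.card P.B := by
    intro l
    induction l with
    | nil =>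
      intro _ m hm
      have : m = 1 := Subtype.ext (by simpa using hm)
      subst this
      rw [inv_one, map_one, wt_one, one_mul]
      refine Nat.card_congr (Equiv.setCongr ?_)
      ext g
      exact mem_C_one
    | cons s l ih =>
      intro hl m hm
      have hs : s ∈ P.S := hl s (by simp)
      have hl' : ∀ x ∈ l, x ∈ P.S := fun x hx => hl x (by simp [hx])
      obtain ⟨i, hi⟩ := R.exists_n s hs
      have hm'N : l.prod ∈ P.N := prod_mem_N hl'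
      set m' : P.N := ⟨l.prod, hm'N⟩ with hm'
      have ih' := ih hl' m' rfl
      have hmm : m = R.nn i * m' := Subtype.ext (by
        rw [hm, List.prod_cons]
        show s * l.prod = R.n i * l.prod
        rw [hi])
      rcases R.cases m'⁻¹ i with ⟨h1, h2⟩ | ⟨h1, h2⟩
      · have e1 := R.card_C_step i m' h1
        have e2 := R.wt_step i m' h1
        rw [hmm, e2, mul_assoc, ← ih', ← e1]
        rfl
      · -- `m'' = n_i m'`
        set m'' : P.N := R.nn i * m' with hm''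
        have h3 : ∀ a ∈ R.Δ i, R.pos (R.ρ m''⁻¹ a) := by
          intro a ha
          rw [hm'', mul_inv_rev, map_mul, map_inv R.ρ (R.nn i), R.ρ_inv]
          exact h2 a ha
        have e1 := R.card_C_step i m'' h3
        have e2 := R.wt_step i m'' h3
        -- `n_i n_i m' ~ m'`
        have e3 : C P (R.n i * (m'' : G)) = C P (m' : G) :=
          C_eq_of_rel (rel_sq_mul (R.n_mem i) m'.2)
        have e4 : R.ρ (R.nn i * m'')⁻¹ = R.ρ m'⁻¹ := by
          rw [map_inv, map_inv, inv_inj]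
          apply R.ρ_eq_of_mem
          exact rel_sq_mul (R.n_mem i) m'.2
        rw [e3] at e1
        rw [e4] at e2
        rw [e1, e2] at ih'
        rw [hmm]
        have hpos : 0 < ∏ a ∈ R.Δ i, R.c a := by
          have h5 : 0 < Nat.card (C P (R.n i)) := by
            have : Nonempty (C P (R.n i)) := ⟨⟨_, self_mem_C _⟩⟩
            exact Nat.card_pos
          rw [R.card_C_n i] at h5
          exact Nat.pos_of_mul_pos_right h5
        rw [mul_assoc] at ih'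
        exact Nat.eq_of_mul_eq_mul_left hpos ih'
  have hlN : l.prod ∈ P.N := prod_mem_N hl
  have h1 := key l hl ⟨l.prod, hlN⟩ rfl
  have h2 : R.ρ ⟨l.prod, hlN⟩ = R.ρ m := R.ρ_eq_of_mem hrel
  rw [map_inv] at h1 ⊢
  rw [← h2, ← h1]
  rw [C_eq_of_rel hrel]

/-- `|B| = |B ∩ m B m⁻¹| · wt(m⁻¹)`; for the longest `m` this gives `|B|`. -/
theorem card_B [Finite G] (m : P.N) (K : Subgroup G)
    (hK : ∀ k, k ∈ K ↔ k ∈ P.B ∧ (m : G)⁻¹ * k * m ∈ P.B) :
    Nat.card P.B = wt R.pos R.c (R.ρ m⁻¹) * Nat.card K := by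
  have h1 := card_C_eq_index (P := P) (m : G) K hK
  rw [R.card_C m] at h1
  have hB : 0 < Nat.card P.B := Nat.card_pos
  apply Nat.eq_of_mul_eq_mul_left hB
  rw [← h1]
  ring

open Classical in
/-- **The order formula.** -/
theorem card_eq_sum [Finite G] :
    Nat.card G = (∑ w ∈ Finset.univ.filter (fun w : Equiv.Perm Φ => w ∈ R.ρ.range),
      wt R.pos R.c w) * Nat.card P.B := by
  have hex : ∀ g : G, ∃ m : P.N, g ∈ C P (m : G) := by
    intro g
    obtain ⟨n, hn, h⟩ := bruhat (P := P) g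
    exact ⟨⟨n, hn⟩, h⟩
  choose f hf using hex
  have hfib : ∀ m : P.N, ∀ g : G, R.ρ (f g) = R.ρ m ↔ g ∈ C P (m : G) := by
    intro m g
    constructor
    · intro h
      have := R.mem_of_ρ_eq h
      rw [← C_eq_of_rel this]
      exact hf g
    · intro h
      exact R.ρ_eq_of_mem (rel_of_C_eq (f g).2 m.2 (C_eq_of_mem_mem (hf g) h))
  have := Fintype.ofFinite G
  rw [Nat.card_eq_fintype_card, ← Finset.card_univ,
    Finset.card_eq_sum_card_fiberwise (f := fun g => (R.ρ (f g))⁻¹)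
      (t := Finset.univ.filter (fun w : Equiv.Perm Φ => w ∈ R.ρ.range)), Finset.sum_mul]
  · refine Finset.sum_congr (by congr) ?_
    intro w hw
    simp only [Finset.mem_filter, Finset.mem_univ, true_and] at hw
    obtain ⟨m, rfl⟩ := hw
    have h1 := R.card_C m⁻¹
    rw [inv_inv] at h1
    rw [← h1, Nat.card_eq_card_toFinset]
    congr 1
    ext g
    simp only [Finset.mem_filter, Finset.mem_univ, true_and, Set.mem_toFinset]
    rw [← hfib, map_inv, inv_eq_iff_eq_inv]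
  · intro g _
    rw [Finset.mem_coe, Finset.mem_filter]
    exact ⟨Finset.mem_univ _, inv_mem ⟨f g, rfl⟩⟩

end Params

end Cfsg.Agent.ChevalleyStructure.BNOrder
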