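import Cfsg.Agent.ChevalleyStructure.WeylPacked

/-!
Kernel-checkable orbit certificates for one step of the parabolic chain (weights powers of `q`).
-/

set_option autoImplicit false

namespace Cfsg.Agent.ChevalleyStructure.WeylOrbit

open Cfsg Cfsg.Lie Cfsg.Agent.ChevalleyStructure.WeylAbstract
  Cfsg.Agent.ChevalleyStructure.WeylPacked

theorem sum_range_eq' {M : Type*} [AddCommMonoid M] (l : ℕ) (f : ℕ → M) :
    ((List.range l).map f).sum = ∑ k : Fin l, f k := by
  rw [← Finset.sum_range]
  induction l with
  | zero => rfl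
  | succ l ih => rw [List.range_succ, List.map_append, List.sum_append, ih, Finset.sum_range_succ]; simp

/-- The reflection on weights, as lists. -/
def actL (T : Tab) (i : ℕ) (m : List ℤ) : List ℤ :=
  (List.range T.l).map fun k => m.getD k 0 - m.getD i 0 * T.A i k

/-- The weight given by a list. -/
def toF (T : Tab) (m : List ℤ) : Fin T.l → ℤ := fun i => m.getD i 0

theorem toF_actL (T : Tab) (h : T.Spec) (s : Fin T.l → Equiv.Perm (Fin T.n))
    (hs : ∀ i r, ((s i r : Fin T.n) : ℕ) = T.P i r) (i : Fin T.l) (m : List ℤ) :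
    toF T (actL T i m) = (T.toRData h s hs).act i (toF T m) := by
  funext k
  show (actL T i m).getD k 0 = m.getD k 0 - m.getD i 0 * T.A i k
  unfold actL
  rw [List.getD_eq_getElem?_getD, List.getElem?_map, List.getElem?_range k.2]
  rfl

/-- The base weight. -/
def baseL (T : Tab) (k : ℕ) : List ℤ := (List.range T.l).map fun i => if i = k then 1 else 0

theorem toF_baseL (T : Tab) (k : Fin T.l) : toF T (baseL T k) = Pi.single k 1 := by
  funext i
  show (baseL T k).getD i 0 = _
  unfold baseL
  rw [List.getD_eq_getElem?_getD, List.getElem?_map, List.getElem?_range i.2]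
  show (if (i : ℕ) = k then (1 : ℤ) else 0) = _
  by_cases h : i = k
  · rw [if_pos (by rw [h]), h, Pi.single_eq_same]
  · rw [if_neg (fun h' => h (Fin.ext h')), Pi.single_eq_of_ne h]

/-- every new element is obtained from an earlier one -/
def reachL (T : Tab) (J : List ℕ) : List (List ℤ) → List (List ℤ) → Bool
  | _, [] => true
  | acc, m :: rest => (J.any fun j => acc.any fun m' => actL T j m' == m) &&
      reachL T J (m :: acc) rest

/-- The exponent of a weight. -/
def expo (T : Tab) (cl : ℕ → ℕ) (m : List ℤ) : ℕ :=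
  ((List.range T.n).map fun s => bif Nat.ble (T.n / 2) s &&
    decide (((List.range T.l).map fun i => T.co s i * m.getD i 0).sum < 0) then cl s else 0).sum

/-- The orbit certificate. -/
def orbitOK (T : Tab) (cl : ℕ → ℕ) (J : List ℕ) (k : ℕ) (L : List (List ℤ)) (E : List ℕ) : Bool :=
  (J.all fun j => Nat.blt j T.l) &&
  (match L with
    | [] => false
    | m :: rest => m == baseL T k && reachL T J [m] rest) &&
  (L.all fun m => Nat.beq m.length T.l && J.all fun j => L.contains (actL T j m)) &&
  decide L.Nodup &&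
  (L.map (expo T cl) == E)

section

variable {T : Tab} (h : T.Spec) (s : Fin T.l → Equiv.Perm (Fin T.n))
  (hs : ∀ i r, ((s i r : Fin T.n) : ℕ) = T.P i r)

theorem reach_of_reachL {J : List ℕ} {Js : Set (Fin T.l)} (hJ : ∀ j : Fin T.l, j ∈ Js ↔ j.val ∈ J)
    (hJl : ∀ j ∈ J, j < T.l) {k : Fin T.l} :
    ∀ (rest acc : List (List ℤ)), (∀ m ∈ acc, (T.toRData h s hs).Reach Js k (toF T m)) →
      reachL T J acc rest = true → ∀ m ∈ rest, (T.toRData h s hs).Reach Js k (toF T m) := by
  intro rest
  induction rest with
  | nil => intro acc _ _ m hm; simp at hm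
  | cons m0 rest ih =>
    intro acc hacc hr
    rw [reachL, Bool.and_eq_true, List.any_eq_true] at hr
    obtain ⟨⟨j, hj, hr1⟩, hr2⟩ := hr
    rw [List.any_eq_true] at hr1
    obtain ⟨m', hm', heq⟩ := hr1
    rw [beq_iff_eq] at heq
    have h0 : (T.toRData h s hs).Reach Js k (toF T m0) := by
      rw [← heq]
      have := RData.Reach.step (R := T.toRData h s hs) (⟨j, hJl j hj⟩ : Fin T.l) _
        ((hJ _).2 hj) (hacc m' hm')
      rw [← toF_actL T h s hs] at this
      exact this
    intro m hm
    rcases List.mem_cons.1 hm with rfl | hm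
    · exact h0
    · refine ih (m0 :: acc) ?_ hr2 m hm
      intro m'' hm''
      rcases List.mem_cons.1 hm'' with rfl | hm''
      · exact h0
      · exact hacc m'' hm''

theorem toF_injective {m m' : List ℤ} (hm : m.length = T.l) (hm' : m'.length = T.l)
    (heq : toF T m = toF T m') : m = m' := by
  apply List.ext_getElem (by rw [hm, hm'])
  intro i h1 h2
  have := congrFun heq ⟨i, by omega⟩
  simp only [toF, List.getD_eq_getElem?_getD, List.getElem?_eq_getElem h1,
    List.getElem?_eq_getElem h2, Option.getD_some] at this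
  exact this

theorem Qw_eq (q : ℕ) (cl : ℕ → ℕ) (m : List ℤ) :
    (T.toRData h s hs).Qw (fun r : Fin T.n => q ^ cl r) (toF T m) = q ^ expo T cl m := by
  classical
  unfold RData.Qw expo
  rw [sum_range_eq', ← Finset.prod_pow_eq_pow_sum, Finset.prod_filter]
  apply Finset.prod_congr rfl
  intro r _
  have hval : (T.toRData h s hs).val (toF T m) r =
      ((List.range T.l).map fun i => T.co r i * m.getD i 0).sum := by
    rw [sum_range_eq']
    rfl
  have hiff : ((T.toRData h s hs).pos r ∧ (T.toRData h s hs).val (toF T m) r < 0) ↔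
      (Nat.ble (T.n / 2) r &&
        decide (((List.range T.l).map fun i => T.co r i * m.getD i 0).sum < 0)) = true := by
    rw [Bool.and_eq_true, decide_eq_true_iff, ← hval, Nat.ble_eq]
    rfl
  by_cases hc : (T.toRData h s hs).pos r ∧ (T.toRData h s hs).val (toF T m) r < 0
  · rw [if_pos hc, hiff.1 hc]
    rfl
  · rw [if_neg hc]
    have : (Nat.ble (T.n / 2) r &&
        decide (((List.range T.l).map fun i => T.co r i * m.getD i 0).sum < 0)) = false := by
      rw [← Bool.not_eq_true]
      exact fun h' => hc (hiff.2 h')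
    rw [this]
    rfl

/-- One step of the chain, with certificate. -/
theorem step (q : ℕ) (cl : ℕ → ℕ)
    (hcl : ∀ i r, cl ((s i r : Fin T.n) : ℕ) = cl r) (hcn : ∀ r < T.n, cl (T.n - 1 - r) = cl r)
    {J : List ℕ} {Js : Set (Fin T.l)} (hJ : ∀ j : Fin T.l, j ∈ Js ↔ j.val ∈ J) (k : Fin T.l)
    {L : List (List ℤ)} {E : List ℕ} (hok : orbitOK T cl J k L E = true) :
    ∑ᶠ w ∈ ((T.toRData h s hs).W Js : Set (Equiv.Perm (Fin T.n))),
        (T.toRData h s hs).Q (fun r : Fin T.n => q ^ cl r) w =
      (E.map fun e => q ^ e).sum *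
        ∑ᶠ w ∈ ((T.toRData h s hs).W (Js \ {k}) : Set (Equiv.Perm (Fin T.n))),
          (T.toRData h s hs).Q (fun r : Fin T.n => q ^ cl r) w := by
  classical
  unfold orbitOK at hok
  simp only [Bool.and_eq_true] at hok
  obtain ⟨⟨⟨⟨h1, h2⟩, h3⟩, h4⟩, h5⟩ := hok
  have hJl : ∀ j ∈ J, j < T.l := by
    intro j hj
    have := List.all_eq_true.1 h1 j hj
    unfold Nat.blt at this
    exact Nat.le_of_ble_eq_true this
  have h4' : L.Nodup := of_decide_eq_true h4
  have h5' : L.map (expo T cl) = E := by simpa using h5
  have h3' : ∀ m ∈ L, m.length = T.l ∧ ∀ j ∈ J, actL T j m ∈ L := by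
    intro m hm
    have := List.all_eq_true.1 h3 m hm
    rw [Bool.and_eq_true, List.all_eq_true] at this
    refine ⟨Nat.eq_of_beq_eq_true this.1, fun j hj => ?_⟩
    have := this.2 j hj
    simpa using this
  cases L with
  | nil => simp at h2
  | cons m0 rest =>
    simp only [Bool.and_eq_true, beq_iff_eq] at h2
    obtain ⟨h21, h22⟩ := h2
    have hbase : (T.toRData h s hs).Reach Js k (toF T m0) := by
      rw [h21, toF_baseL]
      exact RData.Reach.base
    have hreach : ∀ m ∈ m0 :: rest, (T.toRData h s hs).Reach Js k (toF T m) := by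
      intro m hm
      rcases List.mem_cons.1 hm with rfl | hm
      · exact hbase
      · refine reach_of_reachL h s hs hJ hJl rest [m0] ?_ h22 m hm
        intro m' hm'
        rw [List.mem_singleton] at hm'
        rw [hm']
        exact hbase
    set LF : Finset (Fin T.l → ℤ) := ((m0 :: rest).map (toF T)).toFinset with hLF
    have hnd : ((m0 :: rest).map (toF T)).Nodup := by
      apply List.Nodup.map_on _ h4'
      intro m hm m' hm' heq
      exact toF_injective (h3' m hm).1 (h3' m' hm').1 heq
    have key := (T.toRData h s hs).sum_step (S := ℕ) (fun r : Fin T.n => q ^ cl r)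
      (fun i r => by
        show q ^ cl ((s i r : Fin T.n) : ℕ) = q ^ cl r
        rw [hcl])
      (fun r => by
        show q ^ cl (T.n - 1 - r) = q ^ cl r
        rw [hcn r r.2])
      (J := Js) (k := k) LF
      (by
        rw [hLF, List.mem_toFinset, ← toF_baseL, ← h21]
        simp)
      (by
        intro m hm j hj
        rw [hLF, List.mem_toFinset, List.mem_map] at hm ⊢
        obtain ⟨m', hm', rfl⟩ := hm
        refine ⟨actL T j m', (h3' m' hm').2 j ((hJ j).1 hj), ?_⟩
        exact toF_actL T h s hs j m')
      (by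
        intro m hm
        rw [hLF, List.mem_toFinset, List.mem_map] at hm
        obtain ⟨m', hm', rfl⟩ := hm
        exact hreach m' hm')
    rw [key]
    congr 1
    rw [hLF, List.sum_toFinset _ hnd, List.map_map, ← h5', List.map_map]
    congr 1
    apply List.map_congr_left
    intro m _
    exact Qw_eq h s hs q cl m

end

end Cfsg.Agent.ChevalleyStructure.WeylOrbit
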