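import Cfsg.Agent.ChevalleyStructure.WeylRelative
import Cfsg.Agent.ChevalleyStructure.WeylOrbit
import Cfsg.Agent.ChevalleyStructure.BNOrder

/-!
Poincaré sums of the relative Weyl groups of `³D₄` and `²E₆`.
-/

set_option autoImplicit false

namespace Cfsg.Agent.ChevalleyStructure.TwistedWeylSums

open Cfsg Cfsg.Lie Cfsg.Agent.ChevalleyStructure.WeylAbstract
  Cfsg.Agent.ChevalleyStructure.WeylPacked Cfsg.Agent.ChevalleyStructure.WeylOrbit
  Cfsg.Agent.ChevalleyStructure.WeylRelative Cfsg.Agent.ChevalleyStructure.WeylData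

/-- Permutation of `Fin n` from an involutive table. -/
def permOf (n : ℕ) (f : ℕ → ℕ) (h : ∀ r < n, f r < n ∧ f (f r) = r) : Equiv.Perm (Fin n) where
  toFun r := ⟨f r, (h r r.2).1⟩
  invFun r := ⟨f r, (h r r.2).1⟩
  left_inv r := Fin.ext (h r r.2).2
  right_inv r := Fin.ext (h r r.2).2

/-- involution check -/
def involOK (T : Tab) : Bool := (List.range T.l).all fun i => (List.range T.n).all fun r =>
  Nat.blt (T.P i r) T.n && Nat.beq (T.P i (T.P i r)) r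

theorem involOK_spec {T : Tab} (h : involOK T = true) (i : Fin T.l) :
    ∀ r < T.n, T.P i r < T.n ∧ T.P i (T.P i r) = r := by
  unfold involOK at h
  simp only [List.all_eq_true, List.mem_range, Bool.and_eq_true] at h
  intro r hr
  have h1 := h i i.2 r hr
  refine ⟨?_, Nat.eq_of_beq_eq_true h1.2⟩
  have := h1.1
  unfold Nat.blt at this
  exact Nat.le_of_ble_eq_true this

/-- The reflections of a table as permutations. -/
def perms (T : Tab) (h : involOK T = true) (i : Fin T.l) : Equiv.Perm (Fin T.n) :=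
  permOf T.n (T.P i) (involOK_spec h i)

theorem perms_apply (T : Tab) (h : involOK T = true) (i : Fin T.l) (r : Fin T.n) :
    ((perms T h i r : Fin T.n) : ℕ) = T.P i r := rfl

theorem invol_F4 : involOK TF4 = true := by decide +kernel
theorem invol_G2 : involOK TG2 = true := by decide +kernel

/-- The relative root data. -/
def RF4 : RData (Fin 4) (Fin 48) := TF4.toRData specF4 (perms TF4 invol_F4) (perms_apply TF4 invol_F4)

/-- The relative root data. -/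
def RG2 : RData (Fin 2) (Fin 12) := TG2.toRData specG2 (perms TG2 invol_G2) (perms_apply TG2 invol_G2)

/-- class sizes for `²E₆` -/
def clF4 (a : ℕ) : ℕ := [2, 2, 2, 1, 2, 2, 2, 1, 1, 1, 1, 1, 1, 1, 1, 2, 2, 2, 1, 1, 1, 2, 2, 2, 2, 2, 2, 1, 1, 1, 2, 2, 2, 1, 1, 1, 1, 1, 1, 1, 1, 2, 2, 2, 1, 2, 2, 2].getD a 0

/-- class sizes for `³D₄` -/
def clG2 (a : ℕ) : ℕ := [1, 1, 3, 3, 3, 1, 1, 3, 3, 3, 1, 1].getD a 0

/-- check that the weights are invariant -/
def clOK (T : Tab) (cl : ℕ → ℕ) : Bool :=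
  ((List.range T.l).all fun i => (List.range T.n).all fun r => Nat.beq (cl (T.P i r)) (cl r)) &&
  ((List.range T.n).all fun r => Nat.beq (cl (T.n - 1 - r)) (cl r))

theorem clOK_spec {T : Tab} {cl : ℕ → ℕ} (h : clOK T cl = true) :
    (∀ i < T.l, ∀ r < T.n, cl (T.P i r) = cl r) ∧ ∀ r < T.n, cl (T.n - 1 - r) = cl r := by
  unfold clOK at h
  simp only [List.all_eq_true, List.mem_range, Bool.and_eq_true] at h
  exact ⟨fun i hi r hr => Nat.eq_of_beq_eq_true (h.1 i hi r hr),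
    fun r hr => Nat.eq_of_beq_eq_true (h.2 r hr)⟩

theorem clOK_F4 : clOK TF4 clF4 = true := by decide +kernel
theorem clOK_G2 : clOK TG2 clG2 = true := by decide +kernel

theorem ok1 : orbitOK TF4 clF4 [0, 1, 2, 3] 0
    [[1, 0, 0, 0], [-1, 1, 0, 0], [0, -1, 1, 0], [0, 1, -1, 1], [1, -1, 0, 1], [0, 1, 0, -1], [-1, 0, 0, 1], [1, -1, 1, -1], [-1, 0, 1, -1], [1, 1, -1, 0], [-1, 2, -1, 0], [2, -1, 0, 0], [1, -2, 1, 0], [-2, 1, 0, 0], [-1, -1, 1, 0], [1, 0, -1, 1], [-1, 1, -1, 1], [1, 0, 0, -1], [0, -1, 0, 1], [-1, 1, 0, -1], [0, -1, 1, -1], [0, 1, -1, 0], [1, -1, 0, 0], [-1, 0, 0, 0]]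
    [0, 1, 2, 4, 5, 6, 6, 7, 8, 9, 10, 10, 11, 11, 12, 13, 14, 15, 15, 16, 17, 19, 20, 21] = true := by
  decide +kernel

theorem ok2 : orbitOK TF4 clF4 [1, 2, 3] 3
    [[0, 0, 0, 1], [0, 0, 1, -1], [0, 2, -1, 0], [2, -2, 1, 0], [2, 0, -1, 1], [2, 0, 0, -1]]
    [0, 2, 4, 5, 7, 9] = true := by decide +kernel

theorem ok3 : orbitOK TF4 clF4 [1, 2] 1
    [[0, 1, 0, 0], [1, -1, 1, 0], [1, 1, -1, 1], [2, -1, 0, 1]] [0, 1, 3, 4] = true := by
  decide +kernel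

theorem ok4 : orbitOK TF4 clF4 [2] 2 [[0, 0, 1, 0], [0, 2, -1, 1]] [0, 2] = true := by
  decide +kernel

theorem ok5 : orbitOK TG2 clG2 [0, 1] 0
    [[1, 0], [-1, 1], [2, -1], [-2, 1], [1, -1], [-1, 0]] [0, 3, 4, 7, 8, 11] = true := by
  decide +kernel

theorem ok6 : orbitOK TG2 clG2 [1] 1 [[0, 1], [3, -1]] [0, 1] = true := by
  decide +kernel

theorem sum_F4 (q : ℕ) :
    ∑ᶠ w ∈ (RF4.W Set.univ : Set (Equiv.Perm (Fin 48))), RF4.Q (fun r : Fin 48 => q ^ clF4 r) w =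
      (1 + q + q^2 + q^4 + q^5 + 2 * q^6 + q^7 + q^8 + q^9 + 2 * q^10 + 2 * q^11 + q^12 + q^13
        + q^14 + 2 * q^15 + q^16 + q^17 + q^19 + q^20 + q^21) *
      (1 + q^2 + q^4 + q^5 + q^7 + q^9) * (1 + q + q^3 + q^4) * (1 + q^2) := by
  have h1 : ∀ (i : Fin 4) (r : Fin 48), clF4 ((perms TF4 invol_F4 i r : Fin 48) : ℕ) = clF4 r :=
    fun i r => (clOK_spec clOK_F4).1 i i.2 r r.2
  have h2 := (clOK_spec clOK_F4).2
  have s1 := step specF4 (perms TF4 invol_F4) (perms_apply TF4 invol_F4) q clF4 h1 h2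
    (Js := Set.univ) (by decide) (0 : Fin 4) ok1
  have s2 := step specF4 (perms TF4 invol_F4) (perms_apply TF4 invol_F4) q clF4 h1 h2
    (Js := Set.univ \ {(0 : Fin 4)}) (J := [1, 2, 3])
    (by show ∀ j : Fin 4, (True ∧ ¬ j = 0) ↔ j.val ∈ [1, 2, 3]; decide) (3 : Fin 4) ok2
  have s3 := step specF4 (perms TF4 invol_F4) (perms_apply TF4 invol_F4) q clF4 h1 h2
    (Js := (Set.univ \ {(0 : Fin 4)}) \ {(3 : Fin 4)}) (J := [1, 2])
    (by show ∀ j : Fin 4, ((True ∧ ¬ j = 0) ∧ ¬ j = 3) ↔ j.val ∈ [1, 2]; decide) (1 : Fin 4) ok3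
  have s4 := step specF4 (perms TF4 invol_F4) (perms_apply TF4 invol_F4) q clF4 h1 h2
    (Js := ((Set.univ \ {(0 : Fin 4)}) \ {(3 : Fin 4)}) \ {(1 : Fin 4)}) (J := [2])
    (by show ∀ j : Fin 4, (((True ∧ ¬ j = 0) ∧ ¬ j = 3) ∧ ¬ j = 1) ↔ j.val ∈ [2]; decide) (2 : Fin 4) ok4
  have hempty : (((Set.univ \ {(0 : Fin 4)}) \ {(3 : Fin 4)}) \ {(1 : Fin 4)}) \ {(2 : Fin 4)} =
      (∅ : Set (Fin 4)) := by
    ext j; fin_cases j <;> simp
  have s5 := RF4.sum_W_empty (S := ℕ) (fun r : Fin 48 => q ^ clF4 r)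
  change ∑ᶠ w ∈ (RF4.W Set.univ : Set (Equiv.Perm (Fin 48))),
    RF4.Q (fun r : Fin 48 => q ^ clF4 r) w = _ at s1
  change _ = _ * ∑ᶠ w ∈ (RF4.W ((((Set.univ \ {(0 : Fin 4)}) \ {(3 : Fin 4)}) \ {(1 : Fin 4)}) \
    {(2 : Fin 4)}) : Set (Equiv.Perm (Fin 48))), RF4.Q (fun r : Fin 48 => q ^ clF4 r) w at s4
  rw [hempty, s5] at s4
  rw [s1]
  erw [s2, s3, s4]
  simp only [List.map_cons, List.map_nil, List.sum_cons, List.sum_nil]
  ring

theorem sum_G2 (q : ℕ) :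
    ∑ᶠ w ∈ (RG2.W Set.univ : Set (Equiv.Perm (Fin 12))), RG2.Q (fun r : Fin 12 => q ^ clG2 r) w =
      (1 + q^3 + q^4 + q^7 + q^8 + q^11) * (1 + q) := by
  have h1 : ∀ (i : Fin 2) (r : Fin 12), clG2 ((perms TG2 invol_G2 i r : Fin 12) : ℕ) = clG2 r :=
    fun i r => (clOK_spec clOK_G2).1 i i.2 r r.2
  have h2 := (clOK_spec clOK_G2).2
  have s1 := step specG2 (perms TG2 invol_G2) (perms_apply TG2 invol_G2) q clG2 h1 h2
    (Js := Set.univ) (by decide) (0 : Fin 2) ok5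
  have s2 := step specG2 (perms TG2 invol_G2) (perms_apply TG2 invol_G2) q clG2 h1 h2
    (Js := Set.univ \ {(0 : Fin 2)}) (J := [1])
    (by show ∀ j : Fin 2, (True ∧ ¬ j = 0) ↔ j.val ∈ [1]; decide) (1 : Fin 2) ok6
  have hempty : (Set.univ \ {(0 : Fin 2)}) \ {(1 : Fin 2)} = (∅ : Set (Fin 2)) := by
    ext j; fin_cases j <;> simp
  have s5 := RG2.sum_W_empty (S := ℕ) (fun r : Fin 12 => q ^ clG2 r)
  change ∑ᶠ w ∈ (RG2.W Set.univ : Set (Equiv.Perm (Fin 12))),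
    RG2.Q (fun r : Fin 12 => q ^ clG2 r) w = _ at s1
  change _ = _ * ∑ᶠ w ∈ (RG2.W ((Set.univ \ {(0 : Fin 2)}) \
    {(1 : Fin 2)}) : Set (Equiv.Perm (Fin 12))), RG2.Q (fun r : Fin 12 => q ^ clG2 r) w at s2
  rw [hempty, s5] at s2
  rw [s1]
  erw [s2]
  simp only [List.map_cons, List.map_nil, List.sum_cons, List.sum_nil]
  ring

/-! ### The class maps -/

theorem cls_E6_lt : ((List.range 72).all fun r => Nat.blt (byte clsE6 r) 48) = true := by
  decide +kernel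

theorem cls_D4_lt : ((List.range 24).all fun r => Nat.blt (byte clsD4 r) 12) = true := by
  decide +kernel

theorem lt_of_all {n m : ℕ} {f : ℕ → ℕ} (h : ((List.range n).all fun r => Nat.blt (f r) m) = true)
    (r : Fin n) : f r < m := by
  have := List.all_eq_true.1 h r (List.mem_range.2 r.2)
  unfold Nat.blt at this
  exact Nat.le_of_ble_eq_true this

/-- class map for `²E₆` -/
def cE6 (r : Fin 72) : Fin 48 := ⟨byte clsE6 r, lt_of_all cls_E6_lt r⟩

/-- class map for `³D₄` -/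
def cD4 (r : Fin 24) : Fin 12 := ⟨byte clsD4 r, lt_of_all cls_D4_lt r⟩

theorem cE6_surj : Function.Surjective cE6 := by
  have : ∀ a : Fin 48, ∃ r : Fin 72, cE6 r = a := by decide +kernel
  exact this

theorem cD4_surj : Function.Surjective cD4 := by
  have : ∀ a : Fin 12, ∃ r : Fin 24, cD4 r = a := by decide +kernel
  exact this

theorem cE6_pos : ∀ r : Fin 72, 48 / 2 ≤ (cE6 r).val ↔ 72 / 2 ≤ r.val := by decide +kernel

theorem cD4_pos : ∀ r : Fin 24, 12 / 2 ≤ (cD4 r).val ↔ 24 / 2 ≤ r.val := by decide +kernel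

theorem cE6_t0 : ∀ r : Fin 72, byte clsE6 (TE6.P 1 r) = TF4.P 0 (byte clsE6 r) := by decide +kernel
theorem cE6_t1 : ∀ r : Fin 72, byte clsE6 (TE6.P 3 r) = TF4.P 1 (byte clsE6 r) := by decide +kernel
theorem cE6_t2 : ∀ r : Fin 72, byte clsE6 (TE6.P 2 (TE6.P 4 r)) = TF4.P 2 (byte clsE6 r) := by
  decide +kernel
theorem cE6_t3 : ∀ r : Fin 72, byte clsE6 (TE6.P 0 (TE6.P 5 r)) = TF4.P 3 (byte clsE6 r) := by
  decide +kernel
theorem cD4_t0 : ∀ r : Fin 24, byte clsD4 (TD4.P 0 (TD4.P 2 (TD4.P 3 r))) =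
    TG2.P 0 (byte clsD4 r) := by decide +kernel
theorem cD4_t1 : ∀ r : Fin 24, byte clsD4 (TD4.P 1 r) = TG2.P 1 (byte clsD4 r) := by
  decide +kernel

/-- The relative datum of `²E₆`. -/
def relE6 (s : Fin 6 → Equiv.Perm (Fin 72)) (hs : ∀ i r, ((s i r : Fin 72) : ℕ) = TE6.P i r) :
    Rel (TE6.toRData specE6 s hs) RF4 where
  c := cE6
  c_surj := cE6_surj
  pos_iff := cE6_pos
  t := ![s 1, s 3, s 2 * s 4, s 0 * s 5]
  t_mem := by
    have h : ∀ i : Fin 6, s i ∈ (TE6.toRData specE6 s hs).W Set.univ := fun i =>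
      (TE6.toRData specE6 s hs).refl_mem_W (Set.mem_univ i)
    intro i
    fin_cases i
    · exact h 1
    · exact h 3
    · exact Subgroup.mul_mem _ (h 2) (h 4)
    · exact Subgroup.mul_mem _ (h 0) (h 5)
  c_t := by
    intro i r
    apply Fin.ext
    fin_cases i
    · show byte clsE6 ((s 1 r : Fin 72) : ℕ) = TF4.P 0 (byte clsE6 r)
      exact (congrArg (byte clsE6) (hs 1 r)).trans (cE6_t0 r)
    · show byte clsE6 ((s 3 r : Fin 72) : ℕ) = TF4.P 1 (byte clsE6 r)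
      exact (congrArg (byte clsE6) (hs 3 r)).trans (cE6_t1 r)
    · show byte clsE6 ((s 2 (s 4 r) : Fin 72) : ℕ) = TF4.P 2 (byte clsE6 r)
      exact (congrArg (byte clsE6) ((hs 2 (s 4 r)).trans (congrArg (TE6.P 2) (hs 4 r)))).trans
        (cE6_t2 r)
    · show byte clsE6 ((s 0 (s 5 r) : Fin 72) : ℕ) = TF4.P 3 (byte clsE6 r)
      exact (congrArg (byte clsE6) ((hs 0 (s 5 r)).trans (congrArg (TE6.P 0) (hs 5 r)))).trans
        (cE6_t3 r)

/-- The relative datum of `³D₄`. -/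
def relD4 (s : Fin 4 → Equiv.Perm (Fin 24)) (hs : ∀ i r, ((s i r : Fin 24) : ℕ) = TD4.P i r) :
    Rel (TD4.toRData specD4 s hs) RG2 where
  c := cD4
  c_surj := cD4_surj
  pos_iff := cD4_pos
  t := ![s 0 * s 2 * s 3, s 1]
  t_mem := by
    have h : ∀ i : Fin 4, s i ∈ (TD4.toRData specD4 s hs).W Set.univ := fun i =>
      (TD4.toRData specD4 s hs).refl_mem_W (Set.mem_univ i)
    intro i
    fin_cases i
    · exact Subgroup.mul_mem _ (Subgroup.mul_mem _ (h 0) (h 2)) (h 3)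
    · exact h 1
  c_t := by
    intro i r
    apply Fin.ext
    fin_cases i
    · show byte clsD4 ((s 0 (s 2 (s 3 r)) : Fin 24) : ℕ) = TG2.P 0 (byte clsD4 r)
      exact (congrArg (byte clsD4) ((hs 0 (s 2 (s 3 r))).trans (congrArg (TD4.P 0)
        ((hs 2 (s 3 r)).trans (congrArg (TD4.P 2) (hs 3 r)))))).trans (cD4_t0 r)
    · show byte clsD4 ((s 1 r : Fin 24) : ℕ) = TG2.P 1 (byte clsD4 r)
      exact (congrArg (byte clsD4) (hs 1 r)).trans (cD4_t1 r)

theorem card_cls_E6 : ∀ a : Fin 48, (Finset.univ.filter fun r : Fin 72 => cE6 r = a).card =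
    clF4 a := by decide +kernel

theorem card_cls_D4 : ∀ a : Fin 12, (Finset.univ.filter fun r : Fin 24 => cD4 r = a).card =
    clG2 a := by decide +kernel

theorem wts_E6 (s : Fin 6 → Equiv.Perm (Fin 72)) (hs : ∀ i r, ((s i r : Fin 72) : ℕ) = TE6.P i r)
    (q : ℕ) : (relE6 s hs).wts (fun _ => q) = fun a : Fin 48 => q ^ clF4 a := by
  classical
  funext a
  unfold Rel.wts
  have h := card_cls_E6 a
  rw [Finset.prod_const]
  congr 1
  show Finset.card (@Finset.filter (Fin 72) (fun r => cE6 r = a)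
    (fun r => Classical.propDecidable _) Finset.univ) = clF4 a
  rw [← h]
  congr 1
  exact Finset.filter_congr_decidable _ _ _

theorem wts_D4 (s : Fin 4 → Equiv.Perm (Fin 24)) (hs : ∀ i r, ((s i r : Fin 24) : ℕ) = TD4.P i r)
    (q : ℕ) : (relD4 s hs).wts (fun _ => q) = fun a : Fin 12 => q ^ clG2 a := by
  classical
  funext a
  unfold Rel.wts
  have h := card_cls_D4 a
  rw [Finset.prod_const]
  congr 1
  show Finset.card (@Finset.filter (Fin 24) (fun r => cD4 r = a)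
    (fun r => Classical.propDecidable _) Finset.univ) = clG2 a
  rw [← h]
  congr 1
  exact Finset.filter_congr_decidable _ _ _

theorem sum_E6 (s : Fin 6 → Equiv.Perm (Fin 72)) (hs : ∀ i r, ((s i r : Fin 72) : ℕ) = TE6.P i r)
    (q : ℕ) : ∑ᶠ w ∈ (Subgroup.closure {s 1, s 3, s 2 * s 4, s 0 * s 5} :
        Set (Equiv.Perm (Fin 72))), (TE6.toRData specE6 s hs).Q (fun _ => q) w =
      (1 + q + q^2 + q^4 + q^5 + 2 * q^6 + q^7 + q^8 + q^9 + 2 * q^10 + 2 * q^11 + q^12 + q^13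
        + q^14 + 2 * q^15 + q^16 + q^17 + q^19 + q^20 + q^21) *
      (1 + q^2 + q^4 + q^5 + q^7 + q^9) * (1 + q + q^3 + q^4) * (1 + q^2) := by
  have h1 := (relE6 s hs).sum_W1 (S := ℕ) (fun _ => q)
  rw [wts_E6, sum_F4] at h1
  rw [← h1]
  have h3 : Set.range (relE6 s hs).t = ({s 1, s 3, s 2 * s 4, s 0 * s 5} :
      Set (Equiv.Perm (Fin 72))) := by
    show Set.range (![s 1, s 3, s 2 * s 4, s 0 * s 5] : Fin 4 → Equiv.Perm (Fin 72)) = _
    ext x
    simp only [Set.mem_range, Fin.exists_fin_succ, Set.mem_insert_iff, Set.mem_singleton_iff]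
    simp [eq_comm]
  unfold Rel.W1
  rw [h3]
  rfl

theorem sum_D4 (s : Fin 4 → Equiv.Perm (Fin 24)) (hs : ∀ i r, ((s i r : Fin 24) : ℕ) = TD4.P i r)
    (q : ℕ) : ∑ᶠ w ∈ (Subgroup.closure {s 1, s 0 * s 2 * s 3} :
        Set (Equiv.Perm (Fin 24))), (TD4.toRData specD4 s hs).Q (fun _ => q) w =
      (1 + q^3 + q^4 + q^7 + q^8 + q^11) * (1 + q) := by
  have h1 := (relD4 s hs).sum_W1 (S := ℕ) (fun _ => q)
  rw [wts_D4, sum_G2] at h1
  rw [← h1]
  have h3 : Set.range (relD4 s hs).t = ({s 1, s 0 * s 2 * s 3} :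
      Set (Equiv.Perm (Fin 24))) := by
    show Set.range (![s 0 * s 2 * s 3, s 1] : Fin 2 → Equiv.Perm (Fin 24)) = _
    ext x
    simp only [Set.mem_range, Fin.exists_fin_succ, Set.mem_insert_iff, Set.mem_singleton_iff]
    simp [eq_comm, or_comm]
  unfold Rel.W1
  rw [h3]
  rfl

open Classical in
theorem finsum_subgroup {G : Type*} [Group G] [Fintype G] (K : Subgroup G) (f g : G → ℕ)
    (h : ∀ w, f w = g w) :
    ∑ w ∈ Finset.univ.filter (fun w => w ∈ K), g w = ∑ᶠ w ∈ (K : Set G), f w := by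
  have h2 : (K : Set G) = ((Finset.univ.filter (fun w => w ∈ K) : Finset G) : Set G) := by
    ext w
    rw [Finset.mem_coe, Finset.mem_filter]
    exact (and_iff_right (Finset.mem_univ w)).symm
  rw [h2, finsum_mem_coe_finset]
  exact Finset.sum_congr rfl fun w _ => (h w).symm

theorem Q_eq_wt {n l : ℕ} (R : RData (Fin l) (Fin n)) (pos : Fin n → Prop)
    (h : ∀ r, pos r ↔ R.pos r) (q : ℕ) (w : Equiv.Perm (Fin n)) :
    R.Q (fun _ => q) w = BNOrder.wt pos (fun _ => q) w := by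
  classical
  rw [BNOrder.wt_def]
  unfold RData.Q
  apply Finset.prod_congr _ fun _ _ => rfl
  apply Finset.filter_congr
  intro r _
  rw [h, h]

open Classical in
theorem sum_twistedE6_aux (q : ℕ) (s : ℕ → Equiv.Perm (Fin 72))
    (hs : ∀ i < 6, ∀ r, ((s i r : Fin 72) : ℕ) = chevE6.reflectRoot i r) :
    ∑ w ∈ Finset.univ.filter
        (fun w => w ∈ Subgroup.closure {s 1, s 3, s 2 * s 4, s 0 * s 5}),
      BNOrder.wt (fun r : Fin 72 => chevE6.IsPosRoot r) (fun _ => q) w =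
      (1 + q + q^2 + q^4 + q^5 + 2 * q^6 + q^7 + q^8 + q^9 + 2 * q^10 + 2 * q^11 + q^12 + q^13
        + q^14 + 2 * q^15 + q^16 + q^17 + q^19 + q^20 + q^21) *
      (1 + q^2 + q^4 + q^5 + q^7 + q^9) * (1 + q + q^3 + q^4) * (1 + q^2) := by
  have hs2 : ∀ (i : Fin 6) (r : Fin 72), ((s i r : Fin 72) : ℕ) = TE6.P i r := fun i r =>
    (hs i i.2 r).trans (reflectRoot_E6 i.2 r.2)
  exact (finsum_subgroup _ ((TE6.toRData specE6 (fun i : Fin 6 => s i) hs2).Q (fun _ => q)) _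
    (Q_eq_wt (TE6.toRData specE6 (fun i : Fin 6 => s i) hs2) _
      (fun r => isPosRoot_E6 r.2) q)).trans (sum_E6 (fun i : Fin 6 => s i) hs2 q)

open Classical in
theorem sum_twistedD4_aux (q : ℕ) (s : ℕ → Equiv.Perm (Fin 24))
    (hs : ∀ i < 4, ∀ r, ((s i r : Fin 24) : ℕ) = chevD4.reflectRoot i r) :
    ∑ w ∈ Finset.univ.filter (fun w => w ∈ Subgroup.closure {s 1, s 0 * s 2 * s 3}),
      BNOrder.wt (fun r : Fin 24 => chevD4.IsPosRoot r) (fun _ => q) w =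
      (1 + q^3 + q^4 + q^7 + q^8 + q^11) * (1 + q) := by
  have hs2 : ∀ (i : Fin 4) (r : Fin 24), ((s i r : Fin 24) : ℕ) = TD4.P i r := fun i r =>
    (hs i i.2 r).trans (reflectRoot_D4 i.2 r.2)
  exact (finsum_subgroup _ ((TD4.toRData specD4 (fun i : Fin 4 => s i) hs2).Q (fun _ => q)) _
    (Q_eq_wt (TD4.toRData specD4 (fun i : Fin 4 => s i) hs2) _
      (fun r => isPosRoot_D4 r.2) q)).trans (sum_D4 (fun i : Fin 4 => s i) hs2 q)

open Classical in
/-- The Poincaré sum of the relative Weyl group of `³D₄`. -/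
theorem sum_twistedD4 (q : ℕ) (s : ℕ → Equiv.Perm (Fin chevD4.nroots))
    (hs : ∀ i < 4, ∀ r, ((s i r : Fin chevD4.nroots) : ℕ) = chevD4.reflectRoot i r) :
    ∑ w ∈ Finset.univ.filter (fun w => w ∈ Subgroup.closure {s 1, s 0 * s 2 * s 3}),
      BNOrder.wt (fun r : Fin chevD4.nroots => chevD4.IsPosRoot r) (fun _ => q) w =
      (1 + q) * (1 + q ^ 3) * (1 + q ^ 4 + q ^ 8) := by
  rw [show (1 + q) * (1 + q ^ 3) * (1 + q ^ 4 + q ^ 8) =
    (1 + q^3 + q^4 + q^7 + q^8 + q^11) * (1 + q) by ring]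
  exact sum_twistedD4_aux q s hs

open Classical in
/-- The Poincaré sum of the relative Weyl group of `²E₆`. -/
theorem sum_twistedE6 (q : ℕ) (s : ℕ → Equiv.Perm (Fin chevE6.nroots))
    (hs : ∀ i < 6, ∀ r, ((s i r : Fin chevE6.nroots) : ℕ) = chevE6.reflectRoot i r) :
    (∑ w ∈ Finset.univ.filter
        (fun w => w ∈ Subgroup.closure {s 1, s 3, s 2 * s 4, s 0 * s 5}),
      BNOrder.wt (fun r : Fin chevE6.nroots => chevE6.IsPosRoot r) (fun _ => q) w) *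
        ((q - 1) ^ 4 * (q + 1) ^ 2) =
      (q ^ 2 - 1) * (q ^ 5 + 1) * (q ^ 6 - 1) * (q ^ 8 - 1) * (q ^ 9 + 1) * (q ^ 12 - 1) := by
  have h := sum_twistedE6_aux q s hs
  have h' : (∑ w ∈ Finset.univ.filter
        (fun w => w ∈ Subgroup.closure {s 1, s 3, s 2 * s 4, s 0 * s 5}),
      BNOrder.wt (fun r : Fin chevE6.nroots => chevE6.IsPosRoot r) (fun _ => q) w) = _ := h
  rw [h']
  rcases Nat.eq_zero_or_pos q with rfl | hq
  · norm_num
  · obtain ⟨k, rfl⟩ : ∃ k, q = k + 1 := ⟨q - 1, by omega⟩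
    have e : ∀ n : ℕ, (k + 1) ^ n - 1 = k * ∑ i ∈ Finset.range n, (k + 1) ^ i := by
      intro n
      have h1 := mul_geom_sum ((k : ℤ) + 1) n
      apply Nat.sub_eq_of_eq_add
      zify
      have h2 : (k : ℤ) * ∑ i ∈ Finset.range n, ((k : ℤ) + 1) ^ i = ((k : ℤ) + 1) ^ n - 1 := by
        rw [← h1]; ring
      rw [h2]; ring
    rw [e 2, e 6, e 8, e 12, Nat.add_sub_cancel]
    simp only [Finset.sum_range_succ, Finset.sum_range_zero]
    ring

end Cfsg.Agent.ChevalleyStructure.TwistedWeylSums
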