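import Mathlib
import Cfsg.Agent.ChevalleyStructure.TwistedU

/-!
Fixed points of an endomorphism `σ` permuting the root subgroups of a unipotent group with ordered
product decomposition: `Fix σ ∩ U` is the ordered unique product of the groups `X_o ∩ Fix σ`, `o` running
over the `ρ`-orbits of roots. See `TwistedU` for the notation.
-/

set_option autoImplicit false

namespace Cfsg.Agent.ChevalleyStructure.TwistedFix

open scoped commutatorElement
open Cfsg.Agent.ChevalleyStructure.TwistedU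

set_option linter.unusedSectionVars false

/-- The subgroup of fixed points of an endomorphism. -/
def fixS {Γ : Type*} [Group Γ] (σ : Γ →* Γ) : Subgroup Γ := σ.eqLocus (MonoidHom.id Γ)

theorem mem_fixS {Γ : Type*} [Group Γ] {σ : Γ →* Γ} {g : Γ} : g ∈ fixS σ ↔ σ g = g := Iff.rfl

variable {Γ ι K : Type*} [Group Γ] [AddGroup K] {x : ι → K → Γ}

/-- Permuting a commuting product. -/
theorem lprod_perm {o o' : List ι} (hp : o.Perm o')
    (hc : o.Pairwise fun r s => ∀ t u, Commute (x r t) (x s u)) (t : ι → K) :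
    lprod x o t = lprod x o' t := by
  refine List.Perm.prod_eq' (hp.map _) ?_
  exact List.pairwise_map.2 (hc.imp fun h => h _ _)

/-- `σ` of an ordered product over one orbit. -/
theorem map_lprod_orbit {σ : Γ →* Γ} {ρ : ι → ι} {f : ι → K → K} {o : List ι}
    (hσ : ∀ r ∈ o, ∀ t, σ (x r t) = x (ρ r) (f r t)) (hp : (o.map ρ).Perm o)
    (hc : o.Pairwise fun r s => ∀ t u, Commute (x r t) (x s u)) {t t' : ι → K}
    (ht : ∀ r ∈ o, t' (ρ r) = f r (t r)) : σ (lprod x o t) = lprod x o t' := by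
  rw [lprod_perm hp.symm hc t']
  unfold lprod
  rw [map_list_prod, List.map_map, List.map_map]
  congr 1
  refine List.map_congr_left fun r hr => ?_
  show σ (x r (t r)) = x (ρ r) (t' (ρ r))
  rw [hσ r hr, ht r hr]

/-- `σ` of an ordered product. -/
theorem map_lprod {σ : Γ →* Γ} {ρ : ι → ι} {f : ι → K → K} : ∀ {L : List (List ι)},
    (∀ r ∈ L.flatten, ∀ t, σ (x r t) = x (ρ r) (f r t)) →
    (∀ o ∈ L, (o.map ρ).Perm o) →
    (∀ o ∈ L, o.Pairwise fun r s => ∀ t u, Commute (x r t) (x s u)) →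
    ∀ {t t' : ι → K}, (∀ r ∈ L.flatten, t' (ρ r) = f r (t r)) →
    σ (lprod x L.flatten t) = lprod x L.flatten t' := by
  intro L
  induction L with
  | nil => intro _ _ _ t t' _; simp [lprod]
  | cons o L ih =>
    intro hσ hp hc t t' ht
    rw [List.flatten_cons, lprod_append, lprod_append, map_mul]
    have h1 : ∀ r ∈ o, r ∈ (o :: L).flatten := fun r hr => by
      rw [List.flatten_cons]; exact List.mem_append_left _ hr
    have h2 : ∀ r ∈ L.flatten, r ∈ (o :: L).flatten := fun r hr => by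
      rw [List.flatten_cons]; exact List.mem_append_right _ hr
    rw [map_lprod_orbit (fun r hr => hσ r (h1 r hr)) (hp o List.mem_cons_self)
        (hc o List.mem_cons_self) (fun r hr => ht r (h1 r hr)),
      ih (fun r hr => hσ r (h2 r hr)) (fun o ho => hp o (List.mem_cons_of_mem _ ho))
        (fun o ho => hc o (List.mem_cons_of_mem _ ho)) (fun r hr => ht r (h2 r hr))]

/-- All hypotheses on the family of root subgroups, the ordered list of `ρ`-orbits and `σ`. -/
structure Setup (x : ι → K → Γ) (L : List (List ι)) (σ : Γ →* Γ) (ρ ρ' : ι → ι) (f : ι → K → K) :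
    Prop where
  hadd : ∀ r t u, x r (t + u) = x r t * x r u
  nodup : L.flatten.Nodup
  good : Good x L.flatten
  inj : ∀ t t' : ι → K, lprod x L.flatten t = lprod x L.flatten t' → ∀ r ∈ L.flatten, t r = t' r
  hσ : ∀ r ∈ L.flatten, ∀ t, σ (x r t) = x (ρ r) (f r t)
  perm : ∀ o ∈ L, (o.map ρ).Perm o
  comm : ∀ o ∈ L, o.Pairwise fun r s => ∀ t u, Commute (x r t) (x s u)
  left_inv : ∀ r ∈ L.flatten, ρ' (ρ r) = r

namespace Setup

variable {L : List (List ι)} {σ : Γ →* Γ} {ρ ρ' : ι → ι} {f : ι → K → K}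

theorem mem_ρ (S : Setup x L σ ρ ρ' f) {r : ι} (hr : r ∈ L.flatten) : ρ r ∈ L.flatten := by
  obtain ⟨o, ho, hro⟩ := List.mem_flatten.1 hr
  exact List.mem_flatten.2 ⟨o, ho, (S.perm o ho).subset (List.mem_map_of_mem hro)⟩

/-- The fixed points of `σ` in `U` are the ordered products with compatible coordinates. -/
theorem mem_fix_iff (S : Setup x L σ ρ ρ' f) {g : Γ} :
    g ∈ rspan x {k | k ∈ L.flatten} ⊓ fixS σ ↔
      ∃ t : ι → K, (∀ r ∈ L.flatten, t (ρ r) = f r (t r)) ∧ g = lprod x L.flatten t := by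
  constructor
  · rintro ⟨hg, hgσ⟩
    obtain ⟨t, rfl⟩ := exists_lprod S.hadd S.nodup S.good hg
    refine ⟨t, ?_, rfl⟩
    have h1 : σ (lprod x L.flatten t) = lprod x L.flatten fun s => f (ρ' s) (t (ρ' s)) := by
      refine map_lprod S.hσ S.perm S.comm fun r hr => ?_
      show f (ρ' (ρ r)) (t (ρ' (ρ r))) = _
      rw [S.left_inv r hr]
    have h2 : σ (lprod x L.flatten t) = lprod x L.flatten t := hgσ
    intro r hr
    have h3 := S.inj _ _ (h1.symm.trans h2) (ρ r) (S.mem_ρ hr)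
    rw [← h3]
    show f (ρ' (ρ r)) (t (ρ' (ρ r))) = _
    rw [S.left_inv r hr]
  · rintro ⟨t, ht, rfl⟩
    exact ⟨lprod_mem_rspan x (fun _ h => h) t, map_lprod S.hσ S.perm S.comm ht⟩

/-- For compatible coordinates the factor of each orbit is fixed by `σ`. -/
theorem orbit_mem_fix (S : Setup x L σ ρ ρ' f) {t : ι → K}
    (ht : ∀ r ∈ L.flatten, t (ρ r) = f r (t r)) {o : List ι} (ho : o ∈ L) :
    lprod x o t ∈ rspan x {k | k ∈ o} ⊓ fixS σ := by
  refine ⟨lprod_mem_rspan x (fun _ h => h) t, ?_⟩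
  have h1 : ∀ r ∈ o, r ∈ L.flatten := fun r hr => List.mem_flatten.2 ⟨o, ho, hr⟩
  exact map_lprod_orbit (fun r hr => S.hσ r (h1 r hr)) (S.perm o ho) (S.comm o ho)
    (fun r hr => ht r (h1 r hr))

/-- If a subgroup contains the relative root groups it contains `U ∩ Fix σ`. -/
theorem fix_le (S : Setup x L σ ρ ρ' f) {G1 : Subgroup Γ}
    (h : ∀ o ∈ L, rspan x {k | k ∈ o} ⊓ fixS σ ≤ G1) :
    rspan x {k | k ∈ L.flatten} ⊓ fixS σ ≤ G1 := by
  intro g hg
  obtain ⟨t, ht, rfl⟩ := S.mem_fix_iff.1 hg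
  have h1 : ∀ L' : List (List ι), (∀ o ∈ L', o ∈ L) → lprod x L'.flatten t ∈ G1 := by
    intro L'
    induction L' with
    | nil => intro _; exact G1.one_mem
    | cons o L' ih =>
      intro hL
      rw [List.flatten_cons, lprod_append]
      exact G1.mul_mem (h o (hL o List.mem_cons_self) (S.orbit_mem_fix ht (hL o List.mem_cons_self)))
        (ih fun o' ho' => hL o' (List.mem_cons_of_mem _ ho'))
  exact h1 L fun _ h => h

/-- The number of fixed points is the number of compatible coordinate families. -/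
theorem card_fix (S : Setup x L σ ρ ρ' f) :
    Nat.card ↥(rspan x {k | k ∈ L.flatten} ⊓ fixS σ) =
      Nat.card {t : ι → K // (∀ r, r ∉ L.flatten → t r = 0) ∧
        ∀ r ∈ L.flatten, t (ρ r) = f r (t r)} := by
  classical
  refine (Nat.card_congr (Equiv.ofBijective (fun t : {t : ι → K // (∀ r, r ∉ L.flatten → t r = 0) ∧
        ∀ r ∈ L.flatten, t (ρ r) = f r (t r)} =>
      (⟨lprod x L.flatten t.1, S.mem_fix_iff.2 ⟨t.1, t.2.2, rfl⟩⟩ :
        ↥(rspan x {k | k ∈ L.flatten} ⊓ fixS σ))) ⟨?_, ?_⟩)).symm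
  · rintro ⟨t, ht⟩ ⟨t', ht'⟩ h
    have h1 : lprod x L.flatten t = lprod x L.flatten t' := congrArg Subtype.val h
    apply Subtype.ext
    funext r
    by_cases hr : r ∈ L.flatten
    · exact S.inj _ _ h1 r hr
    · exact (ht.1 r hr).trans (ht'.1 r hr).symm
  · rintro ⟨g, hg⟩
    obtain ⟨t, ht, rfl⟩ := S.mem_fix_iff.1 hg
    refine ⟨⟨fun r => if r ∈ L.flatten then t r else 0, fun r hr => if_neg hr, fun r hr => ?_⟩, ?_⟩
    · show (if ρ r ∈ L.flatten then t (ρ r) else 0) = f r (if r ∈ L.flatten then t r else 0)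
      rw [if_pos hr, if_pos (S.mem_ρ hr), ht r hr]
    · apply Subtype.ext
      exact lprod_congr x fun r hr => if_pos hr

end Setup

/-- Transport of relative root groups inside `G1 ≤ Fix σ` by an element `n ∈ G1`. -/
theorem relroot_le_of_conj {σ : Γ →* Γ} {G1 : Subgroup Γ} (hG : G1 ≤ fixS σ) {n : Γ} (hn : n ∈ G1)
    {A B : Set ι} (hAB : ∀ s ∈ B, ∀ t, n * x s t * n⁻¹ ∈ rspan x A)
    (hA : rspan x A ⊓ fixS σ ≤ G1) : rspan x B ⊓ fixS σ ≤ G1 := by
  rintro g ⟨hg, hgσ⟩
  have h1 : rspan x B ≤ (rspan x A).comap (MulAut.conj n).toMonoidHom := rspan_le x hAB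
  have h2 : n * g * n⁻¹ ∈ rspan x A := h1 hg
  have h3 : n * g * n⁻¹ ∈ fixS σ :=
    (fixS σ).mul_mem ((fixS σ).mul_mem (hG hn) hgσ) ((fixS σ).inv_mem (hG hn))
  have h4 := hA ⟨h2, h3⟩
  have h5 := G1.mul_mem (G1.mul_mem (G1.inv_mem hn) h4) hn
  have h6 : n⁻¹ * (n * g * n⁻¹) * n = g := by group
  rwa [h6] at h5

end Cfsg.Agent.ChevalleyStructure.TwistedFix
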