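import Cfsg.Agent.ChevalleyStructure.TwistedE6G
import Cfsg.Agent.ChevalleyStructure.TwistedFixOrbit

/-!
All relative root groups of `U` lie in `G¹ = ²E₆(q)`, hence `U ∩ G¹ = U ∩ Fix σ`; coordinates of its elements.
-/

set_option autoImplicit false

namespace Cfsg.Agent.ChevalleyStructure.TwistedE6Rel

open Cfsg.Lie
open Cfsg.Agent.ChevalleyStructure
open Cfsg.Agent.ChevalleyStructure.GraphSymm
open Cfsg.Agent.ChevalleyStructure.TwistedU
open Cfsg.Agent.ChevalleyStructure.TwistedFix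
open Cfsg.Agent.ChevalleyStructure.TwistedFixOrbit
open Cfsg.Agent.ChevalleyStructure.TwistedE6Sigma
open Cfsg.Agent.ChevalleyStructure.TwistedE6U
open Cfsg.Agent.ChevalleyStructure.TwistedE6G

universe u

/-- How each relative root is moved to an earlier one by a relative simple reflection. -/
def cert : List (List ℕ × ℕ) := [([1], 0), ([1], 0), ([1], 0), ([1], 0), ([0, 5], 3), ([3], 3), ([1], 1),
  ([3], 4), ([2, 4], 1), ([1], 5), ([2, 4], 7), ([1], 7), ([1], 8), ([1], 10), ([3], 12), ([0, 5], 8),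
  ([3], 13), ([1], 15), ([2, 4], 16), ([3], 17), ([0, 5], 18), ([2, 4], 19), ([3], 21), ([1], 22)]

theorem cert_check : ∀ i < 24, 4 ≤ i → (cert.getD i ([], 0)).2 < i ∧ (cert.getD i ([], 0)).1 ∈ Js ∧
    ∀ s ∈ L.getD i [], wJ (cert.getD i ([], 0)).1 s ∈ L.getD (cert.getD i ([], 0)).2 [] := by
  decide +kernel

theorem L_getD_mem : ∀ i < 24, L.getD i [] ∈ L := by decide

theorem L_exists_getD : ∀ o ∈ L, ∃ i < 24, L.getD i [] = o := by decide

theorem L_orbit_nodup : ∀ o ∈ L, o.Nodup := by decide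

theorem L_filter : ∀ o ∈ L, (L.flatten.filter fun r => decide (r ∈ o)) = o := by decide +kernel

theorem long_aux : ∀ r ∈ [46, 39], [r] ∈ L ∧ r ∈ [46, 25, 39, 32] := by decide

theorem short_aux : ∀ p ∈ [(56, 36), (42, 37)],
    [p.1, p.2] ∈ L ∧ p ∈ [(56, 36), (15, 35), (42, 37), (29, 34)] := by decide

variable {K : Type u} [Field K] [Fintype K] {q : ℕ}

theorem base_long {φ : K →+* K} (hφ : ∀ t, φ t = t ^ q) {r : ℕ} (hr : r ∈ [46, 39]) :
    rspan (X (K := K)) {k | k ∈ [r]} ⊓ fixS (sig symmE6 φ) ≤ twistedE6 K q := by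
  intro g hg
  obtain ⟨ho, hr2⟩ := long_aux r hr
  obtain ⟨t, ht, rfl⟩ := orbit_coords (setup φ) ho (L_orbit_nodup _ ho) (L_filter _ ho) hg
  obtain ⟨h1, h2, h3⟩ := long_check r hr2
  have h4 := ht r (List.mem_singleton_self r)
  rw [h2, h3, hφ, Int.cast_one, one_mul] at h4
  have h5 : lprod (X (K := K)) [r] t = X r (t r) := by
    rw [lprod_cons, lprod_nil, mul_one]
  rw [h5]
  exact mem_long hr2 h4.symm

theorem base_short {φ : K →+* K} (hφ : ∀ t, φ t = t ^ q) {p : ℕ × ℕ} (hp : p ∈ [(56, 36), (42, 37)]) :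
    rspan (X (K := K)) {k | k ∈ [p.1, p.2]} ⊓ fixS (sig symmE6 φ) ≤ twistedE6 K q := by
  intro g hg
  obtain ⟨ho, hp2⟩ := short_aux p hp
  obtain ⟨t, ht, rfl⟩ := orbit_coords (setup φ) ho (L_orbit_nodup _ ho) (L_filter _ ho) hg
  obtain ⟨h1, h2, h3, h4, h5, h6, h7, h8, h9⟩ := pair_check p hp2
  have h10 := ht p.1 List.mem_cons_self
  rw [h6, h8, hφ, Int.cast_one, one_mul] at h10
  have h11 : lprod (X (K := K)) [p.1, p.2] t = X p.1 (t p.1) * X p.2 (t p.2) := by
    rw [lprod_cons, lprod_cons, lprod_nil, mul_one]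
  rw [h11, h10]
  exact mem_short hp2 (t p.1)

theorem rel_le_aux {φ : K →+* K} (hφ : ∀ t, φ t = t ^ q) (hφφ : ∀ t, φ (φ t) = t) (i : ℕ) :
    i < 24 → rspan (X (K := K)) {k | k ∈ L.getD i []} ⊓ fixS (sig symmE6 φ) ≤ twistedE6 K q := by
  induction i using Nat.strong_induction_on with
  | _ i ih =>
    intro hi
    by_cases h4 : i < 4
    · have : i = 0 ∨ i = 1 ∨ i = 2 ∨ i = 3 := by omega
      rcases this with rfl | rfl | rfl | rfl
      · exact base_long hφ (r := 46) (by decide)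
      · exact base_long hφ (r := 39) (by decide)
      · exact base_short hφ (p := (56, 36)) (by decide)
      · exact base_short hφ (p := (42, 37)) (by decide)
    · obtain ⟨h1, h2, h3⟩ := cert_check i hi (by omega)
      have hneg : (-1 : K) ^ q = -1 := by
        rw [← hφ, map_neg, map_one]
      refine relroot_le_of_conj (twistedE6_le_fix hφ hφφ) (nJ_mem hneg _ h2) ?_
        (ih _ h1 (by omega))
      intro s hs t
      have hs72 : s < 72 := L_lt s (List.mem_flatten.2 ⟨_, L_getD_mem i hi, hs⟩)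
      obtain ⟨-, η, h5⟩ := nJ_conj (K := K) (Js_lt _ h2) hs72
      rw [h5]
      exact mem_rspan (X (K := K)) (S := {k | k ∈ L.getD (cert.getD i ([], 0)).2 []}) (h3 s hs) _

/-- Every relative root group of `U` lies in `G¹`. -/
theorem rel_le {φ : K →+* K} (hφ : ∀ t, φ t = t ^ q) (hφφ : ∀ t, φ (φ t) = t) {o : List ℕ} (ho : o ∈ L) :
    rspan (X (K := K)) {k | k ∈ o} ⊓ fixS (sig symmE6 φ) ≤ twistedE6 K q := by
  obtain ⟨i, hi, rfl⟩ := L_exists_getD o ho
  exact rel_le_aux hφ hφφ i hi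

/-- `U ∩ G¹ = U ∩ Fix σ`. -/
theorem posUnipotent_inf_eq {φ : K →+* K} (hφ : ∀ t, φ t = t ^ q) (hφφ : ∀ t, φ (φ t) = t) :
    chevE6.posUnipotent K ⊓ twistedE6 K q =
      rspan (X (K := K)) {k | k ∈ L.flatten} ⊓ fixS (sig symmE6 φ) := by
  rw [posUnipotent_eq]
  apply le_antisymm
  · exact inf_le_inf_left _ (twistedE6_le_fix hφ hφφ)
  · exact le_inf inf_le_left ((setup φ).fix_le fun o ho => rel_le hφ hφφ ho)

/-- The elements of `U ∩ G¹` are the ordered products with `t_{ρ r} = ε_r t_r^q`. -/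
theorem mem_posUnipotent_inf_iff {φ : K →+* K} (hφ : ∀ t, φ t = t ^ q) (hφφ : ∀ t, φ (φ t) = t)
    {g : GL chevE6.Idx K} : g ∈ chevE6.posUnipotent K ⊓ twistedE6 K q ↔
      ∃ t : ℕ → K, (∀ r ∈ L.flatten, t (rho r) = ((eps r : ℤ) : K) * φ (t r)) ∧
        g = lprod X L.flatten t := by
  rw [posUnipotent_inf_eq hφ hφφ]
  exact (setup φ).mem_fix_iff

end Cfsg.Agent.ChevalleyStructure.TwistedE6Rel
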