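import Cfsg.Agent.ChevalleyStructure.E6Fixed
import Cfsg.Agent.ChevalleyStructure.TorusRange

/-!
The intersection H¹ of the diagonal subgroup with ²E₆(q), given the diagonal form of the `h_p(c)` (S1033) and
the product form of the elements of `H` (S1034).
-/

set_option autoImplicit false

namespace Cfsg.Agent.ChevalleyStructure.E6H1

open Cfsg.Lie
open Cfsg.Agent.ChevalleyStructure.SignedSymm
open Cfsg.Agent.ChevalleyStructure.GraphSymm
open Cfsg.Agent.ChevalleyStructure.Elts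
open Cfsg.Agent.ChevalleyStructure.E6Fixed
open Cfsg.Agent.ChevalleyStructure.TorusCount
open Cfsg.Agent.ChevalleyStructure.TorusRange
open Cfsg.Agent.ChevalleyStructure.TorusCert
open scoped Matrix

section
variable {K : Type*} [Field K] (φ : K →+* K)

/-- `φ` on units -/
def psi : Kˣ →* Kˣ := Units.map (φ : K →* K)

/-- the index of a fundamental root -/
abbrev ix (n : ℕ) (h : n < 6 := by norm_num) : Fin chevE6.rank := ⟨n, h⟩

/-- a function on `Fin chevE6.rank` from its six values -/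
def mk6 {A : Type*} (a₀ a₁ a₂ a₃ a₄ a₅ : A) : Fin chevE6.rank → A :=
  fun i => (![a₀, a₁, a₂, a₃, a₄, a₅] : Fin 6 → A) i

theorem ext6 {A : Type*} {c d : Fin chevE6.rank → A} (h0 : c (ix 0) = d (ix 0)) (h1 : c (ix 1) = d (ix 1))
    (h2 : c (ix 2) = d (ix 2)) (h3 : c (ix 3) = d (ix 3)) (h4 : c (ix 4) = d (ix 4))
    (h5 : c (ix 5) = d (ix 5)) : c = d := by
  funext i
  change Fin 6 at i
  fin_cases i
  · exact h0
  · exact h1
  · exact h2
  · exact h3
  · exact h4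
  · exact h5

theorem forall6 {P : Fin chevE6.rank → Prop} (h0 : P (ix 0)) (h1 : P (ix 1)) (h2 : P (ix 2)) (h3 : P (ix 3))
    (h4 : P (ix 4)) (h5 : P (ix 5)) (i : Fin chevE6.rank) : P i := by
  change Fin 6 at i
  fin_cases i
  · exact h0
  · exact h1
  · exact h2
  · exact h3
  · exact h4
  · exact h5

/-- `σ` on `(Kˣ)^6` -/
def sT : (Fin chevE6.rank → Kˣ) →* (Fin chevE6.rank → Kˣ) where
  toFun c := mk6 (psi φ (c (ix 5))) (psi φ (c (ix 1))) (psi φ (c (ix 4))) (psi φ (c (ix 3))) (psi φ (c (ix 2)))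
    (psi φ (c (ix 0)))
  map_one' := ext6 (map_one (psi φ)) (map_one (psi φ)) (map_one (psi φ)) (map_one (psi φ)) (map_one (psi φ))
    (map_one (psi φ))
  map_mul' c d := ext6 (map_mul (psi φ) _ _) (map_mul (psi φ) _ _) (map_mul (psi φ) _ _) (map_mul (psi φ) _ _)
    (map_mul (psi φ) _ _) (map_mul (psi φ) _ _)

theorem sT_eq (c : Fin chevE6.rank → Kˣ) (i : Fin chevE6.rank) : sT φ c (symmE6.σ₀ i) = psi φ (c i) :=
  forall6 (P := fun i => sT φ c (symmE6.σ₀ i) = psi φ (c i)) rfl rfl rfl rfl rfl rfl i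

theorem mon_sT (c : Fin chevE6.rank → Kˣ) (s : Fin chevE6.nroots) :
    mon (sT φ c) (TorusCount.col chevE6 (symmE6.σ s).val) =
      psi φ (mon c (TorusCount.col chevE6 s.val)) := by
  rw [mon_def, mon_def, map_prod, ← Equiv.prod_comp symmE6.σ₀]
  refine Finset.prod_congr rfl fun i _ => ?_
  rw [map_zpow, ← sT_eq]
  congr 1
  have h := symmE6.cartan_eq i s
  have hδ : symmE6.δ i = 1 := forall6 (P := fun i => symmE6.δ i = 1) rfl rfl rfl rfl rfl rfl i
  rw [hδ, one_mul] at h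
  exact h

/-- `σ(f(c)) = f(σ c)` -/
theorem sig_torusHom (c : Fin chevE6.rank → Kˣ) : sig φ (torusHom chevE6 K c) = torusHom chevE6 K (sT φ c) := by
  apply Units.ext
  rw [coe_sig]
  have key : symmE6.mat K * ((torusHom chevE6 K c : GL chevE6.Idx K) : Matrix chevE6.Idx chevE6.Idx K).map φ =
      ((torusHom chevE6 K (sT φ c) : GL chevE6.Idx K) : Matrix chevE6.Idx chevE6.Idx K) * symmE6.mat K := by
    ext a b
    obtain ⟨a, rfl⟩ := symmE6.perm.surjective a
    rw [symmE6.mat_mul, symmE6.mul_mat, Matrix.map_apply, coe_torusHom, coe_torusHom]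
    by_cases hab : a = b
    · subst hab
      rw [Matrix.diagonal_apply_eq, Matrix.diagonal_apply_eq]
      rcases a with i | s
      · show _ * φ (1 : K) = (1 : K) * _
        rw [map_one, mul_one, one_mul]
      · show _ * φ ((mon c (TorusCount.col chevE6 s.val) : Kˣ) : K) =
          ((mon (sT φ c) (TorusCount.col chevE6 (symmE6.σ s).val) : Kˣ) : K) * _
        rw [mon_sT, mul_comm]
        rfl
    · rw [Matrix.diagonal_apply_ne _ hab, Matrix.diagonal_apply_ne _ (fun h => hab (symmE6.perm.injective h)),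
        map_zero, mul_zero, zero_mul]
  rw [key, mul_assoc, symmE6.mat_mul_matInv, mul_one]

/-- the kernel element with parameter `z` -/
def ker (z : Kˣ) : Fin chevE6.rank → Kˣ := mk6 z 1 z⁻¹ 1 z z⁻¹

theorem param_eq (z : Fin 1 → Kˣ) : param certE6 K z = ker (z 0) := by
  have h : ∀ i, param certE6 K z i = z 0 ^ certE6.a i 0 := fun i => by
    rw [param_apply, Fin.prod_univ_one]
  apply ext6
  · rw [h]; exact zpow_one _
  · rw [h]; exact zpow_zero _
  · rw [h]; exact zpow_neg_one _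
  · rw [h]; exact zpow_zero _
  · rw [h]; exact zpow_one _
  · rw [h]; exact zpow_neg_one _

theorem torusHom_ker_eq (z : Kˣ) (hz : z ^ 3 = 1) : torusHom chevE6 K (ker z) = 1 := by
  have := param_mem_ker certE6 K (fun _ => z) (fun _ => hz)
  rwa [param_eq] at this

theorem exists_of_ker (c : Fin chevE6.rank → Kˣ) (hc : torusHom chevE6 K c = 1) : ∃ z : Kˣ, z ^ 3 = 1 ∧ c = ker z := by
  refine ⟨c (certE6.idx 0), pow_of_mem_ker certE6 K c hc 0, ?_⟩
  have := eq_param_of_mem_ker certE6 K c hc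
  rw [param_eq] at this
  exact this.symm

theorem ker_mul (z w : Kˣ) : ker (z * w) = ker z * ker w :=
  ext6 rfl (one_mul _).symm (mul_inv z w) (one_mul _).symm rfl (mul_inv z w)

theorem ker_one : (ker 1 : Fin chevE6.rank → Kˣ) = 1 :=
  ext6 rfl rfl inv_one rfl rfl inv_one

theorem ker_0 (z : Kˣ) : ker z (ix 0) = z := rfl

theorem ker_injective : Function.Injective (ker : Kˣ → Fin chevE6.rank → Kˣ) := by
  intro z w h
  rw [← ker_0 z, h, ker_0]

theorem sT_ker (z : Kˣ) : sT φ (ker z) = ker (psi φ z)⁻¹ :=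
  ext6 (map_inv (psi φ) z) (map_one (psi φ)) (inv_inv (psi φ z)).symm (map_one (psi φ)) (map_inv (psi φ) z)
    (inv_inv (psi φ z)).symm

theorem psi_psi (h : ∀ x, φ (φ x) = x) (z : Kˣ) : psi φ (psi φ z) = z := Units.ext (h z)

theorem sT_sT (h : ∀ x, φ (φ x) = x) (c : Fin chevE6.rank → Kˣ) : sT φ (sT φ c) = c :=
  ext6 (psi_psi φ h _) (psi_psi φ h _) (psi_psi φ h _) (psi_psi φ h _) (psi_psi φ h _) (psi_psi φ h _)

/-- a `σ`-fixed element of the torus is the image of a `σ`-fixed tuple -/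
theorem exists_fixed (h : ∀ x, φ (φ x) = x) {c : Fin chevE6.rank → Kˣ} (hc : torusHom chevE6 K c ∈ fix φ) :
    ∃ c', sT φ c' = c' ∧ torusHom chevE6 K c' = torusHom chevE6 K c := by
  rw [mem_fix, sig_torusHom] at hc
  have h1 : torusHom chevE6 K (c⁻¹ * sT φ c) = 1 := by
    rw [map_mul, map_inv, hc, inv_mul_cancel]
  obtain ⟨z, hz, hz'⟩ := exists_of_ker _ h1
  have h2 : sT φ c = c * ker z := by rw [← hz', mul_inv_cancel_left]
  have h3 : c = c * ker (z * (psi φ z)⁻¹) := by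
    conv_lhs => rw [← sT_sT φ h c, h2, map_mul, h2, sT_ker]
    rw [ker_mul, mul_assoc]
  have h4 : ker (z * (psi φ z)⁻¹) = ker 1 := by
    rw [ker_one]
    exact (left_eq_mul.1 h3)
  have h5 : psi φ z = z := by
    have := ker_injective h4
    rw [mul_inv_eq_one] at this
    exact this.symm
  refine ⟨c * ker z⁻¹, ?_, ?_⟩
  · rw [map_mul, h2, sT_ker, map_inv, h5, inv_inv, mul_assoc, ← ker_mul]
    congr 2
    rw [eq_inv_iff_mul_eq_one, ← pow_two, ← pow_succ, hz]
  · rw [map_mul, torusHom_ker_eq, mul_one]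
    rw [inv_pow, hz, inv_one]

end

section Count
variable {K : Type*} [Field K] {q : ℕ} {φ : K →+* K}

/-- the group of `σ`-fixed tuples -/
def fixT (φ : K →+* K) : Subgroup (Fin chevE6.rank → Kˣ) := (sT φ).eqLocus (MonoidHom.id _)

theorem mem_fixT (c : Fin chevE6.rank → Kˣ) : c ∈ fixT φ ↔ sT φ c = c := Iff.rfl

/-- the restriction of the torus homomorphism to the `σ`-fixed tuples -/
def fA (φ : K →+* K) : ↥(fixT φ) →* GL chevE6.Idx K := (torusHom chevE6 K).comp (fixT φ).subtype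

theorem fixT_val (c : ↥(fixT φ)) (i : ℕ) (hi : i < 6)
    (h : sT φ c.1 (ix i hi) = psi φ (c.1 (ix i hi))) : φ (c.1 (ix i hi)) = c.1 (ix i hi) := by
  have h1 : sT φ c.1 (ix i hi) = c.1 (ix i hi) := congrFun c.2 (ix i hi)
  exact congrArg Units.val (h.symm.trans h1)

theorem fixT_4 (c : ↥(fixT φ)) : c.1 (ix 4) = psi φ (c.1 (ix 2)) := by
  have h1 : sT φ c.1 (ix 4) = c.1 (ix 4) := congrFun c.2 (ix 4)
  have h0 : sT φ c.1 (ix 4) = psi φ (c.1 (ix 2)) := rfl
  exact h1.symm.trans h0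

theorem fixT_5 (c : ↥(fixT φ)) : c.1 (ix 5) = psi φ (c.1 (ix 0)) := by
  have h1 : sT φ c.1 (ix 5) = c.1 (ix 5) := congrFun c.2 (ix 5)
  have h0 : sT φ c.1 (ix 5) = psi φ (c.1 (ix 0)) := rfl
  exact h1.symm.trans h0

theorem pow_of_dvd {G : Type*} [Monoid G] {x : G} {d n : ℕ} (h : d ∣ n) (hx : x ^ d = 1) : x ^ n = 1 := by
  obtain ⟨k, rfl⟩ := h
  rw [pow_mul, hx, one_pow]

theorem card_fixT [Fintype K] (hq : IsPrimePow q) (hK : Fintype.card K = q ^ 2) (hφ : ∀ x, φ x = x ^ q) :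
    Nat.card ↥(fixT φ) = (q ^ 2 - 1) ^ 2 * (q - 1) ^ 2 := by
  have h2 : ∀ x : Kˣ, psi φ (psi φ x) = x := by
    intro x
    apply psi_psi
    intro t
    rw [hφ, hφ, ← pow_mul, ← sq, ← hK]
    exact FiniteField.pow_card t
  have e : Nat.card ↥(fixT φ) = Nat.card ((Kˣ × Kˣ) × ({b : Kˣ // φ b = b} × {b : Kˣ // φ b = b})) := by
    apply Nat.card_congr
    refine ⟨fun c => ((c.1 (ix 0), c.1 (ix 2)),
        (⟨c.1 (ix 1), fixT_val c 1 (by norm_num) rfl⟩,
          ⟨c.1 (ix 3), fixT_val c 3 (by norm_num) rfl⟩)),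
      fun x => ⟨mk6 x.1.1 x.2.1.1 x.1.2 x.2.2.1 (psi φ x.1.2) (psi φ x.1.1), ?_⟩, ?_, ?_⟩
    · exact ext6 (h2 _) (Units.ext x.2.1.2) (h2 _) (Units.ext x.2.2.2) rfl rfl
    · intro c
      apply Subtype.ext
      exact ext6 rfl rfl rfl rfl (fixT_4 c).symm (fixT_5 c).symm
    · intro x
      rfl
  rw [e, Nat.card_prod, Nat.card_prod, Nat.card_prod, D4H1.card_fixed hq.one_lt hK hφ, D4H1.natCard_units hK,
    sq (q ^ 2 - 1), sq (q - 1)]

theorem card_ker_fA [Fintype K] (hK : Fintype.card K = q ^ 2) (hφ : ∀ x, φ x = x ^ q) :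
    Nat.card (fA φ).ker = Nat.gcd 3 (q + 1) := by
  have hd : Nat.card (powMonoidHom (Nat.gcd 3 (q + 1)) : Kˣ →* Kˣ).ker = Nat.gcd 3 (q + 1) := by
    rw [IsCyclic.card_powMonoidHom_ker, D4H1.natCard_units hK]
    apply Nat.gcd_eq_right
    refine (Nat.gcd_dvd_right 3 (q + 1)).trans ⟨q - 1, ?_⟩
    have := Nat.sq_sub_sq q 1
    rw [one_pow] at this
    exact this
  have hpow : ∀ z : Kˣ, psi φ z = z ^ q := fun z => Units.ext (hφ z)
  rw [← hd]
  symm
  apply Nat.card_eq_of_bijective (fun z : ↥(powMonoidHom (Nat.gcd 3 (q + 1)) : Kˣ →* Kˣ).ker =>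
    (⟨⟨ker z.1, ?_⟩, ?_⟩ : ↥(fA φ).ker))
  · constructor
    · intro z w h
      have := congrArg (fun x : ↥(fA φ).ker => x.1.1) h
      exact Subtype.ext (ker_injective this)
    · rintro ⟨⟨c, hc⟩, hc'⟩
      obtain ⟨z, hz, rfl⟩ := exists_of_ker c hc'
      rw [mem_fixT, sT_ker] at hc
      have h1 : (psi φ z)⁻¹ = z := ker_injective hc
      have h2 : z ^ (q + 1) = 1 := by
        rw [hpow] at h1
        rw [pow_succ]
        nth_rewrite 2 [← h1]
        exact mul_inv_cancel _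
      refine ⟨⟨z, ?_⟩, rfl⟩
      rw [MonoidHom.mem_ker, powMonoidHom_apply]
      exact pow_gcd_eq_one.2 ⟨hz, h2⟩
  · have hz : z.1 ^ Nat.gcd 3 (q + 1) = 1 := z.2
    have h2 : z.1 ^ (q + 1) = 1 := pow_of_dvd (Nat.gcd_dvd_right 3 (q + 1)) hz
    rw [mem_fixT, sT_ker, hpow]
    congr 1
    rw [inv_eq_iff_mul_eq_one, ← pow_succ, h2]
  · have hz : z.1 ^ Nat.gcd 3 (q + 1) = 1 := z.2
    exact torusHom_ker_eq z.1 (pow_of_dvd (Nat.gcd_dvd_left 3 (q + 1)) hz)

theorem hG_eq_torusHom (hA : SimpleDiag chevE6 K) (i : Fin chevE6.rank) (z : Kˣ) :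
    torusHom chevE6 K (Pi.mulSingle i z) = hG hE6 (chevE6.simple i) (z : K) := by
  rw [eq_hG_iff, hA i i.2 z (Units.ne_zero z), coe_torusHom]
  congr 1
  funext x
  rcases x with j | s
  · rfl
  · simp only [Sum.elim_inr]
    rw [mon_def, Finset.prod_eq_single i]
    · rw [Pi.mulSingle_eq_same, Units.val_zpow_eq_zpow_val]
      rfl
    · intro j _ hj
      rw [Pi.mulSingle_eq_of_ne hj, one_zpow]
    · intro h
      exact absurd (Finset.mem_univ i) h

theorem prod_mulSingle (c : Fin chevE6.rank → Kˣ) :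
    c = Pi.mulSingle (ix 0) (c (ix 0)) * Pi.mulSingle (ix 5) (c (ix 5)) *
      (Pi.mulSingle (ix 2) (c (ix 2)) * Pi.mulSingle (ix 4) (c (ix 4))) *
      (Pi.mulSingle (ix 1) (c (ix 1)) * Pi.mulSingle (ix 3) (c (ix 3))) := by
  have ne : ∀ i j : Fin chevE6.rank, i ≠ j → ∀ x : Kˣ, (Pi.mulSingle i x : Fin chevE6.rank → Kˣ) j = 1 :=
    fun i j h x => by rw [Pi.mulSingle_apply, if_neg (Ne.symm h)]
  apply ext6 <;> simp only [Pi.mul_apply, Pi.mulSingle_eq_same]
  · rw [ne (ix 5) (ix 0) (by decide), ne (ix 2) (ix 0) (by decide), ne (ix 4) (ix 0) (by decide),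
      ne (ix 1) (ix 0) (by decide), ne (ix 3) (ix 0) (by decide)]; simp
  · rw [ne (ix 0) (ix 1) (by decide), ne (ix 5) (ix 1) (by decide), ne (ix 2) (ix 1) (by decide),
      ne (ix 4) (ix 1) (by decide), ne (ix 3) (ix 1) (by decide)]; simp
  · rw [ne (ix 0) (ix 2) (by decide), ne (ix 5) (ix 2) (by decide), ne (ix 4) (ix 2) (by decide),
      ne (ix 1) (ix 2) (by decide), ne (ix 3) (ix 2) (by decide)]; simp
  · rw [ne (ix 0) (ix 3) (by decide), ne (ix 5) (ix 3) (by decide), ne (ix 2) (ix 3) (by decide),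
      ne (ix 4) (ix 3) (by decide), ne (ix 1) (ix 3) (by decide)]; simp
  · rw [ne (ix 0) (ix 4) (by decide), ne (ix 5) (ix 4) (by decide), ne (ix 2) (ix 4) (by decide),
      ne (ix 1) (ix 4) (by decide), ne (ix 3) (ix 4) (by decide)]; simp
  · rw [ne (ix 0) (ix 5) (by decide), ne (ix 2) (ix 5) (by decide), ne (ix 4) (ix 5) (by decide),
      ne (ix 1) (ix 5) (by decide), ne (ix 3) (ix 5) (by decide)]; simp

/-- the images of `σ`-fixed tuples lie in ²E₆ -/
theorem torusHom_mem_twisted (hA : SimpleDiag chevE6 K) (hφ : ∀ x, φ x = x ^ q) (c : ↥(fixT φ)) :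
    torusHom chevE6 K c.1 ∈ twistedE6 K q := by
  rw [prod_mulSingle c.1]
  rw [map_mul, map_mul, map_mul, map_mul, map_mul]
  simp only [hG_eq_torusHom hA]
  have e5 : (c.1 (ix 5) : K) = φ (c.1 (ix 0)) := congrArg Units.val (fixT_5 c)
  have e4 : (c.1 (ix 4) : K) = φ (c.1 (ix 2)) := congrArg Units.val (fixT_4 c)
  have s0 : chevE6.simple (ix 0) = 56 := rfl
  have s1 : chevE6.simple (ix 1) = 46 := rfl
  have s2 : chevE6.simple (ix 2) = 42 := rfl
  have s3 : chevE6.simple (ix 3) = 39 := rfl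
  have s4 : chevE6.simple (ix 4) = 37 := rfl
  have s5 : chevE6.simple (ix 5) = 36 := rfl
  rw [e5, e4, s0, s1, s2, s3, s4, s5]
  exact mul_mem (mul_mem (h16_mem hφ _) (h35_mem hφ _))
    (mul_mem (h_single_mem hφ (by decide) (by decide) (fixT_val c 1 (by norm_num) rfl))
      (h_single_mem hφ (by decide) (by decide) (fixT_val c 3 (by norm_num) rfl)))

/-- H¹ is the image of the `σ`-fixed tuples -/
theorem H1_eq [Fintype K] (hK : Fintype.card K = q ^ 2) (hφ : ∀ x, φ x = x ^ q)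
    (hA : SimpleDiag chevE6 K) (hH : chevE6.diagonalSubgroup K = (torusHom chevE6 K).range) :
    chevE6.diagonalSubgroup K ⊓ twistedE6 K q = (fA φ).range := by
  apply le_antisymm
  · rintro g ⟨hg1, hg2⟩
    rw [hH] at hg1
    obtain ⟨c, rfl⟩ := hg1
    have h3 : ∀ t : K, φ (φ t) = t := by
      intro t
      rw [hφ, hφ, ← pow_mul, ← sq, ← hK]
      exact FiniteField.pow_card t
    obtain ⟨c', hc', hc''⟩ := exists_fixed φ h3 (twisted_le_fix hK hφ hg2)
    exact ⟨⟨c', hc'⟩, hc''⟩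
  · rintro g ⟨c, rfl⟩
    refine ⟨?_, torusHom_mem_twisted hA hφ c⟩
    rw [hH]
    exact ⟨c.1, rfl⟩

theorem card_H1 [Fintype K] (hq : IsPrimePow q) (hK : Fintype.card K = q ^ 2) (hφ : ∀ x, φ x = x ^ q)
    (hA : SimpleDiag chevE6 K) (hH : chevE6.diagonalSubgroup K = (torusHom chevE6 K).range) :
    Nat.gcd 3 (q + 1) * Nat.card ↥(chevE6.diagonalSubgroup K ⊓ twistedE6 K q) =
      (q ^ 2 - 1) ^ 2 * (q - 1) ^ 2 := by
  rw [H1_eq hK hφ hA hH, ← card_ker_fA hK hφ, ← Subgroup.index_ker, Subgroup.card_mul_index,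
    card_fixT hq hK hφ]

end Count

end Cfsg.Agent.ChevalleyStructure.E6H1
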