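import Mathlib
import Cfsg.Prelude.Def_LieExceptional
import Cfsg.Agent.ChevalleyStructure.AbstractBN
import Cfsg.Agent.S0308

/-!
Fixed-point version of `AbstractBN`: a subgroup `G` of an ambient group `Γ` with subgroups `U`, `H`, `N`
(such as the standard subgroups of a Chevalley group) has a (B,N)-pair with `B = (U ⊔ H) ⊓ G` and `N ⊓ G`,
as soon as the "relative rank one" facts hold.  The typical `G` is a twisted group `G¹ = ⟨U¹, V¹⟩`.
-/

set_option autoImplicit false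

open scoped Pointwise

namespace Cfsg.Agent.ChevalleyStructure.TwistedBN

open Cfsg.Agent.ChevalleyStructure.AbstractBN

/-- Input data: the ambient subgroups `U`, `H`, `N` of `Γ`, the subgroup `G` of `Γ`, and for each relative
simple root `i` the element `n i`, the (ambient) root subgroups `X i`, `Y i` and the complement `V i`. -/
structure TwistedData (Γ : Type*) [Group Γ] (ι : Type*) where
  /-- ambient unipotent subgroup -/
  U : Subgroup Γ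
  /-- ambient diagonal subgroup -/
  H : Subgroup Γ
  /-- ambient monomial subgroup -/
  N : Subgroup Γ
  /-- the twisted group -/
  G : Subgroup Γ
  /-- representatives of the relative simple reflections -/
  n : ι → Γ
  /-- positive relative simple root groups (ambient version) -/
  X : ι → Set Γ
  /-- negative relative simple root groups (ambient version) -/
  Y : ι → Set Γ
  /-- complements -/
  V : ι → Set Γ
  H_le_N : H ≤ N
  conj_H_U : ∀ h ∈ H, ∀ u ∈ U, h * u * h⁻¹ ∈ U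
  conj_N_H : ∀ m ∈ N, ∀ h ∈ H, m * h * m⁻¹ ∈ H
  inf_le : (U ⊔ H) ⊓ N ≤ H
  U_inf_H : ∀ g ∈ U, g ∈ H → g = 1
  n_mem_N : ∀ i, n i ∈ N
  n_mem_G : ∀ i, n i ∈ G
  sq_mem : ∀ i, n i * n i ∈ H
  decomp : ∀ i, ∀ u ∈ U, u ∈ G → ∃ v ∈ V i, ∃ x ∈ X i, x ∈ G ∧ u = v * x
  conj_V : ∀ i, ∀ v ∈ V i, n i * v * (n i)⁻¹ ∈ U
  conj_X : ∀ i, ∀ x ∈ X i, n i * x * (n i)⁻¹ ∈ Y i
  conj_inv_X : ∀ i, ∀ x ∈ X i, (n i)⁻¹ * x * n i ∈ Y i
  rank_one : ∀ i, ∀ y ∈ Y i, y ∈ G → y ≠ 1 →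
    ∃ u ∈ U, u ∈ G ∧ ∃ h ∈ H, h ∈ G ∧ ∃ x ∈ X i, x ∈ G ∧ y = u * h * n i * x
  root_cases : ∀ m ∈ Subgroup.closure (Set.range n) ⊔ (H ⊓ G), ∀ i,
    (∀ x ∈ X i, x ∈ G → m⁻¹ * x * m ∈ U) ∨ (∀ y ∈ Y i, y ∈ G → m⁻¹ * y * m ∈ U)
  gen : G ≤ Subgroup.closure ({g | g ∈ U ∧ g ∈ G} ∪ Set.range n)
  bruhat : ∀ m ∈ N, ∀ m' ∈ N, ∀ b ∈ U ⊔ H, ∀ b' ∈ U ⊔ H, m = b * m' * b' → m⁻¹ * m' ∈ U ⊔ H
  n_ne : ∀ i j, n i ≠ n j → (n i)⁻¹ * n j ∉ H
  not_le : ∀ i, ∃ x ∈ U, x ∈ G ∧ n i * x * (n i)⁻¹ ∉ U ⊔ H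

namespace TwistedData

variable {Γ : Type*} [Group Γ] {ι : Type*} (T : TwistedData Γ ι)

/-- the elements `n i` inside `G` -/
def nG (i : ι) : ↥T.G := ⟨T.n i, T.n_mem_G i⟩

/-- the monomial subgroup `⟨H ⊓ G, n i⟩` of `G` -/
def NG : Subgroup ↥T.G := Subgroup.closure (Set.range T.nG) ⊔ T.H.subgroupOf T.G

theorem NG_map_le : ∀ m ∈ T.NG, (m : Γ) ∈ Subgroup.closure (Set.range T.n) ⊔ (T.H ⊓ T.G) := by
  have h : T.NG ≤ (Subgroup.closure (Set.range T.n) ⊔ (T.H ⊓ T.G)).comap T.G.subtype := by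
    apply sup_le
    · rw [Subgroup.closure_le]
      rintro _ ⟨i, rfl⟩
      exact Subgroup.mem_sup_left (Subgroup.subset_closure ⟨i, rfl⟩)
    · intro g hg
      exact Subgroup.mem_sup_right ⟨hg, g.2⟩
  exact fun m hm => h hm

theorem NG_le_N : ∀ m ∈ T.NG, (m : Γ) ∈ T.N := by
  have h : T.NG ≤ T.N.comap T.G.subtype := by
    apply sup_le
    · rw [Subgroup.closure_le]
      rintro _ ⟨i, rfl⟩
      exact T.n_mem_N i
    · intro g hg
      exact T.H_le_N hg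
  exact fun m hm => h hm

/-- The `RootData` of `AbstractBN` for the group `↥T.G`. -/
def toRootData : RootData ↥T.G ι where
  U := T.U.subgroupOf T.G
  H := T.H.subgroupOf T.G
  N := T.NG
  n := T.nG
  X := fun i => {x | (x : Γ) ∈ T.X i}
  Y := fun i => {x | (x : Γ) ∈ T.Y i}
  U' := fun i => {x | (x : Γ) ∈ T.V i}
  conj_H_U := fun h hh u hu => T.conj_H_U h hh u hu
  conj_N_H := fun m hm h hh => T.conj_N_H m (T.NG_le_N m hm) h hh
  N_eq := rfl
  sup_top := by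
    apply top_le_iff.1
    intro g _
    have key : T.G ≤ ((T.U.subgroupOf T.G ⊔ T.NG).map T.G.subtype) := by
      refine T.gen.trans ?_
      rw [Subgroup.closure_le]
      rintro g (⟨hU, hG⟩ | ⟨i, rfl⟩)
      · exact ⟨⟨g, hG⟩, Subgroup.mem_sup_left hU, rfl⟩
      · exact ⟨T.nG i, Subgroup.mem_sup_right
          (Subgroup.mem_sup_left (Subgroup.subset_closure ⟨i, rfl⟩)), rfl⟩
    obtain ⟨g', hg', he⟩ := key g.2
    have : g' = g := Subtype.ext he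
    exact this ▸ hg'
  sq_mem := fun i => T.sq_mem i
  decomp := by
    rintro i u hu
    obtain ⟨v, hv, x, hx, hxG, h⟩ := T.decomp i u hu u.2
    have hvG : v ∈ T.G := by
      have : v = (u : Γ) * x⁻¹ := by rw [h]; group
      rw [this]
      exact T.G.mul_mem u.2 (T.G.inv_mem hxG)
    exact ⟨⟨v, hvG⟩, hv, ⟨x, hxG⟩, hx, Subtype.ext h⟩
  conj_n_U' := fun i v hv => T.conj_V i v hv
  conj_n_X := fun i x hx => T.conj_X i x hx
  conj_n_inv_X := fun i x hx => T.conj_inv_X i x hx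
  rank_one := by
    intro i y hy hy1
    have hy1' : (y : Γ) ≠ 1 := fun h => hy1 (Subtype.ext h)
    obtain ⟨u, hu, huG, h, hh, hhG, x, hx, hxG, he⟩ := T.rank_one i y hy y.2 hy1'
    exact ⟨⟨u, huG⟩, hu, ⟨h, hhG⟩, hh, ⟨x, hxG⟩, hx, Subtype.ext he⟩
  root_cases := by
    intro m hm i
    rcases T.root_cases m (T.NG_map_le m hm) i with h | h
    · left
      intro x hx
      exact h x hx x.2
    · right
      intro y hy
      exact h y hy y.2
  inf_le := by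
    intro u hu h hh hN
    have h1 : ((u : Γ) * (h : Γ)) ∈ T.H :=
      T.inf_le ⟨T.U.mul_mem_sup hu hh, T.NG_le_N _ hN⟩
    have h2 : (u : Γ) ∈ T.H := by
      have := T.H.mul_mem h1 (T.H.inv_mem hh)
      simpa using this
    exact h2
  n_ne := by
    intro i j hne hH
    apply T.n_ne i j _ hH
    intro h
    exact hne (Subtype.ext h)
  not_le := by
    intro i
    obtain ⟨x, hx, hxG, hn⟩ := T.not_le i
    refine ⟨⟨x, hxG⟩, hx, ?_⟩
    intro hmem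
    apply hn
    have h : (T.U.subgroupOf T.G ⊔ T.H.subgroupOf T.G) ≤ (T.U ⊔ T.H).comap T.G.subtype :=
      sup_le (fun g hg => Subgroup.mem_sup_left hg) (fun g hg => Subgroup.mem_sup_right hg)
    exact h hmem

theorem rootB_le (g : ↥T.G) (hg : g ∈ T.toRootData.bnPair.B) : (g : Γ) ∈ T.U ⊔ T.H := by
  have h : (T.U.subgroupOf T.G ⊔ T.H.subgroupOf T.G) ≤ (T.U ⊔ T.H).comap T.G.subtype :=
    sup_le (fun g hg => Subgroup.mem_sup_left hg) (fun g hg => Subgroup.mem_sup_right hg)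
  exact h hg

/-- `B ⊓ G = (U ⊓ G)(H ⊓ G)`. -/
theorem bnPair_B : T.toRootData.bnPair.B = (T.U ⊔ T.H).subgroupOf T.G := by
  apply le_antisymm
  · exact fun g hg => T.rootB_le g hg
  · intro g hg
    obtain ⟨m, hm, hgm⟩ := Cfsg.Agent.S0308.result T.toRootData.bnPair g
    rw [DoubleCoset.mem_doubleCoset] at hgm
    obtain ⟨b, hb, b', hb', he⟩ := hgm
    have hmN : (m : Γ) ∈ T.N := T.NG_le_N m hm
    have hmB : (m : Γ) ∈ T.U ⊔ T.H := by
      have h1 : m = b⁻¹ * g * b'⁻¹ := by rw [he]; group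
      rw [h1]
      exact (T.U ⊔ T.H).mul_mem ((T.U ⊔ T.H).mul_mem ((T.U ⊔ T.H).inv_mem (T.rootB_le b hb)) hg)
        ((T.U ⊔ T.H).inv_mem (T.rootB_le b' hb'))
    have hmH : (m : Γ) ∈ T.H := T.inf_le ⟨hmB, hmN⟩
    have hmH' : m ∈ T.toRootData.bnPair.B := T.toRootData.H_le_B hmH
    rw [he]
    exact Subgroup.mul_mem _ (Subgroup.mul_mem _ hb hmH') hb'

/-- `N ⊓ G = ⟨H ⊓ G, n i⟩`. -/
theorem bnPair_N : T.toRootData.bnPair.N = T.N.subgroupOf T.G := by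
  apply le_antisymm
  · exact fun g hg => T.NG_le_N g hg
  · intro g hg
    obtain ⟨m, hm, hgm⟩ := Cfsg.Agent.S0308.result T.toRootData.bnPair g
    rw [DoubleCoset.mem_doubleCoset] at hgm
    obtain ⟨b, hb, b', hb', he⟩ := hgm
    have hmN : (m : Γ) ∈ T.N := T.NG_le_N m hm
    have h1 : ((g : Γ))⁻¹ * (m : Γ) ∈ T.U ⊔ T.H := by
      apply T.bruhat g hg m hmN b (T.rootB_le b hb) b' (T.rootB_le b' hb')
      rw [he]
      rfl
    have h2 : ((g : Γ))⁻¹ * (m : Γ) ∈ T.H := T.inf_le ⟨h1, T.N.mul_mem (T.N.inv_mem hg) hmN⟩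
    have h3 : g⁻¹ * m ∈ T.H.subgroupOf T.G := h2
    have h4 : g⁻¹ * m ∈ T.NG := Subgroup.mem_sup_right h3
    have h5 : g = m * (g⁻¹ * m)⁻¹ := by group
    have hm' : m ∈ T.NG := hm
    have h6 : g ∈ T.NG := by
      rw [h5]
      exact T.NG.mul_mem hm' (T.NG.inv_mem h4)
    exact h6

/-- **Main theorem**: the (B,N)-pair of the twisted group. -/
theorem exists_bnPair :
    ∃ P : Cfsg.BNPair ↥T.G, P.B = (T.U ⊔ T.H).subgroupOf T.G ∧ P.N = T.N.subgroupOf T.G ∧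
      P.S = Set.range T.nG :=
  ⟨T.toRootData.bnPair, T.bnPair_B, T.bnPair_N, rfl⟩

/-- `B ⊓ G = (U ⊓ G)(H ⊓ G)` elementwise. -/
theorem mem_B_iff (g : Γ) (hg : g ∈ T.G) :
    g ∈ T.U ⊔ T.H ↔ ∃ u ∈ T.U, u ∈ T.G ∧ ∃ h ∈ T.H, h ∈ T.G ∧ g = u * h := by
  constructor
  · intro h
    have h1 : (⟨g, hg⟩ : ↥T.G) ∈ T.toRootData.bnPair.B := by
      rw [T.bnPair_B]; exact h
    obtain ⟨u, hu, k, hk, he⟩ := (T.toRootData.mem_B_iff _).1 h1
    exact ⟨u, hu, u.2, k, hk, k.2, congrArg Subtype.val he⟩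
  · rintro ⟨u, hu, -, k, hk, -, rfl⟩
    exact T.U.mul_mem_sup hu hk

/-- `N ⊓ G` is generated by `H ⊓ G` and the `n i`. -/
theorem N_inf_G : T.N ⊓ T.G = Subgroup.closure (Set.range T.n) ⊔ (T.H ⊓ T.G) := by
  apply le_antisymm
  · rintro g ⟨hN, hG⟩
    have h1 : (⟨g, hG⟩ : ↥T.G) ∈ T.toRootData.bnPair.N := by
      rw [T.bnPair_N]; exact hN
    exact T.NG_map_le _ h1
  · apply sup_le
    · rw [Subgroup.closure_le]
      rintro _ ⟨i, rfl⟩
      exact ⟨T.n_mem_N i, T.n_mem_G i⟩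
    · exact inf_le_inf_right _ T.H_le_N

end TwistedData

end Cfsg.Agent.ChevalleyStructure.TwistedBN
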