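/-
helper600: support of the root elements x_r(t) with respect to the additive root coordinates.
-/
import Mathlib
import Cfsg.Agent.ChevalleyStructure.RootVec

set_option autoImplicit false

namespace Cfsg.Agent.ChevalleyStructure.RootSupport

open Cfsg.Lie Cfsg.Agent.ChevalleyStructure.RootVecTab Cfsg.Agent.ChevalleyStructure.RootVec

variable {D : ChevalleyDatum} {F : Type*} [Field F]

/-- The weight of a basis vector: zero for the `h_{p_i}`, the root for `e_r`. -/
def wt (D : ChevalleyDatum) (a : D.Idx) (i : ℕ) : ℤ := Sum.elim (fun _ => 0) (fun s => rt D s.val i) a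

@[simp] theorem wt_inl (a : Fin D.rank) (i : ℕ) : wt D (Sum.inl a) i = 0 := rfl

@[simp] theorem wt_inr (s : Fin D.nroots) (i : ℕ) : wt D (Sum.inr s) i = rt D s.val i := rfl

theorem chainCoeff_ne_nil (h : Checked D) {r s u : ℕ} (hne : D.chainCoeff r s u ≠ []) :
    ∃ k : ℕ, 1 ≤ k ∧ ∀ i, rt D u i = rt D s i + (k : ℤ) * rt D r i := by
  obtain ⟨km, hkm⟩ := List.exists_mem_of_ne_nil _ hne
  have hdef : D.chainCoeff r s u = (((row D r).filter (fun e => e.1 = s)).flatMap fun e =>
    ((e.2.toList.zipIdx).filter (fun q => q.1.1 = u)).map fun q => (q.2 + 1, q.1.2)) := rfl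
  rw [hdef, List.mem_flatMap] at hkm
  obtain ⟨e, he, hkm⟩ := hkm
  rw [List.mem_filter] at he
  obtain ⟨he, hes⟩ := he
  rw [List.mem_map] at hkm
  obtain ⟨q, hq, rfl⟩ := hkm
  rw [List.mem_filter] at hq
  obtain ⟨hq, hqu⟩ := hq
  rw [List.mem_zipIdx_iff_getElem?] at hq
  obtain ⟨_, h2⟩ := row_entry h he hq
  have hes' : e.1 = s := by simpa using hes
  have hqu' : q.1.1 = u := by simpa using hqu
  refine ⟨q.2 + 1, by omega, fun i => ?_⟩
  have := h2 i
  rw [hes', hqu'] at this
  exact this

/-- `x_r(t) - 1` raises weights by positive multiples of `r`. -/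
theorem xMat_sub_one_support (h : Checked D) (r : Fin D.nroots) (t : F) (row col : D.Idx)
    (hne : (D.xMat F r t - 1) row col ≠ 0) :
    ∃ k : ℕ, 1 ≤ k ∧ ∀ i, wt D row i = wt D col i + (k : ℤ) * rt D r.val i := by
  rw [Matrix.sub_apply] at hne
  rcases col with i | s
  · rcases row with i' | u
    · exfalso
      apply hne
      show (if i' = i then (1 : F) else 0) - (1 : Matrix D.Idx D.Idx F) (Sum.inl i') (Sum.inl i) = 0
      rw [Matrix.one_apply]
      by_cases hi : i' = i
      · rw [if_pos hi, if_pos (by rw [hi]), sub_self]
      · rw [if_neg hi, if_neg (by simpa using hi), sub_self]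
    · have hu : u = r := by
        by_contra hu
        apply hne
        show (if u = r then - (((D.cartanSR.getD i.val #[]).getD r.val 0 : ℤ) : F) * t else 0)
          - (1 : Matrix D.Idx D.Idx F) (Sum.inr u) (Sum.inl i) = 0
        rw [if_neg hu, Matrix.one_apply, if_neg (by simp), sub_self]
      subst hu
      refine ⟨1, le_rfl, fun j => ?_⟩
      simp
  · by_cases hsr : s = r
    · exfalso
      apply hne
      subst hsr
      rcases row with i' | u
      · have : D.xMat F s t (Sum.inl i') (Sum.inr s) = 0 := by
          show (if s = s then (0 : F) else _) = 0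
          rw [if_pos rfl]
        rw [this, Matrix.one_apply, if_neg (by simp), sub_self]
      · have : D.xMat F s t (Sum.inr u) (Sum.inr s) = if u = s then (1 : F) else 0 := by
          show (if s = s then (if u = s then (1 : F) else 0) else _) = _
          rw [if_pos rfl]
        rw [this, Matrix.one_apply]
        by_cases hu : u = s
        · rw [if_pos hu, if_pos (by rw [hu]), sub_self]
        · rw [if_neg hu, if_neg (by simpa using hu), sub_self]
    · by_cases hsn : s.val = D.neg r.val
      · rcases row with i' | u
        · refine ⟨1, le_rfl, fun j => ?_⟩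
          rw [wt_inl, wt_inr, hsn, rt_neg h r.isLt]
          push_cast; ring
        · have e1 : D.xMat F r t (Sum.inr u) (Sum.inr s) =
              if u = s then (1 : F) else if u = r then -(t ^ 2) else 0 := by
            show (if s = r then _ else if s.val = D.neg r.val then
              (if u = s then (1 : F) else if u = r then -(t ^ 2) else 0) else _) = _
            rw [if_neg hsr, if_pos hsn]
          rw [e1, Matrix.one_apply] at hne
          have hus : u ≠ s := by
            intro hus
            apply hne
            rw [if_pos hus, if_pos (by rw [hus]), sub_self]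
          have hur : u = r := by
            by_contra hur
            apply hne
            rw [if_neg hus, if_neg hur, if_neg (by simpa using hus), sub_self]
          subst hur
          refine ⟨2, by norm_num, fun j => ?_⟩
          rw [wt_inr, wt_inr, hsn, rt_neg h u.isLt]
          push_cast; ring
      · rcases row with i' | u
        · exfalso
          apply hne
          have e1 : D.xMat F r t (Sum.inl i') (Sum.inr s) = 0 := by
            show (if s = r then _ else if s.val = D.neg r.val then _ else (0 : F)) = _
            rw [if_neg hsr, if_neg hsn]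
          rw [e1, Matrix.one_apply, if_neg (by simp), sub_self]
        · have e1 : D.xMat F r t (Sum.inr u) (Sum.inr s) = (if u = s then (1 : F) else 0) +
             ((D.chainCoeff r.val s.val u.val).map fun km => ((km.2 : ℤ) : F) * t ^ km.1).sum := by
            show (if s = r then _ else if s.val = D.neg r.val then _ else
              (if u = s then (1 : F) else 0) +
             ((D.chainCoeff r.val s.val u.val).map fun km => ((km.2 : ℤ) : F) * t ^ km.1).sum) = _
            rw [if_neg hsr, if_neg hsn]
          rw [e1, Matrix.one_apply] at hne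
          have hne' : D.chainCoeff r.val s.val u.val ≠ [] := by
            intro h0
            apply hne
            rw [h0, List.map_nil, List.sum_nil, add_zero]
            by_cases hu : u = s
            · rw [if_pos hu, if_pos (by rw [hu]), sub_self]
            · rw [if_neg hu, if_neg (by simpa using hu), sub_self]
          exact chainCoeff_ne_nil h hne'

/-- `x_r(t) - 1` raises weights by positive multiples of `r` (any index `r`). -/
theorem x_sub_one_support (h : Checked D) (r : ℕ) (t : F) (row col : D.Idx)
    (hne : (D.x F r t - 1) row col ≠ 0) :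
    ∃ k : ℕ, 1 ≤ k ∧ ∀ i, wt D row i = wt D col i + (k : ℤ) * rt D r i := by
  by_cases hr : r < D.nroots
  · have e : D.x F r t = D.xMat F ⟨r, hr⟩ t := dif_pos hr
    rw [e] at hne
    exact xMat_sub_one_support h ⟨r, hr⟩ t row col hne
  · have e : D.x F r t = 1 := dif_neg hr
    rw [e, sub_self] at hne
    exact (hne rfl).elim

end Cfsg.Agent.ChevalleyStructure.RootSupport
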