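import Mathlib
import Cfsg.Prelude.Def_LieExceptional
import Cfsg.Prelude.Def_ChevStructure
import Cfsg.Agent.S0319

/-!
Simplicity of a group with an irreducible (B,N)-pair whose `B` is the intersection with the ambient
Borel subgroup (for the twisted groups).
-/

set_option autoImplicit false

namespace Cfsg.Agent.ChevalleyStructure.TwSimple

open Cfsg.Lie

theorem simple_of_bn {Γ : Type*} [Group Γ] (G1 B : Subgroup Γ) (P : Cfsg.BNPair ↥G1)
    (hB : P.B = (B ⊓ G1).subgroupOf G1) (hirr : P.Irreducible) (hsol : Group.IsSolvable ↥B)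
    (hperf : commutator ↥G1 = ⊤) (hcore : ((B ⊓ G1).subgroupOf G1).normalCore = ⊥)
    (hnt : ∃ g ∈ G1, g ≠ 1) :
    IsSimpleGroup ↥G1 ∧ ¬ IsMulCommutative ↥G1 := by
  obtain ⟨g, hg, hg1⟩ := hnt
  have : Nontrivial ↥G1 := ⟨⟨⟨g, hg⟩, 1, fun h => hg1 (congrArg Subtype.val h)⟩⟩
  have hsolP : Group.IsSolvable ↥P.B := by
    rw [hB]
    have := hsol
    let f : ↥((B ⊓ G1).subgroupOf G1) →* ↥B :=
      { toFun := fun x => ⟨x.1.1, (Subgroup.mem_inf.1 (Subgroup.mem_subgroupOf.1 x.2)).1⟩
        map_one' := rfl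
        map_mul' := fun _ _ => rfl }
    have hf : Function.Injective f := by
      intro x y h
      apply Subtype.ext
      apply Subtype.ext
      exact congrArg (fun z : ↥B => (z : Γ)) h
    exact Group.isSolvable_of_isSolvable_injective hf
  have hcoreP : P.B.normalCore = ⊥ := by rw [hB]; exact hcore
  refine ⟨Cfsg.Agent.S0319.result P hirr hsolP hperf hcoreP, fun hcomm => ?_⟩
  have h1 : commutator ↥G1 = ⊥ := by
    rw [commutator_def, Subgroup.commutator_eq_bot_iff_le_centralizer]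
    intro x _
    rw [Subgroup.mem_centralizer_iff]
    intro y _
    exact hcomm.is_comm.comm y x
  have h2 : (⊤ : Subgroup ↥G1) = ⊥ := hperf.symm.trans h1
  have h3 : (⟨g, hg⟩ : ↥G1) ∈ (⊥ : Subgroup ↥G1) := h2 ▸ Subgroup.mem_top _
  rw [Subgroup.mem_bot] at h3
  exact hg1 (congrArg Subtype.val h3)

end Cfsg.Agent.ChevalleyStructure.TwSimple
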