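import Mathlib

/-!
Triviality of the normal core of `B¹ = B ∩ G¹` in a group `G¹` of invertible matrices by a direct argument:
elements of `B` are triangular for a height function, some element of `G¹` is monomial and reverses the height, so core
elements are diagonal; and core elements commute with every element of `G¹` whose diagonal entries are non-zero.
-/

set_option autoImplicit false
set_option linter.unusedSectionVars false

namespace Cfsg.Agent.ChevalleyStructure.CoreTrivial

open Matrix

variable {ι F : Type*} [Fintype ι] [DecidableEq ι] [Field F]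

/-- Triangular for the height function `pos`, with diagonal blocks of equal height diagonal. -/
def Tri (pos : ι → ℤ) (M : Matrix ι ι F) : Prop := ∀ i j, M i j ≠ 0 → i = j ∨ pos j < pos i

theorem Tri.mul {pos : ι → ℤ} {M N : Matrix ι ι F} (hM : Tri pos M) (hN : Tri pos N) : Tri pos (M * N) := by
  intro i j h
  rw [Matrix.mul_apply] at h
  obtain ⟨k, -, hk⟩ := Finset.exists_ne_zero_of_sum_ne_zero h
  have h1 := hM i k (left_ne_zero_of_mul hk)
  have h2 := hN k j (right_ne_zero_of_mul hk)
  rcases h1 with rfl | h1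
  · exact h2
  · rcases h2 with rfl | h2
    · exact Or.inr h1
    · exact Or.inr (h2.trans h1)

theorem tri_one (pos : ι → ℤ) : Tri pos (1 : Matrix ι ι F) := by
  intro i j h
  left
  by_contra hij
  exact h (Matrix.one_apply_ne hij)

theorem Tri.mul_apply_self {pos : ι → ℤ} {M N : Matrix ι ι F} (hM : Tri pos M) (hN : Tri pos N) (i : ι) :
    (M * N) i i = M i i * N i i := by
  rw [Matrix.mul_apply, Finset.sum_eq_single i]
  · intro k _ hk
    by_contra h
    have h1 := hM i k (left_ne_zero_of_mul h)
    have h2 := hN k i (right_ne_zero_of_mul h)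
    rcases h1 with h1 | h1
    · exact hk h1.symm
    · rcases h2 with h2 | h2
      · exact hk h2
      · exact absurd (h1.trans h2) (lt_irrefl _)
  · intro h; exact absurd (Finset.mem_univ _) h

/-- A triangular invertible matrix has a triangular inverse. -/
theorem Tri.of_mul_eq_one {pos : ι → ℤ} {M N : Matrix ι ι F} (hM : Tri pos M) (h1 : M * N = 1) : Tri pos N := by
  have h2 : N * M = 1 := mul_eq_one_comm.mp h1
  have hbt : M.BlockTriangular (fun i => OrderDual.toDual (pos i)) := by
    intro i j hij
    by_contra h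
    rcases hM i j h with h | h
    · subst h; exact lt_irrefl _ hij
    · exact absurd (OrderDual.toDual_lt_toDual.mp hij) (not_lt.mpr h.le)
  have : Invertible M := ⟨N, h2, h1⟩
  have hinv : N = M⁻¹ := (Matrix.inv_eq_right_inv h1).symm
  have hN := Matrix.blockTriangular_inv_of_blockTriangular hbt
  rw [← hinv] at hN
  have hN' : ∀ i j, N i j ≠ 0 → pos j ≤ pos i := by
    intro i j h
    by_contra hlt
    exact h (hN (OrderDual.toDual_lt_toDual.mpr (not_le.mp hlt)))
  intro i j hij
  by_contra hcon
  push Not at hcon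
  obtain ⟨hne, hle⟩ := hcon
  have hpos : pos i = pos j := le_antisymm hle (hN' i j hij)
  have hdiag : ∀ a b, pos a = pos b → (N * M) a b = N a b * M b b := by
    intro a b hab
    rw [Matrix.mul_apply, Finset.sum_eq_single b]
    · intro k _ hk
      by_contra h
      have h3 := hN' a k (left_ne_zero_of_mul h)
      rcases hM k b (right_ne_zero_of_mul h) with h4 | h4
      · exact hk h4
      · rw [← hab] at h4; exact absurd h4 (not_lt.mpr h3)
    · intro h; exact absurd (Finset.mem_univ _) h
  have h5 := hdiag i j hpos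
  have h6 := hdiag j j rfl
  rw [h2, Matrix.one_apply_ne hne] at h5
  rw [h2, Matrix.one_apply_eq] at h6
  have h7 : M j j ≠ 0 := right_ne_zero_of_mul (h6 ▸ one_ne_zero)
  exact hij ((mul_eq_zero.mp h5.symm).resolve_right h7)

/-- The subgroup of triangular invertible matrices whose diagonal entries at the indices in `S` are `1`. -/
def triSubgroup (F : Type*) [Field F] (pos : ι → ℤ) (S : Set ι) : Subgroup (GL ι F) where
  carrier := {g | Tri pos (g : Matrix ι ι F) ∧ ∀ i ∈ S, (g : Matrix ι ι F) i i = 1}
  mul_mem' := by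
    rintro a b ⟨ha, ha'⟩ ⟨hb, hb'⟩
    refine ⟨?_, ?_⟩
    · rw [Units.val_mul]; exact ha.mul hb
    · intro i hi
      rw [Units.val_mul, ha.mul_apply_self hb, ha' i hi, hb' i hi, one_mul]
  one_mem' := by
    refine ⟨?_, ?_⟩
    · rw [Units.val_one]; exact tri_one pos
    · intro i _; rw [Units.val_one, Matrix.one_apply_eq]
  inv_mem' := by
    rintro a ⟨ha, ha'⟩
    have h1 : (a : Matrix ι ι F) * ((a⁻¹ : GL ι F) : Matrix ι ι F) = 1 := by
      rw [← Units.val_mul, mul_inv_cancel, Units.val_one]
    have h2 := ha.of_mul_eq_one h1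
    refine ⟨h2, ?_⟩
    intro i hi
    have h3 := ha.mul_apply_self h2 i
    rw [h1, Matrix.one_apply_eq, ha' i hi, one_mul] at h3
    exact h3.symm

theorem mem_triSubgroup {pos : ι → ℤ} {S : Set ι} {g : GL ι F} :
    g ∈ triSubgroup F pos S ↔ Tri pos (g : Matrix ι ι F) ∧ ∀ i ∈ S, (g : Matrix ι ι F) i i = 1 := Iff.rfl

/-- The normal core of `B ∩ G¹` in `G¹` is trivial. -/
theorem normalCore_eq_bot (pos : ι → ℤ) (S : Set ι) (B G1 : Subgroup (GL ι F))
    (hB : B ≤ triSubgroup F pos S) (w : GL ι F) (hw : w ∈ G1) (opp : ι → ι) (hopp : Function.Injective opp)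
    (hpos : ∀ i j, i ≠ j → pos j < pos i → ¬ pos (opp j) < pos (opp i))
    (hwm : ∀ i j, (w : Matrix ι ι F) i j ≠ 0 → i = opp j)
    (hconn : ∀ χ : ι → F, (∀ i ∈ S, χ i = 1) →
      (∀ x ∈ G1, (∀ k, (x : Matrix ι ι F) k k ≠ 0) → ∀ i j, (x : Matrix ι ι F) i j ≠ 0 → χ i = χ j) →
      ∀ i, χ i = 1) :
    ((B ⊓ G1).subgroupOf G1).normalCore = ⊥ := by
  rw [eq_bot_iff]
  -- all elements of the core are diagonal
  have key : ∀ n : G1, n ∈ ((B ⊓ G1).subgroupOf G1).normalCore →
      ((∀ i j, ((n : GL ι F) : Matrix ι ι F) i j ≠ 0 → i = j) ∧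
        ∀ i ∈ S, ((n : GL ι F) : Matrix ι ι F) i i = 1) := by
    intro n hn
    have hconj : ∀ g : G1, ((g * n * g⁻¹ : G1) : GL ι F) ∈ triSubgroup F pos S := by
      intro g
      have h := hn g
      rw [Subgroup.mem_subgroupOf] at h
      exact hB h.1
    have h1 := hconj 1
    rw [one_mul, inv_one, mul_one] at h1
    have h2 := hconj ⟨w, hw⟩⁻¹
    rw [inv_inv] at h2
    refine ⟨?_, h1.2⟩
    intro i j hij
    by_contra hne
    rcases h1.1 i j hij with h | hlt
    · exact hne h
    · -- use `w`
      set m : GL ι F := ((⟨w, hw⟩⁻¹ * n * ⟨w, hw⟩ : G1) : GL ι F) with hm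
      have hmw : (w : Matrix ι ι F) * (m : Matrix ι ι F) = ((n : GL ι F) : Matrix ι ι F) * (w : Matrix ι ι F) := by
        rw [← Units.val_mul, ← Units.val_mul, hm]
        congr 1
        simp [mul_assoc]
      -- each column and row of `w` has exactly one non-zero entry
      have hcol : ∀ j, (w : Matrix ι ι F) (opp j) j ≠ 0 := by
        intro j h0
        have h3 : ((w⁻¹ : GL ι F) : Matrix ι ι F) * (w : Matrix ι ι F) = 1 := by
          rw [← Units.val_mul, inv_mul_cancel, Units.val_one]
        have h4 := congrFun (congrFun h3 j) j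
        rw [Matrix.one_apply_eq, Matrix.mul_apply] at h4
        obtain ⟨k, -, hk⟩ := Finset.exists_ne_zero_of_sum_ne_zero (h4 ▸ one_ne_zero)
        have h5 := hwm k j (right_ne_zero_of_mul hk)
        subst h5
        exact right_ne_zero_of_mul hk h0
      have hsurj : Function.Surjective opp := Finite.injective_iff_surjective.mp hopp
      obtain ⟨i', rfl⟩ := hsurj i
      obtain ⟨j', rfl⟩ := hsurj j
      have e1 : ((w : Matrix ι ι F) * (m : Matrix ι ι F)) (opp i') j' =
          (w : Matrix ι ι F) (opp i') i' * (m : Matrix ι ι F) i' j' := by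
        rw [Matrix.mul_apply, Finset.sum_eq_single i']
        · intro k _ hk
          by_contra h
          have := hwm _ _ (left_ne_zero_of_mul h)
          exact hk (hopp this).symm
        · intro h; exact absurd (Finset.mem_univ _) h
      have e2 : (((n : GL ι F) : Matrix ι ι F) * (w : Matrix ι ι F)) (opp i') j' =
          ((n : GL ι F) : Matrix ι ι F) (opp i') (opp j') * (w : Matrix ι ι F) (opp j') j' := by
        rw [Matrix.mul_apply, Finset.sum_eq_single (opp j')]
        · intro k _ hk
          by_contra h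
          exact hk (hwm _ _ (right_ne_zero_of_mul h))
        · intro h; exact absurd (Finset.mem_univ _) h
      rw [hmw, e2] at e1
      have h6 : (m : Matrix ι ι F) i' j' ≠ 0 := by
        intro h0
        rw [h0, mul_zero] at e1
        exact (mul_ne_zero hij (hcol j')) e1
      rcases h2.1 i' j' h6 with h | hlt'
      · exact hne (h ▸ rfl)
      · exact hpos i' j' (fun h => hne (h ▸ rfl)) hlt' hlt
  intro n hn
  rw [Subgroup.mem_bot]
  obtain ⟨hd, hS⟩ := key n hn
  have hne : ∀ i, ((n : GL ι F) : Matrix ι ι F) i i ≠ 0 := by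
    intro i h0
    have h3 : ((n : GL ι F) : Matrix ι ι F) * (((n : GL ι F)⁻¹ : GL ι F) : Matrix ι ι F) = 1 := by
      rw [← Units.val_mul, mul_inv_cancel, Units.val_one]
    have h4 := congrFun (congrFun h3 i) i
    rw [Matrix.one_apply_eq, Matrix.mul_apply] at h4
    obtain ⟨k, -, hk⟩ := Finset.exists_ne_zero_of_sum_ne_zero (h4 ▸ one_ne_zero)
    have h5 := hd i k (left_ne_zero_of_mul hk)
    subst h5
    exact left_ne_zero_of_mul hk h0
  have hcomm : ∀ x ∈ G1, (∀ k, (x : Matrix ι ι F) k k ≠ 0) → ∀ i j, (x : Matrix ι ι F) i j ≠ 0 →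
      ((n : GL ι F) : Matrix ι ι F) i i = ((n : GL ι F) : Matrix ι ι F) j j := by
    intro x hx hxd
    -- `c = n x n⁻¹ x⁻¹`
    have hc : n * (⟨x, hx⟩ * n⁻¹ * ⟨x, hx⟩⁻¹) ∈ ((B ⊓ G1).subgroupOf G1).normalCore :=
      Subgroup.mul_mem _ hn (Subgroup.Normal.conj_mem inferInstance _ (Subgroup.inv_mem _ hn) _)
    obtain ⟨hcd, -⟩ := key _ hc
    set c : GL ι F := ((n * (⟨x, hx⟩ * n⁻¹ * ⟨x, hx⟩⁻¹) : G1) : GL ι F) with hcdef
    have hcx : (c : Matrix ι ι F) * ((x : Matrix ι ι F) * ((n : GL ι F) : Matrix ι ι F)) =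
        ((n : GL ι F) : Matrix ι ι F) * (x : Matrix ι ι F) := by
      rw [← Units.val_mul, ← Units.val_mul, ← Units.val_mul, hcdef]
      congr 1
      simp [mul_assoc]
    have hxn : ∀ i j, ((x : Matrix ι ι F) * ((n : GL ι F) : Matrix ι ι F)) i j =
        (x : Matrix ι ι F) i j * ((n : GL ι F) : Matrix ι ι F) j j := by
      intro i j
      rw [Matrix.mul_apply, Finset.sum_eq_single j]
      · intro k _ hk
        by_contra h
        exact hk (hd _ _ (right_ne_zero_of_mul h))
      · intro h; exact absurd (Finset.mem_univ _) h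
    have hnx : ∀ i j, (((n : GL ι F) : Matrix ι ι F) * (x : Matrix ι ι F)) i j =
        ((n : GL ι F) : Matrix ι ι F) i i * (x : Matrix ι ι F) i j := by
      intro i j
      rw [Matrix.mul_apply, Finset.sum_eq_single i]
      · intro k _ hk
        by_contra h
        exact hk (hd _ _ (left_ne_zero_of_mul h)).symm
      · intro h; exact absurd (Finset.mem_univ _) h
    have hcxn : ∀ i j, (c : Matrix ι ι F) i i * ((x : Matrix ι ι F) i j * ((n : GL ι F) : Matrix ι ι F) j j) =
        ((n : GL ι F) : Matrix ι ι F) i i * (x : Matrix ι ι F) i j := by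
      intro i j
      have hcy : ∀ Y : Matrix ι ι F, ((c : Matrix ι ι F) * Y) i j = (c : Matrix ι ι F) i i * Y i j := by
        intro Y
        rw [Matrix.mul_apply, Finset.sum_eq_single i]
        · intro k _ hk
          by_contra h
          exact hk (hcd _ _ (left_ne_zero_of_mul h)).symm
        · intro h; exact absurd (Finset.mem_univ _) h
      rw [← hnx i j, ← hcx, hcy, hxn i j]
    intro i j hij
    have h7 := hcxn i i
    have h8 : (c : Matrix ι ι F) i i = 1 := by
      have h9 : ((x : Matrix ι ι F) i i * ((n : GL ι F) : Matrix ι ι F) i i) ≠ 0 := mul_ne_zero (hxd i) (hne i)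
      apply mul_right_cancel₀ h9
      rw [h7, one_mul, mul_comm]
    have h10 := hcxn i j
    rw [h8, one_mul, mul_comm] at h10
    exact (mul_right_cancel₀ hij h10).symm
  have hall := hconn (fun i => ((n : GL ι F) : Matrix ι ι F) i i) hS hcomm
  apply Subtype.ext
  apply Units.ext
  ext i j
  by_cases hij : i = j
  · subst hij
    rw [hall i]
    simp
  · have h0 : ((n : GL ι F) : Matrix ι ι F) i j = 0 := by
      by_contra h
      exact hij (hd i j h)
    rw [h0]
    simp [Matrix.one_apply_ne hij]

end Cfsg.Agent.ChevalleyStructure.CoreTrivial
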