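import Cfsg.Prelude.Def_ChevD4
import Cfsg.Prelude.Def_ChevE6
import Cfsg.Prelude.Def_ChevE7
import Cfsg.Prelude.Def_ChevE8
import Cfsg.Agent.ChevalleyStructure.SL2Check

/-! The table checks for the types `D₄`, `E₆`, `E₇`, `E₈`. -/

set_option autoImplicit false

namespace Cfsg.Agent.ChevalleyStructure.SL2TabDE

open Cfsg Cfsg.Lie Cfsg.Agent.ChevalleyStructure.SL2Check

theorem basicD4 : basicCheck chevD4 = true := by decide +kernel
theorem basicE6 : basicCheck chevE6 = true := by decide +kernel
theorem basicE7 : basicCheck chevE7 = true := by decide +kernel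
theorem basicE8 : basicCheck chevE8 = true := by decide +kernel

theorem quickD4 : quickCheck chevD4 = true := by decide +kernel
theorem quickE6 : quickCheck chevE6 = true := by decide +kernel
theorem quickE7 : quickCheck chevE7 = true := by decide +kernel
theorem quickE8 : quickCheck chevE8 = true := by decide +kernel

end Cfsg.Agent.ChevalleyStructure.SL2TabDE
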