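import Cfsg.Prelude.Def_ChevG2
import Cfsg.Prelude.Def_ChevB2
import Cfsg.Prelude.Def_ChevF4
import Cfsg.Agent.ChevalleyStructure.SL2Check

/-! The table checks for the types `G₂`, `B₂`, `F₄`. -/

set_option autoImplicit false

namespace Cfsg.Agent.ChevalleyStructure.SL2TabSmall

open Cfsg Cfsg.Lie Cfsg.Agent.ChevalleyStructure.SL2Check

theorem basicG2 : basicCheck chevG2 = true := by decide +kernel
theorem basicB2 : basicCheck chevB2 = true := by decide +kernel
theorem basicF4 : basicCheck chevF4 = true := by decide +kernel

theorem generalG2 : generalCheck chevG2 = true := by decide +kernel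
theorem generalB2 : generalCheck chevB2 = true := by decide +kernel
theorem generalF4 : generalCheck chevF4 = true := by decide +kernel

end Cfsg.Agent.ChevalleyStructure.SL2TabSmall
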