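import Cfsg.Agent.ChevalleyStructure.SL2Quick
import Cfsg.Agent.ChevalleyStructure.SL2TabSmall
import Cfsg.Agent.ChevalleyStructure.SL2TabDE

/-! All seven tabulated Chevalley data are consistent along the root strings of every root. -/

set_option autoImplicit false

namespace Cfsg.Agent.ChevalleyStructure.SL2All

open Cfsg Cfsg.Lie Cfsg.Agent.ChevalleyStructure.SL2Rep Cfsg.Agent.ChevalleyStructure.SL2Check
  Cfsg.Agent.ChevalleyStructure.SL2Quick Cfsg.Agent.ChevalleyStructure.SL2TabSmall
  Cfsg.Agent.ChevalleyStructure.SL2TabDE

theorem basic_of_mem (D : ChevalleyDatum)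
    (hD : D ∈ [chevG2, chevB2, chevD4, chevF4, chevE6, chevE7, chevE8]) : Basic D := by
  simp only [List.mem_cons, List.not_mem_nil, or_false] at hD
  rcases hD with rfl | rfl | rfl | rfl | rfl | rfl | rfl
  · exact basic_of_check basicG2
  · exact basic_of_check basicB2
  · exact basic_of_check basicD4
  · exact basic_of_check basicF4
  · exact basic_of_check basicE6
  · exact basic_of_check basicE7
  · exact basic_of_check basicE8

/-- For every tabulated type and every root `r` the tables are consistent along the `r`-strings. -/
theorem good_of_mem (D : ChevalleyDatum)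
    (hD : D ∈ [chevG2, chevB2, chevD4, chevF4, chevE6, chevE7, chevE8]) (r : ℕ)
    (hr : r < D.nroots) : Good D r := by
  have hb := basic_of_mem D hD
  simp only [List.mem_cons, List.not_mem_nil, or_false] at hD
  rcases hD with rfl | rfl | rfl | rfl | rfl | rfl | rfl
  · exact good_of_generalCheck hb generalG2 r hr
  · exact good_of_generalCheck hb generalB2 r hr
  · exact good_of_quickCheck hb quickD4 r hr
  · exact good_of_generalCheck hb generalF4 r hr
  · exact good_of_quickCheck hb quickE6 r hr
  · exact good_of_quickCheck hb quickE7 r hr
  · exact good_of_quickCheck hb quickE8 r hr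

end Cfsg.Agent.ChevalleyStructure.SL2All
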