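import Cfsg.Agent.ChevalleyStructure.SL2Rep

/-!
The matrices `Phi D r 1 t 0 1` and `Phi D r 1 0 t 1` are the root elements `x_r(t)` and `x_{-r}(t)`.
-/

set_option autoImplicit false

namespace Cfsg.Agent.ChevalleyStructure.SL2Match

open Cfsg Cfsg.Lie Cfsg.Agent.ChevalleyStructure.SL2Weyl Cfsg.Agent.ChevalleyStructure.SL2Rep

variable {F : Type*} [Field F]

/-- `chainEntry` as a lookup in the row of the table. -/
def look (l : List (ℕ × Array (ℕ × ℤ))) (s : ℕ) : List (ℕ × ℤ) :=
  match l.find? (fun e => e.1 = s) with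
  | none => []
  | some e => e.2.toList

theorem chainEntry_eq_look (D : ChevalleyDatum) (r s : ℕ) :
    D.chainEntry r s = look (D.chain.getD r #[]).toList s := rfl

theorem look_nil (s : ℕ) : look [] s = [] := rfl

theorem look_cons (e : ℕ × Array (ℕ × ℤ)) (l : List (ℕ × Array (ℕ × ℤ))) (s : ℕ) :
    look (e :: l) s = if e.1 = s then e.2.toList else look l s := by
  by_cases h : e.1 = s <;> simp [look, h]

theorem look_of_not_mem {l : List (ℕ × Array (ℕ × ℤ))} {s : ℕ} (h : s ∉ l.map Prod.fst) :
    look l s = [] := by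
  induction l with
  | nil => rfl
  | cons e l ih =>
    rw [List.map_cons, List.mem_cons, not_or] at h
    rw [look_cons, if_neg (fun h' => h.1 h'.symm), ih h.2]

theorem look_of_mem {l : List (ℕ × Array (ℕ × ℤ))} (hl : (l.map Prod.fst).Nodup)
    {e : ℕ × Array (ℕ × ℤ)} (he : e ∈ l) : look l e.1 = e.2.toList := by
  induction l with
  | nil => simp at he
  | cons e' l ih =>
    rw [List.map_cons, List.nodup_cons] at hl
    rw [look_cons]
    rcases List.mem_cons.1 he with rfl | he
    · rw [if_pos rfl]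
    · rw [if_neg, ih hl.2 he]
      intro h
      exact hl.1 (h ▸ List.mem_map_of_mem he)

/-- The coefficient of `e_u` contributed by the list `[(u_1, m_1), …]`, starting with exponent `k + 1`. -/
def coefL (F : Type*) [Field F] (t : F) (u : ℕ) : List (ℕ × ℤ) → ℕ → F
  | [], _ => 0
  | x :: L, k => (if x.1 = u then ((x.2 : ℤ) : F) * t ^ (k + 1) else 0) + coefL F t u L (k + 1)

theorem coefL_nil (t : F) (u k : ℕ) : coefL F t u [] k = 0 := rfl

theorem coefL_cons (t : F) (u : ℕ) (x : ℕ × ℤ) (L : List (ℕ × ℤ)) (k : ℕ) :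
    coefL F t u (x :: L) k =
      (if x.1 = u then ((x.2 : ℤ) : F) * t ^ (k + 1) else 0) + coefL F t u L (k + 1) := rfl

theorem coefL_eq (t : F) (u : ℕ) (L : List (ℕ × ℤ)) (k : ℕ) :
    ((((L.zipIdx k).filter (fun q => q.1.1 = u)).map fun q => (q.2 + 1, q.1.2)).map
      fun km => ((km.2 : ℤ) : F) * t ^ km.1).sum = coefL F t u L k := by
  induction L generalizing k with
  | nil => simp [coefL_nil]
  | cons x L ih =>
    rw [List.zipIdx_cons, List.filter_cons, coefL_cons, ← ih (k + 1)]
    by_cases h : x.1 = u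
    · simp [h]
    · simp [h]

theorem flatMap_filter_eq {l : List (ℕ × Array (ℕ × ℤ))} (hl : (l.map Prod.fst).Nodup) (s : ℕ)
    (f : List (ℕ × ℤ) → List (ℕ × ℤ)) (hf : f [] = []) :
    ((l.filter (fun e => e.1 = s)).flatMap fun e => f e.2.toList) = f (look l s) := by
  induction l with
  | nil => simp [look_nil, hf]
  | cons e l ih =>
    rw [List.map_cons, List.nodup_cons] at hl
    rw [look_cons, List.filter_cons]
    by_cases h : e.1 = s
    · have hnil : l.filter (fun e => decide (e.1 = s)) = [] := by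
        rw [List.filter_eq_nil_iff]
        intro x hx hx'
        rw [decide_eq_true_eq] at hx'
        exact hl.1 (by rw [h, ← hx']; exact List.mem_map_of_mem hx)
      simp [h, hnil]
    · rw [if_neg h, if_neg (by simpa using h)]
      exact ih hl.2

theorem chainCoeff_sum {D : ChevalleyDatum} {r : ℕ}
    (hk : ((D.chain.getD r #[]).toList.map Prod.fst).Nodup) (s u : ℕ) (t : F) :
    ((D.chainCoeff r s u).map fun km => ((km.2 : ℤ) : F) * t ^ km.1).sum =
      coefL F t u (D.chainEntry r s) 0 := by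
  have h : D.chainCoeff r s u =
      ((fun L : List (ℕ × ℤ) => ((L.zipIdx).filter (fun q => q.1.1 = u)).map
        fun q => (q.2 + 1, q.1.2)) (look (D.chain.getD r #[]).toList s)) :=
    flatMap_filter_eq hk s (fun L : List (ℕ × ℤ) => ((L.zipIdx).filter (fun q => q.1.1 = u)).map
        fun q : (ℕ × ℤ) × ℕ => (q.2 + 1, q.1.2)) rfl
  rw [h, chainEntry_eq_look]
  exact coefL_eq t u _ 0

theorem sign_cast_mul {x : ℤ} {m : ℤ} (h : x = Int.sign x * m) :
    ((x : ℤ) : F) = ((Int.sign x : ℤ) : F) * ((m : ℤ) : F) := by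
  conv_lhs => rw [h]
  push_cast
  ring

/-- The string list from the two half strings. -/
def strL (dn : List (ℕ × ℤ)) (s : ℕ) (up : List (ℕ × ℤ)) : List (ℕ × ℤ) :=
  (dn.map sg).reverse ++ (s, 1) :: up.map sg

theorem ite_eq_comm (u v : ℕ) (x : F) : (if u = v then x else 0) = (if v = u then x else 0) := by
  by_cases h : u = v
  · rw [if_pos h, if_pos h.symm]
  · rw [if_neg h, if_neg (fun h' => h h'.symm)]

theorem ofNat_zero : Fin.ofNat 4 0 = 0 := rfl
theorem ofNat_one : Fin.ofNat 4 1 = 1 := rfl
theorem ofNat_two : Fin.ofNat 4 2 = 2 := rfl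
theorem ofNat_three : Fin.ofNat 4 3 = 3 := rfl

theorem upper_case (t : F) (s u : ℕ) (dn up : List (ℕ × ℤ)) (hl : dn.length + up.length ≤ 3)
    (hup : ∀ (i : ℕ) (x : ℕ × ℤ), up[i]? = some x →
      x.2 = Int.sign x.2 * ((Nat.choose (dn.length + i + 1) (i + 1) : ℕ) : ℤ)) :
    ∑ i : Fin 4, (((((strL dn s up).getD i (0, 0)).2 : ℤ) : F) *
      W 1 t 0 1 (dn.length + up.length) i (Fin.ofNat 4 dn.length)) *
        (if u = ((strL dn s up).getD i (0, 0)).1 then (1 : F) else 0) =
      (if u = s then (1 : F) else 0) + coefL F t u up 0 := by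
  have h0 := fun x hx => sign_cast_mul (F := F) (hup 0 x hx)
  have h1 := fun x hx => sign_cast_mul (F := F) (hup 1 x hx)
  have h2 := fun x hx => sign_cast_mul (F := F) (hup 2 x hx)
  clear hup
  have c3 : Nat.choose 3 1 = 3 := rfl
  rcases dn with _ | ⟨⟨a1, m1⟩, _ | ⟨⟨a2, m2⟩, _ | ⟨⟨a3, m3⟩, _ | ⟨a4, dn⟩⟩⟩⟩ <;>
  rcases up with _ | ⟨⟨b1, n1⟩, _ | ⟨⟨b2, n2⟩, _ | ⟨⟨b3, n3⟩, _ | ⟨b4, up⟩⟩⟩⟩ <;>
  simp only [List.length_cons, List.length_nil] at hl <;>
  first
  | omega
  | skip
  all_goals
    simp only [strL, coefL_cons, coefL_nil, List.length_cons, List.length_nil]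
    rw [Fin.sum_univ_four]
    simp [c3] at h0 h1 h2
    simp [sg, W_zero, W_one, W_two, W_three, -Fin.ofNat_eq_cast, ofNat_one, ofNat_two, ofNat_three]
    try
      simp only [ite_eq_comm u]
      try rw [h0]
      try rw [h1]
      try rw [h2]
      try (split_ifs <;> ring)

theorem lower_case (t : F) (s u : ℕ) (dn up : List (ℕ × ℤ)) (hl : dn.length + up.length ≤ 3)
    (hdn : ∀ (i : ℕ) (x : ℕ × ℤ), dn[i]? = some x →
      x.2 = Int.sign x.2 * ((Nat.choose (up.length + i + 1) (i + 1) : ℕ) : ℤ)) :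
    ∑ i : Fin 4, (((((strL dn s up).getD i (0, 0)).2 : ℤ) : F) *
      W 1 0 t 1 (dn.length + up.length) i (Fin.ofNat 4 dn.length)) *
        (if u = ((strL dn s up).getD i (0, 0)).1 then (1 : F) else 0) =
      (if u = s then (1 : F) else 0) + coefL F t u dn 0 := by
  have h0 := fun x hx => sign_cast_mul (F := F) (hdn 0 x hx)
  have h1 := fun x hx => sign_cast_mul (F := F) (hdn 1 x hx)
  have h2 := fun x hx => sign_cast_mul (F := F) (hdn 2 x hx)
  clear hdn
  have c3 : Nat.choose 3 1 = 3 := rfl
  rcases dn with _ | ⟨⟨a1, m1⟩, _ | ⟨⟨a2, m2⟩, _ | ⟨⟨a3, m3⟩, _ | ⟨a4, dn⟩⟩⟩⟩ <;>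
  rcases up with _ | ⟨⟨b1, n1⟩, _ | ⟨⟨b2, n2⟩, _ | ⟨⟨b3, n3⟩, _ | ⟨b4, up⟩⟩⟩⟩ <;>
  simp only [List.length_cons, List.length_nil] at hl <;>
  first
  | omega
  | skip
  all_goals
    simp only [strL, coefL_cons, coefL_nil, List.length_cons, List.length_nil]
    rw [Fin.sum_univ_four]
    simp [c3] at h0 h1 h2
    simp [sg, W_zero, W_one, W_two, W_three, -Fin.ofNat_eq_cast, ofNat_one, ofNat_two, ofNat_three]
    try
      simp only [ite_eq_comm u]
      try rw [h0]
      try rw [h1]
      try rw [h2]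
      try (split_ifs <;> ring)

theorem str_eq_strL (D : ChevalleyDatum) (r s : ℕ) :
    str D r s = strL (D.chainEntry (D.neg r) s) s (D.chainEntry r s) := rfl

theorem colE_upper {D : ChevalleyDatum} {r : ℕ} (hG : Good D r) (t : F) (s : ℕ) (hs : s < D.nroots)
    (h1 : s ≠ r) (h2 : s ≠ D.neg r) (u : Fin D.nroots) :
    colE D r 1 t 0 1 s (Sum.inr u) =
      (if u.val = s then (1 : F) else 0) + coefL F t u (D.chainEntry r s) 0 := by
  rw [colE, if_neg h1, if_neg h2, Finset.sum_apply]
  exact upper_case t s u _ _ (hG.len_le s hs h1 h2) (hG.up s hs h1 h2)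

theorem colE_lower {D : ChevalleyDatum} {r : ℕ} (hG : Good D r) (t : F) (s : ℕ) (hs : s < D.nroots)
    (h1 : s ≠ r) (h2 : s ≠ D.neg r) (u : Fin D.nroots) :
    colE D r 1 0 t 1 s (Sum.inr u) =
      (if u.val = s then (1 : F) else 0) + coefL F t u (D.chainEntry (D.neg r) s) 0 := by
  rw [colE, if_neg h1, if_neg h2, Finset.sum_apply]
  exact lower_case t s u _ _ (hG.len_le s hs h1 h2) (hG.down s hs h1 h2)

theorem colE_inl {D : ChevalleyDatum} {r : ℕ} (a b c d : F) (s : ℕ)
    (h1 : s ≠ r) (h2 : s ≠ D.neg r) (u : Fin D.rank) :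
    colE D r a b c d s (Sum.inl u) = 0 := by
  rw [colE, if_neg h1, if_neg h2, Finset.sum_apply]
  refine Finset.sum_eq_zero fun i _ => ?_
  rw [Pi.smul_apply, eV, Sum.elim_inl, smul_zero]

theorem Phi_upper {D : ChevalleyDatum} {r : ℕ} (hG : Good D r) (t : F) :
    Phi D r 1 t 0 1 = D.x F r t := by
  rw [ChevalleyDatum.x, dif_pos hG.lt]
  ext row col
  rcases col with i | s
  · show colH D r 1 t 0 1 i row = (match row with
       | Sum.inl i' => if i' = i then (1 : F) else 0
       | Sum.inr u => if u = ⟨r, hG.lt⟩ then - (((D.cartanSR.getD i.val #[]).getD r 0 : ℤ) : F) * t else 0)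
    rcases row with j | u
    · simp [colH, hV, eV, hR]
    · by_cases hu : u.val = r
      · have hu' : u = ⟨r, hG.lt⟩ := Fin.ext hu
        subst hu'
        simp [colH, hV, eV, hR, ChevalleyDatum.cartan]
      · have hu' : ¬ (u = ⟨r, hG.lt⟩) := fun h => hu (congrArg Fin.val h)
        simp [colH, hV, eV, hR, hu, hu']
  · show colE D r 1 t 0 1 s row = (if s = ⟨r, hG.lt⟩ then
        (match row with | Sum.inr u => if u = ⟨r, hG.lt⟩ then (1 : F) else 0 | Sum.inl _ => 0)
      else if s.val = D.negIdx.getD r 0 then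
        (match row with
         | Sum.inl i => (((D.coroot.getD r #[]).getD i.val 0 : ℤ) : F) * t
         | Sum.inr u => if u = s then 1 else if u = ⟨r, hG.lt⟩ then -(t ^ 2) else 0)
      else
        (match row with
         | Sum.inl _ => 0
         | Sum.inr u => (if u = s then 1 else 0) +
             ((D.chainCoeff r s.val u.val).map fun km => ((km.2 : ℤ) : F) * t ^ km.1).sum))
    by_cases hs : s.val = r
    · have hs' : s = ⟨r, hG.lt⟩ := Fin.ext hs
      subst hs'
      rw [if_pos rfl, colE, if_pos rfl]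
      rcases row with j | u
      · simp [hR, eV]
      · simp [hR, eV, Fin.ext_iff]
    · have hs' : ¬ (s = ⟨r, hG.lt⟩) := fun h => hs (congrArg Fin.val h)
      rw [if_neg hs']
      by_cases hn : s.val = D.neg r
      · have hn' : s.val = D.negIdx.getD r 0 := hn
        rw [if_pos hn', colE, if_neg hs, if_pos hn]
        rcases row with j | u
        · simp [hR, eV, cor, mul_comm]
        · by_cases hus : u = s
          · subst hus
            simp [hR, eV, hn, hG.neg_ne]
          · have hus' : u.val ≠ D.neg r := fun h => hus (Fin.ext (h.trans hn.symm))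
            by_cases hur : u.val = r
            · simp [hR, eV, hus, hur, Fin.ext_iff, Ne.symm hG.neg_ne]
            · simp [hR, eV, hus, hur, Fin.ext_iff, hus']
      · have hn' : ¬ (s.val = D.negIdx.getD r 0) := hn
        rw [if_neg hn']
        rcases row with j | u
        · exact colE_inl 1 t 0 1 s hs hn j
        · rw [colE_upper hG t s s.2 hs hn u]
          show _ = (if u = s then 1 else 0) +
             ((D.chainCoeff r s.val u.val).map fun km => ((km.2 : ℤ) : F) * t ^ km.1).sum
          rw [chainCoeff_sum hG.keys]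
          simp only [Fin.ext_iff]

theorem Phi_lower {D : ChevalleyDatum} {r : ℕ} (hG : Good D r) (t : F) :
    Phi D r 1 0 t 1 = D.x F (D.neg r) t := by
  rw [ChevalleyDatum.x, dif_pos hG.neg_lt]
  ext row col
  rcases col with i | s
  · show colH D r 1 0 t 1 i row = (match row with
       | Sum.inl i' => if i' = i then (1 : F) else 0
       | Sum.inr u => if u = ⟨D.neg r, hG.neg_lt⟩ then
          - (((D.cartanSR.getD i.val #[]).getD (D.neg r) 0 : ℤ) : F) * t else 0)
    have hc : (((D.cartanSR.getD i.val #[]).getD (D.neg r) 0 : ℤ)) = - D.cartan i r :=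
      hG.cartan_neg i i.2
    rcases row with j | u
    · simp [colH, hV, eV, hR]
    · by_cases hu : u.val = D.neg r
      · have hu' : u = ⟨D.neg r, hG.neg_lt⟩ := Fin.ext hu
        subst hu'
        simp only [hc]
        simp [colH, hV, eV, hR]
      · have hu' : ¬ (u = ⟨D.neg r, hG.neg_lt⟩) := fun h => hu (congrArg Fin.val h)
        simp [colH, hV, eV, hR, hu, hu']
  · show colE D r 1 0 t 1 s row = (if s = ⟨D.neg r, hG.neg_lt⟩ then
        (match row with | Sum.inr u => if u = ⟨D.neg r, hG.neg_lt⟩ then (1 : F) else 0 | Sum.inl _ => 0)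
      else if s.val = D.neg (D.neg r) then
        (match row with
         | Sum.inl i => ((cor D (D.neg r) i.val : ℤ) : F) * t
         | Sum.inr u => if u = s then 1 else if u = ⟨D.neg r, hG.neg_lt⟩ then -(t ^ 2) else 0)
      else
        (match row with
         | Sum.inl _ => 0
         | Sum.inr u => (if u = s then 1 else 0) +
             ((D.chainCoeff (D.neg r) s.val u.val).map fun km => ((km.2 : ℤ) : F) * t ^ km.1).sum))
    rw [hG.neg_neg]
    by_cases hn : s.val = D.neg r
    · have hs' : s = ⟨D.neg r, hG.neg_lt⟩ := Fin.ext hn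
      subst hs'
      rw [if_pos rfl, colE, if_neg hG.neg_ne, if_pos rfl]
      rcases row with j | u
      · simp [hR, eV]
      · simp [hR, eV, Fin.ext_iff]
    · have hn' : ¬ (s = ⟨D.neg r, hG.neg_lt⟩) := fun h => hn (congrArg Fin.val h)
      rw [if_neg hn']
      by_cases hs : s.val = r
      · rw [if_pos hs, colE, if_pos hs]
        rcases row with j | u
        · simp [hR, eV, hG.cor_neg j j.2, mul_comm]
        · by_cases hus : u = s
          · subst hus
            simp [hR, eV, hs, Ne.symm hG.neg_ne]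
          · have hus' : u.val ≠ r := fun h => hus (Fin.ext (h.trans hs.symm))
            by_cases hur : u.val = D.neg r
            · simp [hR, eV, hus, hur, Fin.ext_iff, hG.neg_ne]
            · simp [hR, eV, hus, hur, Fin.ext_iff, hus']
      · rw [if_neg hs]
        rcases row with j | u
        · exact colE_inl 1 0 t 1 s hs hn j
        · rw [colE_lower hG t s s.2 hs hn u]
          show _ = (if u = s then 1 else 0) +
             ((D.chainCoeff (D.neg r) s.val u.val).map fun km => ((km.2 : ℤ) : F) * t ^ km.1).sum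
          rw [chainCoeff_sum hG.keys_neg]
          simp only [Fin.ext_iff]

theorem Phi_one {D : ChevalleyDatum} {r : ℕ} (hG : Good D r) :
    Phi D r (1 : F) 0 0 1 = 1 := by
  ext row col
  have h : ∀ (s : ℕ), s < D.nroots → s ≠ r → s ≠ D.neg r → ∀ u : Fin D.nroots,
      colE D r (1 : F) 0 0 1 s (Sum.inr u) = if u.val = s then 1 else 0 := by
    intro s hs h1 h2 u
    rw [colE_upper hG 0 s hs h1 h2 u]
    have hz : ∀ (L : List (ℕ × ℤ)) (k : ℕ), coefL F 0 u.val L k = 0 := by
      intro L
      induction L with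
      | nil => intro k; rfl
      | cons x L ih => intro k; rw [coefL_cons, ih]; simp
    rw [hz, add_zero]
  rcases col with i | s
  · show colH D r (1 : F) 0 0 1 i row = _
    rcases row with j | u
    · simp [colH, hV, Matrix.one_apply]
    · simp [colH, hV]
  · show colE D r (1 : F) 0 0 1 s row = _
    by_cases hs : s.val = r
    · rw [colE, if_pos hs]
      rcases row with j | u
      · simp [eV]
      · simp [eV, Matrix.one_apply, Fin.ext_iff, hs]
    · by_cases hn : s.val = D.neg r
      · rw [colE, if_neg hs, if_pos hn]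
        rcases row with j | u
        · simp [eV]
        · simp [eV, Matrix.one_apply, Fin.ext_iff, hn]
      · rcases row with j | u
        · rw [colE_inl 1 0 0 1 s hs hn j]
          simp
        · rw [h s s.2 hs hn u]
          simp [Matrix.one_apply, Fin.ext_iff]

end Cfsg.Agent.ChevalleyStructure.SL2Match
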