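/-
For every tabulated Chevalley datum and every root r, h_r(t) is a diagonal matrix, equal to 1 on the coroot block;
so H consists of such diagonal matrices.  (From the explicit SL₂-representations of SL2Rep.)
-/
import Cfsg.Agent.ChevalleyStructure.SL2All
import Cfsg.Agent.ChevalleyStructure.SL2Match
import Cfsg.Agent.ChevalleyStructure.Triangular

set_option autoImplicit false

namespace Cfsg.Agent.ChevalleyStructure.HMatDiagAll

open Cfsg Cfsg.Lie Cfsg.Agent.ChevalleyStructure.SL2Rep Cfsg.Agent.ChevalleyStructure.SL2Weyl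
  Cfsg.Agent.ChevalleyStructure.SL2Match

variable {F : Type*} [Field F] {D : ChevalleyDatum}

/-- The exponent of `t` in the entry of `h_r(t)` at `e_s`: 2 for `r`, -2 for `-r`, and
(number of steps below `s`) - (number of steps above `s`) in the `r`-string through `s` otherwise. -/
def expo (D : ChevalleyDatum) (r s : ℕ) : ℤ :=
  if s = r then 2 else if s = D.neg r then -2
  else ((D.chainEntry (D.neg r) s).length : ℤ) - ((D.chainEntry r s).length : ℤ)

theorem expo_def (D : ChevalleyDatum) (r s : ℕ) : expo D r s =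
  if s = r then 2 else if s = D.neg r then -2
  else ((D.chainEntry (D.neg r) s).length : ℤ) - ((D.chainEntry r s).length : ℤ) := rfl

/-- `h_r(t) = φ(diag(t, t⁻¹))`. -/
theorem hMat_eq_Phi {r : ℕ} (hG : Good D r) {t : F} (ht : t ≠ 0) :
    D.hMat F r t = Phi D r t 0 0 t⁻¹ := by
  have h1 : D.hMat F r t = (D.x F r t * (D.x F (D.neg r) (-t⁻¹) * D.x F r t)) *
      (D.x F r (-1) * (D.x F (D.neg r) (-(-1)⁻¹) * D.x F r (-1))) := by
    simp [ChevalleyDatum.hMat, ChevalleyDatum.wordMat, ChevalleyDatum.hWord, ChevalleyDatum.nWord, mul_assoc]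
  rw [h1, ← Phi_upper hG t, ← Phi_upper hG (-1 : F), ← Phi_lower hG (-t⁻¹), ← Phi_lower hG (-(-1 : F)⁻¹)]
  have hn : -(-1 : F)⁻¹ = 1 := by norm_num
  rw [hn]
  have htt : t * t⁻¹ = 1 := mul_inv_cancel₀ ht
  have htt' : t⁻¹ * t = 1 := inv_mul_cancel₀ ht
  rw [Phi_mul hG 1 0 (-t⁻¹) 1 1 t 0 1 (by ring) (by ring)]
  rw [Phi_mul hG 1 t 0 1 _ _ _ _ (by ring) (by linear_combination (0 : F) * htt)]
  rw [Phi_mul hG 1 0 (1 : F) 1 1 (-1) 0 1 (by ring) (by ring)]
  rw [Phi_mul hG 1 (-1) 0 1 _ _ _ _ (by ring) (by ring)]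
  rw [Phi_mul hG _ _ _ _ _ _ _ _ (by linear_combination (1 : F) * htt - (1 : F) * htt) (by ring)]
  congr 1
  · linear_combination (-t) * htt
  · linear_combination htt
  · linear_combination (-1 : F) * htt
  · linear_combination (0 : F) * htt

theorem W_diag (a d : F) (q : ℕ) (hq : q ≤ 3) (i j : Fin 4) (hj : j.val ≤ q) :
    W a 0 0 d q i j = if i = j then a ^ j.val * d ^ (q - j.val) else 0 := by
  have h : q = 0 ∨ q = 1 ∨ q = 2 ∨ q = 3 := by omega
  rcases h with rfl | rfl | rfl | rfl
  · fin_cases i <;> fin_cases j <;> simp_all [W_zero]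
  · fin_cases i <;> fin_cases j <;> simp_all [W_one]
  · fin_cases i <;> fin_cases j <;> simp_all [W_two]
  · fin_cases i <;> fin_cases j <;> simp_all [W_three]

theorem T_pos {r s : ℕ} (hl : len D r s ≤ 3) : T D r s (posF D r s) = (s, 1) := by
  have h1 : (posF D r s).val = pos D r s := by
    show pos D r s % 4 = pos D r s
    apply Nat.mod_eq_of_lt
    unfold len at hl
    unfold pos
    omega
  rw [T, h1]
  unfold str pos
  rw [List.getD_eq_getElem?_getD, List.getElem?_append_right (by simp)]
  simp

/-- The matrix `φ(diag(t, t⁻¹))` is diagonal. -/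
theorem Phi_diagonal {r : ℕ} (hG : Good D r) {t : F} (ht : t ≠ 0) :
    Phi D r t 0 0 t⁻¹ = Matrix.diagonal (Sum.elim (fun _ => (1 : F)) (fun s : Fin D.nroots => t ^ expo D r s.val)) := by
  ext row col
  rcases col with i | s
  · show colH D r t 0 0 t⁻¹ i row = _
    rcases row with j | u
    · simp [colH, hV, Matrix.diagonal_apply, Sum.inl.injEq]
    · simp [colH, hV, Matrix.diagonal_apply]
  · show colE D r t 0 0 t⁻¹ s row = _
    have hrhs : ∀ c : F, c = t ^ expo D r s.val →
        c * eV D F s.val row = Matrix.diagonal (Sum.elim (fun _ => (1 : F))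
          (fun s : Fin D.nroots => t ^ expo D r s.val)) row (Sum.inr s) := by
      intro c hc
      subst hc
      rcases row with j | u
      · simp [eV, Matrix.diagonal_apply]
      · rw [Matrix.diagonal_apply]
        simp only [eV, Sum.elim_inr, Sum.inr.injEq]
        by_cases h : u = s
        · subst h; simp
        · have h' : u.val ≠ s.val := fun h'' => h (Fin.ext h'')
          simp [h, h']
    by_cases hs : s.val = r
    · rw [colE, if_pos hs, ← hrhs (t ^ 2)]
      · simp only [Pi.sub_apply, Pi.smul_apply, smul_eq_mul, hs]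
        ring
      · rw [expo, if_pos hs]; norm_cast
    · by_cases hn : s.val = D.neg r
      · rw [colE, if_neg hs, if_pos hn, ← hrhs (t⁻¹ ^ 2)]
        · simp only [Pi.add_apply, Pi.smul_apply, smul_eq_mul, hn]
          ring
        · rw [expo, if_neg hs, if_pos hn]
          rw [zpow_neg, inv_pow]
          norm_cast
      · have hl := hG.len_le s.val s.2 hs hn
        have h1 : (posF D r s.val).val = pos D r s.val := by
          show pos D r s.val % 4 = pos D r s.val
          apply Nat.mod_eq_of_lt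
          unfold len at hl
          unfold pos
          omega
        have h2 : (posF D r s.val).val ≤ len D r s.val := by
          rw [h1]; unfold len pos; omega
        rw [colE, if_neg hs, if_neg hn, Finset.sum_eq_single (posF D r s.val)]
        · rw [T_pos hl, W_diag _ _ _ hl _ _ h2, if_pos rfl, ← hrhs (t ^ expo D r s.val) rfl]
          simp only [Pi.smul_apply, smul_eq_mul, Int.cast_one, one_mul]
          congr 1
          rw [expo, if_neg hs, if_neg hn, h1]
          have h3 : len D r s.val - pos D r s.val = (D.chainEntry r s.val).length := by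
            unfold len pos; omega
          rw [h3, inv_pow, zpow_sub₀ ht, zpow_natCast, zpow_natCast, div_eq_mul_inv]
          rfl
        · intro i _ hi
          rw [W_diag _ _ _ hl _ _ h2, if_neg hi, mul_zero, zero_smul]
        · intro h; exact absurd (Finset.mem_univ _) h

/-- `h_r(t)` is diagonal, for every root `r` with consistent strings. -/
theorem hMat_eq_diagonal_of_good {r : ℕ} (hG : Good D r) {t : F} (ht : t ≠ 0) :
    D.hMat F r t = Matrix.diagonal (Sum.elim (fun _ => (1 : F)) (fun s : Fin D.nroots => t ^ expo D r s.val)) := by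
  rw [hMat_eq_Phi hG ht, Phi_diagonal hG ht]

/-- `h_r(t)` is diagonal, for every root `r` of every tabulated type. -/
theorem hMat_eq_diagonal (hD : D ∈ [chevG2, chevB2, chevD4, chevF4, chevE6, chevE7, chevE8]) {r : ℕ}
    (hr : r < D.nroots) {t : F} (ht : t ≠ 0) :
    D.hMat F r t = Matrix.diagonal (Sum.elim (fun _ => (1 : F)) (fun s : Fin D.nroots => t ^ expo D r s.val)) :=
  hMat_eq_diagonal_of_good (SL2All.good_of_mem D hD r hr) ht

/-- The group of diagonal matrices with entries 1 on the coroot block. -/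
def torus (D : ChevalleyDatum) (F : Type*) [Field F] : Subgroup (GL D.Idx F) where
  carrier := {g | ∃ χ : Fin D.nroots → F, (g : Matrix D.Idx D.Idx F) = Matrix.diagonal (Sum.elim (fun _ => (1 : F)) χ)}
  mul_mem' := by
    rintro a b ⟨χ, ha⟩ ⟨ψ, hb⟩
    refine ⟨fun s => χ s * ψ s, ?_⟩
    rw [Units.val_mul, ha, hb, Matrix.diagonal_mul_diagonal]
    congr 1
    funext i
    rcases i with i | i <;> simp
  one_mem' := by
    refine ⟨fun _ => 1, ?_⟩
    rw [Units.val_one, ← Matrix.diagonal_one]
    congr 1
    funext i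
    rcases i with i | i <;> rfl
  inv_mem' := by
    rintro a ⟨χ, ha⟩
    have h1 : (a : Matrix D.Idx D.Idx F) * ((a⁻¹ : GL D.Idx F) : Matrix D.Idx D.Idx F) = 1 := by
      rw [← Units.val_mul, mul_inv_cancel, Units.val_one]
    rw [ha] at h1
    have hχ : ∀ s, χ s ≠ 0 := by
      intro s h0
      have h2 := congrFun (congrFun h1 (Sum.inr s)) (Sum.inr s)
      rw [Matrix.diagonal_mul, Matrix.one_apply_eq] at h2
      simp [h0] at h2
    refine ⟨fun s => (χ s)⁻¹, ?_⟩
    have h3 : Matrix.diagonal (Sum.elim (fun _ => (1 : F)) fun s => (χ s)⁻¹) *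
        Matrix.diagonal (Sum.elim (fun _ : Fin D.rank => (1 : F)) χ) = 1 := by
      rw [Matrix.diagonal_mul_diagonal, ← Matrix.diagonal_one]
      congr 1
      funext i
      rcases i with i | i
      · simp
      · simp [hχ i]
    calc ((a⁻¹ : GL D.Idx F) : Matrix D.Idx D.Idx F)
        = (Matrix.diagonal (Sum.elim (fun _ => (1 : F)) fun s => (χ s)⁻¹) *
          Matrix.diagonal (Sum.elim (fun _ : Fin D.rank => (1 : F)) χ)) * ((a⁻¹ : GL D.Idx F) : Matrix D.Idx D.Idx F) := by
          rw [h3, one_mul]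
      _ = Matrix.diagonal (Sum.elim (fun _ => (1 : F)) fun s => (χ s)⁻¹) := by
          rw [mul_assoc, h1, mul_one]

theorem mem_torus {g : GL D.Idx F} : g ∈ torus D F ↔
    ∃ χ : Fin D.nroots → F, (g : Matrix D.Idx D.Idx F) = Matrix.diagonal (Sum.elim (fun _ => (1 : F)) χ) := Iff.rfl

/-- `H` consists of diagonal matrices with entries 1 on the coroot block. -/
theorem diagonalSubgroup_le_torus (hD : D ∈ [chevG2, chevB2, chevD4, chevF4, chevE6, chevE7, chevE8]) :
    D.diagonalSubgroup F ≤ torus D F := by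
  unfold ChevalleyDatum.diagonalSubgroup
  rw [Subgroup.closure_le]
  rintro g ⟨r, t, hr, ht, hg⟩
  exact ⟨_, hg.trans (hMat_eq_diagonal hD hr ht)⟩

/-- `H` consists of diagonal matrices (the hypothesis `hH` of `Triangular`). -/
theorem diagonalSubgroup_le_diagSub (hD : D ∈ [chevG2, chevB2, chevD4, chevF4, chevE6, chevE7, chevE8]) :
    D.diagonalSubgroup F ≤ TriAbstract.diagSub D.Idx F := by
  intro g hg
  obtain ⟨χ, h⟩ := diagonalSubgroup_le_torus hD hg
  rw [TriAbstract.mem_diagSub]
  intro i j hij
  rw [h, Matrix.diagonal_apply_ne _ hij]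

end Cfsg.Agent.ChevalleyStructure.HMatDiagAll
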