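/-
The module generated by e_{-p₂} under ²E₆(q) is the whole Lie algebra (kernel-checked deduction steps), and the orbit of the
highest root vector contains ± e_{p₂}, e_{-p₂} and e_{p₂} - h_{p₂} - e_{-p₂}.
-/
import Cfsg.Agent.ChevalleyStructure.TwE6Base
set_option autoImplicit false

namespace Cfsg.Agent.ChevalleyStructure.TwE6Core

open Cfsg.Lie Cfsg.Agent.ChevalleyStructure.SparseEng Cfsg.Agent.ChevalleyStructure.TwE6Base
open Polynomial

/-! ### Separation of exponents -/

theorem beq_iff {a b : ℕ} : Nat.beq a b = true ↔ a = b :=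
  ⟨Nat.eq_of_beq_eq_true, fun h => h ▸ Nat.beq_refl a⟩

section
variable {K V : Type*} [Field K] [Fintype K] [AddCommGroup V] [Module K V]

theorem mem_of_forall_pow (M : Submodule K V) (l : List (ℕ × V)) (hl : ∀ a ∈ l, a.1 < Fintype.card K)
    (h : ∀ t : K, (l.map fun a => t ^ a.1 • a.2).sum ∈ M) (e : ℕ) :
    ((l.filter fun a => a.1 = e).map Prod.snd).sum ∈ M := by
  rw [← Subspace.forall_mem_dualAnnihilator_apply_eq_zero_iff]
  intro φ hφ
  rw [Submodule.mem_dualAnnihilator] at hφ
  set P : K[X] := (l.map fun a : ℕ × V => C (φ a.2) * Polynomial.X ^ a.1).sum with hP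
  have hev : ∀ t : K, P.eval t = 0 := by
    intro t
    have h1 : P.eval t = φ ((l.map fun a => t ^ a.1 • a.2).sum) := by
      rw [hP, ← Polynomial.coe_evalRingHom, map_list_sum, map_list_sum, List.map_map, List.map_map]
      congr 1
      apply List.map_congr_left
      intro a _
      simp only [Function.comp, Polynomial.coe_evalRingHom, Polynomial.eval_mul, Polynomial.eval_C,
        Polynomial.eval_pow, Polynomial.eval_X, map_smul, smul_eq_mul]
      exact mul_comm _ _
    rw [h1, hφ _ (h t)]
  have hdeg : P.degree < Fintype.card K := by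
    rw [← Polynomial.mem_degreeLT]
    apply list_sum_mem
    intro p hp
    rw [List.mem_map] at hp
    obtain ⟨a, ha, rfl⟩ := hp
    rw [Polynomial.mem_degreeLT]
    refine lt_of_le_of_lt (Polynomial.degree_C_mul_X_pow_le _ _) ?_
    exact_mod_cast hl a ha
  have hP0 : P = 0 := by
    apply Polynomial.eq_zero_of_degree_lt_of_eval_finset_eq_zero (s := (Finset.univ : Finset K))
    · rw [Finset.card_univ]; exact hdeg
    · intro t _; exact hev t
  have hc : P.coeff e = φ (((l.filter fun a => a.1 = e).map Prod.snd).sum) := by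
    rw [hP]
    clear_value P
    clear hP hev hdeg hP0 h hl
    induction l with
    | nil => simp
    | cons a l ih =>
      rw [List.map_cons, List.sum_cons, Polynomial.coeff_add, ih, Polynomial.coeff_C_mul, Polynomial.coeff_X_pow]
      by_cases ha : a.1 = e
      · rw [List.filter_cons_of_pos (by simpa using ha), List.map_cons, List.sum_cons, map_add, if_pos ha.symm, mul_one]
      · rw [List.filter_cons_of_neg (by simpa using ha), if_neg (fun h => ha h.symm), mul_zero, zero_add]
  rw [← hc, hP0, Polynomial.coeff_zero]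

end

/-! ### Deduction steps -/

/-- the words generating the group (parameters `t`, `s = t^q`; `t = 1` for the self-conjugate roots) -/
def gens : List (List (ℕ × Mon)) :=
  [[(46, ⟨1, 0, 0⟩)], [(25, ⟨1, 0, 0⟩)], [(39, ⟨1, 0, 0⟩)], [(32, ⟨1, 0, 0⟩)],
   [(56, ⟨1, 1, 0⟩), (36, ⟨1, 0, 1⟩)], [(15, ⟨1, 1, 0⟩), (35, ⟨1, 0, 1⟩)],
   [(42, ⟨1, 1, 0⟩), (37, ⟨1, 0, 1⟩)], [(29, ⟨1, 1, 0⟩), (34, ⟨1, 0, 1⟩)]]

/-- separability of the exponents of `t`, `s = t^q` -/
def kindOK (L : List Term) : Bool :=
  (L.all fun a => Nat.ble a.i 1 && Nat.ble a.j 1) || ((L.all fun a => Nat.ble a.i 2 && Nat.beq a.j 0) ||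
  (L.all fun a => Nat.beq a.i 0 && Nat.ble a.j 2))

/-- the part of a vector with given exponents -/
def part (L : List Term) (i j : ℕ) : List Term := L.filter fun b => Nat.beq b.i i && Nat.beq b.j j

/-- one deduction step on a vector -/
def partOK (known : List ℕ) (L : List Term) (tgt : ℕ) : Bool :=
  L.any fun a => Nat.beq a.k tgt && ((decide (a.c = 1) || decide (a.c = -1)) &&
    match (part L a.i a.j).partition fun b => Nat.beq b.k tgt with
    | ([_], R) => R.all fun b => known.contains b.k
    | _ => false)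

def stepOK (known : List ℕ) (g src tgt : ℕ) : Bool :=
  known.contains src && (kindOK (actW chevE6 false (gens.getD g []) [⟨src, 1, 0, 0⟩]) &&
    partOK known (actW chevE6 false (gens.getD g []) [⟨src, 1, 0, 0⟩]) tgt)

/-- run a list of steps -/
def run : List (ℕ × ℕ × ℕ) → List ℕ → List ℕ
  | [], known => known
  | s :: l, known => if stepOK known s.1 s.2.1 s.2.2 then run l (s.2.2 :: known) else known

/-- the deduction steps -/
def steps : List (ℕ × ℕ × ℕ) :=
  [(3, (31, 30)), (0, (30, 38)), (7, (30, 27)), (7, (30, 26)), (7, (30, 29)), (7, (38, 34)), (7, (38, 33)), (7, (38, 37)),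
   (5, (27, 16)), (3, (26, 24)), (5, (26, 15)), (5, (26, 14)), (5, (26, 25)), (5, (29, 28)), (2, (34, 35)), (5, (34, 19)),
   (5, (33, 18)), (5, (33, 17)), (5, (33, 32)), (2, (37, 40)), (5, (37, 36)), (5, (24, 13)), (5, (24, 12)), (5, (24, 23)),
   (5, (35, 20)), (6, (35, 2)), (6, (35, 48)), (5, (40, 39)), (6, (40, 43)), (6, (40, 4)), (7, (13, 10)), (7, (12, 9)),
   (7, (12, 8)), (7, (12, 11)), (7, (23, 22)), (6, (20, 21)), (2, (2, 45)), (4, (2, 62)), (2, (48, 49)), (4, (48, 63)),
   (6, (39, 41)), (2, (43, 46)), (4, (43, 44)), (4, (4, 42)), (3, (8, 7)), (2, (38, 3)), (4, (21, 0)), (0, (45, 53)),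
   (6, (45, 50)), (0, (49, 56)), (4, (49, 64)), (4, (41, 5)), (0, (46, 54)), (4, (46, 47)), (1, (7, 6)), (0, (3, 52)),
   (6, (53, 57)), (4, (50, 65)), (4, (50, 66)), (4, (50, 51)), (4, (56, 67)), (4, (54, 55)), (0, (31, 1)), (2, (57, 59)),
   (4, (57, 68)), (4, (57, 69)), (4, (57, 58)), (4, (59, 70)), (4, (59, 71)), (4, (59, 60)), (6, (70, 73)), (6, (71, 74)),
   (6, (71, 75)), (6, (71, 72)), (6, (60, 61)), (2, (75, 76)), (0, (76, 77))]

set_option maxRecDepth 100000 in
theorem run_check : ((List.range 78).all fun k => (run steps [31]).contains k) = true := by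
  decide +kernel

variable {K : Type*} [Field K] [Fintype K]

omit [Fintype K] in
theorem ev_mem_sum (M : Submodule K (chevE6.Idx → K)) (L : List Term) (t s : K)
    (h : ∀ b ∈ L, bvec chevE6 K b.k ∈ M) : ev chevE6 K L t s ∈ M := by
  unfold ev
  apply list_sum_mem
  intro v hv
  rw [List.mem_map] at hv
  obtain ⟨b, hb, rfl⟩ := hv
  exact M.smul_mem _ (h b hb)

/-- value of the coefficient part -/
theorem part_mem {q : ℕ} (hq : 2 ≤ q) (hK : Fintype.card K = q ^ 2) (M : Submodule K (chevE6.Idx → K))
    (L : List Term) (hk : kindOK L = true) (h : ∀ t : K, ev chevE6 K L t (t ^ q) ∈ M) (i j : ℕ)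
    (hij : ∃ a ∈ L, a.i = i ∧ a.j = j) : ev chevE6 K (part L i j) 1 1 ∈ M := by
  have hq2 : q * 2 ≤ q ^ 2 := by rw [pow_two]; exact Nat.mul_le_mul_left q hq
  -- the general argument for an exponent function
  have main : ∀ (e : Term → ℕ), (∀ a ∈ L, e a < Fintype.card K) →
      (∀ t : K, (L.map fun a => t ^ e a • (((a.c : ℤ) : K) • bvec chevE6 K a.k)).sum ∈ M) →
      (∀ a ∈ L, ∀ b ∈ L, e a = e b ↔ (a.i = b.i ∧ a.j = b.j)) → ev chevE6 K (part L i j) 1 1 ∈ M := by
    intro e he hM hsep
    obtain ⟨a0, ha0, hi, hj⟩ := hij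
    have h1 := mem_of_forall_pow M (L.map fun a => (e a, ((a.c : ℤ) : K) • bvec chevE6 K a.k))
      (by
        intro a ha
        rw [List.mem_map] at ha
        obtain ⟨b, hb, rfl⟩ := ha
        exact he b hb)
      (by
        intro t
        rw [List.map_map]
        exact hM t) (e a0)
    rw [List.filter_map, List.map_map] at h1
    have h2 : L.filter ((fun a => decide (a.1 = e a0)) ∘ fun a => (e a, ((a.c : ℤ) : K) • bvec chevE6 K a.k))
        = part L i j := by
      unfold part
      apply List.filter_congr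
      intro b hb
      simp only [Function.comp]
      rw [Bool.eq_iff_iff, decide_eq_true_iff, Bool.and_eq_true, beq_iff, beq_iff, hsep b hb a0 ha0, hi, hj]
    rw [h2] at h1
    have h3 : ev chevE6 K (part L i j) 1 1 = ((part L i j).map (Prod.snd ∘ fun a => (e a, ((a.c : ℤ) : K) • bvec chevE6 K a.k))).sum := by
      unfold ev
      congr 1
      apply List.map_congr_left
      intro b _
      simp [Term.ev]
    rw [h3]
    exact h1
  unfold kindOK at hk
  rw [Bool.or_eq_true, Bool.or_eq_true, List.all_eq_true, List.all_eq_true, List.all_eq_true] at hk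
  rcases hk with hk | hk | hk
  · -- exponents i + q j
    have hk' : ∀ a ∈ L, a.i ≤ 1 ∧ a.j ≤ 1 := by
      intro a ha
      have := hk a ha
      rw [Bool.and_eq_true, Nat.ble_eq, Nat.ble_eq] at this
      exact this
    apply main (fun a => a.i + q * a.j)
    · intro a ha
      obtain ⟨h1, h2⟩ := hk' a ha
      rw [hK]
      have : q * a.j ≤ q * 1 := Nat.mul_le_mul_left q h2
      show a.i + q * a.j < q ^ 2
      omega
    · intro t
      have := h t
      unfold ev at this
      convert this using 2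
      apply List.map_congr_left
      intro a _
      unfold Term.ev
      rw [smul_smul, pow_add, pow_mul]
      congr 1
      ring
    · intro a ha b hb
      obtain ⟨h1, h2⟩ := hk' a ha
      obtain ⟨h3, h4⟩ := hk' b hb
      show a.i + q * a.j = b.i + q * b.j ↔ _
      constructor
      · intro h5
        have h6 : a.j = b.j := by
          rcases Nat.lt_trichotomy a.j b.j with h | h | h
          · have h7 : a.j = 0 := by omega
            have h8 : b.j = 1 := by omega
            rw [h7, h8] at h5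
            omega
          · exact h
          · have h7 : a.j = 1 := by omega
            have h8 : b.j = 0 := by omega
            rw [h7, h8] at h5
            omega
        rw [h6] at h5
        exact ⟨by omega, h6⟩
      · rintro ⟨h5, h6⟩
        rw [h5, h6]
  · have hk' : ∀ a ∈ L, a.i ≤ 2 ∧ a.j = 0 := by
      intro a ha
      have := hk a ha
      rw [Bool.and_eq_true, Nat.ble_eq, beq_iff] at this
      exact this
    apply main (fun a => a.i)
    · intro a ha
      obtain ⟨h1, h2⟩ := hk' a ha
      rw [hK]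
      show a.i < q ^ 2
      omega
    · intro t
      have := h t
      unfold ev at this
      convert this using 2
      apply List.map_congr_left
      intro a ha
      unfold Term.ev
      rw [smul_smul, (hk' a ha).2, pow_zero, mul_one, mul_comm]
    · intro a ha b hb
      obtain ⟨h1, h2⟩ := hk' a ha
      obtain ⟨h3, h4⟩ := hk' b hb
      show a.i = b.i ↔ _
      rw [h2, h4]
      simp
  · have hk' : ∀ a ∈ L, a.i = 0 ∧ a.j ≤ 2 := by
      intro a ha
      have := hk a ha
      rw [Bool.and_eq_true, Nat.ble_eq, beq_iff] at this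
      exact this
    apply main (fun a => a.j)
    · intro a ha
      obtain ⟨h1, h2⟩ := hk' a ha
      rw [hK]
      show a.j < q ^ 2
      omega
    · intro u
      have := h (u ^ q)
      have hu : (u ^ q) ^ q = u := by
        rw [← pow_mul, ← pow_two, ← hK, FiniteField.pow_card]
      rw [hu] at this
      unfold ev at this
      convert this using 2
      apply List.map_congr_left
      intro a ha
      unfold Term.ev
      rw [smul_smul, (hk' a ha).1, pow_zero, mul_one, mul_comm]
    · intro a ha b hb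
      obtain ⟨h1, h2⟩ := hk' a ha
      obtain ⟨h3, h4⟩ := hk' b hb
      show a.j = b.j ↔ _
      rw [h1, h3]
      simp

theorem stepOK_spec {q : ℕ} (hq : 2 ≤ q) (hK : Fintype.card K = q ^ 2) (M : Submodule K (chevE6.Idx → K))
    (hM : ∀ w ∈ gens, ∀ t : K, ∀ v ∈ M, (chevE6.wordMat K (evW K w t (t ^ q))).mulVec v ∈ M)
    {known : List ℕ} (hknown : ∀ k ∈ known, bvec chevE6 K k ∈ M) {g src tgt : ℕ}
    (h : stepOK known g src tgt = true) : bvec chevE6 K tgt ∈ M := by
  unfold stepOK at h
  rw [Bool.and_eq_true, Bool.and_eq_true] at h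
  obtain ⟨h1, h2, h3⟩ := h
  rw [List.contains_iff_mem] at h1
  set L := actW chevE6 false (gens.getD g []) [⟨src, 1, 0, 0⟩] with hL
  have hLM : ∀ t : K, ev chevE6 K L t (t ^ q) ∈ M := by
    intro t
    rw [hL, ev_actW _ _ _ _ _ (by simp), ev_single]
    by_cases hg : g < gens.length
    · have h4 : gens.getD g [] ∈ gens := by
        rw [List.getD_eq_getElem _ _ hg]
        exact List.getElem_mem hg
      exact hM _ h4 t _ (hknown src h1)
    · have h4 : gens.getD g [] = [] := List.getD_eq_default _ _ (by omega)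
      rw [h4]
      simpa [evW, ChevalleyDatum.wordMat] using hknown src h1
  unfold partOK at h3
  rw [List.any_eq_true] at h3
  obtain ⟨a, ha, h3⟩ := h3
  rw [Bool.and_eq_true, Bool.and_eq_true, Bool.or_eq_true, decide_eq_true_iff, decide_eq_true_iff,
    beq_iff] at h3
  obtain ⟨h4, h5, h6⟩ := h3
  have h7 := part_mem hq hK M L h2 hLM a.i a.j ⟨a, ha, rfl, rfl⟩
  -- split the part
  have hsplit : ∀ l : List Term, ev chevE6 K l 1 1 = ev chevE6 K (l.filter fun b => Nat.beq b.k tgt) 1 1 +
      ev chevE6 K (l.filter fun b => !Nat.beq b.k tgt) 1 1 := by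
    intro l
    induction l with
    | nil => simp [ev]
    | cons b l ih =>
      cases hb : Nat.beq b.k tgt
      · rw [List.filter_cons_of_neg (by simp [hb]), List.filter_cons_of_pos (by simp [hb]), ev_cons, ev_cons, ih]
        abel
      · rw [List.filter_cons_of_pos (by simp [hb]), List.filter_cons_of_neg (by simp [hb]), ev_cons, ev_cons, ih]
        abel
  rw [List.partition_eq_filter_filter] at h6
  have ha' : a ∈ (part L a.i a.j).filter fun b => Nat.beq b.k tgt := by
    rw [List.mem_filter]
    refine ⟨?_, by simp [h4]⟩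
    unfold part
    rw [List.mem_filter]
    exact ⟨ha, by simp⟩
  rw [hsplit] at h7
  generalize hA : (part L a.i a.j).filter (fun b => Nat.beq b.k tgt) = A at *
  have hR : (part L a.i a.j).filter (not ∘ fun b => Nat.beq b.k tgt) =
      (part L a.i a.j).filter (fun b => !Nat.beq b.k tgt) := rfl
  rw [hR] at h6
  generalize hB : (part L a.i a.j).filter (fun b => !Nat.beq b.k tgt) = B at *
  match A, h6, ha' with
  | [x], h6, ha' =>
    rw [List.mem_singleton] at ha'
    subst ha'
    simp only [List.all_eq_true, List.contains_iff_mem] at h6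
    have hBM : ev chevE6 K B 1 1 ∈ M := ev_mem_sum M B 1 1 fun b hb => hknown _ (h6 b hb)
    have h8 : ev chevE6 K [a] 1 1 ∈ M := by
      have := M.sub_mem h7 hBM
      rwa [add_sub_cancel_right] at this
    have h9 : ev chevE6 K [a] 1 1 = ((a.c : ℤ) : K) • bvec chevE6 K tgt := by
      simp [ev, Term.ev, h4]
    rw [h9] at h8
    rcases h5 with h5 | h5
    · simpa [h5] using h8
    · rw [h5] at h8
      have := M.neg_mem h8
      simpa using this

theorem run_spec {q : ℕ} (hq : 2 ≤ q) (hK : Fintype.card K = q ^ 2) (M : Submodule K (chevE6.Idx → K))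
    (hM : ∀ w ∈ gens, ∀ t : K, ∀ v ∈ M, (chevE6.wordMat K (evW K w t (t ^ q))).mulVec v ∈ M)
    (l : List (ℕ × ℕ × ℕ)) (known : List ℕ) (hknown : ∀ k ∈ known, bvec chevE6 K k ∈ M) :
    ∀ k ∈ run l known, bvec chevE6 K k ∈ M := by
  induction l generalizing known with
  | nil => exact hknown
  | cons s l ih =>
    intro k hk
    unfold run at hk
    split at hk
    · rename_i hs
      refine ih _ ?_ k hk
      intro k' hk'
      rw [List.mem_cons] at hk'
      rcases hk' with rfl | hk'
      · exact stepOK_spec hq hK M hM hknown hs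
      · exact hknown _ hk'
    · exact hknown _ hk

/-- A submodule stable under the group and containing `e_{-p₂}` is everything. -/
theorem eq_top {q : ℕ} (hq : 2 ≤ q) (hK : Fintype.card K = q ^ 2) (M : Submodule K (chevE6.Idx → K))
    (hM : ∀ g ∈ twistedE6 K q, ∀ v ∈ M, (g : Matrix chevE6.Idx chevE6.Idx K).mulVec v ∈ M)
    (h0 : bvec chevE6 K 31 ∈ M) : ∀ k < 78, bvec chevE6 K k ∈ M := by
  intro k hk
  have h1 := List.all_eq_true.1 run_check k (List.mem_range.2 hk)
  rw [List.contains_iff_mem] at h1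
  refine run_spec hq hK M ?_ steps [31] ?_ k h1
  · intro w hw t v hv
    have hgood : ∀ w ∈ gens, goodW w = true := by decide
    have hw2 : wordG (evW K w t (t ^ q)) ∈ twistedE6 K q := by
      simp only [gens, List.mem_cons, List.not_mem_nil, or_false] at hw
      rcases hw with h | h | h | h | h | h | h | h <;> subst h
      · exact single_one_mem _ _ (by decide)
      · exact single_one_mem _ _ (by decide)
      · exact single_one_mem _ _ (by decide)
      · exact single_one_mem _ _ (by decide)
      · exact pair_mem (rs := (56, 36)) t (by decide)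
      · exact pair_mem (rs := (15, 35)) t (by decide)
      · exact pair_mem (rs := (42, 37)) t (by decide)
      · exact pair_mem (rs := (29, 34)) t (by decide)
    have h3 := hM _ hw2 v hv
    rwa [coe_wordG (fun p hp => by
      obtain ⟨p', h4, h5⟩ := mem_evW hp
      exact h5 ▸ mem_good_of_goodW (hgood w hw) p' h4)] at h3
  · intro k hk
    rw [List.mem_singleton] at hk
    rw [hk]
    exact h0

/-! ### The orbit of the highest root vector -/

/-- `w w' w` -/
def nw (w w' : List (ℕ × Mon)) : List (ℕ × Mon) := w ++ (w' ++ w)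

def m (r : ℕ) (c : ℤ) : ℕ × Mon := (r, ⟨c, 0, 0⟩)

def n2 : List (ℕ × Mon) := nw [m 46 1] [m 25 (-1)]
def n4 : List (ℕ × Mon) := nw [m 39 1] [m 32 (-1)]
def n35 : List (ℕ × Mon) := nw [m 42 1, m 37 1] [m 34 (-1), m 29 (-1)]
def n16 : List (ℕ × Mon) := nw [m 56 1, m 36 1] [m 35 (-1), m 15 (-1)]

/-- a word mapping `e_θ` to `-e_{p₂}` -/
def w1 : List (ℕ × Mon) := n4 ++ (n35 ++ (n4 ++ (n16 ++ (n35 ++ (n4 ++ n2)))))
/-- a word mapping `e_θ` to `e_{-p₂}` -/
def w3 : List (ℕ × Mon) := n2 ++ w1
/-- a word mapping `e_θ` to `h_{p₂} + e_{-p₂} - e_{p₂}` -/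
def w2 : List (ℕ × Mon) := [m 25 1] ++ w1

/-- test of the value of a word on the highest root vector -/
def testEq (w : List (ℕ × Mon)) (v : List Term) : Bool :=
  (norm (actW chevE6 false w [⟨77, 1, 0, 0⟩] ++ v)).isEmpty

set_option maxRecDepth 100000 in
theorem test1 : testEq w1 [⟨52, 1, 0, 0⟩] = true := by decide +kernel
set_option maxRecDepth 100000 in
theorem test3 : testEq w3 [⟨31, -1, 0, 0⟩] = true := by decide +kernel
set_option maxRecDepth 100000 in
theorem test2 : testEq w2 [⟨52, 1, 0, 0⟩, ⟨1, -1, 0, 0⟩, ⟨31, -1, 0, 0⟩] = true := by decide +kernel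

omit [Fintype K] in
theorem testEq_spec {w : List (ℕ × Mon)} {v : List Term} (h : testEq w v = true) :
    (chevE6.wordMat K (evW K w 1 1)).mulVec (bvec chevE6 K 77) = - ev chevE6 K v 1 1 := by
  unfold testEq at h
  rw [List.isEmpty_iff] at h
  have h2 := ev_norm (D := chevE6) (F := K) (actW chevE6 false w [⟨77, 1, 0, 0⟩] ++ v) 1 1
  rw [h, ev_nil, ev_append, ev_actW _ _ _ _ _ (by simp), ev_single] at h2
  exact eq_neg_of_add_eq_zero_left h2.symm

omit [Fintype K] in
theorem wordG_append_mem {q : ℕ} {a b : List (ℕ × Mon)} (ha : wordG (evW K a 1 1) ∈ twistedE6 K q)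
    (hb : wordG (evW K b 1 1) ∈ twistedE6 K q) : wordG (evW K (a ++ b) 1 1) ∈ twistedE6 K q := by
  rw [evW_append, wordG_append]
  exact mul_mem ha hb

omit [Fintype K] in
theorem mem_inv {q : ℕ} {w : List (ℕ × Mon)} (hw : goodW w = true) (h : wordG (evW K w 1 1) ∈ twistedE6 K q) :
    wordG (evW K (invW w) 1 1) ∈ twistedE6 K q := by
  rw [wordG_invW (mem_good_of_goodW hw)]
  exact inv_mem h

omit [Fintype K] in
theorem n2_mem {q : ℕ} : wordG (evW K n2 1 1) ∈ twistedE6 K q :=
  wordG_append_mem (single_one_mem _ _ (by decide))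
    (wordG_append_mem (mem_inv (w := [m 25 1]) (by decide) (single_one_mem _ _ (by decide))) (single_one_mem _ _ (by decide)))

omit [Fintype K] in
theorem n4_mem {q : ℕ} : wordG (evW K n4 1 1) ∈ twistedE6 K q :=
  wordG_append_mem (single_one_mem _ _ (by decide))
    (wordG_append_mem (mem_inv (w := [m 32 1]) (by decide) (single_one_mem _ _ (by decide))) (single_one_mem _ _ (by decide)))

omit [Fintype K] in
theorem n35_mem {q : ℕ} : wordG (evW K n35 1 1) ∈ twistedE6 K q :=
  wordG_append_mem (pair_one_mem (rs := (42, 37)) _ _ (by decide))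
    (wordG_append_mem (mem_inv (w := [m 29 1, m 34 1]) (by decide) (pair_one_mem (rs := (29, 34)) _ _ (by decide)))
      (pair_one_mem (rs := (42, 37)) _ _ (by decide)))

omit [Fintype K] in
theorem n16_mem {q : ℕ} : wordG (evW K n16 1 1) ∈ twistedE6 K q :=
  wordG_append_mem (pair_one_mem (rs := (56, 36)) _ _ (by decide))
    (wordG_append_mem (mem_inv (w := [m 15 1, m 35 1]) (by decide) (pair_one_mem (rs := (15, 35)) _ _ (by decide)))
      (pair_one_mem (rs := (56, 36)) _ _ (by decide)))

omit [Fintype K] in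
theorem w1_mem {q : ℕ} : wordG (evW K w1 1 1) ∈ twistedE6 K q :=
  wordG_append_mem n4_mem (wordG_append_mem n35_mem (wordG_append_mem n4_mem (wordG_append_mem n16_mem
    (wordG_append_mem n35_mem (wordG_append_mem n4_mem n2_mem)))))

omit [Fintype K] in
theorem w3_mem {q : ℕ} : wordG (evW K w3 1 1) ∈ twistedE6 K q := wordG_append_mem n2_mem w1_mem

omit [Fintype K] in
theorem w2_mem {q : ℕ} : wordG (evW K w2 1 1) ∈ twistedE6 K q :=
  wordG_append_mem (single_one_mem _ _ (by decide)) w1_mem

omit [Fintype K] in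
theorem coe_w {w : List (ℕ × Mon)} (hw : goodW w = true) (t s : K) :
    (wordG (evW K w t s) : Matrix chevE6.Idx chevE6.Idx K) = chevE6.wordMat K (evW K w t s) :=
  coe_wordG fun _ hp => by
    obtain ⟨p', h4, h5⟩ := mem_evW hp
    exact h5 ▸ mem_good_of_goodW hw p' h4

omit [Fintype K] in
theorem exists_x1 (q : ℕ) : ∃ x ∈ twistedE6 K q,
    (x : Matrix chevE6.Idx chevE6.Idx K).mulVec (bvec chevE6 K 77) = - bvec chevE6 K 52 := by
  refine ⟨_, w1_mem, ?_⟩
  rw [coe_w (by decide), testEq_spec test1]
  simp [ev, Term.ev]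

omit [Fintype K] in
theorem exists_x3 (q : ℕ) : ∃ x ∈ twistedE6 K q,
    (x : Matrix chevE6.Idx chevE6.Idx K).mulVec (bvec chevE6 K 77) = bvec chevE6 K 31 := by
  refine ⟨_, w3_mem, ?_⟩
  rw [coe_w (by decide), testEq_spec test3]
  simp [ev, Term.ev]

omit [Fintype K] in
theorem exists_x2 (q : ℕ) : ∃ x ∈ twistedE6 K q,
    (x : Matrix chevE6.Idx chevE6.Idx K).mulVec (bvec chevE6 K 77) =
      bvec chevE6 K 1 + bvec chevE6 K 31 - bvec chevE6 K 52 := by
  refine ⟨_, w2_mem, ?_⟩
  rw [coe_w (by decide), testEq_spec test2]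
  simp only [ev, Term.ev, List.map_cons, List.map_nil, List.sum_cons, List.sum_nil, Int.cast_one, Int.cast_neg,
    pow_zero, mul_one, one_smul, neg_smul, add_zero]
  abel

end Cfsg.Agent.ChevalleyStructure.TwE6Core
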