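import Cfsg.Agent.ChevalleyStructure.Columns

/-!
# Additivity of the root elements `x_r(t)` from facts about the tables
-/

set_option autoImplicit false

namespace Cfsg.Agent.ChevalleyStructure.Additive

open Cfsg Cfsg.Lie
open Cfsg.Agent.ChevalleyStructure.Columns

/-- the relations `M_{r,s,j} M_{r,jr+s,k} = C(j+k,j) M_{r,s,j+k}` for the chain `l` through `s`;
`E` gives the chain through the other roots -/
inductive EntOK (E : ℕ → List (ℕ × ℤ)) : List (ℕ × ℤ) → Prop
  | nil : EntOK E []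
  | one (u₁ : ℕ) (M₁ : ℤ) (h₁ : E u₁ = []) : EntOK E [(u₁, M₁)]
  | two (u₁ : ℕ) (M₁ : ℤ) (u₂ : ℕ) (M₂ : ℤ) (a : ℤ) (h₁ : E u₁ = [(u₂, a)]) (h₂ : E u₂ = [])
      (ha : M₁ * a = 2 * M₂) : EntOK E [(u₁, M₁), (u₂, M₂)]
  | three (u₁ : ℕ) (M₁ : ℤ) (u₂ : ℕ) (M₂ : ℤ) (u₃ : ℕ) (M₃ : ℤ) (a b c : ℤ)
      (h₁ : E u₁ = [(u₂, a), (u₃, b)]) (h₂ : E u₂ = [(u₃, c)]) (h₃ : E u₃ = [])
      (ha : M₁ * a = 2 * M₂) (hb : M₁ * b = 3 * M₃) (hc : M₂ * c = 3 * M₃) :
      EntOK E [(u₁, M₁), (u₂, M₂), (u₃, M₃)]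

theorem chSum_add {R : Type*} [CommRing R] (E : ℕ → List (ℕ × ℤ)) (l : List (ℕ × ℤ))
    (h : EntOK E l) (f : ℕ → R) (t₁ t₂ : R) :
    chSum f t₁ 1 l + chSum (fun w => f w + chSum f t₁ 1 (E w)) t₂ 1 l =
      chSum f (t₁ + t₂) 1 l := by
  cases h with
  | nil => simp [chSum_nil]
  | one u₁ M₁ h₁ =>
    simp only [chSum_cons, chSum_nil, h₁]
    ring
  | two u₁ M₁ u₂ M₂ a h₁ h₂ ha =>
    have ha' : (M₁ : R) * (a : R) = 2 * (M₂ : R) := by exact_mod_cast congrArg (Int.cast : ℤ → R) ha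
    simp only [chSum_cons, chSum_nil, h₁, h₂]
    linear_combination (t₁ * t₂ * f u₂) * ha'
  | three u₁ M₁ u₂ M₂ u₃ M₃ a b c h₁ h₂ h₃ ha hb hc =>
    have ha' : (M₁ : R) * (a : R) = 2 * (M₂ : R) := by exact_mod_cast congrArg (Int.cast : ℤ → R) ha
    have hb' : (M₁ : R) * (b : R) = 3 * (M₃ : R) := by exact_mod_cast congrArg (Int.cast : ℤ → R) hb
    have hc' : (M₂ : R) * (c : R) = 3 * (M₃ : R) := by exact_mod_cast congrArg (Int.cast : ℤ → R) hc
    simp only [chSum_cons, chSum_nil, h₁, h₂, h₃]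
    linear_combination (t₁ * t₂ * f u₂) * ha' + (t₁ ^ 2 * t₂ * f u₃) * hb' + (t₁ * t₂ ^ 2 * f u₃) * hc'

/-- The facts about the tables at the root `r` that give additivity of `x_r`. -/
structure GoodAt (D : ChevalleyDatum) (r : ℕ) : Prop where
  neg_lt : D.negIdx.getD r 0 < D.nroots
  neg_ne : D.negIdx.getD r 0 ≠ r
  two : ∑ i ∈ Finset.range D.rank, cor D r i * car D i r = 2
  sorted : sortedFrom 0 (row D r) = true
  lt : ∀ s, ∀ e ∈ D.chainEntry r s, e.1 < D.nroots
  ne : ∀ s, ∀ e ∈ D.chainEntry r s, e.1 ≠ r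
  ne_neg : ∀ s, ∀ e ∈ D.chainEntry r s, e.1 ≠ D.negIdx.getD r 0
  ent : ∀ s, EntOK (D.chainEntry r) (D.chainEntry r s)

variable {F : Type*} [Field F] {D : ChevalleyDatum}

theorem sum_mul_dl (A : D.Idx → F) (s : Fin D.nroots) :
    ∑ v : D.Idx, A v * dl F D v s.val = A (Sum.inr s) := by
  rw [Fintype.sum_sum_type]
  simp [dl_inl, dl_inr, ← Fin.ext_iff]

theorem sum_mul_ite (A : D.Idx → F) (w : D.Idx) :
    ∑ v : D.Idx, A v * (if v = w then 1 else 0) = A w := by
  simp

theorem xMat_add (r : Fin D.nroots) (h : GoodAt D r.val) (t₁ t₂ : F) :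
    D.xMat F r t₁ * D.xMat F r t₂ = D.xMat F r (t₁ + t₂) := by
  ext v c
  rw [Matrix.mul_apply]
  rcases c with i | s
  · simp only [xMat_inl D r t₂, mul_sub, Finset.sum_sub_distrib]
    rw [sum_mul_ite]
    have : ∀ x : D.Idx, D.xMat F r t₁ v x * ((car D i.val r.val : F) * t₂ * dl F D x r.val) =
        ((car D i.val r.val : F) * t₂) * (D.xMat F r t₁ v x * dl F D x r.val) := fun x => by ring
    simp only [this]
    rw [← Finset.mul_sum, sum_mul_dl, xMat_self, xMat_inl, xMat_inl]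
    ring
  · by_cases hsr : s = r
    · subst hsr
      simp only [xMat_self D s t₂]
      rw [sum_mul_dl, xMat_self, xMat_self]
    · by_cases hs : s.val = D.negIdx.getD r.val 0
      · simp only [xMat_neg D r t₂ _ s hs hsr, mul_sub, mul_add, Finset.sum_sub_distrib,
          Finset.sum_add_distrib]
        rw [sum_mul_dl]
        have h1 : ∀ x : D.Idx, D.xMat F r t₁ v x * (t₂ ^ 2 * dl F D x r.val) =
          (t₂ ^ 2) * (D.xMat F r t₁ v x * dl F D x r.val) := fun x => by ring
        simp only [h1]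
        rw [← Finset.mul_sum, sum_mul_dl, xMat_self]
        have h2 : ∑ x : D.Idx, D.xMat F r t₁ v x * (∑ i : Fin D.rank, (cor D r.val i.val : F) * t₂ *
              (if x = Sum.inl i then 1 else 0)) =
            ∑ i : Fin D.rank, (cor D r.val i.val : F) * t₂ * D.xMat F r t₁ v (Sum.inl i) := by
          simp only [Finset.mul_sum]
          rw [Finset.sum_comm]
          apply Finset.sum_congr rfl
          intro i _
          rw [← sum_mul_ite (D.xMat F r t₁ v) (Sum.inl i), Finset.mul_sum]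
          apply Finset.sum_congr rfl
          intro x _
          ring
        rw [h2]
        simp only [xMat_inl D r t₁, mul_sub, Finset.sum_sub_distrib]
        have h3 : ∑ x : Fin D.rank, (cor D r.val x.val : F) * t₂ * ((car D x.val r.val : F) * t₁ * dl F D v r.val)
            = 2 * t₁ * t₂ * dl F D v r.val := by
          have h4 := h.two
          rw [Finset.sum_range] at h4
          have h5 : ∑ x : Fin D.rank, (cor D r.val x.val : F) * (car D x.val r.val : F) = 2 := by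
            exact_mod_cast congrArg (Int.cast : ℤ → F) h4
          rw [← h5, Finset.sum_mul, Finset.sum_mul, Finset.sum_mul]
          apply Finset.sum_congr rfl
          intro x _
          ring
        rw [h3, xMat_neg D r t₁ v s hs hsr, xMat_neg D r (t₁ + t₂) v s hs hsr]
        have h6 : ∑ i : Fin D.rank, (cor D r.val i.val : F) * (t₁ + t₂) * (if v = Sum.inl i then 1 else 0)
          = (∑ i : Fin D.rank, (cor D r.val i.val : F) * t₁ * (if v = Sum.inl i then 1 else 0)) +
            (∑ i : Fin D.rank, (cor D r.val i.val : F) * t₂ * (if v = Sum.inl i then 1 else 0)) := by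
          rw [← Finset.sum_add_distrib]
          apply Finset.sum_congr rfl
          intro i _
          ring
        rw [h6]
        ring
      · simp only [xMat_ne D r t₂ _ s hs hsr h.sorted, mul_add, Finset.sum_add_distrib]
        rw [sum_mul_dl, sum_mul_chSum]
        rw [xMat_ne D r t₁ v s hs hsr h.sorted, xMat_ne D r (t₁ + t₂) v s hs hsr h.sorted]
        rw [← chSum_add (D.chainEntry r.val) _ (h.ent s.val), ← add_assoc]
        congr 1
        apply chSum_congr
        intro e he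
        have hlt := h.lt _ e he
        rw [sum_mul_dl (D.xMat F r t₁ v) ⟨e.1, hlt⟩]
        rw [xMat_ne D r t₁ v ⟨e.1, hlt⟩ (h.ne_neg _ e he)
          (fun h' => h.ne _ e he (congrArg Fin.val h')) h.sorted]

theorem x_add (r : ℕ) (h : GoodAt D r) (t₁ t₂ : F) :
    D.x F r t₁ * D.x F r t₂ = D.x F r (t₁ + t₂) := by
  unfold ChevalleyDatum.x
  by_cases hr : r < D.nroots
  · simp only [hr, dite_true]
    exact xMat_add ⟨r, hr⟩ h t₁ t₂
  · simp [hr]

end Cfsg.Agent.ChevalleyStructure.Additive
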