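/-
The Chevalley group of type B₂ over any field is PSp₄.

The four-dimensional symplectic representation: root elements 1 + t e_r for explicit 4×4 integer matrices e_r, acting on
symmetric 4×4 matrices by S ↦ g S gᵀ; on a suitable basis of the ten-dimensional space of symmetric matrices this is the
matrix x_r(t) of the datum `chevB2`.
-/
import Cfsg.Prelude.Def_ChevStructure
import Cfsg.Prelude.Def_ChevB2
import Cfsg.Prelude.Def_Classical

set_option autoImplicit false

namespace Cfsg.Agent.ChevalleyStructure.B2Rep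

open Cfsg.Lie Matrix

/-- Index set of the natural module: `inl 0, inl 1` are e₁, e₂ and `inr 0, inr 1` are e₋₁, e₋₂. -/
abbrev I4 : Type := Fin 2 ⊕ Fin 2

/-- The elementary integer matrix. -/
def sZ (a b : I4) : Matrix I4 I4 ℤ := Matrix.of fun i j => if i = a ∧ j = b then 1 else 0

/-- The 4×4 matrix of the root vector e_r. -/
def eZ (r : Fin chevB2.nroots) : Matrix I4 I4 ℤ :=
  match r.val with
  | 0 => - sZ (.inr 0) (.inl 0)
  | 1 => - (sZ (.inr 1) (.inl 0) + sZ (.inr 0) (.inl 1))
  | 2 => sZ (.inl 1) (.inl 0) - sZ (.inr 0) (.inr 1)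
  | 3 => sZ (.inr 1) (.inl 1)
  | 4 => sZ (.inl 1) (.inr 1)
  | 5 => sZ (.inl 0) (.inl 1) - sZ (.inr 1) (.inr 0)
  | 6 => - (sZ (.inl 0) (.inr 1) + sZ (.inl 1) (.inr 0))
  | _ => - sZ (.inl 0) (.inr 0)

/-- The 4×4 matrix of the fundamental coroot. -/
def hZ (i : Fin chevB2.rank) : Matrix I4 I4 ℤ :=
  match i.val with
  | 0 => sZ (.inl 0) (.inl 0) - sZ (.inl 1) (.inl 1) - sZ (.inr 0) (.inr 0) + sZ (.inr 1) (.inr 1)
  | _ => sZ (.inl 1) (.inl 1) - sZ (.inr 1) (.inr 1)

/-- The matrix J of the symplectic form (Mathlib's `Matrix.J`), over ℤ, in a form which computes. -/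
def jZ : Matrix I4 I4 ℤ :=
  sZ (.inr 0) (.inl 0) + sZ (.inr 1) (.inl 1) - sZ (.inl 0) (.inr 0) - sZ (.inl 1) (.inr 1)

theorem jZ_eq : jZ = Matrix.J (Fin 2) ℤ := by decide +kernel

/-- The basis of symmetric matrices: (Chevalley basis vector) · J. -/
def bZ (i : chevB2.Idx) : Matrix I4 I4 ℤ :=
  match i with
  | .inl i => hZ i * jZ
  | .inr r => eZ r * jZ

/-- Coordinates: coefficient matrices of the coordinate functionals. -/
def cZ (i : chevB2.Idx) : Matrix I4 I4 ℤ :=
  match i with
  | .inl i => (match i.val with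
    | 0 => - sZ (.inl 0) (.inr 0)
    | _ => - sZ (.inl 0) (.inr 0) - sZ (.inl 1) (.inr 1))
  | .inr r => (match r.val with
    | 0 => sZ (.inr 0) (.inr 0)
    | 1 => sZ (.inr 0) (.inr 1)
    | 2 => - sZ (.inl 1) (.inr 0)
    | 3 => - sZ (.inr 1) (.inr 1)
    | 4 => sZ (.inl 1) (.inl 1)
    | 5 => - sZ (.inl 0) (.inr 1)
    | 6 => - sZ (.inl 0) (.inl 1)
    | _ => - sZ (.inl 0) (.inl 0))

/-- The `i`-th coordinate of a symmetric matrix, as a linear functional on all matrices. -/
def coord (R : Type*) [CommRing R] (i : chevB2.Idx) (M : Matrix I4 I4 R) : R :=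
  ∑ a, ∑ b, (cZ i a b : R) * M a b

/-- Matrix of the action on symmetric matrices, over any ring. -/
def phiM (R : Type*) [CommRing R] (g : Matrix I4 I4 R) : Matrix chevB2.Idx chevB2.Idx R :=
  Matrix.of fun i j => coord R i (g * (bZ j).map (Int.castRingHom R) * gᵀ)

/-- coefficient of t in the matrix x_r(t) -/
def aOne (r : Fin chevB2.nroots) : Matrix chevB2.Idx chevB2.Idx ℤ :=
  Matrix.of fun row col =>
    match col with
    | Sum.inl i =>
      (match row with
       | Sum.inl _ => 0
       | Sum.inr u => if u = r then - ((chevB2.cartanSR.getD i.val #[]).getD r.val 0 : ℤ) else 0)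
    | Sum.inr s =>
      if s = r then 0
      else if s.val = chevB2.negIdx.getD r.val 0 then
        (match row with
         | Sum.inl i => ((chevB2.coroot.getD r.val #[]).getD i.val 0 : ℤ)
         | Sum.inr _ => 0)
      else
        (match row with
         | Sum.inl _ => 0
         | Sum.inr u => ((chevB2.chainCoeff r.val s.val u.val).map fun km => if km.1 = 1 then km.2 else 0).sum)

/-- coefficient of t² in the matrix x_r(t) -/
def aTwo (r : Fin chevB2.nroots) : Matrix chevB2.Idx chevB2.Idx ℤ :=
  Matrix.of fun row col =>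
    match col with
    | Sum.inl _ => 0
    | Sum.inr s =>
      if s = r then 0
      else if s.val = chevB2.negIdx.getD r.val 0 then
        (match row with
         | Sum.inl _ => 0
         | Sum.inr u => if u = s then 0 else if u = r then -1 else 0)
      else
        (match row with
         | Sum.inl _ => 0
         | Sum.inr u => ((chevB2.chainCoeff r.val s.val u.val).map fun km => if km.1 = 2 then km.2 else 0).sum)

theorem chain_deg (r s u : Fin chevB2.nroots) :
    ∀ km ∈ chevB2.chainCoeff r.val s.val u.val, km.1 = 1 ∨ km.1 = 2 := by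
  revert r s u; decide +kernel

theorem list_sum_split {F : Type*} [Field F] (t : F) (l : List (ℕ × ℤ)) (h : ∀ km ∈ l, km.1 = 1 ∨ km.1 = 2) :
    (l.map fun km => ((km.2 : ℤ) : F) * t ^ km.1).sum
      = (((l.map fun km => if km.1 = 1 then km.2 else 0).sum : ℤ) : F) * t
        + (((l.map fun km => if km.1 = 2 then km.2 else 0).sum : ℤ) : F) * t ^ 2 := by
  induction l with
  | nil => simp
  | cons a l ih =>
    have h1 := h a (by simp)
    have h2 := ih (fun km hkm => h km (by simp [hkm]))
    simp only [List.map_cons, List.sum_cons, h2]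
    rcases h1 with h1 | h1 <;> simp [h1] <;> ring

section xMatEntries

variable (D : ChevalleyDatum) {F : Type*} [Field F] (r : Fin D.nroots) (t : F)

theorem xMat_inl_inl (i' i : Fin D.rank) : D.xMat F r t (.inl i') (.inl i) = if i' = i then 1 else 0 := rfl

theorem xMat_inr_inl (u : Fin D.nroots) (i : Fin D.rank) : D.xMat F r t (.inr u) (.inl i)
    = if u = r then - (((D.cartanSR.getD i.val #[]).getD r.val 0 : ℤ) : F) * t else 0 := rfl

theorem xMat_inl_inr (i : Fin D.rank) (s : Fin D.nroots) : D.xMat F r t (.inl i) (.inr s)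
    = if s = r then 0 else if s.val = D.negIdx.getD r.val 0 then
      (((D.coroot.getD r.val #[]).getD i.val 0 : ℤ) : F) * t else 0 := rfl

theorem xMat_inr_inr (u s : Fin D.nroots) : D.xMat F r t (.inr u) (.inr s)
    = if s = r then (if u = r then 1 else 0) else if s.val = D.negIdx.getD r.val 0 then
      (if u = s then 1 else if u = r then -(t ^ 2) else 0) else
      (if u = s then 1 else 0) +
             ((D.chainCoeff r.val s.val u.val).map fun km => ((km.2 : ℤ) : F) * t ^ km.1).sum := rfl

end xMatEntries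

theorem aOne_inl_inl (r : Fin chevB2.nroots) (i' i : Fin chevB2.rank) : aOne r (.inl i') (.inl i) = 0 := rfl
theorem aOne_inr_inl (r : Fin chevB2.nroots) (u : Fin chevB2.nroots) (i : Fin chevB2.rank) :
    aOne r (.inr u) (.inl i) = if u = r then - ((chevB2.cartanSR.getD i.val #[]).getD r.val 0 : ℤ) else 0 := rfl
theorem aOne_inl_inr (r : Fin chevB2.nroots) (i : Fin chevB2.rank) (s : Fin chevB2.nroots) :
    aOne r (.inl i) (.inr s) = if s = r then 0 else if s.val = chevB2.negIdx.getD r.val 0 then
      ((chevB2.coroot.getD r.val #[]).getD i.val 0 : ℤ) else 0 := rfl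
theorem aOne_inr_inr (r : Fin chevB2.nroots) (u s : Fin chevB2.nroots) :
    aOne r (.inr u) (.inr s) = if s = r then 0 else if s.val = chevB2.negIdx.getD r.val 0 then 0 else
      ((chevB2.chainCoeff r.val s.val u.val).map fun km => if km.1 = 1 then km.2 else 0).sum := rfl
theorem aTwo_inl (r : Fin chevB2.nroots) (i : chevB2.Idx) (j : Fin chevB2.rank) : aTwo r i (.inl j) = 0 := rfl
theorem aTwo_inl_inr (r : Fin chevB2.nroots) (i : Fin chevB2.rank) (s : Fin chevB2.nroots) :
    aTwo r (.inl i) (.inr s) = 0 := by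
  change (if s = r then (0 : ℤ) else if s.val = chevB2.negIdx.getD r.val 0 then 0 else 0) = 0
  split_ifs <;> rfl
theorem aTwo_inr_inr (r : Fin chevB2.nroots) (u s : Fin chevB2.nroots) :
    aTwo r (.inr u) (.inr s) = if s = r then 0 else if s.val = chevB2.negIdx.getD r.val 0 then
      (if u = s then 0 else if u = r then -1 else 0) else
      ((chevB2.chainCoeff r.val s.val u.val).map fun km => if km.1 = 2 then km.2 else 0).sum := rfl

theorem xMat_eq {F : Type*} [Field F] (r : Fin chevB2.nroots) (t : F) :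
    chevB2.xMat F r t = 1 + t • (aOne r).map (Int.castRingHom F) + t ^ 2 • (aTwo r).map (Int.castRingHom F) := by
  ext row col
  simp only [Matrix.add_apply, Matrix.smul_apply, Matrix.map_apply, smul_eq_mul, Int.coe_castRingHom]
  rcases col with i | s
  · rcases row with i' | u
    · rw [xMat_inl_inl, aOne_inl_inl, aTwo_inl]
      simp [Matrix.one_apply]
    · rw [xMat_inr_inl, aOne_inr_inl, aTwo_inl]
      simp only [Matrix.one_apply]
      split_ifs <;> simp_all [mul_comm]
  · rcases row with i' | u
    · rw [xMat_inl_inr, aOne_inl_inr, aTwo_inl_inr]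
      simp only [Matrix.one_apply]
      split_ifs <;> simp_all [mul_comm]
    · rw [xMat_inr_inr, aOne_inr_inr, aTwo_inr_inr, list_sum_split t _ (chain_deg r s u)]
      simp only [Matrix.one_apply, Sum.inr.injEq]
      split_ifs <;> simp_all [mul_comm, add_assoc]


/-! ### The action on symmetric matrices -/

section Phi

variable {R : Type*} [CommRing R]

theorem coord_add (i : chevB2.Idx) (M N : Matrix I4 I4 R) : coord R i (M + N) = coord R i M + coord R i N := by
  simp only [coord, Matrix.add_apply, mul_add, Finset.sum_add_distrib]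

theorem coord_smul (i : chevB2.Idx) (c : R) (M : Matrix I4 I4 R) : coord R i (c • M) = c * coord R i M := by
  simp only [coord, Matrix.smul_apply, smul_eq_mul, Finset.mul_sum]
  refine Finset.sum_congr rfl fun a _ => Finset.sum_congr rfl fun b _ => by ring

theorem coord_zero (i : chevB2.Idx) : coord R i (0 : Matrix I4 I4 R) = 0 := by
  simp [coord]

theorem coord_sum {κ : Type*} (s : Finset κ) (i : chevB2.Idx) (f : κ → Matrix I4 I4 R) :
    coord R i (∑ k ∈ s, f k) = ∑ k ∈ s, coord R i (f k) := by
  classical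
  induction s using Finset.induction_on with
  | empty => simp [coord_zero]
  | insert a s ha ih => rw [Finset.sum_insert ha, Finset.sum_insert ha, coord_add, ih]

theorem coord_map (i : chevB2.Idx) (M : Matrix I4 I4 ℤ) :
    coord R i (M.map (Int.castRingHom R)) = ((coord ℤ i M : ℤ) : R) := by
  simp [coord]

/-- coordinates of the basis vectors, as a matrix -/
theorem coordZ_bZ : (Matrix.of fun i j : chevB2.Idx => coord ℤ i (bZ j)) = 1 := by decide +kernel

theorem coord_bZ (i j : chevB2.Idx) : coord R i ((bZ j).map (Int.castRingHom R)) = if i = j then 1 else 0 := by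
  have h := congrFun (congrFun coordZ_bZ i) j
  rw [Matrix.of_apply, Matrix.one_apply] at h
  rw [coord_map, h]; split_ifs <;> simp

theorem bZ_symm (j : chevB2.Idx) : (bZ j)ᵀ = bZ j := by
  revert j; decide +kernel

/-- an order on the index set -/
def leB (a b : I4) : Bool :=
  match a, b with
  | .inl i, .inl j => decide (i ≤ j)
  | .inl _, .inr _ => true
  | .inr _, .inl _ => false
  | .inr i, .inr j => decide (i ≤ j)

theorem tensor_eq : ∀ p : (I4 × I4) × (I4 × I4), ∑ k, cZ k p.2.1 p.2.2 * bZ k p.1.1 p.1.2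
    = if p.2 = (if leB p.1.1 p.1.2 = true then (p.1.1, p.1.2) else (p.1.2, p.1.1)) then 1 else 0 := by
  decide +kernel

/-- every symmetric matrix is the combination of the basis with its coordinates -/
theorem expand (M : Matrix I4 I4 R) (hM : Mᵀ = M) : M = ∑ k, coord R k M • (bZ k).map (Int.castRingHom R) := by
  have hM' : ∀ a b, M a b = M b a := fun a b => congrFun (congrFun hM b) a
  ext a b
  have h1 : (∑ k, coord R k M • (bZ k).map (Int.castRingHom R)) a b
      = ∑ p : I4 × I4, ((∑ k, cZ k p.1 p.2 * bZ k a b : ℤ) : R) * M p.1 p.2 := by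
    simp only [Matrix.sum_apply, Matrix.smul_apply, Matrix.map_apply, smul_eq_mul, Int.coe_castRingHom, coord,
      Finset.sum_mul, Int.cast_sum, Int.cast_mul]
    rw [Fintype.sum_prod_type]
    simp only
    rw [Finset.sum_comm]
    refine Finset.sum_congr rfl fun c _ => ?_
    rw [Finset.sum_comm]
    refine Finset.sum_congr rfl fun d _ => Finset.sum_congr rfl fun k _ => by ring
  rw [h1]
  have h2 : ∀ p : I4 × I4, ((∑ k, cZ k p.1 p.2 * bZ k a b : ℤ) : R) * M p.1 p.2
      = if p = (if leB a b = true then (a, b) else (b, a)) then M p.1 p.2 else 0 := by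
    intro p
    rw [tensor_eq ((a, b), p)]
    split_ifs <;> simp
  rw [Finset.sum_congr rfl fun p _ => h2 p, Finset.sum_ite_eq']
  simp only [Finset.mem_univ, if_true]
  split_ifs
  · rfl
  · exact hM' a b

theorem phiM_one : phiM R 1 = 1 := by
  ext i j
  simp only [phiM, Matrix.of_apply, Matrix.one_mul, Matrix.transpose_one, Matrix.mul_one]
  rw [coord_bZ, Matrix.one_apply]

theorem bZ_map_symm (j : chevB2.Idx) :
    ((bZ j).map (Int.castRingHom R))ᵀ = (bZ j).map (Int.castRingHom R) := by
  rw [← Matrix.transpose_map, bZ_symm]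

theorem phiM_mul (g h : Matrix I4 I4 R) : phiM R (g * h) = phiM R g * phiM R h := by
  ext i j
  have hs : (h * (bZ j).map (Int.castRingHom R) * hᵀ)ᵀ = h * (bZ j).map (Int.castRingHom R) * hᵀ := by
    rw [Matrix.transpose_mul, Matrix.transpose_mul, Matrix.transpose_transpose, bZ_map_symm, Matrix.mul_assoc]
  have he := expand _ hs
  have h1 : g * h * (bZ j).map (Int.castRingHom R) * (g * h)ᵀ
      = g * (h * (bZ j).map (Int.castRingHom R) * hᵀ) * gᵀ := by
    rw [Matrix.transpose_mul]; simp only [Matrix.mul_assoc]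
  simp only [phiM, Matrix.of_apply, Matrix.mul_apply' (M := Matrix.of _)]
  rw [h1, he, Finset.mul_sum, Finset.sum_mul, coord_sum, dotProduct]
  refine Finset.sum_congr rfl fun k _ => ?_
  rw [← he]
  simp only [Matrix.mul_smul, Matrix.smul_mul, coord_smul, Matrix.of_apply]
  ring

/-- The representation of the matrix monoid on symmetric matrices. -/
def phi (R : Type*) [CommRing R] : Matrix I4 I4 R →* Matrix chevB2.Idx chevB2.Idx R where
  toFun := phiM R
  map_one' := phiM_one
  map_mul' := phiM_mul

/-- The root element 1 + t e_r as a 4×4 matrix. -/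
def uM (R : Type*) [CommRing R] (r : Fin chevB2.nroots) (t : R) : Matrix I4 I4 R :=
  1 + t • (eZ r).map (Int.castRingHom R)

theorem aOne_eq (r : Fin chevB2.nroots) :
    (Matrix.of fun i j : chevB2.Idx => coord ℤ i (eZ r * bZ j + bZ j * (eZ r)ᵀ)) = aOne r := by
  revert r; decide +kernel

theorem aTwo_eq (r : Fin chevB2.nroots) :
    (Matrix.of fun i j : chevB2.Idx => coord ℤ i (eZ r * bZ j * (eZ r)ᵀ)) = aTwo r := by
  revert r; decide +kernel

/-- expansion of the action of 1 + t e_r on an integral matrix -/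
theorem uM_conj (r : Fin chevB2.nroots) (t : R) (S : Matrix I4 I4 ℤ) :
    uM R r t * S.map (Int.castRingHom R) * (uM R r t)ᵀ
      = S.map (Int.castRingHom R) + t • (eZ r * S + S * (eZ r)ᵀ).map (Int.castRingHom R)
        + t ^ 2 • (eZ r * S * (eZ r)ᵀ).map (Int.castRingHom R) := by
  have e1 : (eZ r * S + S * (eZ r)ᵀ).map (Int.castRingHom R)
      = (eZ r).map (Int.castRingHom R) * S.map (Int.castRingHom R)
        + S.map (Int.castRingHom R) * ((eZ r).map (Int.castRingHom R))ᵀ := by
    rw [← Matrix.transpose_map, ← Matrix.map_mul, ← Matrix.map_mul, Matrix.map_add _ (fun a b => map_add _ a b)]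
  have e2 : (eZ r * S * (eZ r)ᵀ).map (Int.castRingHom R)
      = (eZ r).map (Int.castRingHom R) * S.map (Int.castRingHom R) * ((eZ r).map (Int.castRingHom R))ᵀ := by
    rw [← Matrix.transpose_map, ← Matrix.map_mul, ← Matrix.map_mul]
  rw [e1, e2, uM]
  simp only [Matrix.transpose_add, Matrix.transpose_one, Matrix.transpose_smul, Matrix.add_mul, Matrix.mul_add,
    Matrix.one_mul, Matrix.mul_one, Matrix.smul_mul, Matrix.mul_smul, smul_add, smul_smul, pow_two]
  abel

theorem phi_uM {F : Type*} [Field F] (r : Fin chevB2.nroots) (t : F) : phi F (uM F r t) = chevB2.xMat F r t := by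
  rw [xMat_eq]
  ext i j
  have h1 := congrFun (congrFun (aOne_eq r) i) j
  have h2 := congrFun (congrFun (aTwo_eq r) i) j
  rw [Matrix.of_apply] at h1 h2
  change coord F i (uM F r t * (bZ j).map (Int.castRingHom F) * (uM F r t)ᵀ) = _
  rw [uM_conj, coord_add, coord_add, coord_smul, coord_smul, coord_map, coord_map, coord_map, h1, h2]
  have h3 := congrFun (congrFun coordZ_bZ i) j
  rw [Matrix.of_apply] at h3
  rw [h3]
  simp only [Matrix.add_apply, Matrix.smul_apply, Matrix.map_apply, smul_eq_mul, Int.coe_castRingHom, Matrix.one_apply]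
  split_ifs <;> simp

theorem jmap : (jZ.map (Int.castRingHom R)) = Matrix.J (Fin 2) R := by
  rw [jZ_eq, Matrix.map_J]

theorem eZ_J (r : Fin chevB2.nroots) : eZ r * jZ + jZ * (eZ r)ᵀ = 0 := by
  revert r; decide +kernel

theorem eZ_J' (r : Fin chevB2.nroots) : eZ r * jZ * (eZ r)ᵀ = 0 := by
  revert r; decide +kernel

theorem uM_mem (r : Fin chevB2.nroots) (t : R) : uM R r t ∈ Matrix.symplecticGroup (Fin 2) R := by
  rw [SymplecticGroup.mem_iff, ← jmap, uM_conj, eZ_J, eZ_J']
  simp

/-- The root element 1 + t e_r of the symplectic group. -/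
def uS (R : Type*) [CommRing R] (r : Fin chevB2.nroots) (t : R) : Matrix.symplecticGroup (Fin 2) R :=
  ⟨uM R r t, uM_mem r t⟩

end Phi

end Cfsg.Agent.ChevalleyStructure.B2Rep
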