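/-
The Chevalley group of type B₂ over any field is PSp₄ (continuation of `B2Rep`): generation of Sp₄(F) by its root
elements, and the isomorphism.
-/
import Cfsg.Agent.ChevalleyStructure.B2Rep

set_option autoImplicit false
set_option linter.all false

namespace Cfsg.Agent.ChevalleyStructure.B2Sp4

open Cfsg.Lie Matrix Cfsg.Agent.ChevalleyStructure.B2Rep

section Gen

variable {F : Type*} [Field F]

/-- the subgroup generated by the root elements -/
def gam (F : Type*) [Field F] : Subgroup (Matrix.symplecticGroup (Fin 2) F) :=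
  Subgroup.closure {A | ∃ (r : Fin chevB2.nroots) (t : F), A = uS F r t}

theorem uS_mem_gam (r : Fin chevB2.nroots) (t : F) : uS F r t ∈ gam F :=
  Subgroup.subset_closure ⟨r, t, rfl⟩

/-- a vector given by its four coordinates -/
def vec {F : Type*} (a b c d : F) : I4 → F := Sum.elim ![a, b] ![c, d]

theorem eq_vec {F : Type*} (v : I4 → F) : v = vec (v (.inl 0)) (v (.inl 1)) (v (.inr 0)) (v (.inr 1)) := by
  ext i
  rcases i with i | i <;> fin_cases i <;> rfl

theorem uM_mulVec (r : Fin chevB2.nroots) (t : F) (v : I4 → F) :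
    uM F r t *ᵥ v = fun i => v i + t * ∑ k, (eZ r i k : F) * v k := by
  ext i
  rw [uM, Matrix.add_mulVec, Matrix.one_mulVec, Matrix.smul_mulVec]
  simp [Matrix.mulVec, dotProduct]

/-- the root with index k -/
def rt (k : ℕ) (h : k < 8) : Fin chevB2.nroots := ⟨k, h⟩

theorem act0 (t a b c d : F) : uM F (rt 0 (by norm_num)) t *ᵥ vec a b c d = vec a b (c - t * a) d := by
  rw [uM_mulVec]; ext i
  rcases i with i | i <;> fin_cases i <;> simp [eZ, rt, sZ, vec, Fintype.sum_sum_type, Fin.sum_univ_two] <;> ring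
theorem act1 (t a b c d : F) : uM F (rt 1 (by norm_num)) t *ᵥ vec a b c d = vec a b (c - t * b) (d - t * a) := by
  rw [uM_mulVec]; ext i
  rcases i with i | i <;> fin_cases i <;> simp [eZ, rt, sZ, vec, Fintype.sum_sum_type, Fin.sum_univ_two] <;> ring
theorem act2 (t a b c d : F) : uM F (rt 2 (by norm_num)) t *ᵥ vec a b c d = vec a (b + t * a) (c - t * d) d := by
  rw [uM_mulVec]; ext i
  rcases i with i | i <;> fin_cases i <;> simp [eZ, rt, sZ, vec, Fintype.sum_sum_type, Fin.sum_univ_two] <;> ring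
theorem act3 (t a b c d : F) : uM F (rt 3 (by norm_num)) t *ᵥ vec a b c d = vec a b c (d + t * b) := by
  rw [uM_mulVec]; ext i
  rcases i with i | i <;> fin_cases i <;> simp [eZ, rt, sZ, vec, Fintype.sum_sum_type, Fin.sum_univ_two] <;> ring
theorem act4 (t a b c d : F) : uM F (rt 4 (by norm_num)) t *ᵥ vec a b c d = vec a (b + t * d) c d := by
  rw [uM_mulVec]; ext i
  rcases i with i | i <;> fin_cases i <;> simp [eZ, rt, sZ, vec, Fintype.sum_sum_type, Fin.sum_univ_two] <;> ring
theorem act5 (t a b c d : F) : uM F (rt 5 (by norm_num)) t *ᵥ vec a b c d = vec (a + t * b) b c (d - t * c) := by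
  rw [uM_mulVec]; ext i
  rcases i with i | i <;> fin_cases i <;> simp [eZ, rt, sZ, vec, Fintype.sum_sum_type, Fin.sum_univ_two] <;> ring
theorem act6 (t a b c d : F) : uM F (rt 6 (by norm_num)) t *ᵥ vec a b c d = vec (a - t * d) (b - t * c) c d := by
  rw [uM_mulVec]; ext i
  rcases i with i | i <;> fin_cases i <;> simp [eZ, rt, sZ, vec, Fintype.sum_sum_type, Fin.sum_univ_two] <;> ring
theorem act7 (t a b c d : F) : uM F (rt 7 (by norm_num)) t *ᵥ vec a b c d = vec (a - t * c) b c d := by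
  rw [uM_mulVec]; ext i
  rcases i with i | i <;> fin_cases i <;> simp [eZ, rt, sZ, vec, Fintype.sum_sum_type, Fin.sum_univ_two] <;> ring

/-- `γ v = w` for some element γ of the generated subgroup fixing all vectors of `S` -/
def Re (S : Set (I4 → F)) (v w : I4 → F) : Prop :=
  ∃ γ ∈ gam F, (∀ s ∈ S, (γ : Matrix I4 I4 F) *ᵥ s = s) ∧ (γ : Matrix I4 I4 F) *ᵥ v = w

theorem Re.rfl' (S : Set (I4 → F)) (v : I4 → F) : Re S v v :=
  ⟨1, one_mem _, fun s _ => by simp, by simp⟩

theorem Re.trans {S : Set (I4 → F)} {u v w : I4 → F} (h1 : Re S u v) (h2 : Re S v w) : Re S u w := by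
  obtain ⟨γ, hγ, hS, rfl⟩ := h1
  obtain ⟨δ, hδ, hS', rfl⟩ := h2
  refine ⟨δ * γ, mul_mem hδ hγ, fun s hs => ?_, ?_⟩
  · rw [Submonoid.coe_mul, ← Matrix.mulVec_mulVec, hS s hs, hS' s hs]
  · rw [Submonoid.coe_mul, ← Matrix.mulVec_mulVec]

theorem Re.step {S : Set (I4 → F)} (r : Fin chevB2.nroots) (t : F) {v w : I4 → F}
    (hw : uM F r t *ᵥ v = w) (hS : ∀ s ∈ S, uM F r t *ᵥ s = s) : Re S v w :=
  ⟨uS F r t, uS_mem_gam r t, hS, hw⟩

theorem trans_one (a b c d : F) (h : ¬ (a = 0 ∧ b = 0 ∧ c = 0 ∧ d = 0)) :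
    Re ∅ (vec a b c d) (vec 1 0 0 0) := by
  have key : ∀ a b c d : F, a ≠ 0 → Re ∅ (vec a b c d) (vec 1 0 0 0) := by
    intro a b c d ha
    refine (Re.step (rt 0 (by norm_num)) ((c - 1) / a) (act0 _ _ _ _ _) (by simp)).trans ?_
    have : c - (c - 1) / a * a = 1 := by field_simp; ring
    rw [this]
    refine (Re.step (rt 7 (by norm_num)) (a - 1) (act7 _ _ _ _ _) (by simp)).trans ?_
    have : a - (a - 1) * 1 = 1 := by ring
    rw [this]
    refine (Re.step (rt 2 (by norm_num)) (-b) (act2 _ _ _ _ _) (by simp)).trans ?_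
    refine (Re.step (rt 1 (by norm_num)) d (act1 _ _ _ _ _) (by simp)).trans ?_
    refine (Re.step (rt 0 (by norm_num)) (1 + b * d) (act0 _ _ _ _ _) (by simp)).trans ?_
    have h1 : b + -b * 1 = 0 := by ring
    have h2 : d - d * 1 = 0 := by ring
    rw [h1, h2]
    have h3 : 1 - -b * d - d * 0 - (1 + b * d) * 1 = 0 := by ring
    rw [h3]
    exact Re.rfl' _ _
  by_cases ha : a = 0
  · by_cases hb : b = 0
    · by_cases hc : c = 0
      · have hd : d ≠ 0 := fun hd => h ⟨ha, hb, hc, hd⟩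
        refine (Re.step (rt 6 (by norm_num)) 1 (act6 _ _ _ _ _) (by simp)).trans (key _ _ _ _ ?_)
        simpa [ha] using hd
      · refine (Re.step (rt 7 (by norm_num)) 1 (act7 _ _ _ _ _) (by simp)).trans (key _ _ _ _ ?_)
        simpa [ha] using hc
    · refine (Re.step (rt 5 (by norm_num)) 1 (act5 _ _ _ _ _) (by simp)).trans (key _ _ _ _ ?_)
      simpa [ha] using hb
  · exact key _ _ _ _ ha

theorem trans_two (a b d : F) : Re {vec 1 0 0 0} (vec a b 1 d) (vec 0 0 1 0) := by
  refine (Re.step (rt 5 (by norm_num)) d (act5 _ _ _ _ _) (by simp [act5])).trans ?_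
  refine (Re.step (rt 6 (by norm_num)) b (act6 _ _ _ _ _) (by simp [act6])).trans ?_
  refine (Re.step (rt 7 (by norm_num)) (a + d * b) (act7 _ _ _ _ _) (by simp [act7])).trans ?_
  have h1 : d - d * 1 = 0 := by ring
  have h2 : b - b * 1 = 0 := by ring
  rw [h1, h2]
  have h3 : a + d * b - b * 0 - (a + d * b) * 1 = 0 := by ring
  rw [h3]
  exact Re.rfl' _ _

theorem trans_three (b d : F) (h : ¬ (b = 0 ∧ d = 0)) :
    Re {vec 1 0 0 0, vec 0 0 1 0} (vec 0 b 0 d) (vec 0 1 0 0) := by
  have key : ∀ b d : F, d ≠ 0 → Re {vec 1 0 0 0, vec 0 0 1 0} (vec 0 b 0 d) (vec 0 1 0 0) := by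
    intro b d hd
    refine (Re.step (rt 4 (by norm_num)) ((1 - b) / d) (act4 _ _ _ _ _) (by simp [act4])).trans ?_
    refine (Re.step (rt 3 (by norm_num)) (-d) (act3 _ _ _ _ _) (by simp [act3])).trans ?_
    have h1 : b + (1 - b) / d * d = 1 := by field_simp; ring
    rw [h1]
    have h2 : d + -d * 1 = 0 := by ring
    rw [h2]
    exact Re.rfl' _ _
  by_cases hd : d = 0
  · have hb : b ≠ 0 := fun hb => h ⟨hb, hd⟩
    refine (Re.step (rt 3 (by norm_num)) 1 (act3 _ _ _ _ _) (by simp [act3])).trans (key _ _ ?_)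
    simpa [hd] using hb
  · exact key _ _ hd

theorem trans_four (b : F) :
    Re {vec 1 0 0 0, vec 0 0 1 0, vec 0 1 0 0} (vec 0 b 0 1) (vec 0 0 0 1) := by
  refine (Re.step (rt 4 (by norm_num)) (-b) (act4 _ _ _ _ _) (by simp [act4])).trans ?_
  have h1 : b + -b * 1 = 0 := by ring
  rw [h1]
  exact Re.rfl' _ _

/-- the symplectic form -/
def bf (u v : I4 → F) : F := u ⬝ᵥ (Matrix.J (Fin 2) F *ᵥ v)

theorem bf_vec (a b c d a' b' c' d' : F) : bf (vec a b c d) (vec a' b' c' d') = c * a' + d * b' - a * c' - b * d' := by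
  simp [bf, vec, Matrix.J, dotProduct, Matrix.mulVec, Fintype.sum_sum_type, Fin.sum_univ_two, Matrix.fromBlocks,
    Matrix.one_apply]
  ring

theorem bf_mul (A : Matrix.symplecticGroup (Fin 2) F) (u v : I4 → F) :
    bf ((A : Matrix I4 I4 F) *ᵥ u) ((A : Matrix I4 I4 F) *ᵥ v) = bf u v := by
  have h := SymplecticGroup.mem_iff'.1 A.2
  rw [bf, bf, Matrix.mulVec_mulVec, Matrix.dotProduct_mulVec, Matrix.vecMul_mulVec, ← Matrix.dotProduct_mulVec]
  rw [← Matrix.mul_assoc, h]

theorem gam_eq_top : gam F = ⊤ := by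
  rw [eq_top_iff]
  intro A _
  have red : ∀ (A γ : Matrix.symplecticGroup (Fin 2) F), γ ∈ gam F → γ * A ∈ gam F → A ∈ gam F := by
    intro A γ h1 h2
    exact (Subgroup.mul_mem_cancel_left _ h1).1 h2
  -- step 4
  have s4 : ∀ A : Matrix.symplecticGroup (Fin 2) F, (A : Matrix I4 I4 F) *ᵥ vec 1 0 0 0 = vec 1 0 0 0 →
      (A : Matrix I4 I4 F) *ᵥ vec 0 0 1 0 = vec 0 0 1 0 → (A : Matrix I4 I4 F) *ᵥ vec 0 1 0 0 = vec 0 1 0 0 →
      A ∈ gam F := by
    intro A h1 h2 h3
    have hv := eq_vec ((A : Matrix I4 I4 F) *ᵥ vec 0 0 0 1)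
    generalize ((A : Matrix I4 I4 F) *ᵥ vec 0 0 0 1) (.inl 0) = a at hv
    generalize ((A : Matrix I4 I4 F) *ᵥ vec 0 0 0 1) (.inl 1) = b at hv
    generalize ((A : Matrix I4 I4 F) *ᵥ vec 0 0 0 1) (.inr 0) = c at hv
    generalize ((A : Matrix I4 I4 F) *ᵥ vec 0 0 0 1) (.inr 1) = d at hv
    have e1 := bf_mul A (vec 1 0 0 0) (vec 0 0 0 1)
    have e2 := bf_mul A (vec 0 0 1 0) (vec 0 0 0 1)
    have e3 := bf_mul A (vec 0 1 0 0) (vec 0 0 0 1)
    rw [h1, hv, bf_vec, bf_vec] at e1
    rw [h2, hv, bf_vec, bf_vec] at e2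
    rw [h3, hv, bf_vec, bf_vec] at e3
    have hc : c = 0 := by linear_combination -e1
    have ha : a = 0 := by linear_combination e2
    have hd : d = 1 := by linear_combination -e3
    subst hc ha hd
    obtain ⟨γ, hγ, hS, hw⟩ := trans_four b
    refine red A γ hγ ?_
    have : γ * A = 1 := by
      apply Subtype.ext
      rw [Submonoid.coe_mul]
      have hcol : ∀ j, ((γ : Matrix I4 I4 F) * (A : Matrix I4 I4 F)) *ᵥ (Pi.single j 1) = Pi.single j 1 := by
        have E1 : (Pi.single (Sum.inl 0) 1 : I4 → F) = vec 1 0 0 0 := by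
          ext i; rcases i with i | i <;> fin_cases i <;> simp [vec, Pi.single_apply]
        have E2 : (Pi.single (Sum.inl 1) 1 : I4 → F) = vec 0 1 0 0 := by
          ext i; rcases i with i | i <;> fin_cases i <;> simp [vec, Pi.single_apply]
        have E3 : (Pi.single (Sum.inr 0) 1 : I4 → F) = vec 0 0 1 0 := by
          ext i; rcases i with i | i <;> fin_cases i <;> simp [vec, Pi.single_apply]
        have E4 : (Pi.single (Sum.inr 1) 1 : I4 → F) = vec 0 0 0 1 := by
          ext i; rcases i with i | i <;> fin_cases i <;> simp [vec, Pi.single_apply]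
        intro j
        rw [← Matrix.mulVec_mulVec]
        rcases j with j | j
        · fin_cases j
          · change _ *ᵥ (_ *ᵥ (Pi.single (Sum.inl 0) 1)) = (Pi.single (Sum.inl 0) 1)
            rw [E1, h1]; exact hS _ (by simp)
          · change _ *ᵥ (_ *ᵥ (Pi.single (Sum.inl 1) 1)) = (Pi.single (Sum.inl 1) 1)
            rw [E2, h3]; exact hS _ (by simp)
        · fin_cases j
          · change _ *ᵥ (_ *ᵥ (Pi.single (Sum.inr 0) 1)) = (Pi.single (Sum.inr 0) 1)
            rw [E3, h2]; exact hS _ (by simp)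
          · change _ *ᵥ (_ *ᵥ (Pi.single (Sum.inr 1) 1)) = (Pi.single (Sum.inr 1) 1)
            rw [E4, hv, hw]
      ext i j
      have := congrFun (hcol j) i
      rw [Matrix.mulVec_single_one] at this
      rw [Matrix.col_apply] at this
      rw [this]
      simp [Matrix.one_apply, Pi.single_apply]
    rw [this]; exact one_mem _
  -- step 3
  have s3 : ∀ A : Matrix.symplecticGroup (Fin 2) F, (A : Matrix I4 I4 F) *ᵥ vec 1 0 0 0 = vec 1 0 0 0 →
      (A : Matrix I4 I4 F) *ᵥ vec 0 0 1 0 = vec 0 0 1 0 → A ∈ gam F := by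
    intro A h1 h2
    have hv := eq_vec ((A : Matrix I4 I4 F) *ᵥ vec 0 1 0 0)
    generalize ((A : Matrix I4 I4 F) *ᵥ vec 0 1 0 0) (.inl 0) = a at hv
    generalize ((A : Matrix I4 I4 F) *ᵥ vec 0 1 0 0) (.inl 1) = b at hv
    generalize ((A : Matrix I4 I4 F) *ᵥ vec 0 1 0 0) (.inr 0) = c at hv
    generalize ((A : Matrix I4 I4 F) *ᵥ vec 0 1 0 0) (.inr 1) = d at hv
    have e1 := bf_mul A (vec 1 0 0 0) (vec 0 1 0 0)
    have e2 := bf_mul A (vec 0 0 1 0) (vec 0 1 0 0)
    rw [h1, hv, bf_vec, bf_vec] at e1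
    rw [h2, hv, bf_vec, bf_vec] at e2
    have hc : c = 0 := by linear_combination -e1
    have ha : a = 0 := by linear_combination e2
    subst hc ha
    have hbd : ¬ (b = 0 ∧ d = 0) := by
      rintro ⟨rfl, rfl⟩
      have e3 := bf_mul A (vec 0 1 0 0) (vec 0 0 0 1)
      rw [hv, eq_vec ((A : Matrix I4 I4 F) *ᵥ vec 0 0 0 1), bf_vec, bf_vec] at e3
      simp at e3
    obtain ⟨γ, hγ, hS, hw⟩ := trans_three b d hbd
    refine red A γ hγ (s4 _ ?_ ?_ ?_)
    · rw [Submonoid.coe_mul, ← Matrix.mulVec_mulVec, h1]; exact hS _ (by simp)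
    · rw [Submonoid.coe_mul, ← Matrix.mulVec_mulVec, h2]; exact hS _ (by simp)
    · rw [Submonoid.coe_mul, ← Matrix.mulVec_mulVec, hv, hw]
  -- step 2
  have s2 : ∀ A : Matrix.symplecticGroup (Fin 2) F, (A : Matrix I4 I4 F) *ᵥ vec 1 0 0 0 = vec 1 0 0 0 →
      A ∈ gam F := by
    intro A h1
    have hv := eq_vec ((A : Matrix I4 I4 F) *ᵥ vec 0 0 1 0)
    generalize ((A : Matrix I4 I4 F) *ᵥ vec 0 0 1 0) (.inl 0) = a at hv
    generalize ((A : Matrix I4 I4 F) *ᵥ vec 0 0 1 0) (.inl 1) = b at hv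
    generalize ((A : Matrix I4 I4 F) *ᵥ vec 0 0 1 0) (.inr 0) = c at hv
    generalize ((A : Matrix I4 I4 F) *ᵥ vec 0 0 1 0) (.inr 1) = d at hv
    have e1 := bf_mul A (vec 1 0 0 0) (vec 0 0 1 0)
    rw [h1, hv, bf_vec, bf_vec] at e1
    have hc : c = 1 := by linear_combination -e1
    subst hc
    obtain ⟨γ, hγ, hS, hw⟩ := trans_two a b d
    refine red A γ hγ (s3 _ ?_ ?_)
    · rw [Submonoid.coe_mul, ← Matrix.mulVec_mulVec, h1]; exact hS _ (by simp)
    · rw [Submonoid.coe_mul, ← Matrix.mulVec_mulVec, hv, hw]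
  -- step 1
  have hv := eq_vec ((A : Matrix I4 I4 F) *ᵥ vec 1 0 0 0)
  generalize ((A : Matrix I4 I4 F) *ᵥ vec 1 0 0 0) (.inl 0) = a at hv
  generalize ((A : Matrix I4 I4 F) *ᵥ vec 1 0 0 0) (.inl 1) = b at hv
  generalize ((A : Matrix I4 I4 F) *ᵥ vec 1 0 0 0) (.inr 0) = c at hv
  generalize ((A : Matrix I4 I4 F) *ᵥ vec 1 0 0 0) (.inr 1) = d at hv
  have habcd : ¬ (a = 0 ∧ b = 0 ∧ c = 0 ∧ d = 0) := by
    rintro ⟨rfl, rfl, rfl, rfl⟩
    have e3 := bf_mul A (vec 1 0 0 0) (vec 0 0 1 0)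
    rw [hv, eq_vec ((A : Matrix I4 I4 F) *ᵥ vec 0 0 1 0), bf_vec, bf_vec] at e3
    simp at e3
  obtain ⟨γ, hγ, hS, hw⟩ := trans_one a b c d habcd
  refine red A γ hγ (s2 _ ?_)
  rw [Submonoid.coe_mul, ← Matrix.mulVec_mulVec, hv, hw]

end Gen

/-! ### The isomorphism -/

section Iso

variable (F : Type*) [Field F]

/-- The homomorphism Sp₄(F) → GL₁₀(F). -/
noncomputable def Phi : Matrix.symplecticGroup (Fin 2) F →* GL chevB2.Idx F :=
  ((phi F).comp (Matrix.symplecticGroup (Fin 2) F).subtype).toHomUnits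

variable {F}

theorem Phi_coe (A : Matrix.symplecticGroup (Fin 2) F) :
    ((Phi F A : GL chevB2.Idx F) : Matrix chevB2.Idx chevB2.Idx F) = phi F (A : Matrix I4 I4 F) := rfl

theorem Phi_uS (r : Fin chevB2.nroots) (t : F) :
    ((Phi F (uS F r t) : GL chevB2.Idx F) : Matrix chevB2.Idx chevB2.Idx F) = chevB2.xMat F r t := by
  rw [Phi_coe]; exact phi_uM r t

theorem range_Phi : (Phi F).range = chevB2.group F := by
  rw [MonoidHom.range_eq_map, ← gam_eq_top, gam, MonoidHom.map_closure, ChevalleyDatum.group]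
  congr 1
  ext g
  constructor
  · rintro ⟨A, ⟨r, t, rfl⟩, rfl⟩
    exact ⟨r, t, Phi_uS r t⟩
  · rintro ⟨r, t, h⟩
    refine ⟨uS F r t, ⟨r, t, rfl⟩, ?_⟩
    apply Units.ext
    rw [h]; exact Phi_uS r t

theorem fix_symm (g : Matrix I4 I4 F) (hg : phi F g = 1) (S : Matrix I4 I4 F) (hS : Sᵀ = S) : g * S * gᵀ = S := by
  have h1 : (g * S * gᵀ)ᵀ = g * S * gᵀ := by
    rw [Matrix.transpose_mul, Matrix.transpose_mul, Matrix.transpose_transpose, hS, Matrix.mul_assoc]
  have hb : ∀ j, g * (bZ j).map (Int.castRingHom F) * gᵀ = (bZ j).map (Int.castRingHom F) := by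
    intro j
    have h2 : (g * (bZ j).map (Int.castRingHom F) * gᵀ)ᵀ = g * (bZ j).map (Int.castRingHom F) * gᵀ := by
      rw [Matrix.transpose_mul, Matrix.transpose_mul, Matrix.transpose_transpose, bZ_map_symm, Matrix.mul_assoc]
    rw [expand _ h2]
    have h3 : ∀ k, coord F k (g * (bZ j).map (Int.castRingHom F) * gᵀ) = if k = j then 1 else 0 := by
      intro k
      have := congrFun (congrFun hg k) j
      rw [Matrix.one_apply] at this
      exact this
    simp only [h3, ite_smul, one_smul, zero_smul, Finset.sum_ite_eq', Finset.mem_univ, if_true]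
  conv_lhs => rw [expand S hS]
  rw [Finset.mul_sum, Finset.sum_mul]
  conv_rhs => rw [expand S hS]
  refine Finset.sum_congr rfl fun k _ => ?_
  rw [Matrix.mul_smul, Matrix.smul_mul, hb]

theorem conj_single (g : Matrix I4 I4 F) (a b i j : I4) :
    (g * Matrix.single a b (1 : F) * gᵀ : Matrix I4 I4 F) i j = g i a * g j b := by
  have h1 : ∀ k, (g * Matrix.single a b (1 : F)) i k = if k = b then g i a else 0 := by
    intro k
    rw [Matrix.mul_apply]
    have : ∀ x, g i x * Matrix.single a b (1 : F) x k = if x = a then (if k = b then g i a else 0) else 0 := by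
      intro x
      rw [Matrix.single_apply]
      by_cases hx : a = x
      · subst hx
        by_cases hk : b = k
        · subst hk; simp
        · simp [hk, Ne.symm hk]
      · simp [hx, Ne.symm hx]
    rw [Finset.sum_congr rfl fun x _ => this x, Finset.sum_ite_eq']
    simp
  rw [Matrix.mul_apply]
  have : ∀ k, (g * Matrix.single a b (1 : F)) i k * gᵀ k j = if k = b then g i a * g j b else 0 := by
    intro k
    rw [h1 k, Matrix.transpose_apply]
    by_cases hk : k = b <;> simp [hk]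
  rw [Finset.sum_congr rfl fun x _ => this x, Finset.sum_ite_eq']
  simp

theorem phi_eq_one_iff (g : Matrix I4 I4 F) : phi F g = 1 ↔ g = 1 ∨ g = -1 := by
  constructor
  · intro hg
    have h1 : ∀ a i j, g i a * g j a = if i = a ∧ j = a then 1 else 0 := by
      intro a i j
      have h := fix_symm g hg (Matrix.single a a 1) (by simp)
      have h2 := congrFun (congrFun h i) j
      rw [conj_single] at h2
      rw [h2, Matrix.single_apply]
      simp only [eq_comm]
    have hoff : ∀ i a, i ≠ a → g i a = 0 := by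
      intro i a hia
      have := h1 a i i
      rw [if_neg (by tauto)] at this
      exact mul_self_eq_zero.1 this
    have hdiag : ∀ a, g a a * g a a = 1 := by
      intro a
      have := h1 a a a
      simpa using this
    have hmix : ∀ a b, a ≠ b → g a a * g b b = 1 := by
      intro a b hab
      have h := fix_symm g hg (Matrix.single a b 1 + Matrix.single b a 1) (by
        rw [Matrix.transpose_add, Matrix.transpose_single, Matrix.transpose_single, add_comm])
      rw [Matrix.mul_add, Matrix.add_mul] at h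
      have h2 := congrFun (congrFun h a) b
      rw [Matrix.add_apply, conj_single, conj_single, hoff a b hab, zero_mul, add_zero, Matrix.add_apply] at h2
      rw [h2]
      simp [Matrix.single_apply, hab, Ne.symm hab]
    have hconst : ∀ a b, g a a = g b b := by
      intro a b
      by_cases hab : a = b
      · rw [hab]
      · have e1 := hmix a b hab
        have e2 := hdiag b
        have hb : g b b ≠ 0 := fun h => by rw [h] at e2; simp at e2
        exact mul_right_cancel₀ hb (e1.trans e2.symm)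
    have hpm := mul_self_eq_one_iff.1 (hdiag (.inl 0))
    rcases hpm with h | h
    · left
      ext i j
      by_cases hij : i = j
      · subst hij; rw [Matrix.one_apply_eq, hconst i (.inl 0), h]
      · rw [hoff i j hij, Matrix.one_apply_ne hij]
    · right
      ext i j
      by_cases hij : i = j
      · subst hij; rw [Matrix.neg_apply, Matrix.one_apply_eq, hconst i (.inl 0), h]
      · rw [hoff i j hij, Matrix.neg_apply, Matrix.one_apply_ne hij, neg_zero]
  · rintro (rfl | rfl)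
    · exact map_one _
    · rw [← map_one (phi F)]
      ext i j
      change coord F i (-1 * (bZ j).map (Int.castRingHom F) * (-1 : Matrix I4 I4 F)ᵀ)
        = coord F i (1 * (bZ j).map (Int.castRingHom F) * (1 : Matrix I4 I4 F)ᵀ)
      simp

theorem Phi_eq_one_iff (A : Matrix.symplecticGroup (Fin 2) F) :
    Phi F A = 1 ↔ (A : Matrix I4 I4 F) = 1 ∨ (A : Matrix I4 I4 F) = -1 := by
  rw [← phi_eq_one_iff, ← Phi_coe, Units.ext_iff, Units.val_one]

theorem central_scalar (A : Matrix I4 I4 F) (h : ∀ r : Fin chevB2.nroots, A * uM F r 1 = uM F r 1 * A) :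
    ∃ c : F, A = c • 1 := by
  have hE : ∀ (r : Fin chevB2.nroots) (i j : I4),
      ∑ k, A i k * (eZ r k j : F) = ∑ k, (eZ r i k : F) * A k j := by
    intro r i j
    have h1 := h r
    rw [uM, one_smul, mul_add, add_mul, mul_one, one_mul, add_right_inj] at h1
    have h2 := congrFun (congrFun h1 i) j
    rw [Matrix.mul_apply, Matrix.mul_apply] at h2
    exact h2
  have h4 := fun i => hE (rt 4 (by norm_num)) i (.inr 1)
  have h3 := fun i => hE (rt 3 (by norm_num)) i (.inl 1)
  have h7 := fun i => hE (rt 7 (by norm_num)) i (.inr 0)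
  have h0 := fun i => hE (rt 0 (by norm_num)) i (.inl 0)
  have h5 := hE (rt 5 (by norm_num)) (.inl 0) (.inl 1)
  simp [Fintype.sum_sum_type, Fin.sum_univ_two, eZ, rt, sZ] at h4 h3 h7 h0 h5
  refine ⟨A (.inl 0) (.inl 0), ?_⟩
  ext i j
  rw [Matrix.smul_apply, Matrix.one_apply]
  obtain ⟨⟨a1, a2⟩, a3, a4⟩ := h4
  obtain ⟨⟨b1, b2⟩, b3, b4⟩ := h3
  obtain ⟨⟨c1, c2⟩, c3, c4⟩ := h7
  obtain ⟨⟨d1, d2⟩, d3, d4⟩ := h0
  rcases i with i | i <;> rcases j with j | j <;> fin_cases i <;> fin_cases j <;>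
    simp [a1, a3, a4, b1, b2, b3, c2, c3, c4, d1, d2, d3, d4, ← h5, b4]

theorem ker_Phi : (Phi F).ker = Subgroup.center (Matrix.symplecticGroup (Fin 2) F) := by
  ext A
  rw [MonoidHom.mem_ker, Phi_eq_one_iff, Subgroup.mem_center_iff]
  constructor
  · rintro (h | h) B
    · apply Subtype.ext
      rw [Submonoid.coe_mul, Submonoid.coe_mul, h, mul_one, one_mul]
    · apply Subtype.ext
      rw [Submonoid.coe_mul, Submonoid.coe_mul, h, mul_neg, neg_mul, mul_one, one_mul]
  · intro h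
    obtain ⟨c, hc⟩ := central_scalar (A : Matrix I4 I4 F) (fun r => by
      have := congrArg (Subtype.val) (h (uS F r 1))
      exact this.symm)
    have h2 := SymplecticGroup.mem_iff.1 A.2
    rw [hc] at h2
    have h3 := congrFun (congrFun h2 (.inr 0)) (.inl 0)
    have h4 : c * c = 1 := by
      simpa [Matrix.J] using h3
    rw [hc]
    rcases mul_self_eq_one_iff.1 h4 with h5 | h5
    · left; rw [h5, one_smul]
    · right; rw [h5, neg_smul, one_smul]

/-- The Chevalley group of type B₂ over any field is PSp₄. -/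
theorem chevB2_equiv_PSp (F : Type*) [Field F] : Nonempty (↥(Cfsg.Lie.chevB2.group F) ≃* Cfsg.PSp 2 F) := by
  refine ⟨?_⟩
  refine (MulEquiv.subgroupCongr range_Phi.symm).trans ?_
  refine (QuotientGroup.quotientKerEquivRange (Phi F)).symm.trans ?_
  exact QuotientGroup.quotientMulEquivOfEq ker_Phi

end Iso

end Cfsg.Agent.ChevalleyStructure.B2Sp4
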