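import Cfsg.Prelude.Def_ChevStructure

/-!
Block-monomial matrices on the index set `Fin l ⊕ Fin n`: they map the span of the `h_i` to itself and every
`e_s` to a multiple of some `e_{s'}`. They form a subgroup of the general linear group.
-/

set_option autoImplicit false
set_option linter.unusedSectionVars false

namespace Cfsg.Agent.ChevalleyStructure.BlockMonomial

variable {α β : Type*} [Fintype α] [DecidableEq α] [Fintype β] [DecidableEq β]
variable {F : Type*} [Field F]

/-- `g` is block-monomial. -/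
def IsBM (g : Matrix (α ⊕ β) (α ⊕ β) F) : Prop :=
  (∀ u i, g (Sum.inr u) (Sum.inl i) = 0) ∧ (∀ i s, g (Sum.inl i) (Sum.inr s) = 0) ∧
    ∀ s, ∃ s', ∀ u, u ≠ s' → g (Sum.inr u) (Sum.inr s) = 0

theorem IsBM.one : IsBM (1 : Matrix (α ⊕ β) (α ⊕ β) F) := by
  refine ⟨fun u i => ?_, fun i s => ?_, fun s => ⟨s, fun u hu => ?_⟩⟩
  · exact Matrix.one_apply_ne (by simp)
  · exact Matrix.one_apply_ne (by simp)
  · exact Matrix.one_apply_ne (fun h => hu (Sum.inr_injective h))

theorem IsBM.mul {g h : Matrix (α ⊕ β) (α ⊕ β) F} (hg : IsBM g) (hh : IsBM h) : IsBM (g * h) := by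
  obtain ⟨g1, g2, g3⟩ := hg
  obtain ⟨h1, h2, h3⟩ := hh
  refine ⟨fun u i => ?_, fun i s => ?_, fun s => ?_⟩
  · rw [Matrix.mul_apply, Fintype.sum_sum_type]
    simp only [g1, h1, zero_mul, mul_zero, Finset.sum_const_zero, add_zero]
  · rw [Matrix.mul_apply, Fintype.sum_sum_type]
    simp only [g2, h2, zero_mul, mul_zero, Finset.sum_const_zero, add_zero]
  · obtain ⟨s', hs'⟩ := h3 s
    obtain ⟨s'', hs''⟩ := g3 s'
    refine ⟨s'', fun u hu => ?_⟩
    rw [Matrix.mul_apply, Fintype.sum_sum_type]
    simp only [h2, mul_zero, Finset.sum_const_zero, zero_add]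
    refine Finset.sum_eq_zero fun v _ => ?_
    by_cases hv : v = s'
    · rw [hv, hs'' u hu, zero_mul]
    · rw [hs' v hv, mul_zero]

/-- A diagonal matrix is block-monomial. -/
theorem IsBM.diagonal (d : α ⊕ β → F) : IsBM (Matrix.diagonal d) := by
  refine ⟨fun u i => ?_, fun i s => ?_, fun s => ⟨s, fun u hu => ?_⟩⟩
  · exact Matrix.diagonal_apply_ne _ (by simp)
  · exact Matrix.diagonal_apply_ne _ (by simp)
  · exact Matrix.diagonal_apply_ne _ (fun h => hu (Sum.inr_injective h))

/-- The inverse of a block-monomial matrix is block-monomial. -/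
theorem IsBM.inv {g h : Matrix (α ⊕ β) (α ⊕ β) F} (hg : IsBM g) (hgh : g * h = 1) (hhg : h * g = 1) :
    IsBM h := by
  obtain ⟨g1, g2, g3⟩ := hg
  choose f hf using g3
  -- the nonzero entry
  have hc : ∀ s, g (Sum.inr (f s)) (Sum.inr s) ≠ 0 := by
    intro s h0
    have hcol : ∀ k, g k (Sum.inr s) = 0 := by
      rintro (i | u)
      · exact g2 i s
      · by_cases hu : u = f s
        · rw [hu, h0]
        · exact hf s u hu
    have h1 : (h * g) (Sum.inr s) (Sum.inr s) = 1 := by rw [hhg]; exact Matrix.one_apply_eq _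
    rw [Matrix.mul_apply] at h1
    simp only [hcol, mul_zero, Finset.sum_const_zero] at h1
    exact zero_ne_one h1
  -- columns of the product h * g
  have hcolprod : ∀ k s, (h * g) k (Sum.inr s) = h k (Sum.inr (f s)) * g (Sum.inr (f s)) (Sum.inr s) := by
    intro k s
    rw [Matrix.mul_apply, Fintype.sum_sum_type]
    simp only [g2, mul_zero, Finset.sum_const_zero, zero_add]
    rw [Finset.sum_eq_single (f s)]
    · intro u _ hu
      rw [hf s u hu, mul_zero]
    · intro h'
      exact absurd (Finset.mem_univ _) h'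
  have hinj : Function.Injective f := by
    intro s s' hss
    by_contra hne
    have e1 := hcolprod (Sum.inr s) s
    have e2 := hcolprod (Sum.inr s) s'
    rw [hhg] at e1 e2
    rw [Matrix.one_apply_eq] at e1
    rw [Matrix.one_apply_ne (fun h' => hne (Sum.inr_injective h')), ← hss] at e2
    have : h (Sum.inr s) (Sum.inr (f s)) = 0 := by
      rcases mul_eq_zero.1 e2.symm with h' | h'
      · exact h'
      · exact absurd (by rw [hss] at h'; exact h') (hc s')
    rw [this, zero_mul] at e1
    exact one_ne_zero e1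
  have hsurj : Function.Surjective f := Finite.injective_iff_surjective.1 hinj
  -- entries of h
  have hcol : ∀ k s, k ≠ Sum.inr s → h k (Sum.inr (f s)) = 0 := by
    intro k s hk
    have e := hcolprod k s
    rw [hhg, Matrix.one_apply_ne hk] at e
    exact (mul_eq_zero.1 e.symm).resolve_right (hc s)
  refine ⟨fun u i => ?_, fun i s => ?_, fun s => ?_⟩
  · -- row `f u` of g * h
    have e : (g * h) (Sum.inr (f u)) (Sum.inl i) = g (Sum.inr (f u)) (Sum.inr u) * h (Sum.inr u) (Sum.inl i) := by
      rw [Matrix.mul_apply, Fintype.sum_sum_type]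
      simp only [g1, zero_mul, Finset.sum_const_zero, zero_add]
      rw [Finset.sum_eq_single u]
      · intro v _ hv
        rw [hf v (f u) (fun h' => hv (hinj h').symm), zero_mul]
      · intro h'
        exact absurd (Finset.mem_univ _) h'
    rw [hgh, Matrix.one_apply_ne (by simp)] at e
    exact (mul_eq_zero.1 e.symm).resolve_left (hc u)
  · obtain ⟨s0, rfl⟩ := hsurj s
    exact hcol _ _ (by simp)
  · obtain ⟨s0, rfl⟩ := hsurj s
    exact ⟨s0, fun u hu => hcol _ _ (fun h' => hu (Sum.inr_injective h'))⟩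

variable (α β F) in
/-- The group of block-monomial matrices. -/
def BM : Subgroup (GL (α ⊕ β) F) where
  carrier := {g | IsBM (g : Matrix (α ⊕ β) (α ⊕ β) F)}
  one_mem' := IsBM.one
  mul_mem' := fun {g h} hg hh => IsBM.mul hg hh
  inv_mem' := fun {g} hg => IsBM.inv hg
    (by rw [← Units.val_mul, mul_inv_cancel, Units.val_one])
    (by rw [← Units.val_mul, inv_mul_cancel, Units.val_one])

theorem mem_BM {g : GL (α ⊕ β) F} : g ∈ BM α β F ↔ IsBM (g : Matrix (α ⊕ β) (α ⊕ β) F) := Iff.rfl

/-- A block-monomial matrix with diagonal entries `1` at the `e_s` and identity block at the `h_i` is `1`. -/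
theorem IsBM.eq_one {g : Matrix (α ⊕ β) (α ⊕ β) F} (hg : IsBM g)
    (h1 : ∀ s, g (Sum.inr s) (Sum.inr s) = 1)
    (h2 : ∀ i j, g (Sum.inl i) (Sum.inl j) = if i = j then 1 else 0) : g = 1 := by
  obtain ⟨g1, g2, g3⟩ := hg
  ext (i | u) (j | s)
  · rw [h2, Matrix.one_apply]
    by_cases h : i = j
    · rw [if_pos h, if_pos (by rw [h])]
    · rw [if_neg h, if_neg (fun h' => h (Sum.inl_injective h'))]
  · rw [g2, Matrix.one_apply_ne (by simp)]
  · rw [g1, Matrix.one_apply_ne (by simp)]
  · obtain ⟨s', hs'⟩ := g3 s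
    have hss : s = s' := by
      by_contra h
      exact one_ne_zero ((h1 s).symm.trans (hs' s h))
    subst hss
    by_cases hu : u = s
    · subst hu
      rw [h1, Matrix.one_apply_eq]
    · rw [hs' u hu, Matrix.one_apply_ne (fun h' => hu (Sum.inr_injective h'))]

end Cfsg.Agent.ChevalleyStructure.BlockMonomial
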