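import Cfsg.Agent.ChevalleyStructure.SharpSign
import Cfsg.Agent.ChevalleyStructure.RootComb
import Cfsg.Agent.ChevalleyStructure.RootWord
import Cfsg.Agent.S1032
import Cfsg.Agent.S1034
import Cfsg.Agent.S1037
import Cfsg.Agent.S1045

/-!
The action of `N` on the root subgroups and the splitting `U = (U ∩ n⁻¹ U n) · U_n⁻` for `n ∈ N`, where `U_n⁻` is
generated by the root subgroups `X_r`, `r > 0`, with `n X_r n⁻¹ ≤ V`.
-/

set_option autoImplicit false

namespace Cfsg.Agent.ChevalleyStructure.BruhatSplit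

open Cfsg.Lie Cfsg.Agent.ChevalleyStructure.Elts Cfsg.Agent.ChevalleyStructure.RootCombGood
  Cfsg.Agent.ChevalleyStructure.RootWord

open scoped Pointwise

universe u

variable {D : ChevalleyDatum} {F : Type u} [Field F]

set_option maxHeartbeats 400000

/-- `g` maps every root subgroup `X_r` onto `X_{w r}`. -/
def Acts (g : GL D.Idx F) (w : List ℕ) : Prop :=
  ∀ r < D.nroots, (D.rootSubgroup F r).map (MulAut.conj g).toMonoidHom = D.rootSubgroup F (wact D w r)

theorem map_conj_mul (g g' : GL D.Idx F) (K : Subgroup (GL D.Idx F)) :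
    K.map (MulAut.conj (g * g')).toMonoidHom = (K.map (MulAut.conj g').toMonoidHom).map (MulAut.conj g).toMonoidHom := by
  rw [Subgroup.map_map]
  congr 1
  ext x
  simp [mul_assoc]

theorem map_conj_inv_map (g : GL D.Idx F) (K : Subgroup (GL D.Idx F)) :
    (K.map (MulAut.conj g).toMonoidHom).map (MulAut.conj g⁻¹).toMonoidHom = K := by
  rw [← map_conj_mul, inv_mul_cancel]
  ext x
  simp

theorem mem_map_conj {g x : GL D.Idx F} {K : Subgroup (GL D.Idx F)} :
    x ∈ K.map (MulAut.conj g).toMonoidHom ↔ g⁻¹ * x * g ∈ K := by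
  constructor
  · rintro ⟨y, hy, rfl⟩
    have : g⁻¹ * (g * y * g⁻¹) * g = y := by group
    show g⁻¹ * (g * y * g⁻¹) * g ∈ K
    rw [this]
    exact hy
  · intro h
    refine ⟨g⁻¹ * x * g, h, ?_⟩
    show g * (g⁻¹ * x * g) * g⁻¹ = x
    group

theorem map_conj_le {g : GL D.Idx F} {K L : Subgroup (GL D.Idx F)} :
    K.map (MulAut.conj g).toMonoidHom ≤ L ↔ ∀ x ∈ K, g * x * g⁻¹ ∈ L := by
  rw [Subgroup.map_le_iff_le_comap]
  rfl

theorem Acts.mul {g g' : GL D.Idx F} {w w' : List ℕ} (G : Good D) (h : Acts g w) (h' : Acts g' w')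
    (hw' : ∀ a ∈ w', a < D.rank) : Acts (g * g') (w ++ w') := by
  intro r hr
  rw [map_conj_mul, h' r hr, h _ (wact_lt G hw' hr), wact_append]

theorem Acts.inv {g : GL D.Idx F} {w : List ℕ} (G : Good D) (h : Acts g w) (hw : ∀ a ∈ w, a < D.rank) :
    Acts g⁻¹ w.reverse := by
  intro r hr
  have hw' : ∀ a ∈ w.reverse, a < D.rank := fun a ha => hw a (by simpa using ha)
  have h1 := h (wact D w.reverse r) (wact_lt G hw' hr)
  rw [wact_reverse' G hw hr] at h1
  rw [← h1, map_conj_inv_map]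

theorem acts_one : Acts (1 : GL D.Idx F) [] := by
  intro r _
  rw [wact_nil]
  ext x
  simp

theorem map_rootSubgroup_of (hD : InList D) {g : GL D.Idx F} {r s : ℕ} {η : F} (hη : η ≠ 0)
    (h : ∀ t : F, g * xG hD r t * g⁻¹ = xG hD s (η * t)) :
    (D.rootSubgroup F r).map (MulAut.conj g).toMonoidHom = D.rootSubgroup F s := by
  ext y
  rw [mem_map_conj, mem_rootSubgroup_iff hD, mem_rootSubgroup_iff hD]
  constructor
  · rintro ⟨t, ht⟩
    refine ⟨η * t, ?_⟩
    rw [← h t, ← ht]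
    group
  · rintro ⟨t, ht⟩
    refine ⟨η⁻¹ * t, ?_⟩
    have h1 := h (η⁻¹ * t)
    rw [mul_inv_cancel_left₀ hη, ← ht] at h1
    rw [← h1]
    group

theorem hG_simple_conj (hD : InList D) {i s : ℕ} (hi : i < D.rank) (hs : s < D.nroots) {c : F} (hc : c ≠ 0)
    (t : F) : hG hD (D.simple i) c * xG hD s t * (hG hD (D.simple i) c)⁻¹ = xG hD s (c ^ D.cartan i s * t) := by
  rw [mul_inv_eq_iff_eq_mul]
  apply Units.ext
  simpa only [Units.val_mul, coe_hG, coe_xG] using Cfsg.Agent.S1032.result D hD i s hi hs c hc t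

theorem acts_hG_simple (hD : InList D) {i : ℕ} (hi : i < D.rank) {c : F} (hc : c ≠ 0) :
    Acts (hG hD (D.simple i) c) [] := by
  intro s hs
  exact map_rootSubgroup_of hD (zpow_ne_zero _ hc) (hG_simple_conj hD hi hs hc)

theorem acts_word_hG (hD : InList D) (G : Good D) (c : ℕ → F) (l : List ℕ) (hl : ∀ i ∈ l, i < D.rank ∧ c i ≠ 0) :
    Acts (wordG hD (l.flatMap fun i => D.hWord (D.simple i) (c i))) [] := by
  induction l with
  | nil =>
    rw [List.flatMap_nil, wordG_nil]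
    exact acts_one
  | cons i l ih =>
    rw [List.flatMap_cons, wordG_append]
    have h1 : Acts (hG hD (D.simple i) (c i)) [] :=
      acts_hG_simple hD (hl i List.mem_cons_self).1 (hl i List.mem_cons_self).2
    have h2 := ih fun j hj => hl j (List.mem_cons_of_mem _ hj)
    have h3 := Acts.mul G h1 h2 (fun a ha => absurd ha List.not_mem_nil)
    exact h3

theorem acts_of_mem_diagonal (hD : InList D) (G : Good D) {h : GL D.Idx F} (hh : h ∈ D.diagonalSubgroup F) :
    Acts h [] := by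
  obtain ⟨c, hc, e⟩ := Cfsg.Agent.S1034.result D hD h hh
  rw [(eq_wordG_iff hD h _).2 e]
  exact acts_word_hG hD G c _ fun i hi => ⟨List.mem_range.1 hi, hc i (List.mem_range.1 hi)⟩

theorem acts_nG_simple (hD : InList D) {i : ℕ} (hi : i < D.rank) : Acts (nG hD (D.simple i) (1 : F)) [i] := by
  intro s hs
  obtain ⟨η, hη, h⟩ := MonomialNormal.xG_conj hD (SharpSign.sharp (F := F) hD) hi hs
  have hη0 : η ≠ 0 := by
    rcases hη with rfl | rfl <;> simp
  exact map_rootSubgroup_of hD hη0 fun t => (h t).1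

/-- every element of `N` acts on the root subgroups as a word in the simple reflections. -/
theorem exists_acts (hD : InList D) {g : GL D.Idx F} (hg : g ∈ D.monomialSubgroup F) :
    ∃ w : List ℕ, (∀ a ∈ w, a < D.rank) ∧ Acts g w := by
  have G : Good D := RootComb.good_of_mem hD
  let K : Subgroup (GL D.Idx F) :=
    { carrier := {g | ∃ w : List ℕ, (∀ a ∈ w, a < D.rank) ∧ Acts g w}
      mul_mem' := by
        rintro a b ⟨w, hw, h⟩ ⟨w', hw', h'⟩
        refine ⟨w ++ w', fun i hi => ?_, Acts.mul G h h' hw'⟩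
        rcases List.mem_append.1 hi with hi | hi
        · exact hw i hi
        · exact hw' i hi
      one_mem' := ⟨[], by simp, acts_one⟩
      inv_mem' := by
        rintro a ⟨w, hw, h⟩
        exact ⟨w.reverse, fun i hi => hw i (by simpa using hi), Acts.inv G h hw⟩ }
  have hle : D.monomialSubgroup F ≤ K := by
    rw [MonomialNormal.monomial_eq hD (SharpSign.sharp (F := F) hD)]
    refine sup_le (fun h hh => ⟨[], by simp, acts_of_mem_diagonal hD G hh⟩) ((Subgroup.closure_le _).2 ?_)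
    rintro g ⟨i, hi, rfl⟩
    exact ⟨[i], by simpa using hi, acts_nG_simple hD hi⟩
  exact hle hg

/-- `U_n⁻`. -/
def Um (F : Type u) [Field F] (D : ChevalleyDatum) (n : GL D.Idx F) : Subgroup (GL D.Idx F) :=
  Subgroup.closure {x : GL D.Idx F | ∃ (r : ℕ) (t : F), D.IsPosRoot r ∧
    (D.rootSubgroup F r).map (MulAut.conj n).toMonoidHom ≤ D.negUnipotent F ∧ (x : Matrix D.Idx D.Idx F) = D.x F r t}

/-- `U_i`, generated by the positive root subgroups other than `X_{p_i}`. -/
def Ui (F : Type u) [Field F] (D : ChevalleyDatum) (i : ℕ) : Subgroup (GL D.Idx F) :=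
  Subgroup.closure {g : GL D.Idx F | ∃ (s : ℕ) (t : F), D.IsPosRoot s ∧ s ≠ D.simple i ∧
    (g : Matrix D.Idx D.Idx F) = D.x F s t}

theorem rootSubgroup_le_pos (hD : InList D) {r : ℕ} (hr : D.IsPosRoot r) :
    D.rootSubgroup F r ≤ D.posUnipotent F := by
  intro x hx
  obtain ⟨t, rfl⟩ := (mem_rootSubgroup_iff hD r x).1 hx
  exact xG_mem_posUnipotent hD hr t

theorem rootSubgroup_le_neg (hD : InList D) {r : ℕ} (hr : D.IsNegRoot r) :
    D.rootSubgroup F r ≤ D.negUnipotent F := by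
  intro x hx
  obtain ⟨t, rfl⟩ := (mem_rootSubgroup_iff hD r x).1 hx
  exact xG_mem_negUnipotent hD hr t

theorem rootSubgroup_le_Um (hD : InList D) {n : GL D.Idx F} {r : ℕ} (hr : D.IsPosRoot r)
    (h : (D.rootSubgroup F r).map (MulAut.conj n).toMonoidHom ≤ D.negUnipotent F) :
    D.rootSubgroup F r ≤ Um F D n := by
  intro x hx
  obtain ⟨t, rfl⟩ := (mem_rootSubgroup_iff hD r x).1 hx
  exact Subgroup.subset_closure ⟨r, t, hr, h, coe_xG hD r t⟩

theorem Um_le (n : GL D.Idx F) : Um F D n ≤ D.posUnipotent F := by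
  refine (Subgroup.closure_le _).2 ?_
  rintro x ⟨r, t, hr, -, hx⟩
  exact Subgroup.subset_closure ⟨r, t, hr, hx⟩

theorem Um_conj_mem {n x : GL D.Idx F} (hx : x ∈ Um F D n) : n * x * n⁻¹ ∈ D.negUnipotent F := by
  have : Um F D n ≤ (D.negUnipotent F).comap (MulAut.conj n).toMonoidHom := by
    refine (Subgroup.closure_le _).2 ?_
    rintro x ⟨r, t, hr, h, hx⟩
    have h1 : x ∈ D.rootSubgroup F r := Subgroup.subset_closure ⟨t, hx⟩
    exact h (Subgroup.mem_map_of_mem _ h1)
  exact this hx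

theorem Ui_le (i : ℕ) : Ui F D i ≤ D.posUnipotent F := by
  refine (Subgroup.closure_le _).2 ?_
  rintro x ⟨r, t, hr, -, hx⟩
  exact Subgroup.subset_closure ⟨r, t, hr, hx⟩

theorem exists_Ui_mul (hD : InList D) {i : ℕ} (hi : i < D.rank) {u : GL D.Idx F} (hu : u ∈ D.posUnipotent F) :
    ∃ v ∈ Ui F D i, ∃ x ∈ D.rootSubgroup F (D.simple i), u = v * x := by
  obtain ⟨h1, h2⟩ := Cfsg.Agent.S1045.result (F := F) D hD i hi
  have hn : D.rootSubgroup F (D.simple i) ≤ Subgroup.normalizer (Ui F D i : Set (GL D.Idx F)) := le_sup_left.trans h1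
  have h3 : ((Ui F D i ⊔ D.rootSubgroup F (D.simple i) : Subgroup (GL D.Idx F)) : Set (GL D.Idx F)) =
      (Ui F D i : Set (GL D.Idx F)) * (D.rootSubgroup F (D.simple i) : Set (GL D.Idx F)) :=
    Subgroup.coe_mul_of_right_le_normalizer_left _ _ hn
  have h4 : u ∈ ((Ui F D i ⊔ D.rootSubgroup F (D.simple i) : Subgroup (GL D.Idx F)) : Set (GL D.Idx F)) := by
    have : Ui F D i ⊔ D.rootSubgroup F (D.simple i) = D.posUnipotent F := h2
    rw [this]
    exact hu
  rw [h3] at h4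
  obtain ⟨v, hv, x, hx, e⟩ := h4
  exact ⟨v, hv, x, hx, e.symm⟩

theorem nG_simple_mem_normalizer_Ui (hD : InList D) {i : ℕ} (hi : i < D.rank) :
    nG hD (D.simple i) (1 : F) ∈ Subgroup.normalizer (Ui F D i : Set (GL D.Idx F)) := by
  obtain ⟨h1, -⟩ := Cfsg.Agent.S1045.result (F := F) D hD i hi
  apply h1
  rw [nG_def]
  have e1 : xG hD (D.simple i) (1 : F) ∈ D.rootSubgroup F (D.simple i) ⊔ D.rootSubgroup F (D.neg (D.simple i)) :=
    Subgroup.mem_sup_left (xG_mem_rootSubgroup hD _ _)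
  have e2 : xG hD (D.neg (D.simple i)) (-(1 : F)⁻¹) ∈
      D.rootSubgroup F (D.simple i) ⊔ D.rootSubgroup F (D.neg (D.simple i)) :=
    Subgroup.mem_sup_right (xG_mem_rootSubgroup hD _ _)
  exact Subgroup.mul_mem _ e1 (Subgroup.mul_mem _ e2 e1)

theorem nG_conj_Ui (hD : InList D) {i : ℕ} (hi : i < D.rank) {v : GL D.Idx F} (hv : v ∈ Ui F D i) :
    nG hD (D.simple i) 1 * v * (nG hD (D.simple i) 1)⁻¹ ∈ Ui F D i :=
  (Subgroup.mem_normalizer_iff.1 (nG_simple_mem_normalizer_Ui hD hi) v).1 hv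

theorem nG_conj_Ui' (hD : InList D) {i : ℕ} (hi : i < D.rank) {v : GL D.Idx F} (hv : v ∈ Ui F D i) :
    (nG hD (D.simple i) 1)⁻¹ * v * nG hD (D.simple i) 1 ∈ Ui F D i := by
  have h := Subgroup.inv_mem _ (nG_simple_mem_normalizer_Ui (F := F) hD hi)
  have := (Subgroup.mem_normalizer_iff.1 h v).1 hv
  rwa [inv_inv] at this

/-- `U ∩ V = 1`. -/
theorem eq_one_of_pos_of_neg (hD : InList D) {x : GL D.Idx F} (h1 : x ∈ D.posUnipotent F)
    (h2 : x ∈ D.negUnipotent F) : x = 1 := by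
  have h := (Cfsg.Agent.S1037.result (F := F) D hD).1
  have h3 : x ∈ D.borelSubgroup F ⊓ D.negUnipotent F := ⟨(le_sup_left : D.posUnipotent F ≤ _) h1, h2⟩
  rw [h, Subgroup.mem_bot] at h3
  exact h3

/-- if `n` acts as `w`, `r > 0` and `n X_r n⁻¹ ≤ V` then `w r < 0`. -/
theorem neg_of_map_le (hD : InList D) (G : Good D) {n : GL D.Idx F} {w : List ℕ} (hw : ∀ a ∈ w, a < D.rank)
    (h : Acts n w) {r : ℕ} (hr : r < D.nroots)
    (hle : (D.rootSubgroup F r).map (MulAut.conj n).toMonoidHom ≤ D.negUnipotent F) :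
    D.IsNegRoot (wact D w r) := by
  rcases pos_or_neg G (wact_lt G hw hr) with hp | hn
  · exfalso
    rw [h r hr] at hle
    have h1 := xG_mem_rootSubgroup (F := F) hD (wact D w r) 1
    have h2 := eq_one_of_pos_of_neg hD (rootSubgroup_le_pos hD hp h1) (hle h1)
    rw [xG_eq_one_iff hD (wact_lt G hw hr)] at h2
    exact one_ne_zero h2
  · exact hn

/-- if `n` acts as `w` and `w r < 0` then `n X_r n⁻¹ ≤ V`. -/
theorem map_le_of_neg (hD : InList D) {n : GL D.Idx F} {w : List ℕ} (h : Acts n w) {r : ℕ} (hr : r < D.nroots)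
    (hneg : D.IsNegRoot (wact D w r)) :
    (D.rootSubgroup F r).map (MulAut.conj n).toMonoidHom ≤ D.negUnipotent F := by
  rw [h r hr]
  exact rootSubgroup_le_neg hD hneg

/-- The splitting `U = (U ∩ n⁻¹ U n) U_n⁻`, for elements acting as a word. -/
theorem split_aux (hD : InList D) (G : Good D) (w : List ℕ) (hw : ∀ a ∈ w, a < D.rank) :
    ∀ n : GL D.Idx F, Acts n w → ∀ u ∈ D.posUnipotent F, ∃ a ∈ D.posUnipotent F, ∃ c ∈ Um F D n,
      u = a * c ∧ n * a * n⁻¹ ∈ D.posUnipotent F := by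
  refine inv_induction G (P := fun w => ∀ n : GL D.Idx F, Acts n w → ∀ u ∈ D.posUnipotent F,
    ∃ a ∈ D.posUnipotent F, ∃ c ∈ Um F D n, u = a * c ∧ n * a * n⁻¹ ∈ D.posUnipotent F) ?_ ?_ w hw
  · intro w hw hpos n hn u hu
    refine ⟨u, hu, 1, Subgroup.one_mem _, (mul_one u).symm, ?_⟩
    have : D.posUnipotent F ≤ (D.posUnipotent F).comap (MulAut.conj n).toMonoidHom := by
      refine (posUnipotent_le_iff hD _).2 fun r hr t => ?_
      have h1 := Subgroup.mem_map_of_mem (MulAut.conj n).toMonoidHom (xG_mem_rootSubgroup (F := F) hD r t)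
      rw [hn r hr.1] at h1
      exact rootSubgroup_le_pos hD (hpos r hr) h1
    exact this hu
  · intro w i hw hi hneg ih n hn u hu
    set m : GL D.Idx F := nG hD (D.simple i) 1 with hm
    have hwi : ∀ a ∈ [i], a < D.rank := by simpa using hi
    have hw' : ∀ a ∈ w ++ [i], a < D.rank := by
      intro a ha
      rcases List.mem_append.1 ha with ha | ha
      · exact hw a ha
      · exact hwi a ha
    have hact : Acts (n * m) (w ++ [i]) := Acts.mul G hn (acts_nG_simple hD hi) hwi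
    obtain ⟨v, hv, x, hx, rfl⟩ := exists_Ui_mul hD hi hu
    obtain ⟨a, ha, c, hc, hac, hna⟩ := ih (n * m) hact _ (Ui_le i (nG_conj_Ui' hD hi hv))
    -- `U_{n m}⁻ ≤ U_i` and `m U_{nm}⁻ m⁻¹ ≤ U_n⁻`
    have key : ∀ r, D.IsPosRoot r → (D.rootSubgroup F r).map (MulAut.conj (n * m)).toMonoidHom ≤ D.negUnipotent F →
        r ≠ D.simple i := by
      rintro r hr hle rfl
      have h1 := neg_of_map_le hD G hw' hact hr.1 hle
      rw [wact_append, wact_cons, wact_nil, G.reflect_simple hi, wact_neg G hw hr.1,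
        isNegRoot_neg G (wact_lt G hw hr.1)] at h1
      exact not_pos_of_neg G hneg h1
    have hUmUi : Um F D (n * m) ≤ Ui F D i := by
      refine (Subgroup.closure_le _).2 ?_
      rintro y ⟨r, t, hr, hle, hy⟩
      exact Subgroup.subset_closure ⟨r, t, hr, key r hr hle, hy⟩
    have hUmUm : Um F D (n * m) ≤ (Um F D n).comap (MulAut.conj m).toMonoidHom := by
      refine (Subgroup.closure_le _).2 ?_
      rintro y ⟨r, t, hr, hle, hy⟩
      have hne := key r hr hle
      have hy' : y ∈ D.rootSubgroup F r := Subgroup.subset_closure ⟨t, hy⟩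
      have h1 := Subgroup.mem_map_of_mem (MulAut.conj m).toMonoidHom hy'
      rw [acts_nG_simple hD hi r hr.1, wact_cons, wact_nil] at h1
      refine rootSubgroup_le_Um hD (G.reflect_pos hi hr hne) ?_ h1
      have h2 := acts_nG_simple (F := F) hD hi r hr.1
      rw [wact_cons, wact_nil] at h2
      rw [← h2, ← map_conj_mul]
      exact hle
    have haUi : a ∈ Ui F D i := by
      have : a = m⁻¹ * v * m * c⁻¹ := by rw [hac, mul_inv_cancel_right]
      rw [this]
      exact Subgroup.mul_mem _ (nG_conj_Ui' hD hi hv) (Subgroup.inv_mem _ (hUmUi hc))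
    refine ⟨m * a * m⁻¹, Ui_le i (nG_conj_Ui hD hi haUi), m * c * m⁻¹ * x, ?_, ?_, ?_⟩
    · refine Subgroup.mul_mem _ (hUmUm hc) ?_
      exact rootSubgroup_le_Um hD (G.simple_pos hi) (map_le_of_neg hD hn (G.simple_lt hi) hneg) hx
    · calc v * x = m * (m⁻¹ * v * m) * m⁻¹ * x := by group
        _ = m * (a * c) * m⁻¹ * x := by rw [hac]
        _ = m * a * m⁻¹ * (m * c * m⁻¹ * x) := by group
    · have : n * (m * a * m⁻¹) * n⁻¹ = n * m * a * (n * m)⁻¹ := by group
      rw [this]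
      exact hna

/-- The splitting `U = (U ∩ n⁻¹ U n) U_n⁻` for `n ∈ N`. -/
theorem split (hD : InList D) {n : GL D.Idx F} (hn : n ∈ D.monomialSubgroup F) {u : GL D.Idx F}
    (hu : u ∈ D.posUnipotent F) : ∃ a ∈ D.posUnipotent F, ∃ c ∈ Um F D n,
      u = a * c ∧ n * a * n⁻¹ ∈ D.posUnipotent F := by
  obtain ⟨w, hw, h⟩ := exists_acts hD hn
  exact split_aux hD (RootComb.good_of_mem hD) w hw n h u hu

end Cfsg.Agent.ChevalleyStructure.BruhatSplit
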