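import Mathlib
import Cfsg.Prelude.Def_LieExceptional
import Cfsg.Agent.LieExceptional.BNPairCore

/-!
Counting in a finite group with a (B,N)-pair.

* `card_C_mul`: `|B s n B| |B| = |B s B| |B n B|` when `len n ≤ len (s n)`.
* `len_lt_of_forall`: the length goes up as soon as `s B n ⊆ B s n B`.
* `card_group`: the order formula `|G| = |B| ∑_{w ∈ W} Q w` for a weight `Q` with
  `Q (s w) = q_s Q w` when the length goes up, where `|B s B| = |B| q_s`.
-/

set_option autoImplicit false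

namespace Cfsg.Agent.ChevalleyStructure.CardBN

open Cfsg Cfsg.Agent.LieExceptional.BNPairCore

variable {G : Type*} [Group G] {P : BNPair G}

/-- The length goes up if `s B n ⊆ B s n B`. -/
theorem len_lt_of_forall {s n : G} (hs : s ∈ P.S) (hn : n ∈ P.N)
    (h : ∀ b ∈ P.B, s * b * n ∈ C P (s * n)) : len P n < len P (s * n) := by
  by_contra hcon
  obtain ⟨b, hb, h1⟩ := exists_mul_mem_C hs hn (not_lt.1 hcon)
  exact not_C_mul_left_eq hs hn (C_eq_of_mem_mem (h b hb) h1)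

theorem inv_mul_mem_B_of_eq {s n x x' y y' : G} (hs : s ∈ P.S) (hn : n ∈ P.N)
    (h : len P n ≤ len P (s * n)) (hx : x ∈ C P s) (hx' : x' ∈ C P s) (hy : y ∈ C P n)
    (hy' : y' ∈ C P n) (he : x * y = x' * y') : y' * y⁻¹ ∈ P.B := by
  have hsN := mem_N (P := P) hs
  -- `x'⁻¹ * x = y' * y⁻¹` lies in `B s⁻¹ B s B`
  have h1 : x'⁻¹ * x = y' * y⁻¹ := by
    have : x = x' * y' * y⁻¹ := by rw [← he]; group
    rw [this]; group
  obtain ⟨b₁, hb₁, b₂, hb₂, rfl⟩ := mem_C.1 hx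
  obtain ⟨c₁, hc₁, c₂, hc₂, rfl⟩ := mem_C.1 hx'
  have h2 : (c₁ * s * c₂)⁻¹ * (b₁ * s * b₂)
      = (c₂⁻¹ * (s * s)⁻¹) * (s * (c₁⁻¹ * b₁) * s) * b₂ := by group
  rcases axiom_left (P := P) hs hsN (mul_mem (inv_mem hc₁) hb₁) with h3 | h3
  · rw [← h1, h2]
    exact mul_mem (mul_mem (mul_mem (inv_mem hc₂) (inv_sq_mem hs))
      (mem_B_of_mem_C (P.sq_mem s hs) h3)) hb₂
  · exfalso
    have h4 : y' * y⁻¹ ∈ C P s := by
      rw [← h1, h2]
      exact mul_mem_C_right hb₂ (mul_mem_C_left (mul_mem (inv_mem hc₂) (inv_sq_mem hs)) h3)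
    obtain ⟨a₁, ha₁, a₂, ha₂, h5⟩ := mem_C.1 h4
    obtain ⟨d₁, hd₁, d₂, hd₂, h6⟩ := mem_C.1 hy
    have h7 : y' = a₁ * (s * (a₂ * d₁) * n) * d₂ := by
      have : y' = a₁ * s * a₂ * y := by rw [← h5]; group
      rw [this, h6]; group
    have h8 : y' ∈ C P (s * n) := by
      rw [h7]
      exact mul_mem_C_right hd₂ (mul_mem_C_left ha₁ (mul_mem_C_of_le hs hn (mul_mem ha₂ hd₁) h))
    exact not_C_mul_left_eq hs hn (C_eq_of_mem_mem h8 hy')

theorem mul_mem_C {s n x y : G} (hs : s ∈ P.S) (hn : n ∈ P.N) (h : len P n ≤ len P (s * n))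
    (hx : x ∈ C P s) (hy : y ∈ C P n) : x * y ∈ C P (s * n) := by
  obtain ⟨b₁, hb₁, b₂, hb₂, rfl⟩ := mem_C.1 hx
  obtain ⟨c₁, hc₁, c₂, hc₂, rfl⟩ := mem_C.1 hy
  have : b₁ * s * b₂ * (c₁ * n * c₂) = b₁ * (s * (b₂ * c₁) * n) * c₂ := by group
  rw [this]
  exact mul_mem_C_right hc₂ (mul_mem_C_left hb₁ (mul_mem_C_of_le hs hn (mul_mem hb₂ hc₁) h))

theorem exists_mul_eq {s n g : G} (hg : g ∈ C P (s * n)) :
    ∃ x ∈ C P s, ∃ y ∈ C P n, g = x * y := by
  obtain ⟨b₁, hb₁, b₂, hb₂, rfl⟩ := mem_C.1 hg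
  refine ⟨b₁ * s, mem_C.2 ⟨b₁, hb₁, 1, one_mem _, by group⟩, n * b₂,
    mem_C.2 ⟨1, one_mem _, b₂, hb₂, by group⟩, by group⟩

/-- `|B s n B| |B| = |B s B| |B n B|` when the length goes up. -/
theorem card_C_mul {s n : G} (hs : s ∈ P.S) (hn : n ∈ P.N) (h : len P n ≤ len P (s * n)) :
    Nat.card (C P (s * n)) * Nat.card P.B = Nat.card (C P s) * Nat.card (C P n) := by
  classical
  rw [← Nat.card_prod, ← Nat.card_prod]
  choose! X hX Y hY hXY using fun (g : G) (hg : g ∈ C P (s * n)) => exists_mul_eq hg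
  refine Nat.card_congr (Equiv.ofBijective
    (fun p : C P (s * n) × P.B => ((⟨X p.1 * (p.2 : G), mul_mem_C_right p.2.2 (hX _ p.1.2)⟩,
      ⟨(p.2 : G)⁻¹ * Y p.1, mul_mem_C_left (inv_mem p.2.2) (hY _ p.1.2)⟩) : C P s × C P n)) ⟨?_, ?_⟩)
  · rintro ⟨⟨g, hg⟩, ⟨b, hb⟩⟩ ⟨⟨g', hg'⟩, ⟨b', hb'⟩⟩ he
    simp only [Prod.mk.injEq, Subtype.mk.injEq] at he
    obtain ⟨h1, h2⟩ := he
    have h3 : g = g' := by
      rw [hXY g hg, hXY g' hg']
      calc X g * Y g = (X g * b) * (b⁻¹ * Y g) := by group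
        _ = (X g' * b') * (b'⁻¹ * Y g') := by rw [h1, h2]
        _ = _ := by group
    subst h3
    have h4 : b = b' := mul_left_cancel h1
    subst h4
    rfl
  · rintro ⟨⟨x, hx⟩, ⟨y, hy⟩⟩
    have hg : x * y ∈ C P (s * n) := mul_mem_C hs hn h hx hy
    have h1 := inv_mul_mem_B_of_eq hs hn h (hX _ hg) hx (hY _ hg) hy (hXY _ hg).symm
    refine ⟨(⟨x * y, hg⟩, ⟨Y (x * y) * y⁻¹, ?_⟩), ?_⟩
    · have := inv_mem h1
      simpa using this
    · have h2 := hXY _ hg
      simp only [Prod.mk.injEq, Subtype.mk.injEq]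
      constructor
      · calc X (x * y) * (Y (x * y) * y⁻¹) = (X (x * y) * Y (x * y)) * y⁻¹ := by group
          _ = x * y * y⁻¹ := by rw [← h2]
          _ = x := by group
      · group

/-- The cardinal of `B n B` for `n ∈ N`, from a weight. -/
theorem card_C_eq [Finite G] {W : Type*} [Group W] (π : P.N →* W)
    (hker : ∀ n : P.N, (n : G) ∈ P.B → π n = 1) (Q : W → ℕ) (hQ1 : Q 1 = 1) (par : G → ℕ)
    (hpar : ∀ s ∈ P.S, Nat.card (C P s) = Nat.card P.B * par s)
    (hQ : ∀ (s : P.N) (n : P.N), (s : G) ∈ P.S → len P (n : G) < len P ((s : G) * n) →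
      Q (π (s * n)) = par s * Q (π n)) (n : P.N) :
    Nat.card (C P (n : G)) = Nat.card P.B * Q (π n) := by
  have hBpos : 0 < Nat.card P.B := Nat.card_pos
  have key : ∀ (k : ℕ) (n : P.N), len P (n : G) = k →
      Nat.card (C P (n : G)) = Nat.card P.B * Q (π n) := by
    intro k
    induction k with
    | zero =>
      intro n hk
      rw [len_eq_zero_iff n.2] at hk
      have h1 : C P (n : G) = (P.B : Set G) := by
        ext g
        constructor
        · exact fun hg => mem_B_of_mem_C hk hg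
        · intro hg
          exact mem_C.2 ⟨g * (n : G)⁻¹, mul_mem hg (inv_mem hk), 1, one_mem _, by group⟩
      rw [h1, hker n hk, hQ1, mul_one]
      rfl
    | succ k ih =>
      intro n hk
      obtain ⟨l, hl, hlS, hl'⟩ := exists_reduced (P := P) n.2
      rw [hk] at hl
      match l, hl, hlS, hl' with
      | s :: l₂, hl, hlS, hl' =>
        have hs : s ∈ P.S := hlS s (by simp)
        have hl₂S : ∀ x ∈ l₂, x ∈ P.S := fun x hx => hlS x (by simp [hx])
        have hmN : l₂.prod ∈ P.N := prod_mem_N hl₂S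
        rw [List.prod_cons] at hl'
        have hlen : l₂.length = k := by simpa using hl
        have hmk : len P l₂.prod = k := by
          have h1 : len P l₂.prod ≤ k := hlen ▸ len_prod_le hl₂S
          have h2 : len P (s * l₂.prod) ≤ len P l₂.prod + 1 := len_mul_left_le hs hmN
          rw [len_congr hl', hk] at h2
          omega
        have hlt : len P l₂.prod < len P (s * l₂.prod) := by
          rw [len_congr hl', hk, hmk]
          exact Nat.lt_succ_self k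
        have h3 := card_C_mul hs hmN hlt.le
        have h4 := ih ⟨l₂.prod, hmN⟩ hmk
        have h5 := hQ ⟨s, mem_N hs⟩ ⟨l₂.prod, hmN⟩ hs hlt
        have h6 : π n = π (⟨s, mem_N hs⟩ * ⟨l₂.prod, hmN⟩) := by
          have h7 := hker ((⟨s, mem_N hs⟩ * ⟨l₂.prod, hmN⟩ : P.N)⁻¹ * n) hl'
          rw [map_mul, map_inv, inv_mul_eq_one] at h7
          exact h7.symm
        have h8 : C P (n : G) = C P (s * l₂.prod) := (C_eq_of_rel hl').symm
        rw [h8, h6, h5]
        have h9 : Nat.card (C P (s * l₂.prod)) * Nat.card P.B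
            = (Nat.card P.B * (par s * Q (π ⟨l₂.prod, hmN⟩))) * Nat.card P.B := by
          rw [h3, hpar s hs, h4]
          ring
        exact Nat.eq_of_mul_eq_mul_right hBpos h9
  exact key _ n rfl

/-- The order formula of a finite group with a (B,N)-pair. -/
theorem card_group [Finite G] {W : Type*} [Group W] [Fintype W] (π : P.N →* W)
    (hsurj : Function.Surjective π) (hker : ∀ n : P.N, π n = 1 ↔ (n : G) ∈ P.B)
    (Q : W → ℕ) (hQ1 : Q 1 = 1) (par : G → ℕ)
    (hpar : ∀ s ∈ P.S, Nat.card (C P s) = Nat.card P.B * par s)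
    (hQ : ∀ (s : P.N) (n : P.N), (s : G) ∈ P.S → len P (n : G) < len P ((s : G) * n) →
      Q (π (s * n)) = par s * Q (π n)) :
    Nat.card G = Nat.card P.B * ∑ w : W, Q w := by
  classical
  choose sec hsec using hsurj
  have hcongr : ∀ (n n' : P.N), π n = π n' ↔ (n : G)⁻¹ * n' ∈ P.B := by
    intro n n'
    have h1 := hker (n⁻¹ * n')
    rw [map_mul, map_inv, inv_mul_eq_one] at h1
    exact h1
  let f : (Σ w : W, C P (sec w : G)) → G := fun p => (p.2 : G)
  have hf : Function.Bijective f := by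
    constructor
    · rintro ⟨w, ⟨g, hg⟩⟩ ⟨w', ⟨g', hg'⟩⟩ he
      change g = g' at he
      subst he
      have h1 : (sec w : G)⁻¹ * (sec w' : G) ∈ P.B :=
        rel_of_C_eq (sec w).2 (sec w').2 (C_eq_of_mem_mem hg hg')
      have h2 := (hcongr _ _).2 h1
      rw [hsec, hsec] at h2
      subst h2
      rfl
    · intro g
      obtain ⟨n, hn, hg⟩ := bruhat (P := P) g
      refine ⟨⟨π ⟨n, hn⟩, ⟨g, ?_⟩⟩, rfl⟩
      have h1 : ((⟨n, hn⟩ : P.N) : G)⁻¹ * (sec (π ⟨n, hn⟩) : G) ∈ P.B :=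
        (hcongr _ _).1 (hsec _).symm
      rw [← C_eq_of_rel h1]
      exact hg
  rw [← Nat.card_congr (Equiv.ofBijective f hf), Nat.card_sigma, Finset.mul_sum]
  refine Finset.sum_congr rfl fun w _ => ?_
  rw [card_C_eq π (fun n hn => (hker n).2 hn) Q hQ1 par hpar hQ (sec w), hsec]

end Cfsg.Agent.ChevalleyStructure.CardBN
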