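import Mathlib
import Cfsg.Prelude.Def_ChevStructure
import Cfsg.Prelude.Def_LieTypes
import Cfsg.Prelude.Def_ChevB2

/-!
The Weyl group of a Chevalley datum as a group of permutations of the root indices, the number of
positive roots sent to negative roots, and how it changes under left multiplication by a simple
reflection.
-/

set_option autoImplicit false

namespace Cfsg.Agent.ChevalleyStructure.CardComb

open Cfsg Cfsg.Lie

/-- The Weyl group: the permutations of the root indices generated by the simple reflections. -/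
def weyl (D : ChevalleyDatum) : Subgroup (Equiv.Perm (Fin D.nroots)) :=
  Subgroup.closure {σ | ∃ i < D.rank, ∀ r : Fin D.nroots, ((σ r : Fin D.nroots) : ℕ) = D.reflectRoot i r}

/-- The number of positive roots sent to negative roots. -/
def inv (D : ChevalleyDatum) (σ : Equiv.Perm (Fin D.nroots)) : ℕ :=
  (Finset.univ.filter fun r : Fin D.nroots => D.IsPosRoot r ∧ D.IsNegRoot (σ r : ℕ)).card

/-- The facts on the tables of a datum that are used in counting the elements of its group. -/
structure Comb (D : ChevalleyDatum) : Prop where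
  neg_lt : ∀ r < D.nroots, D.neg r < D.nroots
  neg_neg : ∀ r < D.nroots, D.neg (D.neg r) = r
  pos_or : ∀ r < D.nroots, D.IsPosRoot r ∨ D.IsNegRoot r
  not_both : ∀ r < D.nroots, ¬ (D.IsPosRoot r ∧ D.IsNegRoot r)
  neg_of_pos : ∀ r < D.nroots, D.IsPosRoot r → D.IsNegRoot (D.neg r)
  pos_of_neg : ∀ r < D.nroots, D.IsNegRoot r → D.IsPosRoot (D.neg r)
  simple_pos : ∀ i < D.rank, D.IsPosRoot (D.simple i)
  refl_lt : ∀ i < D.rank, ∀ r < D.nroots, D.reflectRoot i r < D.nroots
  refl_refl : ∀ i < D.rank, ∀ r < D.nroots, D.reflectRoot i (D.reflectRoot i r) = r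
  refl_pos : ∀ i < D.rank, ∀ r < D.nroots, D.IsPosRoot r → r ≠ D.simple i → D.IsPosRoot (D.reflectRoot i r)
  refl_neg : ∀ i < D.rank, ∀ r < D.nroots, D.reflectRoot i (D.neg r) = D.neg (D.reflectRoot i r)
  coprime : ∀ r < D.nroots, ((List.range D.rank).map fun i => ((D.coroot.getD r #[]).getD i 0).natAbs).foldr Nat.gcd 0 = 1

namespace Comb

variable {D : ChevalleyDatum} (hc : Comb D)
include hc

theorem simple_lt {i : ℕ} (hi : i < D.rank) : D.simple i < D.nroots := (hc.simple_pos i hi).1

theorem neg_iff {r : ℕ} (hr : r < D.nroots) : D.IsNegRoot r ↔ ¬ D.IsPosRoot r := by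
  constructor
  · intro h h'
    exact hc.not_both r hr ⟨h', h⟩
  · intro h
    exact (hc.pos_or r hr).resolve_left h

theorem pos_neg_iff {r : ℕ} (hr : r < D.nroots) : D.IsPosRoot (D.neg r) ↔ D.IsNegRoot r := by
  constructor
  · intro h
    have := hc.neg_of_pos _ (hc.neg_lt r hr) h
    rwa [hc.neg_neg r hr] at this
  · exact hc.pos_of_neg r hr

theorem neg_neg_iff {r : ℕ} (hr : r < D.nroots) : D.IsNegRoot (D.neg r) ↔ D.IsPosRoot r := by
  constructor
  · intro h
    have := hc.pos_of_neg _ (hc.neg_lt r hr) h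
    rwa [hc.neg_neg r hr] at this
  · exact hc.neg_of_pos r hr

theorem neg_ne {r : ℕ} (hr : r < D.nroots) : D.neg r ≠ r := by
  intro h
  rcases hc.pos_or r hr with h1 | h1
  · have := (hc.neg_neg_iff hr).2 h1
    rw [h] at this
    exact hc.not_both r hr ⟨h1, this⟩
  · have := (hc.pos_neg_iff hr).2 h1
    rw [h] at this
    exact hc.not_both r hr ⟨this, h1⟩

/-- The `i`-th simple reflection as a permutation. -/
def refl {i : ℕ} (hi : i < D.rank) : Equiv.Perm (Fin D.nroots) where
  toFun r := ⟨D.reflectRoot i r, hc.refl_lt i hi r r.2⟩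
  invFun r := ⟨D.reflectRoot i r, hc.refl_lt i hi r r.2⟩
  left_inv r := Fin.ext (hc.refl_refl i hi r r.2)
  right_inv r := Fin.ext (hc.refl_refl i hi r r.2)

theorem coe_refl {i : ℕ} (hi : i < D.rank) (r : Fin D.nroots) :
    ((hc.refl hi r : Fin D.nroots) : ℕ) = D.reflectRoot i r := rfl

theorem refl_mem {i : ℕ} (hi : i < D.rank) : hc.refl hi ∈ weyl D :=
  Subgroup.subset_closure ⟨i, hi, fun _ => rfl⟩

/-- Negation as a permutation. -/
def negPerm : Equiv.Perm (Fin D.nroots) where
  toFun r := ⟨D.neg r, hc.neg_lt r r.2⟩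
  invFun r := ⟨D.neg r, hc.neg_lt r r.2⟩
  left_inv r := Fin.ext (hc.neg_neg r r.2)
  right_inv r := Fin.ext (hc.neg_neg r r.2)

omit hc in
theorem refl_simple (i : ℕ) : D.reflectRoot i (D.simple i) = D.neg (D.simple i) := by
  show (if D.simple i = D.simple i then D.neg (D.simple i) else _) = _
  rw [if_pos rfl]

theorem weyl_neg {w : Equiv.Perm (Fin D.nroots)} (hw : w ∈ weyl D) (r : Fin D.nroots) :
    w (hc.negPerm r) = hc.negPerm (w r) := by
  have key : weyl D ≤ Subgroup.centralizer {hc.negPerm} := by
    refine (Subgroup.closure_le _).2 ?_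
    rintro σ ⟨i, hi, hσ⟩
    rw [SetLike.mem_coe, Subgroup.mem_centralizer_singleton_iff]
    ext r
    show ((σ (hc.negPerm r) : Fin D.nroots) : ℕ) = D.neg (σ r)
    rw [hσ, hσ]
    exact hc.refl_neg i hi r r.2
  have h := Subgroup.mem_centralizer_singleton_iff.1 (key hw)
  exact congrArg (fun f : Equiv.Perm (Fin D.nroots) => f r) h

/-- If `w⁻¹ p_i` is positive, then `s_i w` makes one more positive root negative than `w`. -/
theorem inv_refl_mul {i : ℕ} (hi : i < D.rank) {w : Equiv.Perm (Fin D.nroots)} (hw : w ∈ weyl D)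
    (hpos : D.IsPosRoot (w⁻¹ ⟨D.simple i, hc.simple_lt hi⟩ : Fin D.nroots)) :
    inv D (hc.refl hi * w) = inv D w + 1 := by
  classical
  set a : Fin D.nroots := w⁻¹ ⟨D.simple i, hc.simple_lt hi⟩ with ha
  have hwa : w a = ⟨D.simple i, hc.simple_lt hi⟩ := by
    rw [ha]
    exact Equiv.apply_symm_apply w _
  unfold inv
  have hset : (Finset.univ.filter fun r : Fin D.nroots => D.IsPosRoot r ∧
      D.IsNegRoot ((hc.refl hi * w) r : Fin D.nroots)) =
      insert a (Finset.univ.filter fun r : Fin D.nroots => D.IsPosRoot r ∧ D.IsNegRoot (w r : Fin D.nroots)) := by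
    ext r
    simp only [Finset.mem_filter, Finset.mem_univ, true_and, Finset.mem_insert]
    constructor
    · rintro ⟨h1, h2⟩
      by_cases hra : r = a
      · exact Or.inl hra
      · right
        refine ⟨h1, ?_⟩
        by_contra h3
        have h4 : D.IsPosRoot (w r : Fin D.nroots) := by
          rw [hc.neg_iff (w r).2, not_not] at h3
          exact h3
        have h5 : ((w r : Fin D.nroots) : ℕ) ≠ D.simple i := by
          intro h
          apply hra
          apply w.injective
          rw [hwa]
          exact Fin.ext h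
        have h6 := hc.refl_pos i hi _ (w r).2 h4 h5
        exact hc.not_both _ (hc.refl_lt i hi _ (w r).2) ⟨h6, h2⟩
    · rintro (rfl | ⟨h1, h2⟩)
      · refine ⟨hpos, ?_⟩
        show D.IsNegRoot (D.reflectRoot i (w a : Fin D.nroots))
        rw [hwa]
        show D.IsNegRoot (D.reflectRoot i (D.simple i))
        rw [Comb.refl_simple]
        exact hc.neg_of_pos _ (hc.simple_lt hi) (hc.simple_pos i hi)
      · refine ⟨h1, ?_⟩
        show D.IsNegRoot (D.reflectRoot i (w r : Fin D.nroots))
        -- `w r = neg t` with `t` positive, `t ≠ p_i`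
        have ht : D.IsPosRoot (D.neg (w r : Fin D.nroots)) := (hc.pos_neg_iff (w r).2).2 h2
        have hne : D.neg (w r : Fin D.nroots) ≠ D.simple i := by
          intro h
          have h3 : hc.negPerm (w r) = w a := by
            rw [hwa]
            exact Fin.ext h
          rw [← hc.weyl_neg hw] at h3
          have h4 : hc.negPerm r = a := w.injective h3
          have h5 : D.IsPosRoot (D.neg r) := by
            have : ((hc.negPerm r : Fin D.nroots) : ℕ) = (a : ℕ) := by rw [h4]
            change D.neg r = (a : ℕ) at this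
            rw [this]
            exact hpos
          exact hc.not_both r r.2 ⟨h1, (hc.pos_neg_iff r.2).1 h5⟩
        have h6 := hc.refl_pos i hi _ (hc.neg_lt _ (w r).2) ht hne
        rw [hc.refl_neg i hi _ (w r).2, hc.pos_neg_iff (hc.refl_lt i hi _ (w r).2)] at h6
        exact h6
  rw [hset, Finset.card_insert_of_notMem]
  simp only [Finset.mem_filter, Finset.mem_univ, true_and, not_and]
  intro _ h
  rw [hwa] at h
  exact hc.not_both _ (hc.simple_lt hi) ⟨hc.simple_pos i hi, h⟩

theorem inv_one : inv D 1 = 0 := by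
  unfold inv
  rw [Finset.card_eq_zero, Finset.filter_eq_empty_iff]
  intro r _ h
  exact hc.not_both r r.2 h

end Comb

/-- Boolean check of `Comb`. -/
def check (D : ChevalleyDatum) : Bool :=
  (List.range D.nroots).all (fun r =>
    decide (D.neg r < D.nroots) && (decide (D.neg (D.neg r) = r) && (decide (D.IsPosRoot r ∨ D.IsNegRoot r) &&
    (decide (¬ (D.IsPosRoot r ∧ D.IsNegRoot r)) && (decide (D.IsPosRoot r → D.IsNegRoot (D.neg r)) &&
    (decide (D.IsNegRoot r → D.IsPosRoot (D.neg r)) &&
    decide (((List.range D.rank).map fun i => ((D.coroot.getD r #[]).getD i 0).natAbs).foldr Nat.gcd 0 = 1))))))) &&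
  (List.range D.rank).all (fun i => decide (D.IsPosRoot (D.simple i)) &&
    (List.range D.nroots).all (fun r =>
      decide (D.reflectRoot i r < D.nroots) && (decide (D.reflectRoot i (D.reflectRoot i r) = r) &&
      (decide (D.IsPosRoot r → r ≠ D.simple i → D.IsPosRoot (D.reflectRoot i r)) &&
      decide (D.reflectRoot i (D.neg r) = D.neg (D.reflectRoot i r))))))

theorem comb_of_check {D : ChevalleyDatum} (h : check D = true) : Comb D := by
  unfold check at h
  simp only [Bool.and_eq_true, List.all_eq_true, List.mem_range, decide_eq_true_eq] at h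
  obtain ⟨h1, h2⟩ := h
  exact
    { neg_lt := fun r hr => (h1 r hr).1
      neg_neg := fun r hr => (h1 r hr).2.1
      pos_or := fun r hr => (h1 r hr).2.2.1
      not_both := fun r hr => (h1 r hr).2.2.2.1
      neg_of_pos := fun r hr => (h1 r hr).2.2.2.2.1
      pos_of_neg := fun r hr => (h1 r hr).2.2.2.2.2.1
      coprime := fun r hr => (h1 r hr).2.2.2.2.2.2
      simple_pos := fun i hi => (h2 i hi).1
      refl_lt := fun i hi r hr => ((h2 i hi).2 r hr).1
      refl_refl := fun i hi r hr => ((h2 i hi).2 r hr).2.1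
      refl_pos := fun i hi r hr => ((h2 i hi).2 r hr).2.2.1
      refl_neg := fun i hi r hr => ((h2 i hi).2 r hr).2.2.2 }

theorem comb_G2 : Comb chevG2 := comb_of_check (by decide +kernel)
theorem comb_B2 : Comb chevB2 := comb_of_check (by decide +kernel)
theorem comb_D4 : Comb chevD4 := comb_of_check (by decide +kernel)
theorem comb_F4 : Comb chevF4 := comb_of_check (by decide +kernel)

end Cfsg.Agent.ChevalleyStructure.CardComb
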