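import Cfsg.Agent.ChevalleyStructure.CardBN
import Cfsg.Agent.ChevalleyStructure.CardComb
import Cfsg.Agent.ChevalleyStructure.Elts
import Cfsg.Agent.S1027
import Cfsg.Agent.S1031
import Cfsg.Agent.S1032
import Cfsg.Agent.S1034
import Cfsg.Agent.S1035
import Cfsg.Agent.S1036
import Cfsg.Agent.S1037
import Cfsg.Agent.S1040
import Cfsg.Agent.S1042
import Cfsg.Agent.S1045

/-!
The order of a Chevalley group over a finite field as a sum over its Weyl group:
`|G| = |B| ∑_{w} q^{inv w}`.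
-/

set_option autoImplicit false

namespace Cfsg.Agent.ChevalleyStructure.CardBruhat

open scoped Pointwise
open Cfsg Cfsg.Lie Cfsg.Agent.ChevalleyStructure.Elts Cfsg.Agent.ChevalleyStructure.CardComb
  Cfsg.Agent.ChevalleyStructure.CardBN Cfsg.Agent.LieExceptional.BNPairCore

universe u

variable {F : Type u} [Field F] {D : ChevalleyDatum}

/-! ### Root subgroups of different roots are different -/

theorem x_entry_self (hc : Comb D) {r : ℕ} (hr : r < D.nroots) (i : Fin D.rank) (t : F) :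
    D.x F r t (Sum.inl i) (Sum.inr ⟨D.neg r, hc.neg_lt r hr⟩) =
      (((D.coroot.getD r #[]).getD i.val 0 : ℤ) : F) * t := by
  rw [x_of_lt hr]
  have h1 : (⟨D.neg r, hc.neg_lt r hr⟩ : Fin D.nroots) ≠ ⟨r, hr⟩ := by
    intro h
    exact hc.neg_ne hr (congrArg Fin.val h)
  show (if (⟨D.neg r, hc.neg_lt r hr⟩ : Fin D.nroots) = ⟨r, hr⟩ then _
    else if D.neg r = D.negIdx.getD r 0 then _ else _) = _
  rw [if_neg h1, if_pos (show D.neg r = D.negIdx.getD r 0 from rfl)]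

theorem x_entry_of_ne (hc : Comb D) {r s : ℕ} (hr : r < D.nroots) (hs : s < D.nroots) (hne : s ≠ r)
    (i : Fin D.rank) (t : F) :
    D.x F s t (Sum.inl i) (Sum.inr ⟨D.neg r, hc.neg_lt r hr⟩) = 0 := by
  rw [x_of_lt hs]
  show (if (⟨D.neg r, hc.neg_lt r hr⟩ : Fin D.nroots) = ⟨s, hs⟩ then (0 : F)
    else if D.neg r = D.neg s then _ else (0 : F)) = 0
  split_ifs with h1 h2
  · rfl
  · exfalso
    apply hne
    rw [← hc.neg_neg s hs, ← h2, hc.neg_neg r hr]
  · rfl

theorem foldr_gcd_dvd {p : ℕ} (l : List ℕ) (h : ∀ x ∈ l, p ∣ x) : p ∣ l.foldr Nat.gcd 0 := by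
  induction l with
  | nil => exact dvd_zero p
  | cons a l ih =>
    rw [List.foldr_cons]
    exact Nat.dvd_gcd (h a (by simp)) (ih fun x hx => h x (by simp [hx]))

theorem exists_coroot_ne_zero (F : Type u) [Field F] (hc : Comb D) {r : ℕ} (hr : r < D.nroots) :
    ∃ i : Fin D.rank, (((D.coroot.getD r #[]).getD i.val 0 : ℤ) : F) ≠ 0 := by
  by_contra hcon
  push Not at hcon
  obtain ⟨p, hp⟩ := CharP.exists F
  have h1 := hc.coprime r hr
  have h2 : p ∣ ((List.range D.rank).map fun i => ((D.coroot.getD r #[]).getD i 0).natAbs).foldr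
      Nat.gcd 0 := by
    apply foldr_gcd_dvd
    intro x hx
    obtain ⟨i, hi, rfl⟩ := List.mem_map.1 hx
    have h3 := hcon ⟨i, List.mem_range.1 hi⟩
    rw [CharP.intCast_eq_zero_iff F p] at h3
    exact Int.natCast_dvd.1 h3
  rw [h1, Nat.dvd_one] at h2
  subst h2
  exact CharP.char_ne_one F 1 rfl

theorem rootSubgroup_injective (hD : InList D) (F : Type u) [Field F] (hc : Comb D) {r s : ℕ}
    (hr : r < D.nroots) (hs : s < D.nroots) (h : D.rootSubgroup F r = D.rootSubgroup F s) : r = s := by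
  by_contra hne
  have h1 : xG hD r (1 : F) ∈ D.rootSubgroup F s := h ▸ xG_mem_rootSubgroup hD r 1
  obtain ⟨t, ht⟩ := (mem_rootSubgroup_iff hD s _).1 h1
  obtain ⟨i, hi⟩ := exists_coroot_ne_zero F hc hr
  apply hi
  have h2 : D.x F r (1 : F) = D.x F s t := congrArg Units.val ht
  have h3 := x_entry_self (F := F) hc hr i 1
  rw [h2, x_entry_of_ne hc hr hs (Ne.symm hne)] at h3
  rw [mul_one] at h3
  exact h3.symm

/-! ### The action of `N` on the root subgroups -/

/-- `n X_r n⁻¹ = X_{σ r}` for all roots. -/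
def Acts (n : GL D.Idx F) (σ : Equiv.Perm (Fin D.nroots)) : Prop :=
  ∀ r : Fin D.nroots, (D.rootSubgroup F (r : ℕ)).map (MulAut.conj n).toMonoidHom =
    D.rootSubgroup F ((σ r : Fin D.nroots) : ℕ)

theorem acts_one : Acts (1 : GL D.Idx F) (1 : Equiv.Perm (Fin D.nroots)) := by
  intro r
  rw [map_one]
  exact Subgroup.map_id _

theorem Acts.mul {n m : GL D.Idx F} {σ τ : Equiv.Perm (Fin D.nroots)} (h : Acts n σ) (h' : Acts m τ) :
    Acts (n * m) (σ * τ) := by
  intro r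
  have h1 : (MulAut.conj (n * m)).toMonoidHom
      = (MulAut.conj n).toMonoidHom.comp (MulAut.conj m).toMonoidHom := by
    rw [map_mul]; rfl
  rw [h1, ← Subgroup.map_map, h' r, h (τ r)]
  rfl

theorem Acts.inv {n : GL D.Idx F} {σ : Equiv.Perm (Fin D.nroots)} (h : Acts n σ) :
    Acts n⁻¹ σ⁻¹ := by
  intro r
  have h1 := h (σ⁻¹ r)
  have h2 : σ (σ⁻¹ r) = r := Equiv.apply_symm_apply σ r
  rw [h2] at h1
  rw [← h1, Subgroup.map_map]
  have h3 : (MulAut.conj n⁻¹).toMonoidHom.comp (MulAut.conj n).toMonoidHom = MonoidHom.id _ := by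
    apply MonoidHom.ext
    intro x
    show n⁻¹ * (n * x * n⁻¹) * n⁻¹⁻¹ = x
    group
  rw [h3, Subgroup.map_id]

theorem Acts.unique (hD : InList D) (hc : Comb D) {n : GL D.Idx F} {σ τ : Equiv.Perm (Fin D.nroots)}
    (h : Acts n σ) (h' : Acts n τ) : σ = τ := by
  ext r
  exact rootSubgroup_injective hD F hc (σ r).2 (τ r).2 ((h r).symm.trans (h' r))

theorem Acts.conj_mem {n : GL D.Idx F} {σ : Equiv.Perm (Fin D.nroots)} (h : Acts n σ)
    (r : Fin D.nroots) {x : GL D.Idx F} (hx : x ∈ D.rootSubgroup F (r : ℕ)) :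
    n * x * n⁻¹ ∈ D.rootSubgroup F ((σ r : Fin D.nroots) : ℕ) := by
  rw [← h r]
  exact ⟨x, hx, rfl⟩

theorem Acts.conj_mem_inv {n : GL D.Idx F} {σ : Equiv.Perm (Fin D.nroots)} (h : Acts n σ)
    (r : Fin D.nroots) {x : GL D.Idx F} (hx : x ∈ D.rootSubgroup F (r : ℕ)) :
    n⁻¹ * x * n ∈ D.rootSubgroup F ((σ⁻¹ r : Fin D.nroots) : ℕ) := by
  have := h.inv.conj_mem r hx
  rwa [inv_inv] at this

theorem acts_nG (hD : InList D) (hc : Comb D) {i : ℕ} (hi : i < D.rank) :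
    Acts (nG hD (D.simple i) (1 : F)) (hc.refl hi) := by
  intro r
  obtain ⟨η, hη, h⟩ := Cfsg.Agent.S1031.result (F := F) D hD i r hi r.2
  have hη2 : (η : F) * (η : F) = 1 := by
    rcases hη with rfl | rfl <;> simp
  have h1 : ∀ t : F, MulAut.conj (nG hD (D.simple i) (1 : F)) (xG hD r t)
      = xG hD (D.reflectRoot i r) ((η : F) * t) := by
    intro t
    rw [MulAut.conj_apply, mul_inv_eq_iff_eq_mul]
    apply Units.ext
    rw [Units.val_mul, Units.val_mul, coe_nG, coe_xG, coe_xG]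
    exact h t
  apply le_antisymm
  · rintro _ ⟨x, hx, rfl⟩
    obtain ⟨t, rfl⟩ := (mem_rootSubgroup_iff hD _ _).1 hx
    show MulAut.conj (nG hD (D.simple i) (1 : F)) (xG hD r t) ∈ _
    rw [h1]
    exact xG_mem_rootSubgroup hD _ _
  · intro x hx
    obtain ⟨t, rfl⟩ := (mem_rootSubgroup_iff hD _ _).1 hx
    refine ⟨xG hD r ((η : F) * t), xG_mem_rootSubgroup hD _ _, ?_⟩
    show MulAut.conj (nG hD (D.simple i) (1 : F)) (xG hD r ((η : F) * t)) = _
    rw [h1, ← mul_assoc, hη2, one_mul]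
    rfl

theorem acts_hG (hD : InList D) {i : ℕ} (hi : i < D.rank) {c : F} (hc0 : c ≠ 0) :
    Acts (hG hD (D.simple i) c) (1 : Equiv.Perm (Fin D.nroots)) := by
  intro r
  have h := fun t => Cfsg.Agent.S1032.result (F := F) D hD i r hi r.2 c hc0 t
  have h1 : ∀ t : F, MulAut.conj (hG hD (D.simple i) c) (xG hD r t)
      = xG hD r (c ^ (D.cartan i r) * t) := by
    intro t
    rw [MulAut.conj_apply, mul_inv_eq_iff_eq_mul]
    apply Units.ext
    rw [Units.val_mul, Units.val_mul, coe_hG, coe_xG, coe_xG]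
    exact h t
  apply le_antisymm
  · rintro _ ⟨x, hx, rfl⟩
    obtain ⟨t, rfl⟩ := (mem_rootSubgroup_iff hD _ _).1 hx
    show MulAut.conj (hG hD (D.simple i) c) (xG hD r t) ∈ _
    rw [h1]
    exact xG_mem_rootSubgroup hD _ _
  · intro x hx
    obtain ⟨t, rfl⟩ := (mem_rootSubgroup_iff hD _ _).1 hx
    refine ⟨xG hD r ((c ^ (D.cartan i r))⁻¹ * t), xG_mem_rootSubgroup hD _ _, ?_⟩
    show MulAut.conj (hG hD (D.simple i) c) (xG hD r ((c ^ (D.cartan i r))⁻¹ * t)) = _
    rw [h1, ← mul_assoc, mul_inv_cancel₀ (zpow_ne_zero _ hc0), one_mul]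
    rfl

theorem acts_of_mem_diagonal (hD : InList D) {g : GL D.Idx F} (hg : g ∈ D.diagonalSubgroup F) :
    Acts g (1 : Equiv.Perm (Fin D.nroots)) := by
  obtain ⟨c, hc0, h⟩ := Cfsg.Agent.S1034.result D hD g hg
  rw [(eq_wordG_iff hD g _).2 h]
  have key : ∀ l : List ℕ, (∀ i ∈ l, i < D.rank) →
      Acts (wordG hD (l.flatMap fun i => D.hWord (D.simple i) (c i))) (1 : Equiv.Perm (Fin D.nroots)) := by
    intro l
    induction l with
    | nil => intro _; exact acts_one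
    | cons a l ih =>
      intro hl
      rw [List.flatMap_cons, wordG_append]
      have h1 := (acts_hG hD (hl a (by simp)) (hc0 a (hl a (by simp)))).mul
        (ih fun i hi => hl i (by simp [hi]))
      rw [mul_one] at h1
      exact h1
  exact key _ fun i hi => List.mem_range.1 hi

/-! ### The data -/

/-- The (B,N)-pair of S1042 with the standard subgroups. -/
structure Pair (F : Type u) [Field F] (D : ChevalleyDatum) (P : BNPair ↥(D.group F)) : Prop where
  B_eq : P.B = (D.borelSubgroup F).subgroupOf (D.group F)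
  N_eq : P.N = (D.monomialSubgroup F).subgroupOf (D.group F)
  S_eq : P.S = {n : ↥(D.group F) | ∃ i < D.rank,
    ((n : GL D.Idx F) : Matrix D.Idx D.Idx F) = D.nMat F (D.simple i) 1}

theorem exists_pair (hD : InList D) (F : Type u) [Field F] : ∃ P : BNPair ↥(D.group F), Pair F D P := by
  obtain ⟨P, h1, h2, h3⟩ := Cfsg.Agent.S1042.result (F := F) D hD
  exact ⟨P, h1, h2, h3⟩

variable {P : BNPair ↥(D.group F)}

namespace Pair

theorem mem_B (hP : Pair F D P) (g : ↥(D.group F)) : g ∈ P.B ↔ (g : GL D.Idx F) ∈ D.borelSubgroup F := by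
  rw [hP.B_eq]; exact Subgroup.mem_subgroupOf

theorem mem_N (hP : Pair F D P) (g : ↥(D.group F)) : g ∈ P.N ↔ (g : GL D.Idx F) ∈ D.monomialSubgroup F := by
  rw [hP.N_eq]; exact Subgroup.mem_subgroupOf

theorem mem_S (hD : InList D) (hP : Pair F D P) (g : ↥(D.group F)) :
    g ∈ P.S ↔ ∃ i < D.rank, (g : GL D.Idx F) = nG hD (D.simple i) 1 := by
  rw [hP.S_eq]
  constructor
  · rintro ⟨i, hi, h⟩
    exact ⟨i, hi, (eq_nG_iff hD _ _ _).2 h⟩
  · rintro ⟨i, hi, h⟩
    exact ⟨i, hi, (eq_nG_iff hD _ _ _).1 h⟩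

/-- Every element of `N` acts on the root subgroups through an element of the Weyl group. -/
theorem exists_acts (hD : InList D) (hc : Comb D) (hP : Pair F D P) (n : ↥(D.group F)) (hn : n ∈ P.N) :
    ∃ σ ∈ weyl D, Acts (n : GL D.Idx F) σ := by
  let K : Subgroup ↥(D.group F) :=
    { carrier := {n | ∃ σ ∈ weyl D, Acts (n : GL D.Idx F) σ}
      one_mem' := ⟨1, one_mem _, acts_one⟩
      mul_mem' := by
        rintro a b ⟨σ, hσ, h⟩ ⟨τ, hτ, h'⟩
        exact ⟨σ * τ, mul_mem hσ hτ, h.mul h'⟩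
      inv_mem' := by
        rintro a ⟨σ, hσ, h⟩
        exact ⟨σ⁻¹, inv_mem hσ, h.inv⟩ }
  have hK : P.N ≤ K := by
    rw [← P.closure_sup]
    refine sup_le ((Subgroup.closure_le _).2 ?_) ?_
    · intro s hs
      obtain ⟨i, hi, h⟩ := (hP.mem_S hD s).1 hs
      refine ⟨hc.refl hi, hc.refl_mem hi, ?_⟩
      rw [h]
      exact acts_nG hD hc hi
    · rintro g ⟨h1, h2⟩
      refine ⟨1, one_mem _, acts_of_mem_diagonal hD ?_⟩
      rw [← (Cfsg.Agent.S1040.result (F := F) D hD).2]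
      exact ⟨(hP.mem_B g).1 h1, (hP.mem_N g).1 h2⟩
  exact hK hn

/-- The homomorphism from `N` to the Weyl group. -/
noncomputable def piN (hD : InList D) (hc : Comb D) (hP : Pair F D P) : ↥P.N →* ↥(weyl D) where
  toFun n := ⟨(hP.exists_acts hD hc n n.2).choose, (hP.exists_acts hD hc n n.2).choose_spec.1⟩
  map_one' := by
    apply Subtype.ext
    exact (hP.exists_acts hD hc _ (1 : P.N).2).choose_spec.2.unique hD hc acts_one
  map_mul' a b := by
    apply Subtype.ext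
    exact (hP.exists_acts hD hc _ (a * b).2).choose_spec.2.unique hD hc
      ((hP.exists_acts hD hc _ a.2).choose_spec.2.mul (hP.exists_acts hD hc _ b.2).choose_spec.2)

theorem piN_acts (hD : InList D) (hc : Comb D) (hP : Pair F D P) (n : P.N) :
    Acts ((n : ↥(D.group F)) : GL D.Idx F) (hP.piN hD hc n : Equiv.Perm (Fin D.nroots)) :=
  (hP.exists_acts hD hc n n.2).choose_spec.2

theorem piN_eq (hD : InList D) (hc : Comb D) (hP : Pair F D P) (n : P.N)
    {σ : Equiv.Perm (Fin D.nroots)} (h : Acts ((n : ↥(D.group F)) : GL D.Idx F) σ) :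
    (hP.piN hD hc n : Equiv.Perm (Fin D.nroots)) = σ :=
  (hP.piN_acts hD hc n).unique hD hc h

theorem piN_surjective (hD : InList D) (hc : Comb D) (hP : Pair F D P) :
    Function.Surjective (hP.piN hD hc) := by
  have key : weyl D ≤ (hP.piN hD hc).range.map (weyl D).subtype := by
    refine (Subgroup.closure_le _).2 ?_
    rintro σ ⟨i, hi, hσ⟩
    have h1 : σ = hc.refl hi := by
      ext r
      exact hσ r
    have hs : (⟨nG hD (D.simple i) 1, nG_mem_group hD _ _⟩ : ↥(D.group F)) ∈ P.S :=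
      (hP.mem_S hD _).2 ⟨i, hi, rfl⟩
    refine ⟨hP.piN hD hc ⟨_, P.subset hs⟩, ⟨_, rfl⟩, ?_⟩
    rw [h1]
    exact hP.piN_eq hD hc _ (acts_nG hD hc hi)
  rintro ⟨w, hw⟩
  obtain ⟨_, ⟨n, rfl⟩, h⟩ := key hw
  exact ⟨n, Subtype.ext h⟩

theorem xG_mem_B (hD : InList D) {r : ℕ} (hr : D.IsPosRoot r) (t : F) :
    xG hD r t ∈ D.borelSubgroup F :=
  (le_sup_left : D.posUnipotent F ≤ D.borelSubgroup F) (xG_mem_posUnipotent hD hr t)

theorem rootSubgroup_le_pos (hD : InList D) {r : ℕ} (hr : D.IsPosRoot r) :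
    D.rootSubgroup F r ≤ D.posUnipotent F := by
  intro x hx
  obtain ⟨t, rfl⟩ := (mem_rootSubgroup_iff hD _ _).1 hx
  exact xG_mem_posUnipotent hD hr t

theorem rootSubgroup_le_neg (hD : InList D) {r : ℕ} (hr : D.IsNegRoot r) :
    D.rootSubgroup F r ≤ D.negUnipotent F := by
  intro x hx
  obtain ⟨t, rfl⟩ := (mem_rootSubgroup_iff hD _ _).1 hx
  exact xG_mem_negUnipotent hD hr t

theorem rootSubgroup_le_group (hD : InList D) (r : ℕ) : D.rootSubgroup F r ≤ D.group F := by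
  intro x hx
  obtain ⟨t, rfl⟩ := (mem_rootSubgroup_iff hD _ _).1 hx
  exact xG_mem_group hD r t

theorem piN_eq_one_iff (hD : InList D) (hc : Comb D) (hP : Pair F D P) (n : P.N) :
    hP.piN hD hc n = 1 ↔ (n : ↥(D.group F)) ∈ P.B := by
  constructor
  · intro h
    have hact := hP.piN_acts hD hc n
    rw [h] at hact
    refine mem_of_conj_mem (P := P) le_rfl n.2 fun b hb => ?_
    -- the subgroup `B` is mapped into itself
    let K : Subgroup (GL D.Idx F) :=
      (D.borelSubgroup F).comap (MulAut.conj ((n : ↥(D.group F)) : GL D.Idx F)).toMonoidHom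
    have hK : D.borelSubgroup F ≤ K := by
      refine sup_le ((posUnipotent_le_iff hD _).2 fun r hr t => ?_) ?_
      · show ((n : ↥(D.group F)) : GL D.Idx F) * xG hD r t * ((n : ↥(D.group F)) : GL D.Idx F)⁻¹ ∈
          D.borelSubgroup F
        exact (le_sup_left : D.posUnipotent F ≤ D.borelSubgroup F)
          (rootSubgroup_le_pos hD hr (hact.conj_mem ⟨r, hr.1⟩ (xG_mem_rootSubgroup hD r t)))
      · intro g hg
        have hgG := diagonal_le_group hD F hg
        have h1 : (⟨g, hgG⟩ : ↥(D.group F)) ∈ P.B :=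
          (hP.mem_B _).2 ((le_sup_right : D.diagonalSubgroup F ≤ D.borelSubgroup F) hg)
        have h2 : (⟨g, hgG⟩ : ↥(D.group F)) ∈ P.N :=
          (hP.mem_N _).2 (diagonal_le_monomial D F hg)
        exact (hP.mem_B _).1 (P.conj_mem n n.2 _ ⟨h1, h2⟩)
    exact (hP.mem_B _).2 (hK ((hP.mem_B b).1 hb))
  · intro h
    apply Subtype.ext
    refine hP.piN_eq hD hc n (acts_of_mem_diagonal hD ?_)
    rw [← (Cfsg.Agent.S1040.result (F := F) D hD).2]
    exact ⟨(hP.mem_B _).1 h, (hP.mem_N _).1 n.2⟩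

/-! ### The double cosets of the generators -/

/-- `U_p` of S1045. -/
def Up (F : Type u) [Field F] (D : ChevalleyDatum) (i : ℕ) : Subgroup (GL D.Idx F) :=
  Subgroup.closure {g : GL D.Idx F | ∃ (s : ℕ) (t : F), D.IsPosRoot s ∧ s ≠ D.simple i ∧
          (g : Matrix D.Idx D.Idx F) = D.x F s t}

theorem Up_le (D : ChevalleyDatum) (i : ℕ) : Up F D i ≤ D.posUnipotent F := by
  refine Subgroup.closure_mono ?_
  rintro g ⟨s, t, h1, _, h2⟩
  exact ⟨s, t, h1, h2⟩

/-- Every element of `B` is `h v x` with `h ∈ H`, `v ∈ U_p`, `x ∈ X_p`. -/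
theorem exists_decomp (hD : InList D) {i : ℕ} (hi : i < D.rank) {b : GL D.Idx F}
    (hb : b ∈ D.borelSubgroup F) :
    ∃ h ∈ D.diagonalSubgroup F, ∃ v ∈ Up F D i, ∃ x ∈ D.rootSubgroup F (D.simple i), b = h * v * x := by
  obtain ⟨h36, -⟩ := Cfsg.Agent.S1036.result (F := F) D hD
  obtain ⟨h45, h45'⟩ := Cfsg.Agent.S1045.result (F := F) D hD i hi
  have h1 : ((D.diagonalSubgroup F ⊔ D.posUnipotent F : Subgroup (GL D.Idx F)) : Set (GL D.Idx F))
      = (D.diagonalSubgroup F : Set (GL D.Idx F)) * (D.posUnipotent F : Set (GL D.Idx F)) :=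
    Subgroup.coe_mul_of_left_le_normalizer_right _ _ h36
  have h2 : ((Up F D i ⊔ D.rootSubgroup F (D.simple i) : Subgroup (GL D.Idx F)) : Set (GL D.Idx F))
      = (Up F D i : Set (GL D.Idx F)) * (D.rootSubgroup F (D.simple i) : Set (GL D.Idx F)) :=
    Subgroup.coe_mul_of_right_le_normalizer_left _ _ (le_sup_left.trans h45)
  have hb' : b ∈ ((D.diagonalSubgroup F ⊔ D.posUnipotent F : Subgroup (GL D.Idx F)) : Set (GL D.Idx F)) := by
    rw [sup_comm]; exact hb
  rw [h1] at hb'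
  obtain ⟨h, hh, u, hu, rfl⟩ := hb'
  have hu' : u ∈ ((Up F D i ⊔ D.rootSubgroup F (D.simple i) : Subgroup (GL D.Idx F)) : Set (GL D.Idx F)) := by
    rw [SetLike.mem_coe]
    exact (le_of_eq h45'.symm) hu
  rw [h2] at hu'
  obtain ⟨v, hv, x, hx, rfl⟩ := hu'
  exact ⟨h, hh, v, hv, x, hx, by simp only [mul_assoc]⟩

/-- `n_p` normalises `U_p`. -/
theorem nG_conj_Up (hD : InList D) {i : ℕ} (hi : i < D.rank) {v : GL D.Idx F}
    (hv : v ∈ Up F D i) :
    nG hD (D.simple i) 1 * v * (nG hD (D.simple i) 1)⁻¹ ∈ Up F D i := by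
  obtain ⟨h45, -⟩ := Cfsg.Agent.S1045.result (F := F) D hD i hi
  have h1 : nG hD (D.simple i) (1 : F) ∈
      D.rootSubgroup F (D.simple i) ⊔ D.rootSubgroup F (D.neg (D.simple i)) := by
    rw [nG_def]
    exact mul_mem (Subgroup.mem_sup_left (xG_mem_rootSubgroup hD _ _))
      (mul_mem (Subgroup.mem_sup_right (xG_mem_rootSubgroup hD _ _))
        (Subgroup.mem_sup_left (xG_mem_rootSubgroup hD _ _)))
  have h2 := h45 h1
  rw [Subgroup.mem_normalizer_iff] at h2
  exact (h2 v).1 hv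

theorem simple_reflects (hc : Comb D) {i : ℕ} (hi : i < D.rank) :
    ((hc.refl hi ⟨D.simple i, hc.simple_lt hi⟩ : Fin D.nroots) : ℕ) = D.neg (D.simple i) := by
  show D.reflectRoot i (D.simple i) = _
  exact Comb.refl_simple i

/-- If `w⁻¹ p` is positive then `s B n ⊆ B s n B`. -/
theorem mul_mem_C_of_pos (hD : InList D) (hc : Comb D) (hP : Pair F D P) {i : ℕ} (hi : i < D.rank)
    {s : ↥(D.group F)} (hs : (s : GL D.Idx F) = nG hD (D.simple i) 1) (n : P.N)
    (hpos : D.IsPosRoot (((hP.piN hD hc n : Equiv.Perm (Fin D.nroots))⁻¹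
      ⟨D.simple i, hc.simple_lt hi⟩ : Fin D.nroots) : ℕ))
    (b : ↥(D.group F)) (hb : b ∈ P.B) : s * b * (n : ↥(D.group F)) ∈ C P (s * n) := by
  have hsS : s ∈ P.S := (hP.mem_S hD s).2 ⟨i, hi, hs⟩
  obtain ⟨h, hh, v, hv, x, hx, hbe⟩ := exists_decomp hD hi ((hP.mem_B b).1 hb)
  have hhG := diagonal_le_group hD F hh
  have hvG := posUnipotent_le_group hD F (Up_le D i hv)
  have hxG := rootSubgroup_le_group hD _ hx
  have hb2 : b = ⟨h, hhG⟩ * ⟨v, hvG⟩ * ⟨x, hxG⟩ := Subtype.ext hbe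
  have e1 : s * (⟨h, hhG⟩ : ↥(D.group F)) * s⁻¹ ∈ P.B :=
    P.conj_mem s (P.subset hsS) _ ⟨(hP.mem_B _).2 ((le_sup_right : D.diagonalSubgroup F ≤ D.borelSubgroup F) hh),
      (hP.mem_N _).2 (diagonal_le_monomial D F hh)⟩
  have e2 : s * (⟨v, hvG⟩ : ↥(D.group F)) * s⁻¹ ∈ P.B := by
    rw [hP.mem_B]
    show (s : GL D.Idx F) * v * (s : GL D.Idx F)⁻¹ ∈ _
    rw [hs]
    exact (le_sup_left : D.posUnipotent F ≤ D.borelSubgroup F) (Up_le D i (nG_conj_Up hD hi hv))
  have e3 : (n : ↥(D.group F))⁻¹ * (⟨x, hxG⟩ : ↥(D.group F)) * n ∈ P.B := by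
    rw [hP.mem_B]
    exact (le_sup_left : D.posUnipotent F ≤ D.borelSubgroup F) (rootSubgroup_le_pos hD hpos
      ((hP.piN_acts hD hc n).conj_mem_inv ⟨D.simple i, hc.simple_lt hi⟩ hx))
  refine mem_C.2 ⟨_, mul_mem e1 e2, _, e3, ?_⟩
  rw [hb2]
  group

/-- `|B s B| = |B| q`. -/
theorem card_C_gen (hD : InList D) (hc : Comb D) (hP : Pair F D P)
    {s : ↥(D.group F)} (hsS : s ∈ P.S) :
    Nat.card (C P s) = Nat.card P.B * Nat.card F := by
  obtain ⟨i, hi, hs⟩ := (hP.mem_S hD s).1 hsS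
  rw [← Nat.card_prod]
  symm
  refine Nat.card_congr (Equiv.ofBijective
    (fun p : P.B × F => (⟨(p.1 : ↥(D.group F)) * s * ⟨xG hD (D.simple i) p.2, xG_mem_group hD _ _⟩,
      mem_C.2 ⟨_, p.1.2, _, (hP.mem_B _).2 (xG_mem_B hD (hc.simple_pos i hi) p.2), rfl⟩⟩ : C P s))
    ⟨?_, ?_⟩)
  · rintro ⟨⟨b, hb⟩, t⟩ ⟨⟨b', hb'⟩, t'⟩ he
    have he1 : b * s * ⟨xG hD (D.simple i) t, xG_mem_group hD _ _⟩
        = b' * s * ⟨xG hD (D.simple i) t', xG_mem_group hD _ _⟩ := congrArg Subtype.val he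
    -- `s x' x⁻¹ s⁻¹ = b'⁻¹ b`
    have h1 : s * (⟨xG hD (D.simple i) (t' + -t), xG_mem_group hD _ _⟩ : ↥(D.group F)) * s⁻¹ = b'⁻¹ * b := by
      have h2 : (⟨xG hD (D.simple i) (t' + -t), xG_mem_group hD _ _⟩ : ↥(D.group F))
          = ⟨xG hD (D.simple i) t', xG_mem_group hD _ _⟩ *
            (⟨xG hD (D.simple i) t, xG_mem_group hD _ _⟩)⁻¹ := by
        apply Subtype.ext
        show xG hD (D.simple i) (t' + -t) = xG hD (D.simple i) t' * (xG hD (D.simple i) t)⁻¹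
        rw [xG_inv, xG_add]
      rw [h2]
      calc s * (⟨xG hD (D.simple i) t', xG_mem_group hD _ _⟩ *
            (⟨xG hD (D.simple i) t, xG_mem_group hD _ _⟩)⁻¹) * s⁻¹
          = b'⁻¹ * (b' * s * ⟨xG hD (D.simple i) t', xG_mem_group hD _ _⟩) *
            (⟨xG hD (D.simple i) t, xG_mem_group hD _ _⟩)⁻¹ * s⁻¹ := by group
        _ = b'⁻¹ * (b * s * ⟨xG hD (D.simple i) t, xG_mem_group hD _ _⟩) *
            (⟨xG hD (D.simple i) t, xG_mem_group hD _ _⟩)⁻¹ * s⁻¹ := by rw [he1]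
        _ = b'⁻¹ * b := by group
    have h3 : (s : GL D.Idx F) * xG hD (D.simple i) (t' + -t) * (s : GL D.Idx F)⁻¹ ∈
        D.borelSubgroup F ⊓ D.negUnipotent F := by
      constructor
      · have : s * (⟨xG hD (D.simple i) (t' + -t), xG_mem_group hD _ _⟩ : ↥(D.group F)) * s⁻¹ ∈ P.B := by
          rw [h1]; exact mul_mem (inv_mem hb') hb
        exact (hP.mem_B _).1 this
      · have h4 := (acts_nG (F := F) hD hc hi).conj_mem ⟨D.simple i, hc.simple_lt hi⟩
          (xG_mem_rootSubgroup hD _ (t' + -t))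
        rw [simple_reflects hc hi] at h4
        rw [hs]
        exact rootSubgroup_le_neg hD (hc.neg_of_pos _ (hc.simple_lt hi) (hc.simple_pos i hi)) h4
    rw [(Cfsg.Agent.S1037.result (F := F) D hD).1, Subgroup.mem_bot] at h3
    have h5 : xG hD (D.simple i) (t' + -t) = (1 : GL D.Idx F) := by
      rw [mul_inv_eq_one] at h3
      exact mul_eq_left.1 h3
    have h6 : t = t' := by
      have := (xG_eq_one_iff hD (hc.simple_lt hi) _).1 h5
      rw [← sub_eq_add_neg, sub_eq_zero] at this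
      exact this.symm
    subst h6
    have h7 : b = b' := by
      have := mul_right_cancel he1
      exact mul_right_cancel this
    subst h7
    rfl
  · rintro ⟨g, hg⟩
    obtain ⟨b₁, hb₁, b₂, hb₂, rfl⟩ := mem_C.1 hg
    obtain ⟨h, hh, v, hv, x, hx, hbe⟩ := exists_decomp hD hi ((hP.mem_B b₂).1 hb₂)
    obtain ⟨t, rfl⟩ := (mem_rootSubgroup_iff hD _ _).1 hx
    have hhG := diagonal_le_group hD F hh
    have hvG := posUnipotent_le_group hD F (Up_le D i hv)
    have hb2 : b₂ = ⟨h, hhG⟩ * ⟨v, hvG⟩ * ⟨xG hD (D.simple i) t, xG_mem_group hD _ _⟩ := Subtype.ext hbe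
    have e1 : s * (⟨h, hhG⟩ : ↥(D.group F)) * s⁻¹ ∈ P.B :=
      P.conj_mem s (P.subset hsS) _ ⟨(hP.mem_B _).2 ((le_sup_right : D.diagonalSubgroup F ≤ D.borelSubgroup F) hh),
        (hP.mem_N _).2 (diagonal_le_monomial D F hh)⟩
    have e2 : s * (⟨v, hvG⟩ : ↥(D.group F)) * s⁻¹ ∈ P.B := by
      rw [hP.mem_B]
      show (s : GL D.Idx F) * v * (s : GL D.Idx F)⁻¹ ∈ _
      rw [hs]
      exact (le_sup_left : D.posUnipotent F ≤ D.borelSubgroup F) (Up_le D i (nG_conj_Up hD hi hv))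
    refine ⟨(⟨_, mul_mem hb₁ (mul_mem e1 e2)⟩, t), ?_⟩
    apply Subtype.ext
    show b₁ * ((s * ⟨h, hhG⟩ * s⁻¹) * (s * ⟨v, hvG⟩ * s⁻¹)) * s * ⟨xG hD (D.simple i) t, _⟩ = b₁ * s * b₂
    rw [hb2]
    group

end Pair

/-! ### The order formula -/

theorem card_group_eq_sum [Finite F] (hD : InList D) (hc : Comb D) :
    Nat.card (D.group F) = Nat.card (D.borelSubgroup F) *
      ∑ᶠ w ∈ (weyl D : Set (Equiv.Perm (Fin D.nroots))), Nat.card F ^ inv D w := by
  classical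
  obtain ⟨P, hP⟩ := exists_pair hD F
  have : Finite (GL D.Idx F) := inferInstance
  have : Fintype ↥(weyl D) := Fintype.ofFinite _
  have hmain := card_group (P := P) (hP.piN hD hc) (hP.piN_surjective hD hc)
    (hP.piN_eq_one_iff hD hc) (fun w : ↥(weyl D) => Nat.card F ^ inv D (w : Equiv.Perm (Fin D.nroots)))
    (by
      show Nat.card F ^ inv D 1 = 1
      rw [hc.inv_one, pow_zero])
    (fun _ => Nat.card F) (fun s hs => hP.card_C_gen hD hc hs)
    (by
      intro s n hs hlt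
      obtain ⟨i, hi, hsi⟩ := (hP.mem_S hD _).1 hs
      have hπs : (hP.piN hD hc s : Equiv.Perm (Fin D.nroots)) = hc.refl hi :=
        hP.piN_eq hD hc s (by rw [hsi]; exact acts_nG hD hc hi)
      set p : Fin D.nroots := ⟨D.simple i, hc.simple_lt hi⟩ with hp
      set w : Equiv.Perm (Fin D.nroots) := (hP.piN hD hc n : Equiv.Perm (Fin D.nroots)) with hw
      have hwW : w ∈ weyl D := (hP.piN hD hc n).2
      have hpos : D.IsPosRoot ((w⁻¹ p : Fin D.nroots) : ℕ) := by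
        by_contra hneg
        have hneg' : D.IsNegRoot ((w⁻¹ p : Fin D.nroots) : ℕ) := (hc.neg_iff (w⁻¹ p).2).2 hneg
        -- then `(s w)⁻¹ p` is positive, and the length of `s s n ~ n` would be larger
        have h1 : D.IsPosRoot (((hP.piN hD hc (s * n) : Equiv.Perm (Fin D.nroots))⁻¹ p :
            Fin D.nroots) : ℕ) := by
          have h2 : (hP.piN hD hc (s * n) : Equiv.Perm (Fin D.nroots)) = hc.refl hi * w := by
            rw [map_mul, Subgroup.coe_mul, hπs]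
          have h3 : (hc.refl hi * w)⁻¹ p = hc.negPerm (w⁻¹ p) := by
            rw [← hc.weyl_neg (inv_mem hwW)]
            show w⁻¹ ((hc.refl hi)⁻¹ p) = w⁻¹ (hc.negPerm p)
            congr 1
            rw [Equiv.Perm.inv_eq_iff_eq]
            apply Fin.ext
            show (p : ℕ) = D.reflectRoot i (D.neg (D.simple i))
            rw [hc.refl_neg i hi _ (hc.simple_lt hi), Comb.refl_simple,
              hc.neg_neg _ (hc.simple_lt hi)]
          rw [h2, h3]
          show D.IsPosRoot (D.neg ((w⁻¹ p : Fin D.nroots) : ℕ))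
          exact hc.pos_of_neg _ (w⁻¹ p).2 hneg'
        have h4 := len_lt_of_forall (P := P) hs (s * n).2
          (fun b hb => hP.mul_mem_C_of_pos hD hc hi hsi (s * n) h1 b hb)
        have h5 : len P ((s : ↥(D.group F)) * ((s * n : P.N) : ↥(D.group F))) = len P (n : ↥(D.group F)) :=
          len_congr (rel_sq_mul hs n.2)
        rw [h5] at h4
        exact absurd hlt (not_lt.2 h4.le)
      show Nat.card F ^ inv D (hP.piN hD hc (s * n) : Equiv.Perm (Fin D.nroots)) = _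
      rw [map_mul, Subgroup.coe_mul, hπs, hc.inv_refl_mul hi hwW hpos, pow_succ, mul_comm])
  rw [hmain]
  congr 1
  · rw [hP.B_eq]
    exact Nat.card_congr (Subgroup.subgroupOfEquivOfLe
      (sup_le (posUnipotent_le_group hD F) (diagonal_le_group hD F))).toEquiv
  · rw [finsum_mem_eq_finite_toFinset_sum _ (Set.toFinite _)]
    refine Finset.sum_bij (fun w _ => (w : Equiv.Perm (Fin D.nroots))) ?_ ?_ ?_ ?_
    · intro w _
      rw [Set.Finite.mem_toFinset]
      exact w.2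
    · intro a _ b _ h
      exact Subtype.ext h
    · intro b hb
      rw [Set.Finite.mem_toFinset] at hb
      exact ⟨⟨b, hb⟩, Finset.mem_univ _, rfl⟩
    · intro a _
      rfl

theorem card_borel (hD : InList D) (F : Type u) [Field F] :
    Nat.card (D.borelSubgroup F) = Nat.card (D.posUnipotent F) * Nat.card (D.diagonalSubgroup F) := by
  obtain ⟨h1, h2⟩ := Cfsg.Agent.S1036.result (F := F) D hD
  have h3 : ((D.posUnipotent F ⊔ D.diagonalSubgroup F : Subgroup (GL D.Idx F)) : Set (GL D.Idx F))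
      = (D.posUnipotent F : Set (GL D.Idx F)) * (D.diagonalSubgroup F : Set (GL D.Idx F)) :=
    Subgroup.coe_mul_of_right_le_normalizer_left _ _ h1
  rw [← Nat.card_prod]
  symm
  refine Nat.card_congr (Equiv.ofBijective
    (fun p : D.posUnipotent F × D.diagonalSubgroup F =>
      (⟨(p.1 : GL D.Idx F) * (p.2 : GL D.Idx F), mul_mem (Subgroup.mem_sup_left p.1.2)
        (Subgroup.mem_sup_right p.2.2)⟩ : D.borelSubgroup F)) ⟨?_, ?_⟩)
  · rintro ⟨⟨a, ha⟩, ⟨b, hb⟩⟩ ⟨⟨a', ha'⟩, ⟨b', hb'⟩⟩ he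
    have he1 : a * b = a' * b' := congrArg Subtype.val he
    have h4 : a'⁻¹ * a = b' * b⁻¹ := by
      rw [inv_mul_eq_iff_eq_mul, ← mul_assoc, ← he1, mul_inv_cancel_right]
    have h5 : a'⁻¹ * a ∈ D.posUnipotent F ⊓ D.diagonalSubgroup F :=
      ⟨(D.posUnipotent F).mul_mem ((D.posUnipotent F).inv_mem ha') ha,
        h4 ▸ (D.diagonalSubgroup F).mul_mem hb' ((D.diagonalSubgroup F).inv_mem hb)⟩
    rw [h2, Subgroup.mem_bot] at h5
    have h6 : a = a' := (inv_mul_eq_one.1 h5).symm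
    subst h6
    have h7 : b = b' := mul_left_cancel he1
    subst h7
    rfl
  · rintro ⟨g, hg⟩
    have hg' : g ∈ ((D.posUnipotent F ⊔ D.diagonalSubgroup F : Subgroup (GL D.Idx F)) : Set (GL D.Idx F)) := hg
    rw [h3] at hg'
    obtain ⟨a, ha, b, hb, rfl⟩ := hg'
    exact ⟨(⟨a, ha⟩, ⟨b, hb⟩), rfl⟩

/-- The order formula, with the torus and the Weyl group sum: `d |G| = q^N (q-1)^l ∑_w q^{inv w}`. -/
theorem card_group_formula [Fintype F] {q : ℕ} (hq : Fintype.card F = q) (p : ChevalleyDatum × ℕ)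
    (hp : p ∈ [(chevG2, 1), (chevF4, 1), (chevE8, 1), (chevE6, Nat.gcd 3 (q - 1)),
      (chevE7, Nat.gcd 2 (q - 1)), (chevB2, Nat.gcd 2 (q - 1)), (chevD4, Nat.gcd 2 (q - 1) ^ 2)])
    (hD : InList p.1) (hc : Comb p.1) :
    p.2 * Nat.card (p.1.group F) = q ^ (p.1.nroots / 2) * (q - 1) ^ p.1.rank *
      ∑ᶠ w ∈ (weyl p.1 : Set (Equiv.Perm (Fin p.1.nroots))), q ^ inv p.1 w := by
  have hq' : Nat.card F = q := by rw [Nat.card_eq_fintype_card, hq]
  rw [card_group_eq_sum hD hc, card_borel hD, Cfsg.Agent.S1027.result p.1 hD,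
    ← Cfsg.Agent.S1035.result hq p hp, hq', hq]
  ring

end Cfsg.Agent.ChevalleyStructure.CardBruhat
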