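import Cfsg.Agent.ChevalleyStructure.CardComb
import Cfsg.Agent.ChevalleyStructure.RootComb
import Cfsg.Agent.ChevalleyStructure.CorootGcd

/-!
The table facts `Comb` of `CardComb` for all seven tabulated data, from `RootComb` and `CorootGcd`.
-/

set_option autoImplicit false

namespace Cfsg.Agent.ChevalleyStructure.CardCombAll

open Cfsg Cfsg.Lie Cfsg.Agent.ChevalleyStructure.CardComb

theorem dvd_of_dvd_foldr {p : ℕ} : ∀ (l : List ℕ), p ∣ l.foldr Nat.gcd 0 → ∀ x ∈ l, p ∣ x := by
  intro l
  induction l with
  | nil => intro _ x hx; simp at hx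
  | cons a l ih =>
    intro h x hx
    rw [List.foldr_cons] at h
    rcases List.mem_cons.1 hx with rfl | hx
    · exact h.trans (Nat.gcd_dvd_left _ _)
    · exact ih (h.trans (Nat.gcd_dvd_right _ _)) x hx

theorem comb_of_mem {D : ChevalleyDatum}
    (hD : D ∈ [chevG2, chevB2, chevD4, chevF4, chevE6, chevE7, chevE8]) : Comb D := by
  have g := Cfsg.Agent.ChevalleyStructure.RootComb.good_of_mem hD
  have hn := g.nroots_eq
  have hn0 := g.nroots_pos
  exact
    { neg_lt := fun r hr => by rw [g.neg_eq hr]; omega
      neg_neg := fun r hr => by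
        have h1 : D.neg r < D.nroots := by rw [g.neg_eq hr]; omega
        rw [g.neg_eq h1, g.neg_eq hr]; omega
      pos_or := fun r hr => by
        rw [g.isPosRoot_iff, g.isNegRoot_iff]; omega
      not_both := fun r hr => by
        rw [g.isPosRoot_iff, g.isNegRoot_iff]; omega
      neg_of_pos := fun r hr h => by
        rw [g.isPosRoot_iff] at h
        rw [g.isNegRoot_iff, g.neg_eq hr]; omega
      pos_of_neg := fun r hr h => by
        rw [g.isNegRoot_iff] at h
        rw [g.isPosRoot_iff, g.neg_eq hr]; omega
      simple_pos := fun i hi => g.simple_pos hi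
      refl_lt := fun i hi r hr => g.reflect_lt hi hr
      refl_refl := fun i hi r hr => g.reflect_reflect hi hr
      refl_pos := fun i hi r _ h hne => g.reflect_pos hi h hne
      refl_neg := fun i hi r hr => g.reflect_neg hi hr
      coprime := fun r hr => by
        by_contra hne
        obtain ⟨p, hp, hdvd⟩ := Nat.exists_prime_and_dvd hne
        have : Fact p.Prime := ⟨hp⟩
        obtain ⟨i, hi⟩ := Cfsg.Agent.ChevalleyStructure.CorootGcd.exists_coroot_ne_zero
          (F := ZMod p) hD hr
        apply hi
        have h1 := dvd_of_dvd_foldr _ hdvd (((D.coroot.getD r #[]).getD i.val 0).natAbs)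
          (List.mem_map.2 ⟨i.val, List.mem_range.2 i.2, rfl⟩)
        rw [ZMod.intCast_zmod_eq_zero_iff_dvd]
        exact Int.natCast_dvd.2 h1 }

end Cfsg.Agent.ChevalleyStructure.CardCombAll
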