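import Cfsg.Agent.ChevalleyStructure.Strings
import Cfsg.Agent.ChevalleyStructure.GoodCheck

/-!
# A fast check of `A_{r,s} = |down chain| - |up chain|` by packing the rows of the Cartan table into one number
-/

set_option autoImplicit false

namespace Cfsg.Agent.ChevalleyStructure.CartanPack

open Cfsg Cfsg.Lie
open Cfsg.Agent.ChevalleyStructure.Columns (look look_nil look_cons sortedFrom lt_of_sortedFrom chainEntry_eq_look)

/-- The base of the packing. -/
def B : ℕ := 65536

theorem B_def : B = 65536 := rfl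

theorem digits_unique : ∀ (n : ℕ) (a b : ℕ → ℤ), (∀ s < n, |a s - b s| < (B : ℤ)) →
    ∑ s ∈ Finset.range n, a s * (B : ℤ) ^ s = ∑ s ∈ Finset.range n, b s * (B : ℤ) ^ s → ∀ s < n, a s = b s
  | 0, _, _, _, _, s, hs => by omega
  | n + 1, a, b, h, hsum, s, hs => by
    rw [Finset.sum_range_succ', Finset.sum_range_succ'] at hsum
    have e : ∀ c : ℕ → ℤ, ∑ k ∈ Finset.range n, c (k + 1) * (B : ℤ) ^ (k + 1) =
        (B : ℤ) * ∑ k ∈ Finset.range n, c (k + 1) * (B : ℤ) ^ k := by
      intro c
      rw [Finset.mul_sum]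
      exact Finset.sum_congr rfl fun k _ => by rw [pow_succ]; ring
    rw [e a, e b, pow_zero, mul_one, mul_one] at hsum
    have h0 : a 0 - b 0 = 0 := by
      have h1 : (B : ℤ) ∣ a 0 - b 0 :=
        ⟨∑ k ∈ Finset.range n, b (k + 1) * (B : ℤ) ^ k - ∑ k ∈ Finset.range n, a (k + 1) * (B : ℤ) ^ k, by
          rw [mul_sub]; linarith⟩
      exact Int.eq_zero_of_abs_lt_dvd h1 (h 0 (Nat.succ_pos n))
    have hB : (B : ℤ) ≠ 0 := by rw [B_def]; norm_num
    have h2 : ∑ k ∈ Finset.range n, a (k + 1) * (B : ℤ) ^ k = ∑ k ∈ Finset.range n, b (k + 1) * (B : ℤ) ^ k := by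
      apply mul_left_cancel₀ hB
      linarith
    rcases s with _ | s
    · linarith
    · exact digits_unique n (fun k => a (k + 1)) (fun k => b (k + 1)) (fun k hk => h (k + 1) (by omega)) h2 s
        (by omega)

/-- the non-negative part of a packed row -/
def pkP (l : List ℤ) : ℕ :=
  List.rec (motive := fun _ => ℕ) 0 (fun a _ ih => Nat.add (Int.toNat a) (Nat.mul B ih)) l

/-- the negative part of a packed row -/
def pkM (l : List ℤ) : ℕ :=
  List.rec (motive := fun _ => ℕ) 0 (fun a _ ih => Nat.add (Int.toNat (Int.neg a)) (Nat.mul B ih)) l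

theorem pk_eq (l : List ℤ) :
    (pkP l : ℤ) - (pkM l : ℤ) = ∑ s ∈ Finset.range l.length, l.getD s 0 * (B : ℤ) ^ s := by
  induction l with
  | nil => rfl
  | cons a l ih =>
    have h1 : pkP (a :: l) = Int.toNat a + B * pkP l := rfl
    have h2 : pkM (a :: l) = Int.toNat (-a) + B * pkM l := rfl
    have h3 : (Int.toNat a : ℤ) - (Int.toNat (-a) : ℤ) = a := Int.toNat_sub_toNat_neg a
    rw [h1, h2, List.length_cons, Finset.sum_range_succ']
    have e : ∑ k ∈ Finset.range l.length, (a :: l).getD (k + 1) 0 * (B : ℤ) ^ (k + 1) =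
        (B : ℤ) * ∑ k ∈ Finset.range l.length, l.getD k 0 * (B : ℤ) ^ k := by
      rw [Finset.mul_sum]
      exact Finset.sum_congr rfl fun k _ => by rw [pow_succ, List.getD_cons_succ]; ring
    rw [e, ← ih]
    push_cast
    simp only [List.getD_cons_zero, pow_zero, mul_one]
    linear_combination h3

/-- packed rows -/
def pks (l : List (Array ℤ)) : List (ℕ × ℕ) := l.map fun a => (pkP a.toList, pkM a.toList)

/-- `∑ cᵢ⁺ pᵢ + cᵢ⁻ qᵢ` -/
def dotP : List ℤ → List (ℕ × ℕ) → ℕ
  | c :: cs, p :: ps => Nat.add (Nat.add (Nat.mul (Int.toNat c) p.1) (Nat.mul (Int.toNat (Int.neg c)) p.2)) (dotP cs ps)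
  | _, _ => 0

/-- `∑ cᵢ⁺ qᵢ + cᵢ⁻ pᵢ` -/
def dotM : List ℤ → List (ℕ × ℕ) → ℕ
  | c :: cs, p :: ps => Nat.add (Nat.add (Nat.mul (Int.toNat c) p.2) (Nat.mul (Int.toNat (Int.neg c)) p.1)) (dotM cs ps)
  | _, _ => 0

theorem dot_eq : ∀ (k : ℕ) (cs : List ℤ) (ps : List (ℕ × ℕ)), ps.length ≤ k →
    (dotP cs ps : ℤ) - (dotM cs ps : ℤ) =
      ∑ i ∈ Finset.range k, cs.getD i 0 * (((ps.getD i (0, 0)).1 : ℤ) - ((ps.getD i (0, 0)).2 : ℤ))
  | k, [], ps, _ => by
    have h0 : dotP [] ps = 0 := by cases ps <;> rfl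
    have h1 : dotM [] ps = 0 := by cases ps <;> rfl
    rw [h0, h1]
    simp
  | k, c :: cs, [], _ => by
    have h0 : dotP (c :: cs) [] = 0 := rfl
    have h1 : dotM (c :: cs) [] = 0 := rfl
    rw [h0, h1]
    simp
  | 0, c :: cs, p :: ps, h => by simp at h
  | k + 1, c :: cs, p :: ps, h => by
    have h0 : dotP (c :: cs) (p :: ps) = Int.toNat c * p.1 + Int.toNat (-c) * p.2 + dotP cs ps := rfl
    have h1 : dotM (c :: cs) (p :: ps) = Int.toNat c * p.2 + Int.toNat (-c) * p.1 + dotM cs ps := rfl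
    have h3 : (Int.toNat c : ℤ) - (Int.toNat (-c) : ℤ) = c := Int.toNat_sub_toNat_neg c
    have ih := dot_eq k cs ps (by simpa using h)
    rw [h0, h1, Finset.sum_range_succ']
    simp only [List.getD_cons_succ, List.getD_cons_zero]
    rw [← ih]
    push_cast
    linear_combination ((p.1 : ℤ) - (p.2 : ℤ)) * h3

/-- the length of a list -/
def len {α : Type} (l : List α) : ℕ := List.rec (motive := fun _ => ℕ) 0 (fun _ _ ih => Nat.add ih 1) l

theorem len_eq {α : Type} (l : List α) : len l = l.length := by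
  induction l with
  | nil => rfl
  | cons a l ih =>
    have : len (a :: l) = len l + 1 := rfl
    rw [this, ih, List.length_cons]

/-- `∑ |e.2| B^{e.1}` -/
def rowW (R : List (ℕ × Array (ℕ × ℤ))) : ℕ :=
  List.rec (motive := fun _ => ℕ) 0 (fun e _ ih => Nat.add (Nat.mul (len e.2.toList) (Nat.pow B e.1)) ih) R

theorem look_eq_nil_of_lt {R : List (ℕ × Array (ℕ × ℤ))} {b s : ℕ} (h : sortedFrom b R = true) (hs : s < b) :
    look R s = [] := by
  induction R generalizing b with
  | nil => rfl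
  | cons e R ih =>
    simp only [sortedFrom, Bool.and_eq_true] at h
    have := Nat.le_of_ble_eq_true h.1
    rw [look_cons, if_neg (by omega)]
    exact ih h.2 (by omega)

theorem rowW_eq {n : ℕ} : ∀ (R : List (ℕ × Array (ℕ × ℤ))) (b : ℕ), sortedFrom b R = true → (∀ e ∈ R, e.1 < n) →
    (rowW R : ℤ) = ∑ s ∈ Finset.range n, ((look R s).length : ℤ) * (B : ℤ) ^ s
  | [], _, _, _ => by
    have : rowW [] = 0 := rfl
    rw [this]
    simp [look_nil]
  | e :: R, b, h, hn => by
    simp only [sortedFrom, Bool.and_eq_true] at h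
    have h1 : rowW (e :: R) = len e.2.toList * B ^ e.1 + rowW R := rfl
    have ih := rowW_eq R _ h.2 (fun e' he' => hn e' (by simp [he']))
    rw [h1, len_eq]
    push_cast
    rw [ih]
    have h2 : ∀ s ∈ Finset.range n, ((look (e :: R) s).length : ℤ) * (B : ℤ) ^ s =
        (if s = e.1 then (e.2.toList.length : ℤ) * (B : ℤ) ^ e.1 else 0) + ((look R s).length : ℤ) * (B : ℤ) ^ s := by
      intro s _
      rw [look_cons]
      by_cases hs : e.1 = s
      · subst hs
        rw [look_eq_nil_of_lt h.2 (Nat.lt_succ_self _)]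
        simp
      · rw [if_neg hs, if_neg (fun h => hs h.symm), zero_add]
    rw [Finset.sum_congr rfl h2, Finset.sum_add_distrib, Finset.sum_ite_eq' (Finset.range n) e.1,
      if_pos (Finset.mem_range.2 (hn e (by simp)))]

/-- all entries are at most 15 in absolute value -/
def bnd (l : List ℤ) : Bool :=
  List.rec (motive := fun _ => Bool) true (fun a _ ih => Nat.ble (Int.natAbs a) 15 && ih) l

theorem bnd_sound : ∀ l : List ℤ, bnd l = true → ∀ i, |l.getD i 0| ≤ 15
  | [], _, i => by simp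
  | a :: l, h, i => by
    have h' : (Nat.ble (Int.natAbs a) 15 && bnd l) = true := h
    rw [Bool.and_eq_true] at h'
    rcases i with _ | i
    · rw [List.getD_cons_zero]
      have h1 : a.natAbs ≤ 15 := Nat.le_of_ble_eq_true h'.1
      rw [Int.abs_eq_natAbs]
      exact_mod_cast h1
    · rw [List.getD_cons_succ]
      exact bnd_sound l h'.2 i

/-- the check at `r` (with `nr` the index of `-r`) -/
def carOK (r nr : ℕ) (cs : List ℤ) (ps : List (ℕ × ℕ)) (R R' : List (ℕ × Array (ℕ × ℤ))) : Bool :=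
  Nat.beq (Nat.add (dotP cs ps) (Nat.add (rowW R) (Nat.mul 2 (Nat.pow B nr))))
    (Nat.add (dotM cs ps) (Nat.add (rowW R') (Nat.mul 2 (Nat.pow B r))))

theorem carOK_sound {n l r nr : ℕ} {cs : List ℤ} {A : List (Array ℤ)} {R R' : List (ℕ × Array (ℕ × ℤ))}
    (hA : A.length ≤ l) (hl : l ≤ 8) (hlen : ∀ a ∈ A, a.toList.length = n) (hbc : bnd cs = true)
    (hbA : ∀ a ∈ A, bnd a.toList = true) (hr : r < n) (hnr : nr < n)
    (hR : sortedFrom 0 R = true) (hR' : sortedFrom 0 R' = true)
    (hRn : ∀ e ∈ R, e.1 < n) (hRn' : ∀ e ∈ R', e.1 < n)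
    (hR3 : ∀ s, (look R s).length ≤ 3) (hR3' : ∀ s, (look R' s).length ≤ 3)
    (h : carOK r nr cs (pks A) R R' = true) (s : ℕ) (hs : s < n) :
    ∑ i ∈ Finset.range l, cs.getD i 0 * (A.getD i #[]).toList.getD s 0 =
      ((look R' s).length : ℤ) - ((look R s).length : ℤ) + (if s = r then 2 else 0) - (if s = nr then 2 else 0) := by
  have h1 := Nat.eq_of_beq_eq_true h
  have h1' : dotP cs (pks A) + (rowW R + 2 * B ^ nr) = dotM cs (pks A) + (rowW R' + 2 * B ^ r) := h1
  have h2 := congrArg (Nat.cast : ℕ → ℤ) h1'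
  push_cast at h2
  rw [rowW_eq R 0 hR hRn, rowW_eq R' 0 hR' hRn'] at h2
  have h3 := dot_eq l cs (pks A) (by simpa [pks] using hA)
  have h4 : ∀ i, (((pks A).getD i (0, 0)).1 : ℤ) - (((pks A).getD i (0, 0)).2 : ℤ) =
      ∑ s ∈ Finset.range n, (A.getD i #[]).toList.getD s 0 * (B : ℤ) ^ s := by
    intro i
    by_cases hi : i < A.length
    · have e1 : (pks A).getD i (0, 0) = (pkP (A.getD i #[]).toList, pkM (A.getD i #[]).toList) := by
        rw [pks, List.getD_eq_getElem _ _ (by simpa using hi), List.getD_eq_getElem _ _ hi, List.getElem_map]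
      have e2 : (A.getD i #[]).toList.length = n := by
        rw [List.getD_eq_getElem _ _ hi]
        exact hlen _ (List.getElem_mem hi)
      rw [e1]
      simp only
      rw [pk_eq, e2]
    · have e1 : (pks A).getD i (0, 0) = (0, 0) := List.getD_eq_default _ _ (by simpa [pks] using hi)
      have e2 : A.getD i #[] = #[] := List.getD_eq_default _ _ (by simpa using hi)
      rw [e1, e2]
      simp
  simp only [h4] at h3
  have h5 : ∑ s ∈ Finset.range n, (∑ i ∈ Finset.range l, cs.getD i 0 * (A.getD i #[]).toList.getD s 0) * (B : ℤ) ^ s =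
      ∑ s ∈ Finset.range n, (((look R' s).length : ℤ) - ((look R s).length : ℤ) + (if s = r then 2 else 0) -
        (if s = nr then 2 else 0)) * (B : ℤ) ^ s := by
    have e1 : ∑ s ∈ Finset.range n, (∑ i ∈ Finset.range l, cs.getD i 0 * (A.getD i #[]).toList.getD s 0) * (B : ℤ) ^ s
        = ∑ i ∈ Finset.range l, cs.getD i 0 * ∑ s ∈ Finset.range n, (A.getD i #[]).toList.getD s 0 * (B : ℤ) ^ s := by
      simp only [Finset.sum_mul, Finset.mul_sum]
      rw [Finset.sum_comm]
      exact Finset.sum_congr rfl fun i _ => Finset.sum_congr rfl fun s _ => by ring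
    have e2 : ∀ m, m < n → ∑ s ∈ Finset.range n, (if s = m then (2 : ℤ) else 0) * (B : ℤ) ^ s = 2 * (B : ℤ) ^ m := by
      intro m hm
      have : ∀ s ∈ Finset.range n, (if s = m then (2 : ℤ) else 0) * (B : ℤ) ^ s =
          if s = m then 2 * (B : ℤ) ^ m else 0 := by
        intro s _
        by_cases hsm : s = m
        · subst hsm; simp
        · simp [hsm]
      rw [Finset.sum_congr rfl this, Finset.sum_ite_eq' (Finset.range n) m, if_pos (Finset.mem_range.2 hm)]
    rw [e1, ← h3]
    simp only [sub_mul, add_mul, Finset.sum_sub_distrib, Finset.sum_add_distrib]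
    rw [e2 r hr, e2 nr hnr]
    linarith
  refine digits_unique n _ _ ?_ h5 s hs
  intro s _
  have b1 : |∑ i ∈ Finset.range l, cs.getD i 0 * (A.getD i #[]).toList.getD s 0| ≤ 8 * 225 := by
    calc |∑ i ∈ Finset.range l, cs.getD i 0 * (A.getD i #[]).toList.getD s 0|
        ≤ ∑ i ∈ Finset.range l, |cs.getD i 0 * (A.getD i #[]).toList.getD s 0| := Finset.abs_sum_le_sum_abs _ _
      _ ≤ ∑ i ∈ Finset.range l, 225 := by
          refine Finset.sum_le_sum fun i _ => ?_
          rw [abs_mul]
          have c1 := bnd_sound cs hbc i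
          have c2 : |(A.getD i #[]).toList.getD s 0| ≤ 15 := by
            by_cases hi : i < A.length
            · refine bnd_sound _ (hbA _ ?_) s
              rw [List.getD_eq_getElem _ _ hi]
              exact List.getElem_mem hi
            · have e2 : A.getD i #[] = #[] := List.getD_eq_default _ _ (by simpa using hi)
              rw [e2]
              simp
          calc |cs.getD i 0| * |(A.getD i #[]).toList.getD s 0| ≤ 15 * 15 :=
                mul_le_mul c1 c2 (abs_nonneg _) (by norm_num)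
            _ = 225 := by norm_num
      _ = (l : ℤ) * 225 := by rw [Finset.sum_const, Finset.card_range, nsmul_eq_mul]
      _ ≤ 8 * 225 := by
          have : (l : ℤ) ≤ 8 := by exact_mod_cast hl
          linarith
  have b2 : (look R s).length ≤ 3 := hR3 s
  have b3 : (look R' s).length ≤ 3 := hR3' s
  rw [abs_le] at b1
  rw [B_def, abs_lt]
  push_cast
  constructor
  · split_ifs <;> omega
  · split_ifs <;> omega

end Cfsg.Agent.ChevalleyStructure.CartanPack
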