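import Mathlib
import Cfsg.Prelude.Def_ChevWords

/-!
Diagonal matrices coming from gradings of the root system act on root elements by scalars:
`δ x_r(t) = x_r(c^{m r} t) δ` for `δ = diag(1, …, 1; c^{m s})`, for every Chevalley datum, every field.
-/

set_option autoImplicit false

namespace Cfsg.Agent.ChevalleyStructure.Grading

open Cfsg.Lie

variable (D : ChevalleyDatum)

/-- The diagonal matrix `diag(1, …, 1; c^{m s})`. -/
def gradeMat (F : Type*) [Field F] (m : ℕ → ℤ) (c : F) : Matrix D.Idx D.Idx F :=
  Matrix.diagonal (Sum.elim (fun _ => (1 : F)) (fun s : Fin D.nroots => c ^ (m s.val)))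

/-- The check that `m` is a grading as seen from the root `r`: `m (-r) = - m r` and `m (k r + s) = k m r + m s`. -/
def gradeCheck (m : ℕ → ℤ) (r : ℕ) : Bool :=
  decide (m (D.negIdx.getD r 0) = - m r) &&
  (D.chain.getD r #[]).toList.all fun e => e.2.toList.zipIdx.all fun q =>
    decide (m q.1.1 = (q.2 + 1) * m r + m e.1)

theorem chainCoeff_grade (m : ℕ → ℤ) (r : ℕ) (h : gradeCheck D m r = true) (s u : ℕ) (km : ℕ × ℤ)
    (hkm : km ∈ D.chainCoeff r s u) : m u = km.1 * m r + m s := by
  unfold gradeCheck at h
  rw [Bool.and_eq_true, List.all_eq_true] at h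
  unfold ChevalleyDatum.chainCoeff at hkm
  rw [List.mem_flatMap] at hkm
  obtain ⟨e, he, hkm⟩ := hkm
  rw [List.mem_filter] at he
  rw [List.mem_map] at hkm
  obtain ⟨q, hq, rfl⟩ := hkm
  rw [List.mem_filter] at hq
  have h1 := h.2 e he.1
  rw [List.all_eq_true] at h1
  have h2 := of_decide_eq_true (h1 q hq.1)
  have h3 : e.1 = s := of_decide_eq_true he.2
  have h4 : q.1.1 = u := of_decide_eq_true hq.2
  rw [h3, h4] at h2
  rw [h2]
  push_cast
  ring

theorem gradeMat_mul_xMat {F : Type*} [Field F] (m : ℕ → ℤ) (c : F) (hc : c ≠ 0) (r : Fin D.nroots)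
    (h : gradeCheck D m r.val = true) (t : F) :
    gradeMat D F m c * D.xMat F r t = D.xMat F r (c ^ (m r.val) * t) * gradeMat D F m c := by
  have hneg : m (D.negIdx.getD r.val 0) = - m r.val := by
    unfold gradeCheck at h
    rw [Bool.and_eq_true] at h
    exact of_decide_eq_true h.1
  unfold gradeMat
  ext i j
  rw [Matrix.diagonal_mul, Matrix.mul_diagonal]
  rcases i with i | u <;> rcases j with j | s
  · show (1 : F) * (if i = j then 1 else 0) = (if i = j then 1 else 0) * 1
    rw [one_mul, mul_one]
  · show (1 : F) * (if s = r then (0 : F) else if s.val = D.negIdx.getD r.val 0 then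
      (((D.coroot.getD r.val #[]).getD i.val 0 : ℤ) : F) * t else 0) =
      (if s = r then (0 : F) else if s.val = D.negIdx.getD r.val 0 then
      (((D.coroot.getD r.val #[]).getD i.val 0 : ℤ) : F) * (c ^ (m r.val) * t) else 0) * c ^ (m s.val)
    by_cases hs : s = r
    · rw [if_pos hs, if_pos hs, mul_zero, zero_mul]
    · rw [if_neg hs, if_neg hs]
      by_cases hn : s.val = D.negIdx.getD r.val 0
      · rw [if_pos hn, if_pos hn, hn, hneg, zpow_neg]
        have : c ^ (m r.val) ≠ 0 := zpow_ne_zero _ hc
        field_simp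
      · rw [if_neg hn, if_neg hn, mul_zero, zero_mul]
  · show c ^ (m u.val) * (if u = r then - (((D.cartanSR.getD j.val #[]).getD r.val 0 : ℤ) : F) * t else 0) =
      (if u = r then - (((D.cartanSR.getD j.val #[]).getD r.val 0 : ℤ) : F) * (c ^ (m r.val) * t) else 0) * 1
    by_cases hu : u = r
    · rw [if_pos hu, if_pos hu, hu]; ring
    · rw [if_neg hu, if_neg hu, mul_zero, zero_mul]
  · show c ^ (m u.val) * (if s = r then (if u = r then (1 : F) else 0) else if s.val = D.negIdx.getD r.val 0 then
      (if u = s then (1 : F) else if u = r then -(t ^ 2) else 0) else (if u = s then (1 : F) else 0) +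
             ((D.chainCoeff r.val s.val u.val).map fun km => ((km.2 : ℤ) : F) * t ^ km.1).sum) =
      (if s = r then (if u = r then (1 : F) else 0) else if s.val = D.negIdx.getD r.val 0 then
      (if u = s then (1 : F) else if u = r then -((c ^ (m r.val) * t) ^ 2) else 0) else (if u = s then (1 : F) else 0) +
             ((D.chainCoeff r.val s.val u.val).map fun km => ((km.2 : ℤ) : F) * (c ^ (m r.val) * t) ^ km.1).sum) *
        c ^ (m s.val)
    by_cases hs : s = r
    · rw [if_pos hs, if_pos hs]
      by_cases hu : u = r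
      · rw [if_pos hu, hs, hu, mul_one, one_mul]
      · rw [if_neg hu, mul_zero, zero_mul]
    · rw [if_neg hs, if_neg hs]
      by_cases hn : s.val = D.negIdx.getD r.val 0
      · rw [if_pos hn, if_pos hn]
        by_cases hus : u = s
        · rw [if_pos hus, if_pos hus, hus, mul_one, one_mul]
        · rw [if_neg hus, if_neg hus]
          by_cases hu : u = r
          · rw [if_pos hu, if_pos hu, hu, hn, hneg, zpow_neg]
            have : c ^ (m r.val) ≠ 0 := zpow_ne_zero _ hc
            field_simp
          · rw [if_neg hu, if_neg hu, mul_zero, zero_mul]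
      · rw [if_neg hn, if_neg hn, mul_add, add_mul]
        congr 1
        · by_cases hus : u = s
          · rw [if_pos hus, hus, mul_one, one_mul]
          · rw [if_neg hus, mul_zero, zero_mul]
        · rw [← List.sum_map_mul_left, ← List.sum_map_mul_right]
          congr 1
          apply List.map_congr_left
          intro km hkm
          rw [chainCoeff_grade D m r.val h s.val u.val km hkm, zpow_add₀ hc, mul_comm (km.1 : ℤ), zpow_mul,
            zpow_natCast, mul_pow]
          ring

/-- A grading acts on root elements: `δ x_r(t) = x_r(c^{m r} t) δ`. -/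
theorem gradeMat_mul_x {F : Type*} [Field F] (m : ℕ → ℤ) (c : F) (hc : c ≠ 0) (r : ℕ) (hr : r < D.nroots)
    (h : gradeCheck D m r = true) (t : F) :
    gradeMat D F m c * D.x F r t = D.x F r (c ^ (m r) * t) * gradeMat D F m c := by
  have h0 : ∀ t, D.x F r t = D.xMat F ⟨r, hr⟩ t := fun t => dif_pos hr
  rw [h0, h0]
  exact gradeMat_mul_xMat D m c hc ⟨r, hr⟩ h t

theorem gradeMat_mul {F : Type*} [Field F] (m : ℕ → ℤ) (c d : F) :
    gradeMat D F m c * gradeMat D F m d = gradeMat D F m (c * d) := by
  unfold gradeMat
  rw [Matrix.diagonal_mul_diagonal]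
  congr 1
  ext i
  rcases i with i | s
  · exact mul_one 1
  · exact (mul_zpow c d _).symm

theorem gradeMat_one {F : Type*} [Field F] (m : ℕ → ℤ) : gradeMat D F m 1 = 1 := by
  unfold gradeMat
  rw [← Matrix.diagonal_one]
  congr 1
  ext i
  rcases i with i | s
  · rfl
  · exact one_zpow _

end Cfsg.Agent.ChevalleyStructure.Grading
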