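import Mathlib
import Cfsg.Prelude.Def_ChevStructure
import Cfsg.Agent.ChevalleyStructure.Grading

/-!
A kernel-friendly checker for identities between words in root elements `x_r(monomial)` of a Chevalley datum in
characteristic 2. A matrix over `𝔽₂` is ONE natural number (entry (i, j) is the bit `w j + i`), a root element is
`1 + t E₁ + t² E₂` with `E₁`, `E₂` sparse lists of positions, and a word is evaluated to a polynomial in three variables
with such matrices as coefficients.
-/

set_option autoImplicit false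
set_option linter.unusedSectionVars false

namespace Cfsg.Agent.ChevalleyStructure.CharTwoCheck

open Cfsg.Lie

/-- A sparse matrix over `𝔽₂`: the list of positions (row, column) of its entries 1 (with multiplicity mod 2). -/
abbrev SMat := List (ℕ × ℕ)

/-- The product of the matrix `A` (a number) with the sparse matrix `L`. -/
def colMul (w A : ℕ) : SMat → ℕ
  | [] => 0
  | kj :: L => Nat.xor (((A >>> (w * kj.1)) % 2 ^ w) <<< (w * kj.2)) (colMul w A L)

/-- The number of the identity matrix of size `n`. -/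
def bone (w : ℕ) : ℕ → ℕ
  | 0 => 0
  | n + 1 => Nat.xor (1 <<< (w * n + n)) (bone w n)

/-- Monomials in three variables (exponents). -/
abbrev Mono := ℕ × ℕ × ℕ

/-- Polynomials in three variables with matrix coefficients. -/
abbrev BPoly := List (Mono × ℕ)

/-- Equality test of monomials. -/
def meq (m m' : Mono) : Bool := Nat.beq m.1 m'.1 && (Nat.beq m.2.1 m'.2.1 && Nat.beq m.2.2 m'.2.2)

/-- Add a term. -/
def addTerm (m : Mono) (A : ℕ) : BPoly → BPoly
  | [] => [(m, A)]
  | q :: P => bif meq m q.1 then (q.1, Nat.xor A q.2) :: P else q :: addTerm m A P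

/-- Sum of polynomials. -/
def addP (P Q : BPoly) : BPoly := P.foldr (fun t R => addTerm t.1 t.2 R) Q

/-- Multiply a polynomial on the right by `1 + m E₁ + m² E₂`. -/
def stepP (w : ℕ) (mm : Mono → Mono → Mono) (P : BPoly) (m : Mono) (E₁ E₂ : SMat) : BPoly :=
  P.foldr (fun t R => addTerm t.1 t.2 (addTerm (mm t.1 m) (colMul w t.2 E₁)
    (addTerm (mm (mm t.1 m) m) (colMul w t.2 E₂) R))) []

/-- Remove zero terms. -/
def clean (P : BPoly) : BPoly := P.filter fun t => !Nat.beq t.2 0

/-- The polynomial of a word. -/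
def wordP (w n : ℕ) (mm : Mono → Mono → Mono) (E : ℕ → SMat × SMat) (l : List (ℕ × Mono)) : BPoly :=
  l.foldl (fun P a => clean (stepP w mm P a.2 (E a.1).1 (E a.1).2)) [((0, 0, 0), bone w n)]

/-- The zero test for polynomials. -/
def zeroP (P : BPoly) : Bool := P.all fun t => Nat.beq t.2 0

/-- The check: two words are equal as matrices of polynomials. -/
def check (w n : ℕ) (mm : Mono → Mono → Mono) (E : ℕ → SMat × SMat) (l l' : List (ℕ × Mono)) : Bool :=
  zeroP (addP (wordP w n mm E l) (wordP w n mm E l'))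

/-- Multiplication of monomials. -/
def mulN (a b : Mono) : Mono := (a.1 + b.1, a.2.1 + b.2.1, a.2.2 + b.2.2)

/-- Multiplication of monomials when the product of the first two variables is 1. -/
def mulL (a b : Mono) : Mono :=
  (a.1 + b.1 - min (a.1 + b.1) (a.2.1 + b.2.1), a.2.1 + b.2.1 - min (a.1 + b.1) (a.2.1 + b.2.1), a.2.2 + b.2.2)

/-- The polynomial of the diagonal matrix with entries `x^{a k}` (`x^{-1} = y`) in the positions `k < n`. -/
def diagP (w : ℕ) (a : ℕ → ℤ) : ℕ → BPoly
  | 0 => []
  | n + 1 => addTerm ((a n).toNat, (-a n).toNat, 0) (1 <<< (w * n + n)) (diagP w a n)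

/-- The check that a word is the diagonal matrix with entries `x^{a k}`. -/
def checkDiag (w n : ℕ) (E : ℕ → SMat × SMat) (l : List (ℕ × Mono)) (a : ℕ → ℤ) : Bool :=
  zeroP (addP (wordP w n mulL E l) (diagP w a n))

/-- The check that `x_r(s) x_r(t) = x_r(s + t)` (characteristic 2). -/
def checkAdd (w n : ℕ) (E : ℕ → SMat × SMat) (r : ℕ) : Bool :=
  zeroP (addP (wordP w n mulN E [(r, (1, 0, 0)), (r, (0, 1, 0))])
    [((0, 0, 0), bone w n), ((1, 0, 0), colMul w (bone w n) (E r).1), ((0, 1, 0), colMul w (bone w n) (E r).1),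
      ((2, 0, 0), colMul w (bone w n) (E r).2), ((0, 2, 0), colMul w (bone w n) (E r).2)])

/-! ### Soundness -/

section sound

variable {K : Type*} [Field K]

/-- The bit `j` of `x` as an element of `K`. -/
def bit (K : Type*) [Field K] (x j : ℕ) : K := if x.testBit j then 1 else 0

theorem bit_xor [CharP K 2] (x y j : ℕ) : bit K (Nat.xor x y) j = bit K x j + bit K y j := by
  have h : (Nat.xor x y).testBit j = (x.testBit j).xor (y.testBit j) := Nat.testBit_xor x y j
  unfold bit
  rw [h]
  cases x.testBit j <;> cases y.testBit j <;> simp [CharTwo.add_self_eq_zero]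

theorem bit_zero (j : ℕ) : bit K 0 j = 0 := by simp [bit]

variable {ι : Type*} [Fintype ι] [DecidableEq ι]

/-- The matrix over `K` of a number; `pos` numbers the index set. -/
def toMat (K : Type*) [Field K] {ι : Type*} (pos : ι → ℕ) (w A : ℕ) : Matrix ι ι K :=
  Matrix.of fun i j => bit K A (w * pos j + pos i)

/-- The matrix over `K` of a sparse matrix. -/
def sMat (K : Type*) [Field K] {ι : Type*} (pos : ι → ℕ) (L : SMat) : Matrix ι ι K :=
  Matrix.of fun i j => (L.map fun kj => if pos i = kj.1 ∧ pos j = kj.2 then (1 : K) else 0).sum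

theorem toMat_xor [CharP K 2] (pos : ι → ℕ) (w A B : ℕ) :
    toMat K pos w (Nat.xor A B) = toMat K pos w A + toMat K pos w B := by
  ext i j
  simp only [toMat, Matrix.of_apply, Matrix.add_apply, bit_xor]

theorem toMat_zero (pos : ι → ℕ) (w : ℕ) : toMat K pos w 0 = 0 := by
  ext i j
  simp only [toMat, Matrix.of_apply, bit_zero, Matrix.zero_apply]

theorem sMat_nil (pos : ι → ℕ) : sMat K pos [] = 0 := rfl

theorem sMat_cons (pos : ι → ℕ) (kj : ℕ × ℕ) (L : SMat) :
    sMat K pos (kj :: L) = Matrix.of (fun i j => if pos i = kj.1 ∧ pos j = kj.2 then (1 : K) else 0) +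
      sMat K pos L := rfl

theorem bit_block (w A k j' j i : ℕ) (hi : i < w) :
    bit K (((A >>> (w * k)) % 2 ^ w) <<< (w * j')) (w * j + i) = if j = j' then bit K A (w * k + i) else 0 := by
  unfold bit
  rw [Nat.testBit_shiftLeft, Nat.testBit_mod_two_pow, Nat.testBit_shiftRight]
  rcases lt_trichotomy j j' with h | h | h
  · rw [if_neg (ne_of_lt h)]
    have h1 : ¬ (w * j + i ≥ w * j') := by
      have : w * (j + 1) ≤ w * j' := Nat.mul_le_mul_left w h
      rw [mul_add, mul_one] at this
      omega
    rw [decide_eq_false h1]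
    simp
  · subst h
    rw [if_pos rfl]
    have h1 : w * j + i ≥ w * j := Nat.le_add_right _ _
    have h2 : w * j + i - w * j = i := by omega
    rw [decide_eq_true h1, h2, decide_eq_true hi]
    simp
  · rw [if_neg (ne_of_gt h)]
    have h1 : ¬ (w * j + i - w * j' < w) := by
      have : w * (j' + 1) ≤ w * j := Nat.mul_le_mul_left w h
      rw [mul_add, mul_one] at this
      omega
    rw [decide_eq_false h1]
    simp

theorem toMat_colMul [CharP K 2] (pos : ι → ℕ) (n w : ℕ) (hinj : Function.Injective pos)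
    (hlt : ∀ i, pos i < n) (hsurj : ∀ k < n, ∃ i, pos i = k) (hnw : n ≤ w) (A : ℕ) (L : SMat)
    (hL : ∀ kj ∈ L, kj.1 < n) :
    toMat K pos w (colMul w A L) = toMat K pos w A * sMat K pos L := by
  induction L with
  | nil => rw [sMat_nil, mul_zero]; exact toMat_zero pos w
  | cons kj L ih =>
    rw [colMul, toMat_xor, ih fun x hx => hL x (List.mem_cons_of_mem _ hx), sMat_cons, mul_add]
    congr 1
    obtain ⟨k, hk⟩ := hsurj kj.1 (hL kj (List.mem_cons_self ..))
    ext i j
    rw [Matrix.mul_apply]
    simp only [toMat, Matrix.of_apply]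
    rw [bit_block w A kj.1 kj.2 (pos j) (pos i) (lt_of_lt_of_le (hlt i) hnw)]
    rw [Finset.sum_eq_single k]
    · rw [← hk]
      by_cases h : pos j = kj.2
      · rw [if_pos h, if_pos ⟨rfl, h⟩, mul_one]
      · rw [if_neg h, if_neg (fun hh => h hh.2), mul_zero]
    · intro b _ hb
      rw [if_neg, mul_zero]
      rintro ⟨h1, -⟩
      exact hb (hinj (h1.trans hk.symm))
    · intro h; exact absurd (Finset.mem_univ _) h

theorem bit_bone [CharP K 2] (w : ℕ) : ∀ (n j i : ℕ), i < w → n ≤ w →
    bit K (bone w n) (w * j + i) = if i = j ∧ j < n then 1 else 0 := by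
  intro n
  induction n with
  | zero =>
    intro j i _ _
    rw [if_neg (fun h => absurd h.2 (Nat.not_lt_zero j))]
    exact bit_zero _
  | succ n ih =>
    intro j i hi hn
    rw [bone, bit_xor, ih j i hi (by omega)]
    have h1 : bit K (1 <<< (w * n + n)) (w * j + i) = if i = n ∧ j = n then 1 else 0 := by
      unfold bit
      rw [Nat.shiftLeft_eq, one_mul, Nat.testBit_two_pow]
      by_cases h : w * n + n = w * j + i
      · rw [decide_eq_true h]
        have hn' : n < w := by omega
        have e1 : (w * n + n) / w = n := by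
          rw [Nat.mul_add_div (by omega), Nat.div_eq_of_lt hn', add_zero]
        have e2 : (w * j + i) / w = j := by
          rw [Nat.mul_add_div (by omega), Nat.div_eq_of_lt hi, add_zero]
        have e3 : n = j := by rw [← e1, h, e2]
        subst e3
        have e4 : i = n := by omega
        rw [if_pos rfl, if_pos ⟨e4, rfl⟩]
      · rw [decide_eq_false h, if_neg (by simp), if_neg]
        rintro ⟨rfl, rfl⟩
        exact h rfl
    rw [h1]
    by_cases ha : i = n ∧ j = n
    · rw [if_pos ha, if_neg (by omega), if_pos (by omega), add_zero]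
    · rw [if_neg ha, zero_add]
      by_cases hb : i = j ∧ j < n
      · rw [if_pos hb, if_pos (by omega)]
      · rw [if_neg hb, if_neg (by omega)]

theorem toMat_bone [CharP K 2] (pos : ι → ℕ) (n w : ℕ) (hinj : Function.Injective pos) (hlt : ∀ i, pos i < n)
    (hnw : n ≤ w) : toMat K pos w (bone w n) = 1 := by
  ext i j
  simp only [toMat, Matrix.of_apply]
  rw [bit_bone w n (pos j) (pos i) (lt_of_lt_of_le (hlt i) hnw) hnw, Matrix.one_apply]
  by_cases hij : i = j
  · subst hij
    rw [if_pos ⟨rfl, hlt i⟩, if_pos rfl]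
  · rw [if_neg hij, if_neg (fun h => hij (hinj h.1))]

/-- Value of a monomial. -/
def mval (x y z : K) (m : Mono) : K := x ^ m.1 * y ^ m.2.1 * z ^ m.2.2

/-- Value of a polynomial. -/
def pval (pos : ι → ℕ) (w : ℕ) (f : Mono → K) (P : BPoly) : Matrix ι ι K :=
  (P.map fun q => f q.1 • toMat K pos w q.2).sum

theorem pval_nil (pos : ι → ℕ) (w : ℕ) (f : Mono → K) : pval pos w f [] = 0 := rfl

theorem pval_cons (pos : ι → ℕ) (w : ℕ) (f : Mono → K) (q : Mono × ℕ) (P : BPoly) :
    pval pos w f (q :: P) = f q.1 • toMat K pos w q.2 + pval pos w f P := rfl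

theorem meq_eq {m m' : Mono} (h : meq m m' = true) : m = m' := by
  unfold meq at h
  rw [Bool.and_eq_true, Bool.and_eq_true] at h
  exact Prod.ext (Nat.eq_of_beq_eq_true h.1)
    (Prod.ext (Nat.eq_of_beq_eq_true h.2.1) (Nat.eq_of_beq_eq_true h.2.2))

theorem pval_addTerm [CharP K 2] (pos : ι → ℕ) (w : ℕ) (f : Mono → K) (m : Mono) (A : ℕ) (P : BPoly) :
    pval pos w f (addTerm m A P) = f m • toMat K pos w A + pval pos w f P := by
  induction P with
  | nil => rfl
  | cons q P ih =>
    unfold addTerm
    by_cases h : meq m q.1 = true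
    · rw [h, cond_true, pval_cons, pval_cons, meq_eq h, toMat_xor, smul_add, add_assoc]
    · rw [Bool.not_eq_true] at h
      rw [h, cond_false, pval_cons, pval_cons, ih, add_left_comm]

theorem pval_addP [CharP K 2] (pos : ι → ℕ) (w : ℕ) (f : Mono → K) (P Q : BPoly) :
    pval pos w f (addP P Q) = pval pos w f P + pval pos w f Q := by
  unfold addP
  induction P with
  | nil => simp [pval_nil]
  | cons q P ih => rw [List.foldr_cons, pval_addTerm, ih, pval_cons, add_assoc]

theorem pval_clean (pos : ι → ℕ) (w : ℕ) (f : Mono → K) (P : BPoly) :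
    pval pos w f (clean P) = pval pos w f P := by
  unfold clean
  induction P with
  | nil => rfl
  | cons q P ih =>
    rw [List.filter_cons]
    by_cases h : Nat.beq q.2 0 = true
    · have h0 : q.2 = 0 := Nat.eq_of_beq_eq_true h
      rw [if_neg (by simp [h]), ih, pval_cons, h0, toMat_zero, smul_zero, zero_add]
    · rw [Bool.not_eq_true] at h
      rw [if_pos (by rw [h]; rfl), pval_cons, pval_cons, ih]

theorem pval_stepP [CharP K 2] (pos : ι → ℕ) (n w : ℕ) (hinj : Function.Injective pos)
    (hlt : ∀ i, pos i < n) (hsurj : ∀ k < n, ∃ i, pos i = k) (hnw : n ≤ w)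
    (mm : Mono → Mono → Mono) (f : Mono → K) (hmm : ∀ a b, f (mm a b) = f a * f b)
    (P : BPoly) (m : Mono) (E₁ E₂ : SMat) (h₁ : ∀ kj ∈ E₁, kj.1 < n) (h₂ : ∀ kj ∈ E₂, kj.1 < n) :
    pval pos w f (stepP w mm P m E₁ E₂) = pval pos w f P *
      (1 + f m • sMat K pos E₁ + (f m) ^ 2 • sMat K pos E₂) := by
  unfold stepP
  induction P with
  | nil => simp [pval_nil]
  | cons q P ih =>
    rw [List.foldr_cons, pval_addTerm, pval_addTerm, pval_addTerm, ih, pval_cons,
      toMat_colMul pos n w hinj hlt hsurj hnw _ _ h₁, toMat_colMul pos n w hinj hlt hsurj hnw _ _ h₂, hmm, hmm]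
    rw [add_mul (f q.1 • toMat K pos w q.2), mul_add (f q.1 • toMat K pos w q.2),
      mul_add (f q.1 • toMat K pos w q.2), mul_one, smul_mul_smul_comm, smul_mul_smul_comm, hmm,
      mul_assoc (f q.1), ← pow_two]
    simp only [add_assoc]

theorem zeroP_pval (pos : ι → ℕ) (w : ℕ) (f : Mono → K) (P : BPoly) (h : zeroP P = true) : pval pos w f P = 0 := by
  unfold zeroP at h
  rw [List.all_eq_true] at h
  induction P with
  | nil => rfl
  | cons q P ih =>
    rw [pval_cons, ih fun x hx => h x (List.mem_cons_of_mem _ hx),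
      Nat.eq_of_beq_eq_true (h q (List.mem_cons_self ..)), toMat_zero, smul_zero, add_zero]

/-- The value of a word as a product. -/
theorem pval_wordP [CharP K 2] (pos : ι → ℕ) (n w : ℕ) (hinj : Function.Injective pos)
    (hlt : ∀ i, pos i < n) (hsurj : ∀ k < n, ∃ i, pos i = k) (hnw : n ≤ w)
    (mm : Mono → Mono → Mono) (f : Mono → K) (hf : f (0, 0, 0) = 1) (hmm : ∀ a b, f (mm a b) = f a * f b)
    (E : ℕ → SMat × SMat) (l : List (ℕ × Mono))
    (hE : ∀ a ∈ l, (∀ kj ∈ (E a.1).1, kj.1 < n) ∧ (∀ kj ∈ (E a.1).2, kj.1 < n)) :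
    pval pos w f (wordP w n mm E l) =
      (l.map fun a => 1 + f a.2 • sMat K pos (E a.1).1 + (f a.2) ^ 2 • sMat K pos (E a.1).2).prod := by
  have gen : ∀ (l : List (ℕ × Mono)) (P : BPoly),
      (∀ a ∈ l, (∀ kj ∈ (E a.1).1, kj.1 < n) ∧ (∀ kj ∈ (E a.1).2, kj.1 < n)) →
      pval pos w f (l.foldl (fun P a => clean (stepP w mm P a.2 (E a.1).1 (E a.1).2)) P) = pval pos w f P *
      (l.map fun a => 1 + f a.2 • sMat K pos (E a.1).1 + (f a.2) ^ 2 • sMat K pos (E a.1).2).prod := by
    intro l
    induction l with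
    | nil => intro P _; simp
    | cons a l ih =>
      intro P hE
      rw [List.foldl_cons, ih _ fun a' ha' => hE a' (List.mem_cons_of_mem _ ha'), pval_clean,
        pval_stepP pos n w hinj hlt hsurj hnw mm f hmm P a.2 _ _ (hE a (List.mem_cons_self ..)).1
          (hE a (List.mem_cons_self ..)).2,
        List.map_cons, List.prod_cons, mul_assoc]
  unfold wordP
  rw [gen l _ hE]
  have : pval pos w f [((0, 0, 0), bone w n)] = (1 : Matrix ι ι K) := by
    rw [pval_cons, pval_nil, toMat_bone pos n w hinj hlt hnw, hf, one_smul, add_zero]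
  rw [this, one_mul]

theorem check_sound [CharP K 2] (pos : ι → ℕ) (n w : ℕ) (hinj : Function.Injective pos)
    (hlt : ∀ i, pos i < n) (hsurj : ∀ k < n, ∃ i, pos i = k) (hnw : n ≤ w)
    (mm : Mono → Mono → Mono) (f : Mono → K) (hf : f (0, 0, 0) = 1) (hmm : ∀ a b, f (mm a b) = f a * f b)
    (E : ℕ → SMat × SMat) (l l' : List (ℕ × Mono))
    (hE : ∀ a ∈ l, (∀ kj ∈ (E a.1).1, kj.1 < n) ∧ (∀ kj ∈ (E a.1).2, kj.1 < n))
    (hE' : ∀ a ∈ l', (∀ kj ∈ (E a.1).1, kj.1 < n) ∧ (∀ kj ∈ (E a.1).2, kj.1 < n))
    (h : check w n mm E l l' = true) :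
    (l.map fun a => 1 + f a.2 • sMat K pos (E a.1).1 + (f a.2) ^ 2 • sMat K pos (E a.1).2).prod =
    (l'.map fun a => 1 + f a.2 • sMat K pos (E a.1).1 + (f a.2) ^ 2 • sMat K pos (E a.1).2).prod := by
  rw [← pval_wordP pos n w hinj hlt hsurj hnw mm f hf hmm E l hE,
    ← pval_wordP pos n w hinj hlt hsurj hnw mm f hf hmm E l' hE']
  have h1 := zeroP_pval (K := K) pos w f _ h
  rw [pval_addP] at h1
  have h2 : ∀ M : Matrix ι ι K, M + M = 0 := fun M => by
    ext i j; exact CharTwo.add_self_eq_zero _
  calc pval pos w f (wordP w n mm E l)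
      = pval pos w f (wordP w n mm E l) + (pval pos w f (wordP w n mm E l') +
          pval pos w f (wordP w n mm E l')) := by
        rw [h2, add_zero]
    _ = _ := by rw [← add_assoc, h1, zero_add]

theorem mval_zero (x y z : K) : mval x y z (0, 0, 0) = 1 := by simp [mval]

theorem mulN_val (x y z : K) (a b : Mono) : mval x y z (mulN a b) = mval x y z a * mval x y z b := by
  unfold mval mulN
  dsimp only
  rw [pow_add, pow_add, pow_add]; ring

theorem mulL_val (x y z : K) (hxy : x * y = 1) (a b : Mono) :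
    mval x y z (mulL a b) = mval x y z a * mval x y z b := by
  rw [← mulN_val]
  unfold mval mulL mulN
  dsimp only
  generalize a.1 + b.1 = i
  generalize a.2.1 + b.2.1 = j
  obtain ⟨i', hi⟩ : ∃ i', i = i' + min i j := ⟨i - min i j, by omega⟩
  obtain ⟨j', hj⟩ : ∃ j', j = j' + min i j := ⟨j - min i j, by omega⟩
  have e1 : i - min i j = i' := by omega
  have e2 : j - min i j = j' := by omega
  rw [e1, e2]
  congr 1
  calc x ^ i' * y ^ j' = x ^ i' * y ^ j' * (x * y) ^ (min i j) := by rw [hxy, one_pow, mul_one]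
    _ = x ^ (i' + min i j) * y ^ (j' + min i j) := by rw [pow_add, pow_add, mul_pow]; ring
    _ = _ := by rw [← hi, ← hj]

theorem pval_diagP [CharP K 2] (pos : ι → ℕ) (w : ℕ) (f : Mono → K) (hinj : Function.Injective pos) (a : ℕ → ℤ) :
    ∀ n, n ≤ w → (∀ i, pos i < w) → ∀ i j, pval pos w f (diagP w a n) i j =
      if i = j ∧ pos j < n then f ((a (pos j)).toNat, (-a (pos j)).toNat, 0) else 0 := by
  intro n
  induction n with
  | zero =>
    intro _ _ i j
    rw [if_neg (fun h => absurd h.2 (Nat.not_lt_zero _))]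
    rfl
  | succ n ih =>
    intro hn hw i j
    rw [diagP, pval_addTerm, Matrix.add_apply, ih (by omega) hw i j, Matrix.smul_apply, smul_eq_mul]
    have h1 : toMat K pos w (1 <<< (w * n + n)) i j = if pos i = n ∧ pos j = n then 1 else 0 := by
      have h2 := bit_bone (K := K) w (n + 1) (pos j) (pos i) (hw i) hn
      have h3 := bit_bone (K := K) w n (pos j) (pos i) (hw i) (by omega)
      rw [bone, bit_xor, h3] at h2
      show bit K _ _ = _
      have h4 : bit K (1 <<< (w * n + n)) (w * pos j + pos i) = (if pos i = pos j ∧ pos j < n + 1 then (1 : K) else 0)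
          - (if pos i = pos j ∧ pos j < n then (1 : K) else 0) := by
        rw [← h2]; ring
      rw [h4]
      by_cases hij : pos i = pos j
      · rcases lt_trichotomy (pos j) n with h | h | h
        · rw [if_pos ⟨hij, by omega⟩, if_pos ⟨hij, h⟩, if_neg (by omega), sub_self]
        · rw [if_pos ⟨hij, by omega⟩, if_neg (by omega), if_pos ⟨by omega, h⟩, sub_zero]
        · rw [if_neg (by omega), if_neg (by omega), if_neg (by omega), sub_zero]
      · rw [if_neg (fun h => hij h.1), if_neg (fun h => hij h.1), if_neg (by omega), sub_zero]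
    rw [h1]
    by_cases hij : i = j
    · subst hij
      rcases lt_trichotomy (pos i) n with h | h | h
      · rw [if_neg (by omega), if_pos ⟨rfl, h⟩, if_pos ⟨rfl, by omega⟩, mul_zero, zero_add]
      · rw [if_pos ⟨h, h⟩, if_neg (by omega), if_pos ⟨rfl, by omega⟩, mul_one, add_zero, h]
      · rw [if_neg (by omega), if_neg (by omega), if_neg (by omega), mul_zero, zero_add]
    · have hij' : pos i ≠ pos j := fun h => hij (hinj h)
      rw [if_neg (by omega), if_neg (fun h => hij h.1), if_neg (fun h => hij h.1), mul_zero, zero_add]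

theorem checkDiag_sound [CharP K 2] (pos : ι → ℕ) (n w : ℕ) (hinj : Function.Injective pos)
    (hlt : ∀ i, pos i < n) (hsurj : ∀ k < n, ∃ i, pos i = k) (hnw : n ≤ w)
    (f : Mono → K) (hf : f (0, 0, 0) = 1) (hmm : ∀ a b, f (mulL a b) = f a * f b)
    (E : ℕ → SMat × SMat) (l : List (ℕ × Mono)) (a : ℕ → ℤ)
    (hE : ∀ a ∈ l, (∀ kj ∈ (E a.1).1, kj.1 < n) ∧ (∀ kj ∈ (E a.1).2, kj.1 < n))
    (h : checkDiag w n E l a = true) :
    (l.map fun a => 1 + f a.2 • sMat K pos (E a.1).1 + (f a.2) ^ 2 • sMat K pos (E a.1).2).prod =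
    Matrix.diagonal fun i => f ((a (pos i)).toNat, (-a (pos i)).toNat, 0) := by
  rw [← pval_wordP pos n w hinj hlt hsurj hnw mulL f hf hmm E l hE]
  have h1 := zeroP_pval (K := K) pos w f _ h
  rw [pval_addP] at h1
  have h2 : ∀ M : Matrix ι ι K, M + M = 0 := fun M => by
    ext i j; exact CharTwo.add_self_eq_zero _
  have h3 : pval pos w f (diagP w a n) = Matrix.diagonal fun i => f ((a (pos i)).toNat, (-a (pos i)).toNat, 0) := by
    ext i j
    rw [pval_diagP pos w f hinj a n hnw (fun i => lt_of_lt_of_le (hlt i) hnw) i j, Matrix.diagonal_apply]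
    by_cases hij : i = j
    · subst hij
      rw [if_pos ⟨rfl, hlt i⟩, if_pos rfl]
    · rw [if_neg hij, if_neg (fun h => hij h.1)]
  rw [← h3]
  calc pval pos w f (wordP w n mulL E l)
      = pval pos w f (wordP w n mulL E l) + (pval pos w f (diagP w a n) + pval pos w f (diagP w a n)) := by
        rw [h2, add_zero]
    _ = _ := by rw [← add_assoc, h1, zero_add]

theorem checkAdd_sound [CharP K 2] (pos : ι → ℕ) (n w : ℕ) (hinj : Function.Injective pos)
    (hlt : ∀ i, pos i < n) (hsurj : ∀ k < n, ∃ i, pos i = k) (hnw : n ≤ w)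
    (E : ℕ → SMat × SMat) (r : ℕ)
    (hE : (∀ kj ∈ (E r).1, kj.1 < n) ∧ (∀ kj ∈ (E r).2, kj.1 < n))
    (h : checkAdd w n E r = true) (s t : K) :
    (1 + s • sMat K pos (E r).1 + s ^ 2 • sMat K pos (E r).2) *
      (1 + t • sMat K pos (E r).1 + t ^ 2 • sMat K pos (E r).2) =
    1 + (s + t) • sMat K pos (E r).1 + (s + t) ^ 2 • sMat K pos (E r).2 := by
  have hw := pval_wordP pos n w hinj hlt hsurj hnw mulN (mval s t 1) (mval_zero s t 1) (mulN_val s t 1) E
      [(r, (1, 0, 0)), (r, (0, 1, 0))] (by
    intro a ha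
    simp only [List.mem_cons, List.not_mem_nil, or_false] at ha
    rcases ha with rfl | rfl <;> exact hE)
  have h1 := zeroP_pval (K := K) pos w (mval s t 1) _ h
  rw [pval_addP, hw, pval_cons, pval_cons, pval_cons, pval_cons, pval_cons, pval_nil,
    toMat_colMul pos n w hinj hlt hsurj hnw _ _ hE.1, toMat_colMul pos n w hinj hlt hsurj hnw _ _ hE.2,
    toMat_bone pos n w hinj hlt hnw] at h1
  have h2 : ∀ M : Matrix ι ι K, M + M = 0 := fun M => by
    ext i j; exact CharTwo.add_self_eq_zero _
  simp only [List.map_cons, List.map_nil, List.prod_cons, List.prod_nil, mul_one, pow_zero, pow_one, one_mul,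
    add_zero, one_smul, mval] at h1
  have h3 := eq_neg_of_add_eq_zero_left h1
  have h4 : ∀ M : Matrix ι ι K, -M = M := fun M => neg_eq_of_add_eq_zero_left (h2 M)
  rw [h4] at h3
  rw [h3, CharTwo.add_sq, add_smul, add_smul]
  abel

end sound

/-! ### Root elements of a datum in characteristic 2 -/

section datum

variable (D : ChevalleyDatum)

/-- The numbering of the coordinates. -/
def pos : D.Idx → ℕ := Sum.elim (fun i => i.val) (fun s => D.rank + s.val)

theorem pos_inj : Function.Injective (pos D) := by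
  rintro (i | i) (j | j) h
  · exact congrArg Sum.inl (Fin.ext h)
  · exfalso
    have : i.val = D.rank + j.val := h
    have := i.isLt
    omega
  · exfalso
    have : D.rank + i.val = j.val := h
    have := j.isLt
    omega
  · have : D.rank + i.val = D.rank + j.val := h
    exact congrArg Sum.inr (Fin.ext (by omega))

theorem pos_lt (i : D.Idx) : pos D i < D.rank + D.nroots := by
  rcases i with i | i
  · show i.val < _
    have := i.isLt
    omega
  · show D.rank + i.val < _
    have := i.isLt
    omega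

theorem pos_surj (k : ℕ) (hk : k < D.rank + D.nroots) : ∃ i, pos D i = k := by
  by_cases h : k < D.rank
  · exact ⟨Sum.inl ⟨k, h⟩, rfl⟩
  · refine ⟨Sum.inr ⟨k - D.rank, by omega⟩, ?_⟩
    show D.rank + (k - D.rank) = k
    omega

/-- All terms of the chain table in the column of `e_s`: ((u, M), k) for `M t^(k+1) e_u`. -/
def chainList (r s : ℕ) : List ((ℕ × ℤ) × ℕ) :=
  ((D.chain.getD r #[]).toList.filter (fun e => e.1 = s)).flatMap fun e => e.2.toList.zipIdx

theorem chainCoeff_sum {F : Type*} [Field F] (r s u : ℕ) (t : F) :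
    ((D.chainCoeff r s u).map fun km => ((km.2 : ℤ) : F) * t ^ km.1).sum =
      ((chainList D r s).map fun q => if u = q.1.1 then ((q.1.2 : ℤ) : F) * t ^ (q.2 + 1) else 0).sum := by
  unfold ChevalleyDatum.chainCoeff chainList
  generalize (D.chain.getD r #[]).toList.filter (fun e => e.1 = s) = L
  induction L with
  | nil => rfl
  | cons e L ih =>
    rw [List.flatMap_cons, List.flatMap_cons, List.map_append, List.map_append, List.sum_append, List.sum_append, ih]
    congr 1
    generalize e.2.toList.zipIdx = Z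
    induction Z with
    | nil => rfl
    | cons q Z ih =>
      rw [List.filter_cons, List.map_cons, List.sum_cons, ← ih]
      by_cases h : q.1.1 = u
      · rw [if_pos (decide_eq_true h), if_pos h.symm]; simp
      · rw [if_neg (by simpa using h), if_neg (fun hh => h hh.symm)]; simp

/-- Sparse matrices `E₁`, `E₂` give the root element `x_r(t)` modulo 2, column by column: for each column `j` the
entries of `E₁` (`E₂`) in column `j`. -/
def colOf (E : SMat) (j : ℕ) : List ℕ := (E.filter fun kj => Nat.beq kj.2 j).map Prod.fst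

/-- Bit mask of a list of positions. -/
def mask : List ℕ → ℕ
  | [] => 0
  | k :: l => Nat.xor (1 <<< k) (mask l)

/-- Bit mask of the `t^(k+1)` terms of a chain list modulo 2, for `k = 0` or `k = 1`. -/
def maskChain (rank k : ℕ) : List ((ℕ × ℤ) × ℕ) → ℕ
  | [] => 0
  | q :: l => bif Nat.beq q.2 k && Nat.beq (q.1.2.natAbs % 2) 1 then Nat.xor (1 <<< (rank + q.1.1)) (maskChain rank k l)
      else maskChain rank k l

/-- Bit mask of an integer vector modulo 2. -/
def maskVec (v : Array ℤ) : ℕ → ℕ
  | 0 => 0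
  | n + 1 => bif Nat.beq ((v.getD n 0).natAbs % 2) 1 then Nat.xor (1 <<< n) (maskVec v n) else maskVec v n

/-- The check of one column. -/
def checkCol (r j : ℕ) (E₁ E₂ : SMat) : Bool :=
  bif Nat.blt j D.rank then
    Nat.beq (mask (colOf E₁ j)) (bif Nat.beq (((D.cartanSR.getD j #[]).getD r 0).natAbs % 2) 1 then 1 <<< (D.rank + r)
      else 0) && Nat.beq (mask (colOf E₂ j)) 0
  else bif Nat.beq j (D.rank + r) then Nat.beq (mask (colOf E₁ j)) 0 && Nat.beq (mask (colOf E₂ j)) 0
  else bif Nat.beq j (D.rank + D.negIdx.getD r 0) then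
    Nat.beq (mask (colOf E₁ j)) (maskVec (D.coroot.getD r #[]) D.rank) &&
      Nat.beq (mask (colOf E₂ j)) (1 <<< (D.rank + r))
  else
    (chainList D r (j - D.rank)).all (fun q => Nat.blt q.2 2) &&
    (Nat.beq (mask (colOf E₁ j)) (maskChain D.rank 0 (chainList D r (j - D.rank))) &&
      Nat.beq (mask (colOf E₂ j)) (maskChain D.rank 1 (chainList D r (j - D.rank))))

/-- The check of a root. -/
def checkE (r : ℕ) (E₁ E₂ : SMat) : Bool :=
  (List.range (D.rank + D.nroots)).all fun j => checkCol D r j E₁ E₂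

theorem blt_false {a b : ℕ} (h : b ≤ a) : Nat.blt a b = false := by
  rw [← Bool.not_eq_true, Nat.blt_eq]; omega

theorem blt_true {a b : ℕ} (h : a < b) : Nat.blt a b = true := Nat.blt_eq.mpr h

theorem beq_true {a b : ℕ} (h : a = b) : Nat.beq a b = true := by
  subst h; exact Nat.beq_refl a

theorem beq_false {a b : ℕ} (h : a ≠ b) : Nat.beq a b = false := by
  rw [← Bool.not_eq_true]; exact fun hh => h (Nat.eq_of_beq_eq_true hh)

theorem int_cast_char_two {K : Type*} [Field K] [CharP K 2] (z : ℤ) :
    (z : K) = if Nat.beq (z.natAbs % 2) 1 then 1 else 0 := by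
  rcases Int.even_or_odd z with h | h
  · have h1 : z.natAbs % 2 = 0 := by
      have := Int.natAbs_even.mpr h
      exact Nat.even_iff.mp this
    rw [h1]
    obtain ⟨k, hk⟩ := h
    rw [hk]
    push_cast
    rw [CharTwo.add_self_eq_zero]
  · have h1 : z.natAbs % 2 = 1 := by
      have := Int.natAbs_odd.mpr h
      exact Nat.odd_iff.mp this
    rw [h1]
    obtain ⟨k, hk⟩ := h
    rw [hk]
    push_cast
    have : (2 : K) = 0 := CharTwo.two_eq_zero
    rw [this, zero_mul, zero_add]
    exact (if_pos (by decide)).symm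

theorem bit_one_shift {K : Type*} [Field K] (k i : ℕ) : bit K (1 <<< k) i = if i = k then 1 else 0 := by
  unfold bit
  rw [Nat.shiftLeft_eq, one_mul, Nat.testBit_two_pow]
  by_cases h : k = i
  · rw [decide_eq_true h, if_pos rfl, if_pos h.symm]
  · rw [decide_eq_false h, if_neg (by simp), if_neg (fun hh => h hh.symm)]

theorem bit_mask_colOf {K : Type*} [Field K] [CharP K 2] (pos' : D.Idx → ℕ) (E : SMat) (i j : D.Idx) :
    sMat K pos' E i j = bit K (mask (colOf E (pos' j))) (pos' i) := by
  unfold sMat colOf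
  rw [Matrix.of_apply]
  induction E with
  | nil => exact (bit_zero _).symm
  | cons kj E ih =>
    rw [List.map_cons, List.sum_cons, ih, List.filter_cons]
    by_cases h : kj.2 = pos' j
    · rw [if_pos (beq_true h), List.map_cons, mask, bit_xor, bit_one_shift]
      congr 1
      by_cases h' : pos' i = kj.1
      · rw [if_pos ⟨h', h.symm⟩, if_pos h']
      · rw [if_neg (fun hh => h' hh.1), if_neg h']
    · rw [if_neg (fun hh => h hh.2.symm), zero_add, if_neg (by rw [beq_false h]; simp)]

theorem bit_maskVec {K : Type*} [Field K] [CharP K 2] (v : Array ℤ) (n i : ℕ) :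
    bit K (maskVec v n) i = if i < n then ((v.getD i 0 : ℤ) : K) else 0 := by
  induction n with
  | zero => rw [if_neg (Nat.not_lt_zero i)]; exact bit_zero _
  | succ n ih =>
    rw [maskVec]
    by_cases h : Nat.beq ((v.getD n 0).natAbs % 2) 1 = true
    · rw [h, cond_true, bit_xor, ih, bit_one_shift]
      rcases lt_trichotomy i n with hi | hi | hi
      · rw [if_neg (by omega), if_pos hi, if_pos (by omega), zero_add]
      · rw [if_pos hi, if_neg (by omega), if_pos (by omega), add_zero, hi, int_cast_char_two, if_pos h]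
      · rw [if_neg (by omega), if_neg (by omega), if_neg (by omega), add_zero]
    · have h' := h
      rw [Bool.not_eq_true] at h
      rw [h, cond_false, ih]
      rcases lt_trichotomy i n with hi | hi | hi
      · rw [if_pos hi, if_pos (by omega)]
      · rw [if_neg (by omega), if_pos (by omega), hi, int_cast_char_two, if_neg h']
      · rw [if_neg (by omega), if_neg (by omega)]

theorem chain_masks {K : Type*} [Field K] [CharP K 2] (rank u : ℕ) (t : K) (l : List ((ℕ × ℤ) × ℕ))
    (hl : l.all (fun q => Nat.blt q.2 2) = true) :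
    (l.map fun q => if u = q.1.1 then ((q.1.2 : ℤ) : K) * t ^ (q.2 + 1) else 0).sum =
      t * bit K (maskChain rank 0 l) (rank + u) + t ^ 2 * bit K (maskChain rank 1 l) (rank + u) := by
  induction l with
  | nil => rw [maskChain, maskChain, bit_zero]; simp
  | cons q l ih =>
    rw [List.all_cons, Bool.and_eq_true] at hl
    rw [List.map_cons, List.sum_cons, ih hl.2]
    have hk : q.2 < 2 := Nat.blt_eq.mp hl.1
    obtain ⟨⟨v, z⟩, k⟩ := q
    dsimp only at hk ⊢
    rw [maskChain, maskChain, int_cast_char_two z]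
    dsimp only
    have hb : ∀ x : ℕ, bit K (Nat.xor (1 <<< (rank + v)) x) (rank + u) =
        (if u = v then 1 else 0) + bit K x (rank + u) := by
      intro x
      rw [bit_xor, bit_one_shift]
      congr 1
      by_cases h : u = v
      · rw [if_pos h, if_pos (by rw [h])]
      · rw [if_neg h, if_neg (by omega)]
    by_cases hz : Nat.beq (z.natAbs % 2) 1 = true
    · rw [hz]
      interval_cases k
      · simp only [Bool.and_true]
        have e1 : (Nat.beq 0 0) = true := rfl
        have e2 : (Nat.beq 0 1) = false := rfl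
        rw [e1, e2, cond_true, cond_false, hb]
        by_cases h : u = v
        · rw [if_pos h, if_pos h]; simp; ring
        · rw [if_neg h, if_neg h]; ring
      · simp only [Bool.and_true]
        have e1 : (Nat.beq 1 0) = false := rfl
        have e2 : (Nat.beq 1 1) = true := rfl
        rw [e1, e2, cond_true, cond_false, hb]
        by_cases h : u = v
        · rw [if_pos h, if_pos h]; simp; ring
        · rw [if_neg h, if_neg h]; ring
    · rw [Bool.not_eq_true] at hz
      rw [hz]
      simp

theorem x_eq_of_checkE {K : Type*} [Field K] [CharP K 2] (r : ℕ) (hr : r < D.nroots) (E₁ E₂ : SMat)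
    (h : checkE D r E₁ E₂ = true) (t : K) :
    D.x K r t = 1 + t • sMat K (pos D) E₁ + t ^ 2 • sMat K (pos D) E₂ := by
  have h0 : D.x K r t = D.xMat K ⟨r, hr⟩ t := dif_pos hr
  rw [h0]
  ext i j
  unfold checkE at h
  rw [List.all_eq_true] at h
  have h2 := h (pos D j) (List.mem_range.mpr (pos_lt D j))
  rw [Matrix.add_apply, Matrix.add_apply, Matrix.smul_apply, Matrix.smul_apply, smul_eq_mul, smul_eq_mul,
    bit_mask_colOf, bit_mask_colOf]
  rcases j with j | s
  · -- a column of the Cartan subalgebra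
    have hj : pos D (Sum.inl j) = j.val := rfl
    rw [checkCol, hj, blt_true j.isLt, cond_true, Bool.and_eq_true] at h2
    rw [hj, Nat.eq_of_beq_eq_true h2.1, Nat.eq_of_beq_eq_true h2.2, bit_zero, mul_zero, add_zero]
    have hb : bit K (bif Nat.beq (((D.cartanSR.getD j.val #[]).getD r 0).natAbs % 2) 1 then 1 <<< (D.rank + r)
        else 0) (pos D i) = if pos D i = D.rank + r then (((D.cartanSR.getD j.val #[]).getD r 0 : ℤ) : K) else 0 := by
      rw [int_cast_char_two ((D.cartanSR.getD j.val #[]).getD r 0)]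
      cases Nat.beq (((D.cartanSR.getD j.val #[]).getD r 0).natAbs % 2) 1
      · rw [cond_false, bit_zero]; simp
      · rw [cond_true, bit_one_shift]; simp
    rw [hb]
    rcases i with i' | u
    · show (if i' = j then (1 : K) else 0) = _
      have h1 : pos D (Sum.inl i') = i'.val := rfl
      rw [h1, if_neg (by have := i'.isLt; omega : ¬ i'.val = D.rank + r), mul_zero, add_zero, Matrix.one_apply]
      by_cases h : i' = j
      · rw [if_pos h, if_pos (by rw [h])]
      · rw [if_neg h, if_neg (fun hh => h (Sum.inl.inj hh))]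
    · show (if u = ⟨r, hr⟩ then - (((D.cartanSR.getD j.val #[]).getD r 0 : ℤ) : K) * t else 0) = _
      have h1 : pos D (Sum.inr u) = D.rank + u.val := rfl
      have hone : (1 : Matrix D.Idx D.Idx K) (Sum.inr u) (Sum.inl j) = 0 := Matrix.one_apply_ne (by rintro ⟨⟩)
      rw [h1, hone, zero_add]
      by_cases h : u = ⟨r, hr⟩
      · rw [if_pos h, if_pos (by rw [h]), CharTwo.neg_eq]; ring
      · have h5 : u.val ≠ r := fun hh => h (Fin.ext hh)
        rw [if_neg h, if_neg (by omega), mul_zero]
  · have hj : pos D (Sum.inr s) = D.rank + s.val := rfl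
    rw [checkCol, hj, blt_false (Nat.le_add_right _ _), cond_false] at h2
    rw [hj]
    by_cases hsr : s.val = r
    · rw [beq_true (by rw [hsr]), cond_true, Bool.and_eq_true] at h2
      rw [Nat.eq_of_beq_eq_true h2.1, Nat.eq_of_beq_eq_true h2.2, bit_zero, mul_zero, mul_zero, add_zero, add_zero,
        Matrix.one_apply]
      have hsr' : s = ⟨r, hr⟩ := Fin.ext hsr
      rcases i with i' | u
      · show (if s = ⟨r, hr⟩ then (0 : K) else _) = _
        rw [if_pos hsr', if_neg (by rintro ⟨⟩)]
      · show (if s = ⟨r, hr⟩ then (if u = ⟨r, hr⟩ then (1 : K) else 0) else _) = _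
        rw [if_pos hsr']
        by_cases h : u = ⟨r, hr⟩
        · rw [if_pos h, if_pos (by rw [h, hsr'])]
        · rw [if_neg h, if_neg (fun hh => h ((Sum.inr.inj hh).trans hsr'))]
    · rw [beq_false (by omega : D.rank + s.val ≠ D.rank + r), cond_false] at h2
      have hsr' : s ≠ ⟨r, hr⟩ := fun hh => hsr (congrArg Fin.val hh)
      by_cases hsn : s.val = D.negIdx.getD r 0
      · rw [beq_true (by rw [hsn]), cond_true, Bool.and_eq_true] at h2
        rw [Nat.eq_of_beq_eq_true h2.1, Nat.eq_of_beq_eq_true h2.2, bit_maskVec, bit_one_shift]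
        rcases i with i' | u
        · show (if s = ⟨r, hr⟩ then (0 : K) else if s.val = D.negIdx.getD r 0 then
            (((D.coroot.getD r #[]).getD i'.val 0 : ℤ) : K) * t else 0) = _
          have h1 : pos D (Sum.inl i') = i'.val := rfl
          rw [if_neg hsr', if_pos hsn, h1, if_pos i'.isLt, Matrix.one_apply, if_neg (by rintro ⟨⟩),
            if_neg (by have := i'.isLt; omega : ¬ i'.val = D.rank + r)]
          ring
        · show (if s = ⟨r, hr⟩ then (if u = ⟨r, hr⟩ then (1 : K) else 0) else if s.val = D.negIdx.getD r 0 then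
            (if u = s then (1 : K) else if u = ⟨r, hr⟩ then -(t ^ 2) else 0) else _) = _
          have h1 : pos D (Sum.inr u) = D.rank + u.val := rfl
          rw [if_neg hsr', if_pos hsn, h1, if_neg (by omega : ¬ D.rank + u.val < D.rank), Matrix.one_apply, mul_zero,
            add_zero]
          by_cases h : u = s
          · have h5 : u.val ≠ r := by rw [h]; exact hsr
            rw [if_pos h, if_pos (by rw [h]), if_neg (by omega), mul_zero, add_zero]
          · rw [if_neg h, if_neg (fun hh => h (Sum.inr.inj hh)), zero_add]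
            by_cases h' : u = ⟨r, hr⟩
            · rw [if_pos h', if_pos (by rw [h']), CharTwo.neg_eq, mul_one]
            · have h5 : u.val ≠ r := fun hh => h' (Fin.ext hh)
              rw [if_neg h', if_neg (by omega), mul_zero]
      · rw [beq_false (by omega), cond_false, Bool.and_eq_true, Bool.and_eq_true] at h2
        have e1 : D.rank + s.val - D.rank = s.val := by omega
        rw [e1] at h2
        rw [Nat.eq_of_beq_eq_true h2.2.1, Nat.eq_of_beq_eq_true h2.2.2]
        rcases i with i' | u
        · show (if s = ⟨r, hr⟩ then (0 : K) else if s.val = D.negIdx.getD r 0 then _ else 0) = _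
          have h1 : pos D (Sum.inl i') = i'.val := rfl
          rw [if_neg hsr', if_neg hsn, h1, Matrix.one_apply, if_neg (by rintro ⟨⟩), zero_add]
          have hm : ∀ (k : ℕ) (l : List ((ℕ × ℤ) × ℕ)), bit K (maskChain D.rank k l) i'.val = 0 := by
            intro k l
            induction l with
            | nil => exact bit_zero _
            | cons q l ih =>
              rw [maskChain]
              cases (Nat.beq q.2 k && Nat.beq (q.1.2.natAbs % 2) 1)
              · rw [cond_false, ih]
              · rw [cond_true, bit_xor, ih, bit_one_shift, if_neg (by have := i'.isLt; omega), add_zero]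
          rw [hm, hm, mul_zero, mul_zero, add_zero]
        · show (if s = ⟨r, hr⟩ then (if u = ⟨r, hr⟩ then (1 : K) else 0) else if s.val = D.negIdx.getD r 0 then _ else
            (if u = s then (1 : K) else 0) +
             ((D.chainCoeff r s.val u.val).map fun km => ((km.2 : ℤ) : K) * t ^ km.1).sum) = _
          have h1 : pos D (Sum.inr u) = D.rank + u.val := rfl
          rw [if_neg hsr', if_neg hsn, h1, Matrix.one_apply, chainCoeff_sum, chain_masks D.rank u.val t _ h2.1,
            add_assoc]
          congr 1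
          by_cases h : u = s
          · rw [if_pos h, if_pos (by rw [h])]
          · rw [if_neg h, if_neg (fun hh => h (Sum.inr.inj hh))]

/-- Exponents of the diagonal matrix `diag(1, …, 1; c^{m s})` by position. -/
def hexp (m : ℕ → ℤ) (k : ℕ) : ℤ := bif Nat.blt k D.rank then 0 else m (k - D.rank)

theorem mval_zpow {K : Type*} [Field K] (c : K) (z : ℤ) : mval c c⁻¹ 1 (z.toNat, (-z).toNat, 0) = c ^ z := by
  unfold mval
  dsimp only
  rw [one_pow, mul_one, inv_pow]
  rcases le_total 0 z with hz | hz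
  · have e2 : (-z).toNat = 0 := Int.toNat_eq_zero.mpr (by omega)
    rw [e2, pow_zero, inv_one, mul_one]
    conv_rhs => rw [← Int.toNat_of_nonneg hz]
    rw [zpow_natCast]
  · have e2 : z.toNat = 0 := Int.toNat_eq_zero.mpr hz
    rw [e2, pow_zero, one_mul]
    conv_rhs => rw [← neg_neg z, ← Int.toNat_of_nonneg (show 0 ≤ -z by omega)]
    rw [zpow_neg, zpow_natCast]

theorem diagonal_eq_gradeMat {K : Type*} [Field K] (m : ℕ → ℤ) (c : K) :
    (Matrix.diagonal fun i : D.Idx => mval c c⁻¹ 1 ((hexp D m (pos D i)).toNat, (-hexp D m (pos D i)).toNat, 0)) =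
      Grading.gradeMat D K m c := by
  unfold Grading.gradeMat
  congr 1
  ext j
  rw [mval_zpow]
  rcases j with j | s
  · have e3 : hexp D m (pos D (Sum.inl j)) = 0 := by
      have e4 : pos D (Sum.inl j) = j.val := rfl
      rw [e4, hexp, blt_true j.isLt]
      rfl
    rw [e3, zpow_zero]
    rfl
  · have e3 : hexp D m (pos D (Sum.inr s)) = m s.val := by
      have e4 : pos D (Sum.inr s) = D.rank + s.val := rfl
      rw [e4, hexp, blt_false (by omega), cond_false]
      congr 1
      omega
    rw [e3]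
    rfl

/-- The word `h_p(c)` with `q = -p` in characteristic 2 (monomials in `x = c`, `y = c⁻¹`). -/
def hl (p q : ℕ) : List (ℕ × Mono) :=
  [(p, (1, 0, 0)), (q, (0, 1, 0)), (p, (1, 0, 0)), (p, (0, 0, 0)), (q, (0, 0, 0)), (p, (0, 0, 0))]

theorem hl_map {K : Type*} [Field K] (p q : ℕ) (c : K) : ((hl p q).map fun a => (a.1, mval c c⁻¹ 1 a.2)) =
    [(p, c), (q, c⁻¹), (p, c), (p, 1), (q, 1), (p, 1)] := by
  simp only [hl, mval, List.map_cons, List.map_nil, pow_zero, pow_one, one_mul, mul_one]

theorem hWord_eq {K : Type*} [Field K] [CharP K 2] (p : ℕ) (c : K) :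
    D.hWord p c = [(p, c), (D.neg p, c⁻¹), (p, c), (p, 1), (D.neg p, 1), (p, 1)] := by
  unfold ChevalleyDatum.hWord ChevalleyDatum.nWord
  simp only [CharTwo.neg_eq, inv_one, List.cons_append, List.nil_append]

theorem wordMat_map_eq {K : Type*} [Field K] (N : ℕ) (E : ℕ → SMat × SMat)
    (hx : ∀ r < N, ∀ t : K, D.x K r t = 1 + t • sMat K (pos D) (E r).1 + t ^ 2 • sMat K (pos D) (E r).2)
    (f : Mono → K) (l : List (ℕ × Mono)) (hl : ∀ a ∈ l, a.1 < N) :
    D.wordMat K (l.map fun a => (a.1, f a.2)) =
    (l.map fun a => 1 + f a.2 • sMat K (pos D) (E a.1).1 + (f a.2) ^ 2 • sMat K (pos D) (E a.1).2).prod := by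
  unfold ChevalleyDatum.wordMat
  rw [List.map_map]
  congr 1
  apply List.map_congr_left
  intro a ha
  exact hx a.1 (hl a ha) (f a.2)

/-- `h_p(c)` is the diagonal matrix given by `m`, if the check passes. -/
theorem hMat_of_check {K : Type*} [Field K] [CharP K 2] (w N : ℕ) (hnw : D.rank + D.nroots ≤ w) (E : ℕ → SMat × SMat)
    (hx : ∀ r < N, ∀ t : K, D.x K r t = 1 + t • sMat K (pos D) (E r).1 + t ^ 2 • sMat K (pos D) (E r).2)
    (hE : ∀ r, (∀ kj ∈ (E r).1, kj.1 < D.rank + D.nroots) ∧ (∀ kj ∈ (E r).2, kj.1 < D.rank + D.nroots))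
    (m : ℕ → ℤ) (p : ℕ) (hp : p < N) (hq : D.neg p < N)
    (h : checkDiag w (D.rank + D.nroots) E (hl p (D.neg p)) (hexp D m) = true) (c : K) (hc : c ≠ 0) :
    D.hMat K p c = Grading.gradeMat D K m c := by
  have h5 := checkDiag_sound (K := K) (pos D) (D.rank + D.nroots) w (pos_inj D) (pos_lt D) (pos_surj D) hnw
    (mval c c⁻¹ 1) (mval_zero c c⁻¹ 1) (mulL_val c c⁻¹ 1 (mul_inv_cancel₀ hc)) E _ _ (fun a _ => hE a.1) h
  rw [diagonal_eq_gradeMat] at h5
  rw [← h5, ← wordMat_map_eq D N E hx, hl_map]
  · unfold ChevalleyDatum.hMat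
    rw [hWord_eq]
  · intro a ha
    simp only [hl, List.mem_cons, List.not_mem_nil, or_false] at ha
    rcases ha with rfl | rfl | rfl | rfl | rfl | rfl
    · exact hp
    · exact hq
    · exact hp
    · exact hp
    · exact hq
    · exact hp

/-- Word identities. -/
theorem word_eq_of_check {K : Type*} [Field K] [CharP K 2] (w N : ℕ) (hnw : D.rank + D.nroots ≤ w)
    (E : ℕ → SMat × SMat)
    (hx : ∀ r < N, ∀ t : K, D.x K r t = 1 + t • sMat K (pos D) (E r).1 + t ^ 2 • sMat K (pos D) (E r).2)
    (hE : ∀ r, (∀ kj ∈ (E r).1, kj.1 < D.rank + D.nroots) ∧ (∀ kj ∈ (E r).2, kj.1 < D.rank + D.nroots))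
    (mm : Mono → Mono → Mono) (f : Mono → K) (hf : f (0, 0, 0) = 1)
    (hmm : ∀ a b, f (mm a b) = f a * f b) (l l' : List (ℕ × Mono)) (hl : ∀ a ∈ l, a.1 < N)
    (hl' : ∀ a ∈ l', a.1 < N) (h : check w (D.rank + D.nroots) mm E l l' = true) :
    D.wordMat K (l.map fun a => (a.1, f a.2)) = D.wordMat K (l'.map fun a => (a.1, f a.2)) := by
  rw [wordMat_map_eq D N E hx f l hl, wordMat_map_eq D N E hx f l' hl']
  exact check_sound (pos D) _ w (pos_inj D) (pos_lt D) (pos_surj D) hnw mm f hf hmm E l l'
    (fun a _ => hE a.1) (fun a _ => hE a.1) h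

/-- Additivity. -/
theorem x_add_of_check {K : Type*} [Field K] [CharP K 2] (w N : ℕ) (hnw : D.rank + D.nroots ≤ w)
    (E : ℕ → SMat × SMat)
    (hx : ∀ r < N, ∀ t : K, D.x K r t = 1 + t • sMat K (pos D) (E r).1 + t ^ 2 • sMat K (pos D) (E r).2)
    (hE : ∀ r, (∀ kj ∈ (E r).1, kj.1 < D.rank + D.nroots) ∧ (∀ kj ∈ (E r).2, kj.1 < D.rank + D.nroots))
    (r : ℕ) (hr : r < N) (h : checkAdd w (D.rank + D.nroots) E r = true) (s t : K) :
    D.x K r s * D.x K r t = D.x K r (s + t) := by
  rw [hx r hr, hx r hr, hx r hr]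
  exact checkAdd_sound (pos D) _ w (pos_inj D) (pos_lt D) (pos_surj D) hnw E r (hE r) h s t

end datum

end Cfsg.Agent.ChevalleyStructure.CharTwoCheck
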