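import Cfsg.Agent.ChevalleyStructure.CommCheck
import Cfsg.Prelude.Def_ChevD4

/-!
Chevalley's commutator formula for type D₄: the representative pairs `(r, s)`
(`r` the highest root; `s` dominant for the simple reflections fixing `r`), by kernel checks.
-/

set_option autoImplicit false

namespace Cfsg.Agent.ChevalleyStructure.CommD4

open Cfsg.Lie
open Cfsg.Agent.ChevalleyStructure.LaurentWord
open Cfsg.Agent.ChevalleyStructure.CommTransport
open Cfsg.Agent.ChevalleyStructure.CommCheck

/-- The representatives of the pairs of roots `s ≠ ± r` under the Weyl group of type `D₄`. -/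
def reps : List (ℕ × ℕ) :=
  [(23, 9), (23, 12), (23, 13), (23, 18), (23, 22)]

set_option maxRecDepth 100000 in
theorem check_23_9 : pairCheck chevD4 (col chevD4) 23 9 = true := by decide +kernel
set_option maxRecDepth 100000 in
theorem check_23_12 : pairCheck chevD4 (col chevD4) 23 12 = true := by decide +kernel
set_option maxRecDepth 100000 in
theorem check_23_13 : pairCheck chevD4 (col chevD4) 23 13 = true := by decide +kernel
set_option maxRecDepth 100000 in
theorem check_23_18 : pairCheck chevD4 (col chevD4) 23 18 = true := by decide +kernel
set_option maxRecDepth 100000 in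
theorem check_23_22 : pairCheck chevD4 (col chevD4) 23 22 = true := by decide +kernel

/-- The commutator formula at the representative pairs of `D₄`. -/
theorem commAt_reps (F : Type*) [Field F] (p : ℕ × ℕ) (hp : p ∈ reps) : CommAt F chevD4 p.1 p.2 := by
  unfold reps at hp
  simp only [List.mem_cons, List.not_mem_nil, or_false] at hp
  rcases hp with rfl | rfl | rfl | rfl | rfl
  · exact commAt_of_pairCheck (colsOK_col _) check_23_9
  · exact commAt_of_pairCheck (colsOK_col _) check_23_12
  · exact commAt_of_pairCheck (colsOK_col _) check_23_13
  · exact commAt_of_pairCheck (colsOK_col _) check_23_18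
  · exact commAt_of_pairCheck (colsOK_col _) check_23_22

end Cfsg.Agent.ChevalleyStructure.CommD4
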