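import Cfsg.Agent.ChevalleyStructure.W0Core

/-!
# Reduction of statements about pairs of roots to representatives

`all_pairs`: a property of pairs `(r, s)`, `s ≠ ± r`, which is invariant under the fundamental reflections
(given by packed tables `T i`) holds for all pairs as soon as it holds for representatives.
-/

set_option autoImplicit false

namespace Cfsg.Agent.ChevalleyStructure.PairOrbit

open Cfsg.Agent.ChevalleyStructure.W0Core

/-- the tables are involutions of the indices below `n` commuting with `s ↦ n - 1 - s` -/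
def involOK (T : ℕ → ℕ) (l n : ℕ) : Bool :=
  (List.range l).all fun i => (List.range n).all fun s =>
    Nat.blt (look (T i) s) n && (Nat.beq (look (T i) (look (T i) s)) s &&
      Nat.beq (look (T i) (n - 1 - s)) (n - 1 - look (T i) s))

/-- every root is a representative or is raised by some reflection -/
def repsR (T : ℕ → ℕ) (l n : ℕ) (reps : List ℕ) : Bool :=
  (List.range n).all fun r => (reps.any fun k => Nat.beq r k) || (List.range l).any fun i => Nat.blt r (look (T i) r)

/-- every root `s ≠ ± r₀` is a representative or is raised by some reflection fixing `r₀` -/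
def repsS (T : ℕ → ℕ) (l n r0 : ℕ) (reps : List ℕ) : Bool :=
  (List.range n).all fun s => Nat.beq s r0 || (Nat.beq s (n - 1 - r0) || ((reps.any fun k => Nat.beq s k) ||
    (List.range l).any fun i => Nat.beq (look (T i) r0) r0 && Nat.blt s (look (T i) s)))

theorem involOK_spec {T : ℕ → ℕ} {l n : ℕ} (h : involOK T l n = true) {i s : ℕ} (hi : i < l) (hs : s < n) :
    look (T i) s < n ∧ look (T i) (look (T i) s) = s ∧ look (T i) (n - 1 - s) = n - 1 - look (T i) s := by
  have := List.all_eq_true.1 (List.all_eq_true.1 h i (List.mem_range.2 hi)) s (List.mem_range.2 hs)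
  rw [Bool.and_eq_true, Bool.and_eq_true, Nat.blt_eq] at this
  exact ⟨this.1, Nat.eq_of_beq_eq_true this.2.1, Nat.eq_of_beq_eq_true this.2.2⟩

theorem repsR_spec {T : ℕ → ℕ} {l n : ℕ} {reps : List ℕ} (h : repsR T l n reps = true) {r : ℕ} (hr : r < n) :
    r ∈ reps ∨ ∃ i < l, r < look (T i) r := by
  have := List.all_eq_true.1 h r (List.mem_range.2 hr)
  rw [Bool.or_eq_true, List.any_eq_true, List.any_eq_true] at this
  rcases this with ⟨k, hk, hk'⟩ | ⟨i, hi, hi'⟩
  · rw [Nat.eq_of_beq_eq_true hk']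
    exact Or.inl hk
  · rw [Nat.blt_eq] at hi'
    exact Or.inr ⟨i, List.mem_range.1 hi, hi'⟩

theorem repsS_spec {T : ℕ → ℕ} {l n r0 : ℕ} {reps : List ℕ} (h : repsS T l n r0 reps = true) {s : ℕ}
    (hs : s < n) (h1 : s ≠ r0) (h2 : s ≠ n - 1 - r0) :
    s ∈ reps ∨ ∃ i < l, look (T i) r0 = r0 ∧ s < look (T i) s := by
  have := List.all_eq_true.1 h s (List.mem_range.2 hs)
  rw [Bool.or_eq_true, Bool.or_eq_true, Bool.or_eq_true, List.any_eq_true, List.any_eq_true] at this
  rcases this with h3 | h3 | ⟨k, hk, hk'⟩ | ⟨i, hi, hi'⟩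
  · exact absurd (Nat.eq_of_beq_eq_true h3) h1
  · exact absurd (Nat.eq_of_beq_eq_true h3) h2
  · rw [Nat.eq_of_beq_eq_true hk']
    exact Or.inl hk
  · rw [Bool.and_eq_true, Nat.blt_eq] at hi'
    exact Or.inr ⟨i, List.mem_range.1 hi, Nat.eq_of_beq_eq_true hi'.1, hi'.2⟩

/-- **Reduction to representative roots.** -/
theorem all_roots {T : ℕ → ℕ} {l n : ℕ} {R : List ℕ} (h1 : involOK T l n = true) (h2 : repsR T l n R = true)
    (P : ℕ → Prop) (hP : ∀ i < l, ∀ r < n, P r → P (look (T i) r)) (hbase : ∀ r0 ∈ R, P r0) :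
    ∀ r < n, P r := by
  have key : ∀ k r : ℕ, r < n → n - r = k → P r := by
    intro k
    induction k using Nat.strong_induction_on with
    | _ k ih =>
      intro r hr hk
      rcases repsR_spec h2 hr with h | ⟨i, hi, hlt⟩
      · exact hbase r h
      · obtain ⟨a, b, -⟩ := involOK_spec h1 hi hr
        have := hP i hi _ a (ih (n - look (T i) r) (by omega) _ a rfl)
        rwa [b] at this
  intro r hr
  exact key _ r hr rfl

/-- **Reduction to representative pairs.** -/
theorem all_pairs {T : ℕ → ℕ} {l n : ℕ} {R : List ℕ} {S : ℕ → List ℕ} (h1 : involOK T l n = true)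
    (h2 : repsR T l n R = true) (h3 : ∀ r0 ∈ R, r0 < n ∧ repsS T l n r0 (S r0) = true) (P : ℕ → ℕ → Prop)
    (hP : ∀ i < l, ∀ r < n, ∀ s < n, s ≠ r → s ≠ n - 1 - r → P r s → P (look (T i) r) (look (T i) s))
    (hbase : ∀ r0 ∈ R, ∀ s ∈ S r0, P r0 s) :
    ∀ r < n, ∀ s < n, s ≠ r → s ≠ n - 1 - r → P r s := by
  -- the reflected pair is again admissible
  have adm : ∀ i < l, ∀ r < n, ∀ s < n, s ≠ r → s ≠ n - 1 - r →
      look (T i) s ≠ look (T i) r ∧ look (T i) s ≠ n - 1 - look (T i) r := by
    intro i hi r hr s hs hne hneg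
    obtain ⟨-, b1, c1⟩ := involOK_spec h1 hi hr
    obtain ⟨-, b2, -⟩ := involOK_spec h1 hi hs
    refine ⟨fun h => hne ?_, fun h => hneg ?_⟩
    · rw [← b1, ← b2, h]
    · rw [← c1] at h
      have hr' : n - 1 - r < n := by omega
      obtain ⟨-, b3, -⟩ := involOK_spec h1 hi hr'
      rw [← b2, h, b3]
  have back : ∀ i < l, ∀ r < n, ∀ s < n, s ≠ r → s ≠ n - 1 - r → P (look (T i) r) (look (T i) s) → P r s := by
    intro i hi r hr s hs hne hneg h
    obtain ⟨a1, b1, -⟩ := involOK_spec h1 hi hr
    obtain ⟨a2, b2, -⟩ := involOK_spec h1 hi hs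
    obtain ⟨c1, c2⟩ := adm i hi r hr s hs hne hneg
    have := hP i hi _ a1 _ a2 c1 c2 h
    rwa [b1, b2] at this
  have base : ∀ r0 ∈ R, ∀ s < n, s ≠ r0 → s ≠ n - 1 - r0 → P r0 s := by
    intro r0 hr0
    obtain ⟨hlt, hS⟩ := h3 r0 hr0
    have key : ∀ k s : ℕ, s < n → n - s = k → s ≠ r0 → s ≠ n - 1 - r0 → P r0 s := by
      intro k
      induction k using Nat.strong_induction_on with
      | _ k ih =>
        intro s hs hk hne hneg
        rcases repsS_spec hS hs hne hneg with h | ⟨i, hi, hfix, hlt'⟩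
        · exact hbase r0 hr0 s h
        · obtain ⟨a, b, -⟩ := involOK_spec h1 hi hs
          obtain ⟨c1, c2⟩ := adm i hi r0 hlt s hs hne hneg
          rw [hfix] at c1 c2
          have := ih (n - look (T i) s) (by omega) _ a rfl c1 c2
          rw [← hfix] at this
          exact back i hi r0 hlt s hs hne hneg this
    intro s hs
    exact key _ s hs rfl
  have key : ∀ k r : ℕ, r < n → n - r = k → ∀ s < n, s ≠ r → s ≠ n - 1 - r → P r s := by
    intro k
    induction k using Nat.strong_induction_on with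
    | _ k ih =>
      intro r hr hk s hs hne hneg
      rcases repsR_spec h2 hr with h | ⟨i, hi, hlt⟩
      · exact base r h s hs hne hneg
      · obtain ⟨a, b, -⟩ := involOK_spec h1 hi hr
        obtain ⟨a2, -, -⟩ := involOK_spec h1 hi hs
        obtain ⟨c1, c2⟩ := adm i hi r hr s hs hne hneg
        exact back i hi r hr s hs hne hneg (ih (n - look (T i) r) (by omega) _ a rfl _ a2 c1 c2)
  intro r hr
  exact key _ r hr rfl

end Cfsg.Agent.ChevalleyStructure.PairOrbit
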