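import Cfsg.Agent.ChevalleyStructure.CommTransport
import Cfsg.Agent.ChevalleyStructure.PairOrbit

/-!
The commutator formula for all pairs of roots from representative pairs and the compatibility of the chain table
with the fundamental reflections.
-/

set_option autoImplicit false

namespace Cfsg.Agent.ChevalleyStructure.CommOrbit

open Cfsg.Lie
open Cfsg.Agent.ChevalleyStructure.W0Core
open Cfsg.Agent.ChevalleyStructure.CommTransport
open Cfsg.Agent.ChevalleyStructure.PairOrbit

/-- unfolding `neg` for an arbitrary datum -/
theorem neg_eq_getD (D : ChevalleyDatum) (r : ℕ) : D.neg r = D.negIdx.getD r 0 := rfl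

/-- all chains have length at most two -/
def shortOK (D : ChevalleyDatum) : Bool :=
  D.chain.toList.all fun row => row.toList.all fun e => Nat.ble e.2.toList.length 2

theorem noLong_of_shortOK {D : ChevalleyDatum} (h : shortOK D = true) (r s : ℕ) : NoLong D r s := by
  unfold NoLong ChevalleyDatum.chainEntry
  split
  · simp
  · rename_i e he
    have hmem := List.mem_of_find?_eq_some he
    have hrow : D.chain.getD r #[] ∈ D.chain.toList := by
      by_contra hr
      have : D.chain.getD r #[] = #[] := by
        rw [Array.getD_eq_getD_getElem?]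
        rcases hg : D.chain[r]? with _ | a
        · rfl
        · exfalso
          apply hr
          rw [Array.getD_eq_getD_getElem?, hg]
          exact Array.mem_toList_iff.2 (Array.mem_of_getElem? hg)
      rw [this] at hmem
      simp at hmem
    have h1 := List.all_eq_true.1 h _ hrow
    have h2 := List.all_eq_true.1 h1 _ hmem
    exact Nat.le_of_ble_eq_true h2

/-- The table facts of one type used in the reduction. -/
structure OrbitData (D : ChevalleyDatum) where
  /-- packed reflection tables -/
  T : ℕ → ℕ
  /-- root representatives -/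
  R : List ℕ
  /-- pair representatives -/
  S : ℕ → List ℕ
  tab_ok : ∀ i < D.rank, ∀ s < D.nroots, D.reflectRoot i s = look (T i) s
  invol : involOK T D.rank D.nroots = true
  hR : repsR T D.rank D.nroots R = true
  hS : R.all (fun r0 => Nat.blt r0 D.nroots && repsS T D.rank D.nroots r0 (S r0)) = true
  short : shortOK D = true
  neg_ok : ∀ r < D.nroots, D.neg r = D.nroots - 1 - r

/-- The compatibility of the `i`-th fundamental reflection with chain table and root elements. -/
structure Compat (F : Type*) [Field F] (D : ChevalleyDatum) (i : ℕ) : Prop where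
  exists_sign : ∃ e : ℕ → ℤ, (∀ k, e k = 1 ∨ e k = -1) ∧
    (∀ r < D.nroots, ∀ s < D.nroots, s ≠ r → s ≠ D.neg r → ChainCompat D (D.reflectRoot i) e r s) ∧
    ∀ s < D.nroots, ∀ t : F, D.nMat F (D.simple i) 1 * D.x F s t =
      D.x F (D.reflectRoot i s) ((e s : F) * t) * D.nMat F (D.simple i) 1
  right_inv : ∃ N' : Matrix D.Idx D.Idx F, D.nMat F (D.simple i) 1 * N' = 1

/-- chain roots are in range -/
def rangeChainOK (D : ChevalleyDatum) : Bool :=
  D.chain.toList.all fun row => row.toList.all fun e => e.2.toList.all fun c => Nat.blt c.1 D.nroots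

theorem chainEntry_lt {D : ChevalleyDatum} (h : rangeChainOK D = true) (r s : ℕ) :
    ∀ c ∈ D.chainEntry r s, c.1 < D.nroots := by
  unfold ChevalleyDatum.chainEntry
  split
  · simp
  · rename_i e he
    have hmem := List.mem_of_find?_eq_some he
    have hrow : D.chain.getD r #[] ∈ D.chain.toList := by
      by_contra hr
      have : D.chain.getD r #[] = #[] := by
        rw [Array.getD_eq_getD_getElem?]
        rcases hg : D.chain[r]? with _ | a
        · rfl
        · exfalso
          apply hr
          rw [Array.getD_eq_getD_getElem?, hg]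
          exact Array.mem_toList_iff.2 (Array.mem_of_getElem? hg)
      rw [this] at hmem
      simp at hmem
    have h1 := List.all_eq_true.1 h _ hrow
    have h2 := List.all_eq_true.1 h1 _ hmem
    intro c hc
    have h3 := List.all_eq_true.1 h2 c hc
    rwa [Nat.blt_eq] at h3

theorem commTerms_lt {D : ChevalleyDatum} (h : rangeChainOK D = true) (hsh : shortOK D = true) (r s : ℕ) :
    ∀ c ∈ D.commTerms r s, c.1 < D.nroots := by
  rw [commTerms_eq (noLong_of_shortOK hsh r s) (noLong_of_shortOK hsh s r)]
  intro c hc
  rw [List.mem_filterMap] at hc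
  obtain ⟨a, ha, hc⟩ := hc
  rw [Option.map_eq_some_iff] at hc
  obtain ⟨k, hk, rfl⟩ := hc
  have hroot : ∀ r s j k : ℕ, D.chainRoot r s j = some k → k < D.nroots := by
    intro r s j k hk
    unfold ChevalleyDatum.chainRoot at hk
    rw [Option.map_eq_some_iff] at hk
    obtain ⟨c, hc, rfl⟩ := hk
    exact chainEntry_lt h r s c (List.mem_of_getElem? hc)
  unfold cands3 at ha
  simp only [List.mem_cons, List.not_mem_nil, or_false] at ha
  rcases ha with rfl | rfl | rfl
  · exact hroot _ _ _ _ hk
  · exact hroot _ _ _ _ hk
  · exact hroot _ _ _ _ hk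

/-- **The commutator formula for all pairs.** -/
theorem commAt_all {F : Type*} [Field F] {D : ChevalleyDatum} (O : OrbitData D) (hrange : rangeChainOK D = true)
    (hc : ∀ i < D.rank, Compat F D i) (hbase : ∀ r0 ∈ O.R, ∀ s ∈ O.S r0, CommAt F D r0 s)
    (r s : ℕ) (hr : r < D.nroots) (hs : s < D.nroots)
    (hrs : s ≠ r) (hneg : s ≠ D.neg r) : CommAt F D r s := by
  have hS := List.all_eq_true.1 O.hS
  refine all_pairs (S := O.S) O.invol O.hR (fun r0 hr0 => ?_) (CommAt F D) ?_ hbase r hr s hs
    hrs (by rwa [O.neg_ok r hr] at hneg)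
  · have := hS r0 hr0
    rw [Bool.and_eq_true, Nat.blt_eq] at this
    exact this
  · intro i hi r hr s hs hne hneg h
    obtain ⟨⟨e, he, hcc, hn⟩, N', hN'⟩ := hc i hi
    have hneg' : s ≠ D.neg r := by rw [O.neg_ok r hr]; exact hneg
    have hne2 : r ≠ D.neg s := by
      rw [O.neg_ok s hs]
      omega
    rw [← O.tab_ok i hi r hr, ← O.tab_ok i hi s hs]
    refine commAt_map (e := e) hN' (fun k hk t => hn k ?_ t) he (hcc r hr s hs hne hneg')
      (hcc s hs r hr hne.symm hne2) (noLong_of_shortOK O.short r s) (noLong_of_shortOK O.short s r) h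
    rcases hk with rfl | rfl | ⟨c, hc, rfl⟩
    · exact hr
    · exact hs
    · exact commTerms_lt hrange O.short r s c hc

end Cfsg.Agent.ChevalleyStructure.CommOrbit
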