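import Cfsg.Agent.ChevalleyStructure.RootCombBridge

/-!
The combinatorial layer of a `ChevalleyDatum` as a structure `Good D` (facts about `neg`, `reflectRoot`, coroot
coefficients `co`, Cartan integers `cartan`, positive roots), and its first consequences.
-/

set_option autoImplicit false

namespace Cfsg.Agent.ChevalleyStructure.RootCombGood

open Cfsg.Lie Cfsg.Agent.ChevalleyStructure.RootCombBase Cfsg.Agent.ChevalleyStructure.RootCombBridge

/-- coefficient of the coroot `h_r` on the fundamental coroot `h_{p_{j+1}}`. -/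
def co (D : ChevalleyDatum) (r j : ℕ) : ℤ := (D.coroot.getD r #[]).getD j 0

/-- the general Cartan integer `A_{r,s} = 2 (r,s)/(r,r) = ∑ c_i(r) A_{p_i,s}`. -/
def car (D : ChevalleyDatum) (r s : ℕ) : ℤ := ∑ k ∈ Finset.range D.rank, co D r k * D.cartan k s

/-- The combinatorial facts about a datum. All quantifiers run over indices below `rank` / `nroots`. -/
structure Good (D : ChevalleyDatum) : Prop where
  rank_pos : 0 < D.rank
  nroots_pos : 0 < D.nroots
  nroots_eq : D.nroots = 2 * (D.nroots / 2)
  neg_eq : ∀ {r : ℕ}, r < D.nroots → D.neg r = D.nroots - 1 - r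
  /-- the positive roots are exactly the upper half of the indices -/
  isPosRoot_iff : ∀ {r : ℕ}, D.IsPosRoot r ↔ D.nroots / 2 ≤ r ∧ r < D.nroots
  isNegRoot_iff : ∀ {r : ℕ}, D.IsNegRoot r ↔ r < D.nroots / 2
  isPosRoot_iff_co : ∀ {r : ℕ}, D.IsPosRoot r ↔ r < D.nroots ∧ ∀ j < D.rank, 0 ≤ co D r j
  isNegRoot_iff_co : ∀ {r : ℕ}, D.IsNegRoot r ↔ r < D.nroots ∧ ∀ j < D.rank, co D r j ≤ 0
  co_ne_zero : ∀ {r : ℕ}, r < D.nroots → ∃ j < D.rank, co D r j ≠ 0
  co_neg : ∀ {r j : ℕ}, r < D.nroots → j < D.rank → co D (D.neg r) j = - co D r j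
  co_inj : ∀ {r s : ℕ}, r < D.nroots → s < D.nroots → (∀ j < D.rank, co D r j = co D s j) → r = s
  cartan_neg : ∀ {i r : ℕ}, i < D.rank → r < D.nroots → D.cartan i (D.neg r) = - D.cartan i r
  simple_lt : ∀ {i : ℕ}, i < D.rank → D.simple i < D.nroots
  simple_pos : ∀ {i : ℕ}, i < D.rank → D.IsPosRoot (D.simple i)
  co_simple : ∀ {i j : ℕ}, i < D.rank → j < D.rank → co D (D.simple i) j = if i = j then 1 else 0
  cartan_simple : ∀ {i : ℕ}, i < D.rank → D.cartan i (D.simple i) = 2
  reflect_lt : ∀ {i s : ℕ}, i < D.rank → s < D.nroots → D.reflectRoot i s < D.nroots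
  reflect_reflect : ∀ {i s : ℕ}, i < D.rank → s < D.nroots → D.reflectRoot i (D.reflectRoot i s) = s
  reflect_neg : ∀ {i s : ℕ}, i < D.rank → s < D.nroots → D.reflectRoot i (D.neg s) = D.neg (D.reflectRoot i s)
  reflect_simple : ∀ {i : ℕ}, i < D.rank → D.reflectRoot i (D.simple i) = D.neg (D.simple i)
  reflect_pos : ∀ {i s : ℕ}, i < D.rank → D.IsPosRoot s → s ≠ D.simple i → D.IsPosRoot (D.reflectRoot i s)
  /-- `c_j(w_i s) = c_j(s) - δ_{ij} ∑ c_k(s) A_{k,i}` -/
  co_reflect : ∀ {i s j : ℕ}, i < D.rank → s < D.nroots → j < D.rank →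
    co D (D.reflectRoot i s) j = co D s j - if j = i then car D s (D.simple i) else 0
  /-- `A_{j, w_i s} = A_{j,s} - A_{i,s} A_{j,i}` -/
  cartan_reflect : ∀ {i s j : ℕ}, i < D.rank → s < D.nroots → j < D.rank →
    D.cartan j (D.reflectRoot i s) = D.cartan j s - D.cartan i s * D.cartan j (D.simple i)
  /-- `A_{r,r} = 2` -/
  car_self : ∀ {r : ℕ}, r < D.nroots → car D r r = 2
  /-- the index order is compatible with the reflections -/
  reflect_lt_iff : ∀ {i s : ℕ}, i < D.rank → s < D.nroots → (D.reflectRoot i s < s ↔ 0 < D.cartan i s)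
  reflect_eq_iff : ∀ {i s : ℕ}, i < D.rank → s < D.nroots → (D.reflectRoot i s = s ↔ D.cartan i s = 0)
  /-- the largest root is dominant -/
  cartan_high : ∀ {i : ℕ}, i < D.rank → 0 ≤ D.cartan i (D.nroots - 1)

theorem good_of_check {D : ChevalleyDatum} {T : Tab} (hb : chkBridge D T = true) (ha : T.chkAll = true) :
    Good D := by
  unfold Tab.chkAll at ha
  simp only [Bool.and_eq_true] at ha
  obtain ⟨cSize, cSimple, cNeg, cPos, cRefl, cCoRefl, cCartRefl, cTwo, cInj, cOrd, cHigh⟩ := ha
  -- sizes
  unfold Tab.chkSize at cSize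
  simp only [Bool.and_eq_true] at cSize
  obtain ⟨hl, hn2, hn⟩ := cSize
  have hl : 0 < T.l := Nat.le_of_ble_eq_true hl
  have hn : 0 < T.n := Nat.le_of_ble_eq_true hn
  have hn2 : T.n = 2 * (T.n / 2) := Nat.eq_of_beq_eq_true hn2
  have hposB : ∀ s, T.posB s = true ↔ T.n / 2 ≤ s := by
    intro s
    have h : T.posB s = true ↔ T.n ≤ 2 * s := by
      show Nat.ble T.n (2 * s) = true ↔ _
      exact Iff.of_eq Nat.ble_eq
    rw [h]
    omega
  have hsl : ∀ i < T.l, T.simpN i < T.n ∧ T.posB (T.simpN i) = true ∧ T.cartN i (T.simpN i) = 10 ∧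
      ∀ j < T.l, T.coroN (T.simpN i) j = if i = j then 9 else 8 := by
    intro i hi
    have := allLt_spec cSimple i hi
    simp only [Bool.and_eq_true] at this
    obtain ⟨h1, h2, h3, h4⟩ := this
    refine ⟨Nat.le_of_ble_eq_true h1, h2, Nat.eq_of_beq_eq_true h3, fun j hj => ?_⟩
    have h := Nat.eq_of_beq_eq_true (allLt_spec h4 j hj)
    rw [h]
    by_cases hij : i = j
    · subst hij
      rw [Nat.beq_refl]
      simp
    · have : Nat.beq i j = false := by
        cases hb : Nat.beq i j with
        | false => rfl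
        | true => exact absurd (Nat.eq_of_beq_eq_true hb) hij
      rw [this]
      simp [hij]
  have hne : ∀ i < T.l, T.simpN i ≠ T.negN (T.simpN i) := by
    intro i hi heq
    have h1 := hsl i hi
    have h2 : T.negN (T.simpN i) = T.n - 1 - T.simpN i := rfl
    omega
  have B := bridged_of_check hb cSimple cRefl hne
  have hnegN : ∀ r, T.negN r = T.n - 1 - r := fun r => rfl
  have hneg : ∀ {r : ℕ}, r < D.nroots → D.neg r = D.nroots - 1 - r := by
    intro r hr
    rw [B.nroots] at hr ⊢
    exact B.neg r hr
  have hco : ∀ {r j : ℕ}, r < T.n → j < T.l → co D r j = (T.coroN r j : ℤ) - 8 := by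
    intro r j hr hj
    rw [← coroZ_eq]
    exact B.co r hr j hj
  have hcart : ∀ {i s : ℕ}, i < T.l → s < T.n → D.cartan i s = (T.cartN i s : ℤ) - 8 := by
    intro i s hi hs
    rw [← cartZ_eq]
    exact B.cartan i hi s hs
  have hcar : ∀ {r s : ℕ}, r < T.n → s < T.n →
      car D r s = isum (fun k => Int.mul (T.coroZ r k) (T.cartZ k s)) T.l := by
    intro r s hr hs
    rw [isum_eq]
    unfold car
    rw [B.rank]
    refine Finset.sum_congr rfl fun k hk => ?_
    have hk := Finset.mem_range.1 hk
    rw [B.cartan k hk s hs]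
    show (D.coroot.getD r #[]).getD k 0 * _ = T.coroZ r k * _
    rw [B.co r hr k hk]
  -- positivity
  have hposco : ∀ r < T.n, (T.posB r = true ↔ ∀ j < T.l, 8 ≤ T.coroN r j) ∧
      (T.posB r = false ↔ ∀ j < T.l, T.coroN r j ≤ 8) ∧ ∃ j < T.l, T.coroN r j ≠ 8 := by
    intro r hr
    have h := allLt_spec cPos r hr
    cases hp : T.posB r with
    | true =>
      rw [hp] at h
      simp only [cond_true, Bool.and_eq_true] at h
      obtain ⟨h1, h2⟩ := h
      obtain ⟨j, hj, h3⟩ := anyLt_spec h2
      have h3 := Nat.le_of_ble_eq_true h3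
      refine ⟨⟨fun _ j hj => Nat.le_of_ble_eq_true (allLt_spec h1 j hj), fun _ => rfl⟩,
        ⟨fun h => (by cases h), fun h => absurd (h j hj) (by omega)⟩, j, hj, by omega⟩
    | false =>
      rw [hp] at h
      simp only [cond_false, Bool.and_eq_true] at h
      obtain ⟨h1, h2⟩ := h
      obtain ⟨j, hj, h3⟩ := anyLt_spec h2
      have h3 := Nat.le_of_ble_eq_true h3
      refine ⟨⟨fun h => (by cases h), fun h => absurd (h j hj) (by omega)⟩,
        ⟨fun _ j hj => Nat.le_of_ble_eq_true (allLt_spec h1 j hj), fun _ => rfl⟩, j, hj, by omega⟩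
  have hpco : ∀ {r : ℕ}, D.IsPosRoot r ↔ r < T.n ∧ ∀ j < T.l, 0 ≤ co D r j := by
    intro r
    show (r < D.nroots ∧ ∀ c ∈ (D.coroot.getD r #[]).toList, 0 ≤ c) ↔ _
    rw [B.nroots]
    refine and_congr_right fun hr => ?_
    constructor
    · intro h j hj
      apply h
      show (D.coroot.getD r #[]).getD j 0 ∈ _
      have hlen : j < (D.coroot.getD r #[]).toList.length := by
        rw [Array.length_toList, B.size r hr]
        exact hj
      rw [getD_toList (D.coroot.getD r #[]) j 0, List.getD_eq_getElem _ _ hlen]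
      exact List.getElem_mem _
    · intro h c hc
      obtain ⟨j, hj, rfl⟩ := List.mem_iff_getElem.1 hc
      have hj' : j < T.l := by
        rw [← B.size r hr]
        simpa using hj
      have := h j hj'
      rwa [show co D r j = (D.coroot.getD r #[]).getD j 0 from rfl, getD_toList (D.coroot.getD r #[]) j 0,
        List.getD_eq_getElem _ _ hj] at this
  have hnco : ∀ {r : ℕ}, D.IsNegRoot r ↔ r < T.n ∧ ∀ j < T.l, co D r j ≤ 0 := by
    intro r
    show (r < D.nroots ∧ ∀ c ∈ (D.coroot.getD r #[]).toList, c ≤ 0) ↔ _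
    rw [B.nroots]
    refine and_congr_right fun hr => ?_
    constructor
    · intro h j hj
      apply h
      show (D.coroot.getD r #[]).getD j 0 ∈ _
      have hlen : j < (D.coroot.getD r #[]).toList.length := by
        rw [Array.length_toList, B.size r hr]
        exact hj
      rw [getD_toList (D.coroot.getD r #[]) j 0, List.getD_eq_getElem _ _ hlen]
      exact List.getElem_mem _
    · intro h c hc
      obtain ⟨j, hj, rfl⟩ := List.mem_iff_getElem.1 hc
      have hj' : j < T.l := by
        rw [← B.size r hr]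
        simpa using hj
      have := h j hj'
      rwa [show co D r j = (D.coroot.getD r #[]).getD j 0 from rfl, getD_toList (D.coroot.getD r #[]) j 0,
        List.getD_eq_getElem _ _ hj] at this
  have hpos : ∀ {r : ℕ}, D.IsPosRoot r ↔ T.n / 2 ≤ r ∧ r < T.n := by
    intro r
    rw [hpco]
    constructor
    · rintro ⟨hr, h⟩
      refine ⟨?_, hr⟩
      rw [← hposB, (hposco r hr).1]
      intro j hj
      have := h j hj
      rw [hco hr hj] at this
      omega
    · rintro ⟨h, hr⟩
      refine ⟨hr, fun j hj => ?_⟩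
      rw [← hposB, (hposco r hr).1] at h
      have := h j hj
      rw [hco hr hj]
      omega
  have hnegr : ∀ {r : ℕ}, D.IsNegRoot r ↔ r < T.n / 2 := by
    intro r
    rw [hnco]
    constructor
    · rintro ⟨hr, h⟩
      have h1 : T.posB r = false := by
        rw [(hposco r hr).2.1]
        intro j hj
        have := h j hj
        rw [hco hr hj] at this
        omega
      by_contra hcon
      have := (hposB r).2 (by omega)
      rw [h1] at this
      cases this
    · intro h
      have hr : r < T.n := by omega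
      refine ⟨hr, fun j hj => ?_⟩
      have h1 : T.posB r = false := by
        cases hp : T.posB r with
        | false => rfl
        | true => exact absurd ((hposB r).1 hp) (by omega)
      have := (hposco r hr).2.1.1 h1 j hj
      rw [hco hr hj]
      omega
  -- reflections
  have hrefl : ∀ i < T.l, ∀ s < T.n, T.reflN i s < T.n ∧ T.reflN i (T.reflN i s) = s ∧
      T.reflN i (T.negN s) = T.negN (T.reflN i s) ∧ (s ≠ T.simpN i → T.posB s = true → T.posB (T.reflN i s) = true) := by
    intro i hi s hs
    have := allLt_spec cRefl i hi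
    rw [Bool.and_eq_true] at this
    have := allLt_spec this.2 s hs
    simp only [Bool.and_eq_true] at this
    obtain ⟨h1, h2, h3, h4, -⟩ := this
    refine ⟨Nat.le_of_ble_eq_true h1, Nat.eq_of_beq_eq_true h2, Nat.eq_of_beq_eq_true h3, fun hsi hp => ?_⟩
    simp only [Bool.or_eq_true] at h4
    rcases h4 with (h | h) | h
    · exact absurd (Nat.eq_of_beq_eq_true h) hsi
    · rw [hp] at h
      cases h
    · exact h
  have hrs : ∀ i < T.l, T.reflN i (T.simpN i) = T.negN (T.simpN i) := by
    intro i hi
    have := allLt_spec cRefl i hi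
    rw [Bool.and_eq_true] at this
    exact Nat.eq_of_beq_eq_true this.1
  have hord : ∀ i < T.l, ∀ s < T.n, (T.reflN i s < s ↔ 8 < T.cartN i s) ∧ (T.reflN i s = s ↔ T.cartN i s = 8) := by
    intro i hi s hs
    have h := allLt_spec (allLt_spec cOrd i hi) s hs
    cases h9 : Nat.ble 9 (T.cartN i s) with
    | true =>
      rw [h9] at h
      have h := Nat.le_of_ble_eq_true h
      have h9 := Nat.le_of_ble_eq_true h9
      have h : T.reflN i s + 1 ≤ s := h
      constructor <;> constructor <;> intro _ <;> omega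
    | false =>
      rw [h9] at h
      simp only [cond_false] at h
      have h9 : ¬ 9 ≤ T.cartN i s := fun h' => by
        have := Nat.ble_eq_true_of_le h'
        rw [h9] at this
        cases this
      cases h8 : Nat.ble 8 (T.cartN i s) with
      | true =>
        rw [h8] at h
        have h := Nat.eq_of_beq_eq_true h
        have h8 := Nat.le_of_ble_eq_true h8
        constructor <;> constructor <;> intro _ <;> omega
      | false =>
        rw [h8] at h
        simp only [cond_false] at h
        have h8 : ¬ 8 ≤ T.cartN i s := fun h' => by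
          have := Nat.ble_eq_true_of_le h'
          rw [h8] at this
          cases this
        have h := Nat.le_of_ble_eq_true h
        have h : s + 1 ≤ T.reflN i s := h
        constructor <;> constructor <;> intro _ <;> omega
  have hnlt : ∀ {r : ℕ}, r < T.n → T.negN r < T.n := by
    intro r hr
    rw [hnegN]
    omega
  refine
    { rank_pos := by rw [B.rank]; exact hl
      nroots_pos := by rw [B.nroots]; exact hn
      nroots_eq := by rw [B.nroots]; exact hn2
      neg_eq := hneg
      isPosRoot_iff := by rw [B.nroots]; exact hpos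
      isNegRoot_iff := by rw [B.nroots]; exact hnegr
      isPosRoot_iff_co := by rw [B.nroots, B.rank]; exact hpco
      isNegRoot_iff_co := by rw [B.nroots, B.rank]; exact hnco
      co_ne_zero := ?_
      co_neg := ?_
      co_inj := ?_
      cartan_neg := ?_
      simple_lt := ?_
      simple_pos := ?_
      co_simple := ?_
      cartan_simple := ?_
      reflect_lt := ?_
      reflect_reflect := ?_
      reflect_neg := ?_
      reflect_simple := ?_
      reflect_pos := ?_
      co_reflect := ?_
      cartan_reflect := ?_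
      car_self := ?_
      reflect_lt_iff := ?_
      reflect_eq_iff := ?_
      cartan_high := ?_ }
  · intro r hr
    rw [B.nroots] at hr
    obtain ⟨j, hj, h⟩ := (hposco r hr).2.2
    refine ⟨j, by rw [B.rank]; exact hj, ?_⟩
    rw [hco hr hj]
    omega
  · intro r j hr hj
    rw [B.nroots] at hr
    rw [B.rank] at hj
    have h := allLt_spec cNeg r hr
    rw [Bool.and_eq_true] at h
    have h := Nat.eq_of_beq_eq_true (allLt_spec h.1 j hj)
    have h : T.coroN (T.negN r) j + T.coroN r j = 16 := h
    rw [B.neg r hr, hco (hnlt hr) hj, hco hr hj]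
    omega
  · intro r s hr hs h
    rw [B.nroots] at hr hs
    rw [B.rank] at h
    -- equal packed rows
    have key : ∀ r s, r < T.n → s < T.n → (∀ j < T.l, T.coroN r j = T.coroN s j) → s < r → False := by
      intro r s hr hs h hsr
      have h1 := allLt_spec (allLt_spec cInj r hr) s hsr
      rw [Bool.not_eq_true'] at h1
      have h2 : (Nat.land (Nat.shiftRight T.coro (Nat.mul (Nat.mul 4 T.l) r)) (Nat.sub (Nat.pow 16 T.l) 1)) =
          (Nat.land (Nat.shiftRight T.coro (Nat.mul (Nat.mul 4 T.l) s)) (Nat.sub (Nat.pow 16 T.l) 1)) := by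
        show (T.coro >>> (4 * T.l * r)) &&& (16 ^ T.l - 1) = (T.coro >>> (4 * T.l * s)) &&& (16 ^ T.l - 1)
        rw [show (16 : ℕ) ^ T.l = 2 ^ (4 * T.l) by rw [pow_mul]; norm_num]
        rw [Nat.and_two_pow_sub_one_eq_mod, Nat.and_two_pow_sub_one_eq_mod]
        apply Nat.eq_of_testBit_eq
        intro k
        rw [Nat.testBit_mod_two_pow, Nat.testBit_mod_two_pow]
        by_cases hk : k < 4 * T.l
        · simp only [hk, decide_true, Bool.true_and, Nat.testBit_shiftRight]
          have hj : k / 4 < T.l := by omega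
          have h3 := h (k / 4) hj
          have h4 : ∀ r, (T.coroN r (k / 4)).testBit (k % 4) = T.coro.testBit (4 * T.l * r + k) := by
            intro r
            show ((T.coro >>> (4 * (r * T.l + k / 4))) &&& 15).testBit (k % 4) = _
            rw [show (15 : ℕ) = 2 ^ 4 - 1 by norm_num, Nat.and_two_pow_sub_one_eq_mod, Nat.testBit_mod_two_pow]
            have : k % 4 < 4 := Nat.mod_lt _ (by norm_num)
            simp only [this, decide_true, Bool.true_and, Nat.testBit_shiftRight]
            congr 1
            have : 4 * T.l * r = 4 * (r * T.l) := by ring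
            rw [this]
            omega
          rw [← h4, ← h4, h3]
        · simp [hk]
      rw [h2, Nat.beq_refl] at h1
      cases h1
    have h' : ∀ j < T.l, T.coroN r j = T.coroN s j := by
      intro j hj
      have := h j hj
      rw [hco hr hj, hco hs hj] at this
      omega
    rcases lt_trichotomy r s with hlt | heq | hgt
    · exact (key s r hs hr (fun j hj => (h' j hj).symm) hlt).elim
    · exact heq
    · exact (key r s hr hs h' hgt).elim
  · intro i r hi hr
    rw [B.nroots] at hr
    rw [B.rank] at hi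
    have h := allLt_spec cNeg r hr
    rw [Bool.and_eq_true] at h
    have h := Nat.eq_of_beq_eq_true (allLt_spec h.2 i hi)
    have h : T.cartN i (T.negN r) + T.cartN i r = 16 := h
    rw [B.neg r hr, hcart hi (hnlt hr), hcart hi hr]
    omega
  · intro i hi
    rw [B.rank] at hi
    rw [B.simple i hi, B.nroots]
    exact (hsl i hi).1
  · intro i hi
    rw [B.rank] at hi
    rw [B.simple i hi, hpos, ← hposB]
    exact ⟨(hsl i hi).2.1, (hsl i hi).1⟩
  · intro i j hi hj
    rw [B.rank] at hi hj
    rw [B.simple i hi, hco (hsl i hi).1 hj, (hsl i hi).2.2.2 j hj]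
    split <;> norm_num
  · intro i hi
    rw [B.rank] at hi
    rw [B.simple i hi, hcart hi (hsl i hi).1, (hsl i hi).2.2.1]
    norm_num
  · intro i s hi hs
    rw [B.rank] at hi
    rw [B.nroots] at hs ⊢
    rw [B.refl i hi s hs]
    exact (hrefl i hi s hs).1
  · intro i s hi hs
    rw [B.rank] at hi
    rw [B.nroots] at hs
    rw [B.refl i hi s hs, B.refl i hi _ (hrefl i hi s hs).1]
    exact (hrefl i hi s hs).2.1
  · intro i s hi hs
    rw [B.rank] at hi
    rw [B.nroots] at hs
    rw [B.refl i hi s hs, B.neg s hs, B.refl i hi _ (hnlt hs), B.neg _ (hrefl i hi s hs).1]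
    exact (hrefl i hi s hs).2.2.1
  · intro i hi
    rw [B.rank] at hi
    rw [B.simple i hi, B.refl i hi _ (hsl i hi).1, B.neg _ (hsl i hi).1]
    exact hrs i hi
  · intro i s hi hs hsi
    rw [B.rank] at hi
    rw [hpos] at hs ⊢
    rw [B.simple i hi] at hsi
    rw [B.refl i hi s hs.2, ← hposB]
    exact ⟨(hrefl i hi s hs.2).2.2.2 hsi ((hposB s).2 hs.1), (hrefl i hi s hs.2).1⟩
  · intro i s j hi hs hj
    rw [B.rank] at hi hj
    rw [B.nroots] at hs
    have h := allLt_spec (allLt_spec cCoRefl i hi) s hs
    rw [Bool.and_eq_true] at h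
    rw [B.simple i hi, B.refl i hi s hs]
    by_cases hji : j = i
    · rw [if_pos hji, hji, hcar hs (hsl i hi).1]
      have h1 := ieq_spec h.1
      have e1 : co D (T.reflN i s) i = T.coroZ (T.reflN i s) i := B.co _ (hrefl i hi s hs).1 i hi
      have e2 : co D s i = T.coroZ s i := B.co _ hs i hi
      rw [e1, e2, h1]
      rfl
    · rw [if_neg hji, hco (hrefl i hi s hs).1 hj, hco hs hj]
      have h1 := allLt_spec h.2 j hj
      rw [Bool.or_eq_true] at h1
      rcases h1 with h1 | h1
      · exact absurd (Nat.eq_of_beq_eq_true h1) hji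
      · rw [Nat.eq_of_beq_eq_true h1]
        ring
  · intro i s j hi hs hj
    rw [B.rank] at hi hj
    rw [B.nroots] at hs
    have h := ieq_spec (allLt_spec (allLt_spec (allLt_spec cCartRefl i hi) s hs) j hj)
    rw [B.simple i hi, B.refl i hi s hs, B.cartan j hj _ (hrefl i hi s hs).1, B.cartan j hj s hs,
      B.cartan i hi s hs, B.cartan j hj _ (hsl i hi).1, h]
    rfl
  · intro r hr
    rw [B.nroots] at hr
    rw [hcar hr hr]
    exact ieq_spec (allLt_spec cTwo r hr)
  · intro i s hi hs
    rw [B.rank] at hi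
    rw [B.nroots] at hs
    rw [B.refl i hi s hs, hcart hi hs, (hord i hi s hs).1]
    omega
  · intro i s hi hs
    rw [B.rank] at hi
    rw [B.nroots] at hs
    rw [B.refl i hi s hs, hcart hi hs, (hord i hi s hs).2]
    omega
  · intro i hi
    rw [B.rank] at hi
    have h : 8 ≤ T.cartN i (T.n - 1) := Nat.le_of_ble_eq_true (allLt_spec cHigh i hi)
    rw [B.nroots, hcart hi (by omega)]
    omega

end Cfsg.Agent.ChevalleyStructure.RootCombGood
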