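import Cfsg.Prelude.Def_ChevStructure

/-!
# Columns of the root element matrices `x_r(t)` of a Chevalley datum

`x_r(t)` applied to the four kinds of basis vectors: `e_s` (`s ≠ ±r`), `e_r`, `e_{-r}`, `h_{p_i}`, in terms of
`D.chainEntry`, `D.neg`, `D.cartan` and the coroot table. Valid for every datum `D` (only hypothesis: the keys of
row `r` of the chain table are distinct).
-/

set_option autoImplicit false

namespace Cfsg.Agent.ChevalleyStructure.XColumns

open Cfsg.Lie
open scoped Matrix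

universe u

variable {D : ChevalleyDatum} {F : Type u} [Field F]

/-- Row `r` of the chain table. -/
def row (D : ChevalleyDatum) (r : ℕ) : List (ℕ × Array (ℕ × ℤ)) := (D.chain.getD r #[]).toList

/-- The basis vector `e_u` (zero out of range). -/
def ev (D : ChevalleyDatum) (F : Type u) [Field F] (u : ℕ) : D.Idx → F
  | Sum.inl _ => 0
  | Sum.inr v => if v.val = u then 1 else 0

/-- The basis vector `h_{p_i}` (zero out of range). -/
def hv (D : ChevalleyDatum) (F : Type u) [Field F] (i : ℕ) : D.Idx → F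
  | Sum.inl i' => if i'.val = i then 1 else 0
  | Sum.inr _ => 0

@[simp] theorem ev_inl (u : ℕ) (i : Fin D.rank) : ev D F u (Sum.inl i) = 0 := rfl
@[simp] theorem ev_inr (u : ℕ) (v : Fin D.nroots) : ev D F u (Sum.inr v) = if v.val = u then 1 else 0 := rfl
@[simp] theorem hv_inl (i : ℕ) (i' : Fin D.rank) : hv D F i (Sum.inl i') = if i'.val = i then 1 else 0 := rfl
@[simp] theorem hv_inr (i : ℕ) (v : Fin D.nroots) : hv D F i (Sum.inr v) = 0 := rfl

theorem ev_eq_single {u : ℕ} (hu : u < D.nroots) : ev D F u = Pi.single (Sum.inr ⟨u, hu⟩) 1 := by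
  funext a
  rcases a with i | v
  · simp
  · simp only [ev_inr, Pi.single_apply, Sum.inr.injEq, Fin.ext_iff]

theorem hv_eq_single {i : ℕ} (hi : i < D.rank) : hv D F i = Pi.single (Sum.inl ⟨i, hi⟩) 1 := by
  funext a
  rcases a with i | v
  · simp only [hv_inl, Pi.single_apply, Sum.inl.injEq, Fin.ext_iff]
  · simp

theorem mulVec_ev (M : Matrix D.Idx D.Idx F) {u : ℕ} (hu : u < D.nroots) (a : D.Idx) :
    (M *ᵥ ev D F u) a = M a (Sum.inr ⟨u, hu⟩) := by
  rw [ev_eq_single hu, Matrix.mulVec_single_one, Matrix.col_apply]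

theorem mulVec_hv (M : Matrix D.Idx D.Idx F) {i : ℕ} (hi : i < D.rank) (a : D.Idx) :
    (M *ᵥ hv D F i) a = M a (Sum.inl ⟨i, hi⟩) := by
  rw [hv_eq_single hi, Matrix.mulVec_single_one, Matrix.col_apply]

/-! ### The chain table -/

theorem filter_of_nodup {α : Type*} (l : List (ℕ × α)) (s : ℕ) (h : (l.map Prod.fst).Nodup) :
    l.filter (fun e => e.1 = s) = (l.find? (fun e => e.1 = s)).toList := by
  induction l with
  | nil => rfl
  | cons e l ih =>
    simp only [List.map_cons, List.nodup_cons] at h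
    by_cases hs : e.1 = s
    · have : l.filter (fun e => e.1 = s) = [] := by
        rw [List.filter_eq_nil_iff]
        intro x hx
        simp only [decide_eq_true_eq]
        intro hxs
        exact h.1 (hs ▸ hxs ▸ List.mem_map_of_mem hx)
      simp [hs, this]
    · simp [hs, ih h.2]

theorem chainCoeff_eq {r : ℕ} (h : ((row D r).map Prod.fst).Nodup) (s u : ℕ) :
    D.chainCoeff r s u = ((D.chainEntry r s).zipIdx.filter (fun q => q.1.1 = u)).map fun q => (q.2 + 1, q.1.2) := by
  unfold ChevalleyDatum.chainCoeff ChevalleyDatum.chainEntry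
  have := filter_of_nodup (row D r) s h
  rw [row] at this
  rw [this]
  cases ((D.chain.getD r #[]).toList.find? (fun e => e.1 = s)) with
  | none => simp
  | some e => simp

theorem sum_filter_map (l : List ((ℕ × ℤ) × ℕ)) (t : F) (v : ℕ) :
    (((l.filter (fun q => q.1.1 = v)).map fun q => (q.2 + 1, q.1.2)).map
      fun km : ℕ × ℤ => ((km.2 : ℤ) : F) * t ^ km.1).sum
      = (l.map fun q => ((q.1.2 : F) * t ^ (q.2 + 1)) * (if v = q.1.1 then 1 else 0)).sum := by
  induction l with
  | nil => rfl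
  | cons q l ih =>
    by_cases hq : q.1.1 = v
    · have hq' : v = q.1.1 := hq.symm
      rw [List.filter_cons_of_pos (by simpa using hq)]
      simp only [List.map_cons, List.sum_cons, ih, if_pos hq', mul_one]
    · have hq' : ¬ v = q.1.1 := fun h => hq h.symm
      rw [List.filter_cons_of_neg (by simpa using hq)]
      simp only [List.map_cons, List.sum_cons, ih, if_neg hq', mul_zero, zero_add]

/-- The column of `x_r(t)` at `e_s`, `s ≠ ±r`. -/
theorem x_mulVec_ev {r s : ℕ} (hr : r < D.nroots) (hs : s < D.nroots) (hsr : s ≠ r) (hsn : s ≠ D.neg r)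
    (h : ((row D r).map Prod.fst).Nodup) (t : F) :
    D.x F r t *ᵥ ev D F s = ev D F s +
      ((D.chainEntry r s).zipIdx.map fun q => ((q.1.2 : F) * t ^ (q.2 + 1)) • ev D F q.1.1).sum := by
  funext a
  rw [mulVec_ev _ hs]
  have hsr' : ¬ (⟨s, hs⟩ : Fin D.nroots) = ⟨r, hr⟩ := fun h => hsr (by simpa [Fin.ext_iff] using h)
  have hsn' : ¬ s = D.negIdx.getD r 0 := hsn
  have hsum : ∀ (l : List ((ℕ × ℤ) × ℕ)), (l.map fun q => ((q.1.2 : F) * t ^ (q.2 + 1)) • ev D F q.1.1).sum a
      = (l.map fun q => ((q.1.2 : F) * t ^ (q.2 + 1)) * ev D F q.1.1 a).sum := by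
    intro l
    induction l with
    | nil => rfl
    | cons q l ih => simp only [List.map_cons, List.sum_cons, Pi.add_apply, ih, Pi.smul_apply, smul_eq_mul]
  rw [ChevalleyDatum.x, dif_pos hr, Pi.add_apply, hsum]
  rcases a with i | v
  · simp only [ChevalleyDatum.xMat, Matrix.of_apply, if_neg hsr', if_neg hsn', ev_inl, mul_zero, List.map_const',
      List.sum_replicate, smul_zero, add_zero]
  · simp only [ChevalleyDatum.xMat, Matrix.of_apply, if_neg hsn', ev_inr, Fin.ext_iff, if_neg hsr]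
    rw [chainCoeff_eq h, sum_filter_map]

/-- The column of `x_r(t)` at `e_r`. -/
theorem x_mulVec_ev_self {r : ℕ} (hr : r < D.nroots) (t : F) : D.x F r t *ᵥ ev D F r = ev D F r := by
  funext a
  rw [mulVec_ev _ hr, ChevalleyDatum.x, dif_pos hr]
  rcases a with i | v
  · simp [ChevalleyDatum.xMat]
  · simp [ChevalleyDatum.xMat, Fin.ext_iff]

/-- The coroot vector `h_r = Σ c_i(r) h_{p_i}`. -/
def corv (D : ChevalleyDatum) (F : Type u) [Field F] (r : ℕ) : D.Idx → F
  | Sum.inl i => (((D.coroot.getD r #[]).getD i.val 0 : ℤ) : F)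
  | Sum.inr _ => 0

@[simp] theorem corv_inl (r : ℕ) (i : Fin D.rank) :
    corv D F r (Sum.inl i) = (((D.coroot.getD r #[]).getD i.val 0 : ℤ) : F) := rfl
@[simp] theorem corv_inr (r : ℕ) (v : Fin D.nroots) : corv D F r (Sum.inr v) = 0 := rfl

/-- The column of `x_r(t)` at `e_{-r}`. -/
theorem x_mulVec_ev_neg {r : ℕ} (hr : r < D.nroots) (hn : D.neg r < D.nroots) (hne : D.neg r ≠ r) (t : F) :
    D.x F r t *ᵥ ev D F (D.neg r) = ev D F (D.neg r) + t • corv D F r - t ^ 2 • ev D F r := by
  obtain ⟨m, hm⟩ : ∃ m, m = D.neg r := ⟨_, rfl⟩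
  have hm' : D.negIdx.getD r 0 = m := hm.symm
  rw [← hm] at hn hne ⊢
  funext a
  rw [mulVec_ev _ hn, ChevalleyDatum.x, dif_pos hr]
  rcases a with i | v
  · simp only [ChevalleyDatum.xMat, Matrix.of_apply, Fin.ext_iff, if_neg hne, hm', if_true, Pi.sub_apply,
      Pi.add_apply, Pi.smul_apply, ev_inl, corv_inl, smul_eq_mul, mul_zero, sub_zero, zero_add]
    exact mul_comm _ _
  · simp only [ChevalleyDatum.xMat, Matrix.of_apply, Fin.ext_iff, if_neg hne, hm', if_true,
      Pi.sub_apply, Pi.add_apply, Pi.smul_apply, ev_inr, corv_inr, smul_eq_mul, mul_zero, add_zero]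
    by_cases h1 : v.val = m
    · have h2 : ¬ v.val = r := fun h2 => hne (h1 ▸ h2)
      rw [if_pos h1, if_neg h2, if_pos h1, mul_zero, sub_zero]
    · by_cases h2 : v.val = r
      · rw [if_neg h1, if_pos h2, if_neg h1, if_pos h2, mul_one, zero_sub]
      · rw [if_neg h1, if_neg h2, if_neg h1, if_neg h2, mul_zero, sub_zero]

/-- The column of `x_r(t)` at `h_{p_i}`. -/
theorem x_mulVec_hv {r i : ℕ} (hr : r < D.nroots) (hi : i < D.rank) (t : F) :
    D.x F r t *ᵥ hv D F i = hv D F i - ((D.cartan i r : F) * t) • ev D F r := by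
  funext a
  rw [mulVec_hv _ hi, ChevalleyDatum.x, dif_pos hr]
  rcases a with i' | v
  · simp [ChevalleyDatum.xMat, Fin.ext_iff]
  · by_cases h2 : v.val = r
    · simp [ChevalleyDatum.xMat, Fin.ext_iff, ChevalleyDatum.cartan, h2]
    · simp [ChevalleyDatum.xMat, Fin.ext_iff, ChevalleyDatum.cartan, h2]

end Cfsg.Agent.ChevalleyStructure.XColumns
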