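import Cfsg.Agent.ChevalleyStructure.FastFinal
import Cfsg.Agent.ChevalleyStructure.XColumns
import Cfsg.Agent.ChevalleyStructure.RootCombGood
import Cfsg.Agent.ChevalleyStructure.Columns

/-!
`n_p(1) x_s(t) n_p(1)⁻¹ = x_{w_p(s)}(η_s t)` for a fundamental root `p`, from the compatibility of the
chain table with the reflection.
-/

set_option autoImplicit false

namespace Cfsg.Agent.ChevalleyStructure.ConjSimple

open Cfsg.Lie
open Cfsg.Agent.ChevalleyStructure.FastFinal
open Cfsg.Agent.ChevalleyStructure.XColumns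
open Cfsg.Agent.ChevalleyStructure.NSimple (eta Facts)
open scoped Matrix

universe u

variable {D : ChevalleyDatum} {F : Type u} [Field F] {i : ℕ}

theorem nodup_of_sorted : ∀ (es : List (ℕ × Array (ℕ × ℤ))) (b : ℕ), Columns.sortedFrom b es = true →
    (es.map Prod.fst).Nodup
  | [], _, _ => List.nodup_nil
  | e :: es, b, h => by
    have h' := h
    unfold Columns.sortedFrom at h'
    rw [Bool.and_eq_true] at h'
    rw [List.map_cons, List.nodup_cons]
    refine ⟨?_, nodup_of_sorted es _ h'.2⟩
    intro hm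
    rw [List.mem_map] at hm
    obtain ⟨e', he', h2⟩ := hm
    have := Columns.lt_of_sortedFrom es _ h'.2 e' he'
    omega

/-- `n_p(1) e_s = η_s e_{w s}`. -/
theorem n_ev (hF : Facts D i) {s : ℕ} (hs : s < D.nroots) :
    D.nMat F (D.simple i) 1 *ᵥ ev D F s = ((eta D i s : ℤ) : F) • ev D F (D.reflectRoot i s) := by
  funext a
  rw [mulVec_ev _ hs, NSimple.nMat_apply_inr F hF]
  rcases a with j | v
  · simp
  · simp

/-- `n_p(1) h_j = h_j - A_{j,p} h_i`. -/
theorem n_hv (hF : Facts D i) {j : ℕ} (hj : j < D.rank) :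
    D.nMat F (D.simple i) 1 *ᵥ hv D F j = hv D F j - ((D.cartan j (D.simple i) : ℤ) : F) • hv D F i := by
  funext a
  rw [mulVec_hv _ hj, NSimple.nMat_apply_inl F hF]
  rcases a with j' | v
  · simp [Fin.ext_iff]
  · simp

theorem corv_eq_sum (r : ℕ) : corv D F r = ∑ j ∈ Finset.range D.rank, ((RootCombGood.co D r j : ℤ) : F) • hv D F j := by
  funext a
  rw [Finset.sum_apply]
  rcases a with j' | v
  · have : ∀ j ∈ Finset.range D.rank, (((RootCombGood.co D r j : ℤ) : F) • hv D F j) (Sum.inl j') =
        if (j' : ℕ) = j then ((RootCombGood.co D r j : ℤ) : F) else 0 := by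
      intro j _
      simp
    rw [Finset.sum_congr rfl this, Finset.sum_ite_eq, if_pos (Finset.mem_range.2 j'.2)]
    rfl
  · simp

/-- `n_p(1) h_s = h_{w s}`. -/
theorem n_corv (hF : Facts D i) (hG : RootCombGood.Good D) (hi : i < D.rank) {s : ℕ} (hs : s < D.nroots) :
    D.nMat F (D.simple i) 1 *ᵥ corv D F s = corv D F (D.reflectRoot i s) := by
  rw [corv_eq_sum, corv_eq_sum, Matrix.mulVec_sum]
  have h1 : ∀ j ∈ Finset.range D.rank,
      D.nMat F (D.simple i) 1 *ᵥ (((RootCombGood.co D s j : ℤ) : F) • hv D F j) =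
        ((RootCombGood.co D s j : ℤ) : F) • hv D F j -
          (((RootCombGood.co D s j * D.cartan j (D.simple i) : ℤ)) : F) • hv D F i := by
    intro j hj
    rw [Matrix.mulVec_smul, n_hv hF (Finset.mem_range.1 hj), smul_sub, smul_smul]
    push_cast
    rfl
  rw [Finset.sum_congr rfl h1, Finset.sum_sub_distrib, ← Finset.sum_smul]
  have h2 : ∀ j ∈ Finset.range D.rank,
      ((RootCombGood.co D (D.reflectRoot i s) j : ℤ) : F) • hv D F j =
        ((RootCombGood.co D s j : ℤ) : F) • hv D F j -
          (if j = i then ((RootCombGood.car D s (D.simple i) : ℤ) : F) • hv D F j else 0) := by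
    intro j hj
    rw [hG.co_reflect hi hs (Finset.mem_range.1 hj)]
    by_cases hji : j = i
    · rw [if_pos hji, if_pos hji]
      push_cast
      rw [sub_smul]
    · rw [if_neg hji, if_neg hji, sub_zero, sub_zero]
  rw [Finset.sum_congr rfl h2, Finset.sum_sub_distrib, Finset.sum_ite_eq', if_pos (Finset.mem_range.2 hi)]
  congr 2
  unfold RootCombGood.car
  push_cast
  rfl

/-- Matrices agreeing on the basis vectors are equal. -/
theorem ext_basis {M N : Matrix D.Idx D.Idx F} (h1 : ∀ j < D.rank, M *ᵥ hv D F j = N *ᵥ hv D F j)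
    (h2 : ∀ s < D.nroots, M *ᵥ ev D F s = N *ᵥ ev D F s) : M = N := by
  ext a b
  rcases b with j | s
  · have := congrFun (h1 j j.2) a
    rwa [mulVec_hv _ j.2, mulVec_hv _ j.2] at this
  · have := congrFun (h2 s s.2) a
    rwa [mulVec_ev _ s.2, mulVec_ev _ s.2] at this

theorem sq_of_or {x : ℤ} (h : x = 1 ∨ x = -1) : x * x = 1 := by
  rcases h with rfl | rfl <;> norm_num

theorem sqF_of_or {x : ℤ} (h : x = 1 ∨ x = -1) : (x : F) * (x : F) = 1 := by
  rw [← Int.cast_mul, sq_of_or h, Int.cast_one]

/-- The commutation of `n_p(1)` with the root elements. -/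
theorem nMat_mul_x (hF : Facts D i) (hC : ReflCompat D i) (hG : RootCombGood.Good D) (hi : i < D.rank)
    (hrow : ∀ r < D.nroots, ((row D r).map Prod.fst).Nodup)
    (hlt : ∀ r < D.nroots, ∀ s, ∀ e ∈ D.chainEntry r s, e.1 < D.nroots)
    {s : ℕ} (hs : s < D.nroots) (t : F) :
    D.nMat F (D.simple i) 1 * D.x F s t =
      D.x F (D.reflectRoot i s) (((eta D i s : ℤ) : F) * t) * D.nMat F (D.simple i) 1 := by
  set N := D.nMat F (D.simple i) 1 with hN
  set w := D.reflectRoot i s with hw
  have hwlt : w < D.nroots := hC.reflect_lt s hs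
  have hη := hF.eta_one s hs
  have hηF : ((eta D i s : ℤ) : F) * ((eta D i s : ℤ) : F) = 1 := sqF_of_or hη
  have hneg_lt : ∀ r < D.nroots, D.neg r < D.nroots := fun r hr => by
    rw [hG.neg_eq hr]; omega
  have hneg_ne : ∀ r < D.nroots, D.neg r ≠ r := fun r hr => by
    rw [hG.neg_eq hr]
    have := hG.nroots_eq
    omega
  apply ext_basis
  · intro j hj
    rw [← Matrix.mulVec_mulVec, ← Matrix.mulVec_mulVec, x_mulVec_hv hs hj, Matrix.mulVec_sub,
      Matrix.mulVec_smul, n_hv hF hj, n_ev hF hs, Matrix.mulVec_sub, Matrix.mulVec_smul, x_mulVec_hv hwlt hj,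
      x_mulVec_hv hwlt hi, ← hw, hG.cartan_reflect hi hs hj, hG.cartan_reflect hi hs hi, hG.cartan_simple hi]
    push_cast
    module
  · intro v hv
    rw [← Matrix.mulVec_mulVec, ← Matrix.mulVec_mulVec, n_ev hF hv, Matrix.mulVec_smul]
    by_cases hvs : v = s
    · subst hvs
      rw [x_mulVec_ev_self hs, n_ev hF hs, ← hw, x_mulVec_ev_self hwlt]
    · by_cases hvn : v = D.neg s
      · subst hvn
        have h1 : D.reflectRoot i (D.neg s) = D.neg w := hG.reflect_neg hi hs
        have h2 : eta D i (D.neg s) = eta D i s := by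
          have := hF.eta_mul_neg s hs
          rcases hη with h | h <;> rw [h] at this ⊢ <;> omega
        rw [x_mulVec_ev_neg hs (hneg_lt s hs) (hneg_ne s hs), Matrix.mulVec_sub, Matrix.mulVec_add,
          Matrix.mulVec_smul, Matrix.mulVec_smul, n_ev hF (hneg_lt s hs), n_ev hF hs,
          n_corv hF hG hi hs, h1, ← hw, x_mulVec_ev_neg hwlt (hneg_lt w hwlt) (hneg_ne w hwlt), h2]
        rw [smul_sub, smul_add, smul_smul, smul_smul, smul_smul]
        have e1 : ((eta D i s : ℤ) : F) * (((eta D i s : ℤ) : F) * t) = t := by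
          rw [← mul_assoc, hηF, one_mul]
        have e2 : ((eta D i s : ℤ) : F) * (((eta D i s : ℤ) : F) * t) ^ 2 = t ^ 2 * ((eta D i s : ℤ) : F) := by
          linear_combination (((eta D i s : ℤ) : F) * t ^ 2) * hηF
        rw [e1, e2]
      · have hwv : D.reflectRoot i v < D.nroots := hC.reflect_lt v hv
        have h1 : D.reflectRoot i v ≠ w := by
          intro h
          apply hvs
          rw [← hC.reflect_reflect v hv, h, hw, hC.reflect_reflect s hs]
        have h2 : D.reflectRoot i v ≠ D.neg w := by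
          intro h
          apply hvn
          rw [← hC.reflect_reflect v hv, h, hw, ← hG.reflect_neg hi hs,
            hC.reflect_reflect _ (hneg_lt s hs)]
        rw [x_mulVec_ev hs hv hvs hvn (hrow s hs), x_mulVec_ev hwlt hwv h1 h2 (hrow w hwlt),
          Matrix.mulVec_add, n_ev hF hv, smul_add]
        congr 1
        rw [hw, hC.chainEntry_reflect s hs v hv]
        have hηv : ((eta D i v : ℤ) : F) * ((eta D i v : ℤ) : F) = 1 := sqF_of_or (hF.eta_one v hv)
        have hl := hlt s hs v
        -- compare the two sums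
        have key : ∀ (L : List (ℕ × ℤ)) (k : ℕ), (∀ e ∈ L, e.1 < D.nroots) →
            N *ᵥ ((L.zipIdx k).map fun q => ((q.1.2 : F) * t ^ (q.2 + 1)) • ev D F q.1.1).sum =
            ((eta D i v : ℤ) : F) • (((L.mapIdx fun m x =>
              (D.reflectRoot i x.1, eta D i s ^ (m + k + 1) * eta D i v * eta D i x.1 * x.2)).zipIdx k).map
                fun q => ((q.1.2 : F) * (((eta D i s : ℤ) : F) * t) ^ (q.2 + 1)) • ev D F q.1.1).sum := by
          intro L
          induction L with
          | nil => intro k _; simp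
          | cons x L ih =>
            intro k hL
            rw [List.mapIdx_cons, List.zipIdx_cons, List.zipIdx_cons, List.map_cons, List.map_cons,
              List.sum_cons, List.sum_cons, Matrix.mulVec_add, Matrix.mulVec_smul,
              n_ev hF (hL x List.mem_cons_self), smul_add, smul_smul, smul_smul]
            have ih' := ih (k + 1) (fun e he => hL e (List.mem_cons_of_mem _ he))
            have hfun : (fun (m : ℕ) (x : ℕ × ℤ) =>
                (D.reflectRoot i x.1, eta D i s ^ (m + 1 + k + 1) * eta D i v * eta D i x.1 * x.2)) =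
                (fun (m : ℕ) (x : ℕ × ℤ) =>
                (D.reflectRoot i x.1, eta D i s ^ (m + (k + 1) + 1) * eta D i v * eta D i x.1 * x.2)) := by
              funext m x
              rw [show m + 1 + k + 1 = m + (k + 1) + 1 by ring]
            rw [hfun, ← ih']
            congr 2
            push_cast
            have e1 : ((eta D i s : ℤ) : F) ^ (0 + k + 1) * (((eta D i s : ℤ) : F) * t) ^ (k + 1) = t ^ (k + 1) := by
              rw [mul_pow, ← mul_assoc, zero_add, ← mul_pow, hηF, one_pow, one_mul]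
            linear_combination (-((x.2 : F) * ((eta D i x.1 : ℤ) : F) * (((eta D i v : ℤ) : F) * ((eta D i v : ℤ) : F)))) * e1
              - ((x.2 : F) * ((eta D i x.1 : ℤ) : F) * t ^ (k + 1)) * hηv
        have := key (D.chainEntry s v) 0 hl
        exact this

end Cfsg.Agent.ChevalleyStructure.ConjSimple
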