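import Cfsg.Prelude.Def_ChevWords

/-!
A kernel-evaluable sparse action of words in root elements on coordinate vectors, for any Chevalley datum.

* Basis vectors are coded by natural numbers: `h_{p_i}` by `i`, `e_s` by `rank + s`.
* A sparse vector is a list of terms `(code, e, c)` standing for `c * t ^ e` times the basis vector (`c e : ℤ`).
* A letter `(r, c, e)` stands for `x_r(c * t ^ e)`.

Main results: `xMat_apply`, `wordMat_mulVec`, `wordMat_apply`.
-/

set_option autoImplicit false

namespace Cfsg.Agent.ChevalleyStructure.SparseAct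

open Cfsg.Lie

variable (D : ChevalleyDatum)

/-- The code of a coordinate. -/
def code : D.Idx → ℕ
  | Sum.inl i => i.val
  | Sum.inr s => D.rank + s.val

theorem code_inl (i : Fin D.rank) : code D (Sum.inl i) = i.val := rfl
theorem code_inr (s : Fin D.nroots) : code D (Sum.inr s) = D.rank + s.val := rfl

theorem code_lt (i : D.Idx) : code D i < D.rank + D.nroots := by
  rcases i with i | s
  · rw [code_inl]; omega
  · rw [code_inr]; omega

theorem code_injective : Function.Injective (code D) := by
  rintro (i | i) (j | j) h
  · rw [code_inl, code_inl] at h; rw [Fin.ext h]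
  · rw [code_inl, code_inr] at h; omega
  · rw [code_inl, code_inr] at h; omega
  · rw [code_inr, code_inr] at h
    have : i = j := Fin.ext (by omega)
    rw [this]

theorem exists_code {j : ℕ} (hj : j < D.rank + D.nroots) : ∃ i : D.Idx, code D i = j := by
  by_cases h : j < D.rank
  · exact ⟨Sum.inl ⟨j, h⟩, rfl⟩
  · exact ⟨Sum.inr ⟨j - D.rank, by omega⟩, by rw [code_inr]; simp only []; omega⟩

/-- The terms of the column with code `j` of `x_r(t)`: (row code, exponent of `t`, coefficient). -/
def col (r j : ℕ) : List (ℕ × ℕ × ℤ) :=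
  if j < D.rank then [(j, 0, 1), (D.rank + r, 1, -((D.cartanSR.getD j #[]).getD r 0))]
  else if j = D.rank + r then [(j, 0, 1)]
  else if j = D.rank + D.negIdx.getD r 0 then
    (j, 0, 1) :: (D.rank + r, 2, -1) :: (List.range D.rank).map fun i => (i, 1, (D.coroot.getD r #[]).getD i 0)
  else (j, 0, 1) :: ((D.chain.getD r #[]).toList.filter (fun e => D.rank + e.1 = j)).flatMap fun e =>
    e.2.toList.zipIdx.map fun q => (D.rank + q.1.1, q.2 + 1, q.1.2)

section
variable {F : Type*} [Field F]

theorem sum_range_ite (n i : ℕ) (f : ℕ → F) :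
    ((List.range n).map fun k => if k = i then f k else 0).sum = if i < n then f i else 0 := by
  induction n with
  | zero => simp
  | succ n ih =>
    rw [List.range_succ, List.map_append, List.sum_append, ih]
    simp only [List.map_cons, List.map_nil, List.sum_cons, List.sum_nil, add_zero]
    rcases lt_trichotomy i n with h | h | h
    · rw [if_pos h, if_neg (by omega), if_pos (by omega), add_zero]
    · subst h; rw [if_neg (by omega), if_pos rfl, if_pos (by omega), zero_add]
    · rw [if_neg (by omega), if_neg (by omega), if_neg (by omega), add_zero]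

theorem sum_filter_ite (l : List ((ℕ × ℤ) × ℕ)) (u : ℕ) (t : F) :
    (((l.filter (fun q => q.1.1 = u)).map fun q => (q.2 + 1, q.1.2)).map
      fun km : ℕ × ℤ => ((km.2 : ℤ) : F) * t ^ km.1).sum =
    ((l.map fun q => (D.rank + q.1.1, q.2 + 1, q.1.2)).map fun q : ℕ × ℕ × ℤ =>
      if q.1 = D.rank + u then (q.2.2 : F) * t ^ q.2.1 else 0).sum := by
  induction l with
  | nil => rfl
  | cons a l ih =>
    by_cases h : a.1.1 = u
    · rw [List.filter_cons_of_pos (by simpa using h)]
      simp only [List.map_cons, List.sum_cons] at ih ⊢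
      rw [ih, if_pos (by omega)]
    · rw [List.filter_cons_of_neg (by simpa using h)]
      simp only [List.map_cons, List.sum_cons] at ih ⊢
      rw [ih, if_neg (by omega), zero_add]

theorem sum_chain (l : List (ℕ × Array (ℕ × ℤ))) (s u : ℕ) (t : F) :
    ((((l.filter (fun e => e.1 = s)).flatMap fun e =>
      ((e.2.toList.zipIdx).filter (fun q => q.1.1 = u)).map fun q => (q.2 + 1, q.1.2))).map
        fun km : ℕ × ℤ => ((km.2 : ℤ) : F) * t ^ km.1).sum =
    (((l.filter (fun e => D.rank + e.1 = D.rank + s)).flatMap fun e =>
      e.2.toList.zipIdx.map fun q => (D.rank + q.1.1, q.2 + 1, q.1.2)).map fun q : ℕ × ℕ × ℤ =>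
        if q.1 = D.rank + u then (q.2.2 : F) * t ^ q.2.1 else 0).sum := by
  induction l with
  | nil => rfl
  | cons a l ih =>
    by_cases h : a.1 = s
    · rw [List.filter_cons_of_pos (by simpa using h), List.filter_cons_of_pos (by simpa using h),
        List.flatMap_cons, List.flatMap_cons, List.map_append, List.map_append, List.sum_append,
        List.sum_append, ih, sum_filter_ite]
    · rw [List.filter_cons_of_neg (by simpa using h), List.filter_cons_of_neg (by simpa using h)]
      exact ih

theorem sum_chain_inl (l : List (ℕ × Array (ℕ × ℤ))) (p : ℕ × Array (ℕ × ℤ) → Bool) (i : Fin D.rank) (t : F) :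
    (((l.filter p).flatMap fun e =>
      e.2.toList.zipIdx.map fun q => (D.rank + q.1.1, q.2 + 1, q.1.2)).map fun q : ℕ × ℕ × ℤ =>
        if q.1 = (i : ℕ) then (q.2.2 : F) * t ^ q.2.1 else 0).sum = 0 := by
  apply List.sum_eq_zero
  intro x hx
  simp only [List.mem_map, List.mem_flatMap] at hx
  obtain ⟨q, ⟨e, -, a, -, rfl⟩, rfl⟩ := hx
  rw [if_neg]
  have := i.isLt
  simp only
  omega

theorem xMat_apply (r : Fin D.nroots) (t : F) (row c : D.Idx) :
    D.xMat F r t row c =
      ((col D r.val (code D c)).map fun q => if q.1 = code D row then (q.2.2 : F) * t ^ q.2.1 else 0).sum := by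
  rcases c with i | s
  · -- column h_i
    have hi : i.val < D.rank := i.isLt
    rw [code_inl, col, if_pos hi]
    rcases row with i' | u
    · have h1 : D.xMat F r t (Sum.inl i') (Sum.inl i) = if i' = i then 1 else 0 := rfl
      rw [h1, code_inl]
      have h2 : ¬ D.rank + r.val = i'.val := by have := i'.isLt; omega
      simp only [List.map_cons, List.map_nil, List.sum_cons, List.sum_nil, if_neg h2, Int.cast_one, pow_zero,
        mul_one, add_zero]
      by_cases h : i' = i
      · subst h; simp
      · rw [if_neg h, if_neg (fun h' => h (Fin.ext h'.symm))]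
    · have h1 : D.xMat F r t (Sum.inr u) (Sum.inl i) =
          if u = r then - (((D.cartanSR.getD i.val #[]).getD r.val 0 : ℤ) : F) * t else 0 := rfl
      rw [h1, code_inr]
      have h2 : ¬ i.val = D.rank + u.val := by omega
      simp only [List.map_cons, List.map_nil, List.sum_cons, List.sum_nil, if_neg h2, pow_one, add_zero, zero_add,
        Int.cast_neg]
      by_cases h : u = r
      · subst h; simp
      · rw [if_neg h, if_neg (fun h' => h (Fin.ext (by omega)))]
  · have hs : ¬ (D.rank + s.val < D.rank) := by omega
    rw [code_inr, col, if_neg hs]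
    by_cases hsr : s = r
    · subst hsr
      rw [if_pos rfl]
      rcases row with i' | u
      · have h1 : D.xMat F s t (Sum.inl i') (Sum.inr s) = 0 := by simp [ChevalleyDatum.xMat]
        rw [h1, code_inl]
        have h2 : ¬ D.rank + s.val = i'.val := by have := i'.isLt; omega
        simp only [List.map_cons, List.map_nil, List.sum_cons, List.sum_nil, if_neg h2, add_zero]
      · have h1 : D.xMat F s t (Sum.inr u) (Sum.inr s) = if u = s then 1 else 0 := by
          simp [ChevalleyDatum.xMat]
        rw [h1, code_inr]
        simp only [List.map_cons, List.map_nil, List.sum_cons, List.sum_nil, add_zero, Int.cast_one, pow_zero,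
          mul_one]
        by_cases h : u = s
        · subst h; simp
        · rw [if_neg h, if_neg (fun h' => h (Fin.ext (by omega)))]
    · have hsr' : ¬ D.rank + s.val = D.rank + r.val := fun h => hsr (Fin.ext (by omega))
      rw [if_neg hsr']
      by_cases hneg : s.val = D.negIdx.getD r.val 0
      · rw [if_pos (by rw [hneg])]
        rcases row with i' | u
        · have h1 : D.xMat F r t (Sum.inl i') (Sum.inr s) =
              (((D.coroot.getD r.val #[]).getD i'.val 0 : ℤ) : F) * t := by
            simp only [ChevalleyDatum.xMat, Matrix.of_apply, if_neg hsr, if_pos hneg]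
          rw [h1, code_inl]
          have h2 : ¬ D.rank + s.val = i'.val := by have := i'.isLt; omega
          have h3 : ¬ D.rank + r.val = i'.val := by have := i'.isLt; omega
          simp only [List.map_cons, List.sum_cons, if_neg h2, if_neg h3, zero_add, List.map_map]
          have := sum_range_ite D.rank i'.val (fun k => (((D.coroot.getD r.val #[]).getD k 0 : ℤ) : F) * t ^ 1)
          rw [if_pos i'.isLt] at this
          refine Eq.trans ?_ this.symm
          rw [pow_one]
        · have h1 : D.xMat F r t (Sum.inr u) (Sum.inr s) =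
              if u = s then 1 else if u = r then -(t ^ 2) else 0 := by
            simp only [ChevalleyDatum.xMat, Matrix.of_apply, if_neg hsr, if_pos hneg]
          rw [h1, code_inr]
          simp only [List.map_cons, List.sum_cons, List.map_map]
          have h4 : ((List.range D.rank).map ((fun q : ℕ × ℕ × ℤ => if q.1 = D.rank + u.val then
              (q.2.2 : F) * t ^ q.2.1 else 0) ∘ fun i => (i, 1, (D.coroot.getD r.val #[]).getD i 0))).sum = 0 := by
            apply List.sum_eq_zero
            intro x hx
            simp only [List.mem_map, List.mem_range, Function.comp] at hx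
            obtain ⟨a, ha, rfl⟩ := hx
            rw [if_neg (by omega)]
          rw [h4, add_zero]
          by_cases hus : u = s
          · subst hus
            rw [if_pos rfl, if_pos rfl, if_neg (fun h => hsr (Fin.ext (by omega)))]
            simp
          · have hus' : ¬ D.rank + s.val = D.rank + u.val := fun h => hus (Fin.ext (by omega))
            rw [if_neg hus, if_neg hus', zero_add]
            by_cases hur : u = r
            · subst hur; rw [if_pos rfl, if_pos rfl]; simp
            · rw [if_neg hur, if_neg (fun h => hur (Fin.ext (by omega)))]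
      · have hneg' : ¬ D.rank + s.val = D.rank + D.negIdx.getD r.val 0 := fun h => hneg (by omega)
        rw [if_neg hneg']
        rcases row with i' | u
        · have h1 : D.xMat F r t (Sum.inl i') (Sum.inr s) = 0 := by
            simp only [ChevalleyDatum.xMat, Matrix.of_apply, if_neg hsr, if_neg hneg]
          rw [h1, code_inl]
          have h2 : ¬ D.rank + s.val = i'.val := by have := i'.isLt; omega
          rw [List.map_cons, List.sum_cons, sum_chain_inl]
          simp only [if_neg h2, add_zero]
        · have h1 : D.xMat F r t (Sum.inr u) (Sum.inr s) = (if u = s then 1 else 0) +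
              ((D.chainCoeff r.val s.val u.val).map fun km => ((km.2 : ℤ) : F) * t ^ km.1).sum := by
            simp only [ChevalleyDatum.xMat, Matrix.of_apply, if_neg hsr, if_neg hneg]
          rw [h1, code_inr, ChevalleyDatum.chainCoeff, sum_chain, List.map_cons, List.sum_cons]
          congr 1
          by_cases hus : u = s
          · subst hus; simp
          · rw [if_neg hus, if_neg (fun h => hus (Fin.ext (by omega)))]


/-! ### Sparse vectors and the action of letters and words -/

/-- The value at the coordinate `i` of one term. -/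
def term (t : F) (i : D.Idx) (q : ℕ × ℤ × ℤ) : F := if q.1 = code D i then (q.2.2 : F) * t ^ q.2.1 else 0

/-- The vector denoted by a list of terms. -/
def eval (t : F) (v : List (ℕ × ℤ × ℤ)) : D.Idx → F := fun i => (v.map (term D t i)).sum

theorem eval_nil (t : F) : eval D t [] = 0 := rfl

theorem eval_cons (t : F) (q : ℕ × ℤ × ℤ) (v : List (ℕ × ℤ × ℤ)) :
    eval D t (q :: v) = eval D t [q] + eval D t v := by
  funext i; simp [eval]

theorem eval_append (t : F) (v w : List (ℕ × ℤ × ℤ)) : eval D t (v ++ w) = eval D t v + eval D t w := by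
  funext i; simp [eval]

theorem eval_apply (t : F) (v : List (ℕ × ℤ × ℤ)) (i : D.Idx) : eval D t v i = (v.map (term D t i)).sum := rfl

end

/-- The action of the letter `l` on one term. -/
def actTerm (l q : ℕ × ℤ × ℤ) : List (ℕ × ℤ × ℤ) :=
  if q.1 < D.rank + D.nroots then
    (col D l.1 q.1).map fun p => (p.1, q.2.1 + l.2.2 * p.2.1, q.2.2 * (p.2.2 * l.2.1 ^ p.2.1))
  else []

/-- The action of the letter `l` on a sparse vector. -/
def act (l : ℕ × ℤ × ℤ) (v : List (ℕ × ℤ × ℤ)) : List (ℕ × ℤ × ℤ) :=
  if l.1 < D.nroots then v.flatMap (actTerm D l) else v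

/-- Insert a term in a sparse vector, merging it with a term of the same code and exponent; coefficients are
reduced modulo `m` (no reduction for `m = 0`). -/
def ins (m : ℤ) (q : ℕ × ℤ × ℤ) : List (ℕ × ℤ × ℤ) → List (ℕ × ℤ × ℤ)
  | [] => if q.2.2 % m = 0 then [] else [(q.1, q.2.1, q.2.2 % m)]
  | p :: v =>
    if p.1 = q.1 ∧ p.2.1 = q.2.1 then
      (if (p.2.2 + q.2.2) % m = 0 then v else (p.1, p.2.1, (p.2.2 + q.2.2) % m) :: v)
    else p :: ins m q v

/-- Merge equal terms. -/
def norm (m : ℤ) : List (ℕ × ℤ × ℤ) → List (ℕ × ℤ × ℤ)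
  | [] => []
  | q :: v => ins m q (norm m v)

/-- The action of a word (the last letter acts first), with merging (and reduction modulo `m`) after each letter. -/
def actWord (m : ℤ) : List (ℕ × ℤ × ℤ) → List (ℕ × ℤ × ℤ) → List (ℕ × ℤ × ℤ)
  | [], v => v
  | l :: w, v => norm m (act D l (actWord m w v))

section
variable {F : Type*} [Field F]

/-- The word in root elements denoted by a list of letters. -/
def letters (t : F) (w : List (ℕ × ℤ × ℤ)) : List (ℕ × F) := w.map fun l => (l.1, (l.2.1 : F) * t ^ l.2.2)

theorem letters_nil (t : F) : letters t [] = [] := rfl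

theorem letters_cons (t : F) (l : ℕ × ℤ × ℤ) (w : List (ℕ × ℤ × ℤ)) :
    letters t (l :: w) = (l.1, (l.2.1 : F) * t ^ l.2.2) :: letters t w := rfl

theorem mulVec_eval_single (t : F) (q : ℕ × ℤ × ℤ) (M : Matrix D.Idx D.Idx F) (i0 : D.Idx)
    (h0 : code D i0 = q.1) (i : D.Idx) : (M.mulVec (eval D t [q])) i = M i i0 * ((q.2.2 : F) * t ^ q.2.1) := by
  have h1 : ∀ j : D.Idx, eval D t [q] j = if q.1 = code D j then (q.2.2 : F) * t ^ q.2.1 else 0 := by
    intro j; simp [eval, term]
  rw [Matrix.mulVec, dotProduct, Finset.sum_eq_single i0]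
  · rw [h1, if_pos h0.symm]
  · intro j _ hj
    rw [h1, if_neg, mul_zero]
    intro h
    exact hj (code_injective D (h.symm.trans h0.symm))
  · intro h; exact absurd (Finset.mem_univ _) h

theorem mulVec_actTerm {t : F} (ht : t ≠ 0) (r : Fin D.nroots) (c e : ℤ) (q : ℕ × ℤ × ℤ) :
    (D.xMat F r ((c : F) * t ^ e)).mulVec (eval D t [q]) = eval D t (actTerm D (r.val, c, e) q) := by
  rw [actTerm]
  split_ifs with hq
  · obtain ⟨i0, h0⟩ := exists_code D hq
    funext i
    rw [mulVec_eval_single D t q _ i0 h0, xMat_apply, h0, eval_apply, List.map_map, mul_comm]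
    rw [← List.sum_map_mul_left]
    congr 1
    apply List.map_congr_left
    intro p _
    simp only [Function.comp, term]
    split_ifs with h
    · rw [zpow_add₀ ht, zpow_mul, mul_pow]
      simp only [zpow_natCast]
      push_cast
      ring
    · rw [mul_zero]
  · have h1 : eval D t [q] = 0 := by
      funext j
      have : ¬ q.1 = code D j := fun h => hq (h ▸ code_lt D j)
      simp [eval, term, this]
    rw [h1, Matrix.mulVec_zero]
    rfl

theorem mulVec_act {t : F} (ht : t ≠ 0) (l : ℕ × ℤ × ℤ) (v : List (ℕ × ℤ × ℤ)) :
    (D.x F l.1 ((l.2.1 : F) * t ^ l.2.2)).mulVec (eval D t v) = eval D t (act D l v) := by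
  obtain ⟨r, c, e⟩ := l
  rw [act, ChevalleyDatum.x]
  by_cases hr : r < D.nroots
  · rw [dif_pos hr, if_pos hr]
    simp only
    induction v with
    | nil => rw [eval_nil, Matrix.mulVec_zero]; rfl
    | cons q v ih =>
      rw [eval_cons, Matrix.mulVec_add, ih, mulVec_actTerm D ht ⟨r, hr⟩ c e q, List.flatMap_cons, eval_append]
  · rw [dif_neg hr, if_neg hr, Matrix.one_mulVec]

theorem cast_emod {m : ℤ} (hm : (m : F) = 0) (c : ℤ) : ((c % m : ℤ) : F) = (c : F) := by
  have h := Int.emod_add_mul_ediv c m
  have h2 : (c : F) = ((c % m + m * (c / m) : ℤ) : F) := by rw [h]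
  rw [h2]
  push_cast
  rw [hm, zero_mul, add_zero]

theorem eval_ins {m : ℤ} (hm : (m : F) = 0) (t : F) (q : ℕ × ℤ × ℤ) (v : List (ℕ × ℤ × ℤ)) :
    eval D t (ins m q v) = eval D t [q] + eval D t v := by
  have hred : ∀ (a : ℕ) (e c : ℤ), eval D t [(a, e, c % m)] = eval D t [(a, e, c)] := by
    intro a e c
    funext i
    simp only [eval, term, List.map_cons, List.map_nil, List.sum_cons, List.sum_nil, cast_emod hm]
  have hzero : ∀ (a : ℕ) (e : ℤ), eval D t [(a, e, 0)] = 0 := by
    intro a e
    funext i; simp [eval, term]
  induction v with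
  | nil =>
    rw [ins]
    split_ifs with h
    · rw [eval_nil, add_zero, ← hred q.1 q.2.1 q.2.2, h, hzero]
    · rw [eval_nil, add_zero, hred]
  | cons p v ih =>
    rw [ins]
    by_cases h : p.1 = q.1 ∧ p.2.1 = q.2.1
    · rw [if_pos h]
      have key : eval D t [(p.1, p.2.1, p.2.2 + q.2.2)] = eval D t [q] + eval D t [p] := by
        funext i
        simp only [eval, term, List.map_cons, List.map_nil, List.sum_cons, List.sum_nil, add_zero, Pi.add_apply,
          h.1, h.2]
        split_ifs
        · push_cast; ring
        · rw [add_zero]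
      split_ifs with h2
      · rw [eval_cons D t p v, ← add_assoc, ← key, ← hred, h2, hzero, zero_add]
      · rw [eval_cons D t _ v, hred, key, eval_cons D t p v, add_assoc]
    · rw [if_neg h, eval_cons, ih, eval_cons D t p v, ← add_assoc, ← add_assoc, add_comm (eval D t [p])]

theorem eval_norm {m : ℤ} (hm : (m : F) = 0) (t : F) (v : List (ℕ × ℤ × ℤ)) :
    eval D t (norm m v) = eval D t v := by
  induction v with
  | nil => rfl
  | cons q v ih => rw [norm, eval_ins D hm, ih, ← eval_cons]

theorem wordMat_nil : D.wordMat F [] = 1 := rfl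

theorem wordMat_cons (p : ℕ × F) (w : List (ℕ × F)) :
    D.wordMat F (p :: w) = D.x F p.1 p.2 * D.wordMat F w := rfl

theorem wordMat_append (w w' : List (ℕ × F)) :
    D.wordMat F (w ++ w') = D.wordMat F w * D.wordMat F w' := by
  simp [ChevalleyDatum.wordMat]

theorem wordMat_mulVec {m : ℤ} (hm : (m : F) = 0) {t : F} (ht : t ≠ 0) (w v : List (ℕ × ℤ × ℤ)) :
    (D.wordMat F (letters t w)).mulVec (eval D t v) = eval D t (actWord D m w v) := by
  induction w with
  | nil => rw [letters_nil, wordMat_nil, Matrix.one_mulVec]; rfl
  | cons l w ih =>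
    rw [letters_cons, wordMat_cons, ← Matrix.mulVec_mulVec, ih, mulVec_act D ht, actWord, eval_norm D hm]

/-- The entries of the matrix of a word, read off the sparse action on basis vectors. -/
theorem wordMat_apply {m : ℤ} (hm : (m : F) = 0) {t : F} (ht : t ≠ 0) (w : List (ℕ × ℤ × ℤ)) (i j : D.Idx) :
    D.wordMat F (letters t w) i j = eval D t (actWord D m w [(code D j, 0, 1)]) i := by
  rw [← wordMat_mulVec D hm ht, mulVec_eval_single D t _ _ j rfl]
  simp

/-- If the sparse action of a word on the basis vector coded `j` is a single term, so is the column of its matrix. -/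
theorem wordMat_apply_of_single {m : ℤ} (hm : (m : F) = 0) {t : F} (ht : t ≠ 0) {w : List (ℕ × ℤ × ℤ)} {j : D.Idx}
    {k : ℕ} {e c : ℤ} (h : actWord D m w [(code D j, 0, 1)] = [(k, e, c)]) (i : D.Idx) :
    D.wordMat F (letters t w) i j = if k = code D i then (c : F) * t ^ e else 0 := by
  rw [wordMat_apply D hm ht, h, eval_apply]
  simp [term]

theorem eval_eq_filter (t : F) (v : List (ℕ × ℤ × ℤ)) (i : D.Idx) :
    eval D t v i = ((v.filter fun q => q.1 = code D i).map fun q => (q.2.2 : F) * t ^ q.2.1).sum := by
  rw [eval_apply]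
  induction v with
  | nil => rfl
  | cons q v ih =>
    by_cases h : q.1 = code D i
    · rw [List.filter_cons_of_pos (by simpa using h), List.map_cons, List.map_cons, List.sum_cons, List.sum_cons,
        ih, term, if_pos h]
    · rw [List.filter_cons_of_neg (by simpa using h), List.map_cons, List.sum_cons, ih, term, if_neg h, zero_add]

end

end Cfsg.Agent.ChevalleyStructure.SparseAct
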