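import Cfsg.Prelude.Def_ChevStructure
import Cfsg.Agent.ChevalleyStructure.SparseAct
import Cfsg.Agent.ChevalleyStructure.CoreTrivial

/-!
Kernel-checkable criteria for the triviality of the normal core of `B ∩ G¹` in `G¹`, for any Chevalley datum and any
subgroup `G¹` of the general linear group of the coordinate module.
-/

set_option autoImplicit false

namespace Cfsg.Agent.ChevalleyStructure.CoreCheck

open Cfsg.Lie Cfsg.Agent.ChevalleyStructure.SparseAct Cfsg.Agent.ChevalleyStructure.CoreTrivial

variable (D : ChevalleyDatum)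

/-- All columns of `x_r(t)` are the basis vector plus terms of larger height, for every positive root `r`. -/
def checkU (p : ℕ → ℤ) : Bool :=
  D.posRoots.all fun r => (List.range (D.rank + D.nroots)).all fun j =>
    (col D r j).tail.all fun q => decide (p j < p q.1)

/-- The word of `h_r(t)`. -/
def hLetters (r : ℕ) : List (ℕ × ℤ × ℤ) :=
  [(r, 1, 1), (D.neg r, -1, -1), (r, 1, 1), (r, -1, 0), (D.neg r, 1, 0), (r, -1, 0)]

/-- The column `j` of the word `w` is a multiple of the basis vector `j`, equal to it for `j` below the rank. -/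
def isDiagCol (m : ℤ) (w : List (ℕ × ℤ × ℤ)) (j : ℕ) : Bool :=
  match actWord D m w [(j, 0, 1)] with
  | [(j', e, c)] => (j' == j) && (if j < D.rank then (e == 0) && (c == 1) else true)
  | _ => false

def checkHRoot (m : ℤ) (r : ℕ) : Bool :=
  (List.range (D.rank + D.nroots)).all fun j => isDiagCol D m (hLetters D r) j

/-- The column `j` of the word `w` is a multiple of the basis vector `k`. -/
def isMonoCol (m : ℤ) (w : List (ℕ × ℤ × ℤ)) (j k : ℕ) : Bool :=
  match actWord D m w [(j, 0, 1)] with
  | [(j', _, _)] => j' == k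
  | _ => false

/-- The entry `(i, j)` of the word `w` is `1` or `-1`. -/
def linkOK (m : ℤ) (w : List (ℕ × ℤ × ℤ)) (i j : ℕ) : Bool :=
  match (actWord D m w [(j, 0, 1)]).filter fun q => q.1 = i with
  | [(_, e, c)] => (e == 0) && ((c == 1) || (c == -1))
  | _ => false

theorem isDiagCol_spec {m : ℤ} {w : List (ℕ × ℤ × ℤ)} {j : ℕ} (h : isDiagCol D m w j = true) :
    ∃ e c : ℤ, actWord D m w [(j, 0, 1)] = [(j, e, c)] ∧ (j < D.rank → e = 0 ∧ c = 1) := by
  unfold isDiagCol at h
  split at h
  · rename_i j' e c heq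
    simp only [Bool.and_eq_true, beq_iff_eq] at h
    obtain ⟨h1, h2⟩ := h
    subst h1
    refine ⟨e, c, heq, fun hj => ?_⟩
    rw [if_pos hj] at h2
    simpa using h2
  · exact absurd h (by simp)

theorem isMonoCol_spec {m : ℤ} {w : List (ℕ × ℤ × ℤ)} {j k : ℕ} (h : isMonoCol D m w j k = true) :
    ∃ e c : ℤ, actWord D m w [(j, 0, 1)] = [(k, e, c)] := by
  unfold isMonoCol at h
  split at h
  · rename_i j' e c heq
    simp only [beq_iff_eq] at h
    subst h
    exact ⟨e, c, heq⟩
  · exact absurd h (by simp)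

section
variable {F : Type*} [Field F]

theorem linkOK_spec {m : ℤ} (hm : (m : F) = 0) {w : List (ℕ × ℤ × ℤ)} {i j : D.Idx}
    (h : linkOK D m w (code D i) (code D j) = true) {t : F} (ht : t ≠ 0) : D.wordMat F (letters t w) i j ≠ 0 := by
  rw [wordMat_apply D hm ht, eval_eq_filter]
  unfold linkOK at h
  split at h
  · rename_i j' e c heq
    simp only [Bool.and_eq_true, Bool.or_eq_true, beq_iff_eq] at h
    obtain ⟨h1, h2⟩ := h
    rw [heq]
    simp only [List.map_cons, List.map_nil, List.sum_cons, List.sum_nil, add_zero, h1, zpow_zero, mul_one]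
    rcases h2 with h2 | h2
    · rw [h2, Int.cast_one]; exact one_ne_zero
    · rw [h2, Int.cast_neg, Int.cast_one]; exact neg_ne_zero.mpr one_ne_zero
  · exact absurd h (by simp)

theorem col_eq_cons (r j : ℕ) : col D r j = (j, 0, 1) :: (col D r j).tail := by
  unfold col
  split_ifs <;> rfl

/-- The subset of the coordinates `h_{p_i}`. -/
def cartanSet : Set D.Idx := Set.range Sum.inl

theorem posUnipotent_le {p : ℕ → ℤ} (h : checkU D p = true) :
    D.posUnipotent F ≤ triSubgroup F (fun i : D.Idx => p (code D i)) (cartanSet D) := by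
  rw [ChevalleyDatum.posUnipotent, Subgroup.closure_le]
  rintro g ⟨r, t, hr, hg⟩
  have hr' : r ∈ D.posRoots := by
    rw [ChevalleyDatum.posRoots, List.mem_filter, List.mem_range]
    exact ⟨hr.1, by simpa using hr⟩
  have hcol : ∀ i j : D.Idx, (g : Matrix D.Idx D.Idx F) i j = (if code D j = code D i then 1 else 0) +
      ((col D r (code D j)).tail.map fun q => if q.1 = code D i then (q.2.2 : F) * t ^ q.2.1 else 0).sum := by
    intro i j
    rw [hg, ChevalleyDatum.x, dif_pos hr.1, xMat_apply, col_eq_cons, List.map_cons, List.sum_cons, List.tail_cons]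
    simp
  have hch : ∀ j : D.Idx, ∀ q ∈ (col D r (code D j)).tail, p (code D j) < p q.1 := by
    intro j q hq
    have h1 := List.all_eq_true.mp h r hr'
    have h2 := List.all_eq_true.mp h1 (code D j) (List.mem_range.mpr (code_lt D j))
    have h3 := List.all_eq_true.mp h2 q hq
    exact of_decide_eq_true h3
  rw [SetLike.mem_coe, mem_triSubgroup]
  constructor
  · intro i j hij
    by_contra hcon
    push Not at hcon
    obtain ⟨hne, hle⟩ := hcon
    apply hij
    rw [hcol, if_neg (fun h => hne (code_injective D h).symm), zero_add]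
    apply List.sum_eq_zero
    intro x hx
    obtain ⟨q, hq, rfl⟩ := List.mem_map.mp hx
    rw [if_neg]
    intro h4
    have := hch j q hq
    rw [h4] at this
    exact absurd this (not_lt.mpr hle)
  · intro i _
    rw [hcol, if_pos rfl]
    have : ((col D r (code D i)).tail.map fun q => if q.1 = code D i then (q.2.2 : F) * t ^ q.2.1 else 0).sum = 0 := by
      apply List.sum_eq_zero
      intro x hx
      obtain ⟨q, hq, rfl⟩ := List.mem_map.mp hx
      rw [if_neg]
      intro h4
      have := hch i q hq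
      rw [h4] at this
      exact absurd this (lt_irrefl _)
    rw [this, add_zero]

theorem hMat_eq (r : ℕ) (t : F) : D.hMat F r t = D.wordMat F (letters t (hLetters D r)) := by
  unfold ChevalleyDatum.hMat
  congr 1
  simp [ChevalleyDatum.hWord, ChevalleyDatum.nWord, letters, hLetters]

theorem diagonalSubgroup_le {m : ℤ} (hm : (m : F) = 0) (p : ℕ → ℤ)
    (h : ∀ r < D.nroots, checkHRoot D m r = true) :
    D.diagonalSubgroup F ≤ triSubgroup F (fun i : D.Idx => p (code D i)) (cartanSet D) := by
  rw [ChevalleyDatum.diagonalSubgroup, Subgroup.closure_le]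
  rintro g ⟨r, t, hr, ht, hg⟩
  have key : ∀ j : D.Idx, ∃ e c : ℤ, (code D j < D.rank → e = 0 ∧ c = 1) ∧ ∀ i : D.Idx,
      (g : Matrix D.Idx D.Idx F) i j = if code D j = code D i then (c : F) * t ^ e else 0 := by
    intro j
    obtain ⟨e, c, h1, h2⟩ := isDiagCol_spec D
      (List.all_eq_true.mp (h r hr) (code D j) (List.mem_range.mpr (code_lt D j)))
    refine ⟨e, c, h2, fun i => ?_⟩
    rw [hg, hMat_eq]
    exact wordMat_apply_of_single D hm ht h1 i
  rw [SetLike.mem_coe, mem_triSubgroup]
  constructor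
  · intro i j hij
    obtain ⟨e, c, -, h2⟩ := key j
    left
    by_contra hne
    apply hij
    rw [h2, if_neg (fun h => hne (code_injective D h).symm)]
  · rintro i ⟨k, rfl⟩
    obtain ⟨e, c, h1, h2⟩ := key (Sum.inl k)
    obtain ⟨he, hc⟩ := h1 (by rw [code_inl]; exact k.isLt)
    rw [h2, if_pos rfl, he, hc]
    simp

/-- `reach known links`: the codes reached from the codes in `known` along the links `(w, i, j)` (from `j` to `i`). -/
def reach (m : ℤ) (known : List ℕ) : List (List (ℕ × ℤ × ℤ) × ℕ × ℕ) → List ℕ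
  | [] => known
  | l :: ls => if l.2.2 < D.rank + D.nroots ∧ l.2.2 ∈ known ∧ linkOK D m l.1 l.2.1 l.2.2 = true then
      reach m (l.2.1 :: known) ls else reach m known ls

theorem reach_spec {m : ℤ} (hm : (m : F) = 0) {G1 : Subgroup (GL D.Idx F)} (χ : D.Idx → F)
    (hχ : ∀ x ∈ G1, (∀ k, (x : Matrix D.Idx D.Idx F) k k ≠ 0) → ∀ i j, (x : Matrix D.Idx D.Idx F) i j ≠ 0 → χ i = χ j)
    (links : List (List (ℕ × ℤ × ℤ) × ℕ × ℕ))
    (hlinks : ∀ l ∈ links, ∃ x ∈ G1, (x : Matrix D.Idx D.Idx F) = D.wordMat F (letters 1 l.1))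
    (hdiag : ∀ l ∈ links, ∀ j : D.Idx, linkOK D m l.1 (code D j) (code D j) = true) (known : List ℕ)
    (hk : ∀ i, code D i ∈ known → χ i = 1) : ∀ i, code D i ∈ reach D m known links → χ i = 1 := by
  induction links generalizing known with
  | nil => exact hk
  | cons l ls ih =>
    have ih' := ih (fun l hl => hlinks l (List.mem_cons_of_mem _ hl)) (fun l hl => hdiag l (List.mem_cons_of_mem _ hl))
    rw [reach]
    split_ifs with h
    · apply ih'
      intro i hi
      rcases List.mem_cons.mp hi with hi | hi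
      · obtain ⟨j, hj'⟩ := exists_code D h.1
        obtain ⟨x, hx, hxw⟩ := hlinks l List.mem_cons_self
        have h1 : χ i = χ j := by
          apply hχ x hx
          · intro k
            rw [hxw]
            exact linkOK_spec D hm (hdiag l List.mem_cons_self k) one_ne_zero
          · rw [hxw]
            apply linkOK_spec D hm _ one_ne_zero
            rw [hi, hj']
            exact h.2.2
        rw [h1]
        exact hk j (hj' ▸ h.2.1)
      · exact hk i hi
    · exact ih' known hk

/-- Triviality of the normal core of `B ∩ G¹` in `G¹` from kernel-checkable conditions. -/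
theorem core_eq_bot {m : ℤ} (hm : (m : F) = 0) (p : ℕ → ℤ) (opp : ℕ → ℕ) (G1 : Subgroup (GL D.Idx F))
    (hU : checkU D p = true) (hH : ∀ r < D.nroots, checkHRoot D m r = true)
    (w0 : List (ℕ × ℤ × ℤ)) (hw0 : ∃ x ∈ G1, (x : Matrix D.Idx D.Idx F) = D.wordMat F (letters 1 w0))
    (hopp : (List.range (D.rank + D.nroots)).all (fun j => decide (opp j < D.rank + D.nroots) &&
      (opp (opp j) == j) && (p (opp j) == - p j) && isMonoCol D m w0 j (opp j)) = true)
    (links : List (List (ℕ × ℤ × ℤ) × ℕ × ℕ))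
    (hlinks : ∀ l ∈ links, ∃ x ∈ G1, (x : Matrix D.Idx D.Idx F) = D.wordMat F (letters 1 l.1))
    (hdiag : ∀ l ∈ links, (List.range (D.rank + D.nroots)).all (fun j => linkOK D m l.1 j j) = true)
    (hreach : (List.range (D.rank + D.nroots)).all (fun j =>
      decide (j ∈ reach D m (List.range D.rank) links)) = true) :
    ((D.borelSubgroup F ⊓ G1).subgroupOf G1).normalCore = ⊥ := by
  obtain ⟨w, hw, hww⟩ := hw0
  have hopp' : ∀ j < D.rank + D.nroots, opp j < D.rank + D.nroots ∧ opp (opp j) = j ∧ p (opp j) = - p j ∧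
      isMonoCol D m w0 j (opp j) = true := by
    intro j hj
    have h := List.all_eq_true.mp hopp j (List.mem_range.mpr hj)
    simp only [Bool.and_eq_true, decide_eq_true_eq, beq_iff_eq] at h
    exact ⟨h.1.1.1, h.1.1.2, h.1.2, h.2⟩
  choose opp' hopp'' using fun i : D.Idx => exists_code D (hopp' (code D i) (code_lt D i)).1
  have hinv : ∀ i, opp' (opp' i) = i := by
    intro i
    apply code_injective D
    rw [hopp'', hopp'', (hopp' _ (code_lt D i)).2.1]
  have hposo : ∀ i, p (code D (opp' i)) = - p (code D i) := by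
    intro i
    rw [hopp'', (hopp' _ (code_lt D i)).2.2.1]
  apply normalCore_eq_bot (fun i : D.Idx => p (code D i)) (cartanSet D) (D.borelSubgroup F) G1 ?_ w hw opp'
  · intro i j h
    rw [← hinv i, h, hinv]
  · intro i j _ h1 h2
    simp only [hposo] at h2
    omega
  · intro i j hij
    obtain ⟨e, c, h1⟩ := isMonoCol_spec D (hopp' _ (code_lt D j)).2.2.2
    rw [hww, wordMat_apply_of_single D hm one_ne_zero h1] at hij
    by_contra hne
    apply hij
    rw [if_neg]
    intro h2
    apply hne
    apply code_injective D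
    rw [← h2, hopp'']
  · intro χ h1 h2 i
    apply reach_spec D hm χ h2 links hlinks ?_ (List.range D.rank) ?_ i ?_
    · intro l hl j
      exact List.all_eq_true.mp (hdiag l hl) _ (List.mem_range.mpr (code_lt D j))
    · intro i hi
      rw [List.mem_range] at hi
      apply h1
      rcases i with i | s
      · exact ⟨i, rfl⟩
      · rw [code_inr] at hi; omega
    · exact of_decide_eq_true (List.all_eq_true.mp hreach _ (List.mem_range.mpr (code_lt D i)))
  · rw [ChevalleyDatum.borelSubgroup, sup_le_iff]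
    exact ⟨posUnipotent_le D hU, diagonalSubgroup_le D hm p hH⟩

/-! ### Elements of a group given by words -/

/-- The word `w` acts as the identity. -/
def isOne (m : ℤ) (w : List (ℕ × ℤ × ℤ)) : Bool :=
  (List.range (D.rank + D.nroots)).all fun j => actWord D m w [(j, 0, 1)] == [(j, 0, 1)]

theorem wordMat_eq_one_of_isOne {m : ℤ} (hm : (m : F) = 0) {t : F} (ht : t ≠ 0) {w : List (ℕ × ℤ × ℤ)}
    (h : isOne D m w = true) : D.wordMat F (letters t w) = 1 := by
  ext i j
  have h1 := List.all_eq_true.mp h (code D j) (List.mem_range.mpr (code_lt D j))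
  rw [beq_iff_eq] at h1
  rw [wordMat_apply_of_single D hm ht h1, Matrix.one_apply]
  by_cases hij : i = j
  · subst hij; simp
  · rw [if_neg hij, if_neg (fun h => hij (code_injective D h).symm)]

theorem letters_append (t : F) (w w' : List (ℕ × ℤ × ℤ)) : letters t (w ++ w') = letters t w ++ letters t w' := by
  simp [letters]

/-- The element of the general linear group given by a word `w` with inverse word `w'`. -/
def unitOf {m : ℤ} (hm : (m : F) = 0) {t : F} (ht : t ≠ 0) {w w' : List (ℕ × ℤ × ℤ)}
    (h : isOne D m (w ++ w') = true) : GL D.Idx F where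
  val := D.wordMat F (letters t w)
  inv := D.wordMat F (letters t w')
  val_inv := by rw [← wordMat_append, ← letters_append, wordMat_eq_one_of_isOne D hm ht h]
  inv_val := by
    rw [mul_eq_one_comm, ← wordMat_append, ← letters_append, wordMat_eq_one_of_isOne D hm ht h]

/-- The word `w` (with parameter `t`) gives an element of `G1`. -/
def Mem (G1 : Subgroup (GL D.Idx F)) (t : F) (w : List (ℕ × ℤ × ℤ)) : Prop :=
  ∃ x ∈ G1, (x : Matrix D.Idx D.Idx F) = D.wordMat F (letters t w)

theorem Mem.append {G1 : Subgroup (GL D.Idx F)} {t : F} {w w' : List (ℕ × ℤ × ℤ)} (h : Mem D G1 t w)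
    (h' : Mem D G1 t w') : Mem D G1 t (w ++ w') := by
  obtain ⟨x, hx, hxw⟩ := h
  obtain ⟨x', hx', hxw'⟩ := h'
  exact ⟨x * x', G1.mul_mem hx hx', by rw [Units.val_mul, hxw, hxw', letters_append, wordMat_append]⟩

theorem Mem.inv {G1 : Subgroup (GL D.Idx F)} {t : F} {w w' : List (ℕ × ℤ × ℤ)} (h : Mem D G1 t w) {m : ℤ}
    (hm : (m : F) = 0) (ht : t ≠ 0) (h' : isOne D m (w ++ w') = true) : Mem D G1 t w' := by
  obtain ⟨x, hx, hxw⟩ := h
  refine ⟨x⁻¹, G1.inv_mem hx, ?_⟩
  have h1 : (x : Matrix D.Idx D.Idx F) * D.wordMat F (letters t w') = 1 := by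
    rw [hxw, ← wordMat_append, ← letters_append, wordMat_eq_one_of_isOne D hm ht h']
  have h2 : ((x⁻¹ : GL D.Idx F) : Matrix D.Idx D.Idx F) * (x : Matrix D.Idx D.Idx F) = 1 := by
    rw [← Units.val_mul, inv_mul_cancel, Units.val_one]
  calc ((x⁻¹ : GL D.Idx F) : Matrix D.Idx D.Idx F)
      = ((x⁻¹ : GL D.Idx F) : Matrix D.Idx D.Idx F) * ((x : Matrix D.Idx D.Idx F) * D.wordMat F (letters t w')) := by
        rw [h1, mul_one]
    _ = D.wordMat F (letters t w') := by rw [← mul_assoc, h2, one_mul]

/-- Generators of a group generated by words. -/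
theorem mem_genSubgroup {m : ℤ} (hm : (m : F) = 0) {S : Set (List (ℕ × F))} {t : F} (ht : t ≠ 0)
    {w w' : List (ℕ × ℤ × ℤ)} (h : isOne D m (w ++ w') = true) (hw : letters t w ∈ S) :
    Mem D (D.genSubgroup F S) t w :=
  ⟨unitOf D hm ht h, Subgroup.subset_closure ⟨letters t w, hw, rfl⟩, rfl⟩

end

end Cfsg.Agent.ChevalleyStructure.CoreCheck
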