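import Cfsg.Agent.ChevalleyStructure.CoxeterGeom
import Cfsg.Prelude.Def_ChevStructure
import Cfsg.Prelude.Def_ChevG2
import Cfsg.Prelude.Def_ChevB2
import Cfsg.Prelude.Def_ChevD4
import Cfsg.Prelude.Def_ChevF4
import Cfsg.Prelude.Def_ChevE6
import Cfsg.Prelude.Def_ChevE7
import Cfsg.Prelude.Def_ChevE8

/-! `IsCartan` for the seven tabulated types, with the Cartan integers of the Chevalley tables. -/

set_option autoImplicit false

namespace Cfsg.Agent.ChevalleyStructure.CoxeterGeomTypes

open Cfsg.Agent.ChevalleyStructure.CoxeterGeom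

/-- `A i j = A_{p_i, p_j}`, read off the tables. -/
def cartanOf (D : Cfsg.Lie.ChevalleyDatum) (n : ℕ) (i j : Fin n) : ℤ := D.cartan i (D.simple j)

theorem cartanOf_def (D : Cfsg.Lie.ChevalleyDatum) (n : ℕ) (i j : Fin n) :
    cartanOf D n i j = D.cartan i (D.simple j) := rfl

set_option backward.isDefEq.respectTransparency false in
theorem isCartan_G2 : IsCartan CoxeterMatrix.G₂ (cartanOf Cfsg.Lie.chevG2 2) := by
  constructor <;> decide +kernel

set_option backward.isDefEq.respectTransparency false in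
theorem isCartan_B2 : IsCartan (CoxeterMatrix.B 2) (cartanOf Cfsg.Lie.chevB2 2) := by
  constructor <;> decide +kernel

set_option backward.isDefEq.respectTransparency false in
theorem isCartan_D4 : IsCartan Cfsg.Lie.coxeterD4 (cartanOf Cfsg.Lie.chevD4 4) := by
  constructor <;> decide +kernel

set_option backward.isDefEq.respectTransparency false in
theorem isCartan_F4 : IsCartan CoxeterMatrix.F₄ (cartanOf Cfsg.Lie.chevF4 4) := by
  constructor <;> decide +kernel

set_option backward.isDefEq.respectTransparency false in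
theorem isCartan_E6 : IsCartan CoxeterMatrix.E₆ (cartanOf Cfsg.Lie.chevE6 6) := by
  constructor <;> decide +kernel

set_option backward.isDefEq.respectTransparency false in
theorem isCartan_E7 : IsCartan CoxeterMatrix.E₇ (cartanOf Cfsg.Lie.chevE7 7) := by
  constructor <;> decide +kernel

set_option backward.isDefEq.respectTransparency false in
theorem isCartan_E8 : IsCartan CoxeterMatrix.E₈ (cartanOf Cfsg.Lie.chevE8 8) := by
  constructor <;> decide +kernel

/-- The Cartan integers of the tables form a Cartan matrix of the right Coxeter type. -/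
theorem isCartan_of_mem (p : Cfsg.Lie.ChevalleyDatum × (Σ n : ℕ, CoxeterMatrix (Fin n)))
    (hp : p ∈ [(Cfsg.Lie.chevG2, ⟨2, CoxeterMatrix.G₂⟩), (Cfsg.Lie.chevB2, ⟨2, CoxeterMatrix.B 2⟩), (Cfsg.Lie.chevD4, ⟨4, Cfsg.Lie.coxeterD4⟩), (Cfsg.Lie.chevF4, ⟨4, CoxeterMatrix.F₄⟩),
      (Cfsg.Lie.chevE6, ⟨6, CoxeterMatrix.E₆⟩), (Cfsg.Lie.chevE7, ⟨7, CoxeterMatrix.E₇⟩), (Cfsg.Lie.chevE8, ⟨8, CoxeterMatrix.E₈⟩)]) :
    IsCartan p.2.2 (cartanOf p.1 p.2.1) := by
  simp only [List.mem_cons, List.not_mem_nil, or_false] at hp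
  rcases hp with rfl | rfl | rfl | rfl | rfl | rfl | rfl
  · exact isCartan_G2
  · exact isCartan_B2
  · exact isCartan_D4
  · exact isCartan_F4
  · exact isCartan_E6
  · exact isCartan_E7
  · exact isCartan_E8

end Cfsg.Agent.ChevalleyStructure.CoxeterGeomTypes
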