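import Cfsg.Agent.ChevalleyStructure.CoxeterWordCheck
import Cfsg.Agent.ChevalleyStructure.CoxeterGeomTypes

/-!
The Weyl group of type F₄ is the centraliser of the diagram symmetry in the Weyl group of type E₆:
`psi : W(F₄) → W(E₆)` is injective and its range is the set of elements fixed by `rho`.
-/

set_option autoImplicit false

namespace Cfsg.Agent.ChevalleyStructure.CoxeterF4E6

open CoxeterSystem Cfsg.Agent.ChevalleyStructure.CoxeterGeom Cfsg.Agent.ChevalleyStructure.CoxeterWordCheck
open Cfsg.Agent.ChevalleyStructure.CoxeterGeomTypes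

/-- The Coxeter system of type E₆. -/
abbrev cs6 : CoxeterSystem CoxeterMatrix.E₆ CoxeterMatrix.E₆.Group := CoxeterMatrix.E₆.toCoxeterSystem

/-- The Coxeter system of type F₄. -/
abbrev cs4 : CoxeterSystem CoxeterMatrix.F₄ CoxeterMatrix.F₄.Group := CoxeterMatrix.F₄.toCoxeterSystem

/-- The Cartan matrix of type E₆. -/
def A6 (i j : Fin 6) : ℤ :=
  (([[2, 0, -1, 0, 0, 0], [0, 2, 0, -1, 0, 0], [-1, 0, 2, -1, 0, 0], [0, -1, -1, 2, -1, 0], [0, 0, 0, -1, 2, -1],
    [0, 0, 0, 0, -1, 2]] : List (List ℤ)).getD i []).getD j 0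

/-- The Cartan matrix of type F₄ of the folded basis α₂, α₄, α₃ + α₅, α₁ + α₆. -/
def A4 (i j : Fin 4) : ℤ :=
  (([[2, -1, 0, 0], [-1, 2, -2, 0], [0, -1, 2, -1], [0, 0, -1, 2]] : List (List ℤ)).getD i []).getD j 0

set_option backward.isDefEq.respectTransparency false in
theorem isCartan6 : IsCartan CoxeterMatrix.E₆ A6 := by
  constructor <;> decide +kernel

set_option backward.isDefEq.respectTransparency false in
theorem isCartan4 : IsCartan CoxeterMatrix.F₄ A4 := by
  constructor <;> decide +kernel

/-- The diagram symmetry. -/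
def r (i : Fin 6) : Fin 6 := ([5, 1, 4, 3, 2, 0] : List (Fin 6)).getD i 0

theorem r_r (i : Fin 6) : r (r i) = i := by revert i; decide

/-- The images of the generators of `W(F₄)`. -/
def gen (i : Fin 4) : List (Fin 6) := ([[1], [3], [2, 4], [0, 5]] : List (List (Fin 6))).getD i []

theorem wordProd_pow (l : List (Fin 6)) (m : ℕ) :
    cs6.wordProd l ^ m = cs6.wordProd ((List.replicate m l).flatten) := by
  induction m with
  | zero => simp
  | succ m ih => rw [pow_succ', ih, List.replicate_succ, List.flatten_cons, wordProd_append]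

set_option backward.isDefEq.respectTransparency false in
theorem gen_check : ∀ i j : Fin 4,
    check 6 (rows A6) (((List.replicate (CoxeterMatrix.F₄ i j) (gen i ++ gen j)).flatten).map (·.val)) = true := by
  decide +kernel

theorem gen_liftable : CoxeterMatrix.F₄.IsLiftable (fun i => cs6.wordProd (gen i)) := by
  intro i j
  show (cs6.wordProd (gen i) * cs6.wordProd (gen j)) ^ _ = 1
  rw [← wordProd_append, wordProd_pow]
  exact wordProd_eq_one cs6 isCartan6 _ (gen_check i j)

/-- The homomorphism from `W(F₄)` to `W(E₆)`. -/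
def psi : CoxeterMatrix.F₄.Group →* CoxeterMatrix.E₆.Group := cs4.lift ⟨_, gen_liftable⟩

theorem psi_simple (i : Fin 4) : psi (CoxeterMatrix.F₄.simple i) = cs6.wordProd (gen i) :=
  cs4.lift_apply_simple gen_liftable i

/-- The linear embedding of the root lattices. -/
def L (x : Fin 4 → ℤ) : Fin 6 → ℤ := ![x 3, x 0, x 2, x 1, x 2, x 3]

theorem L_injective : Function.Injective L := by
  intro x y hxy
  have h0 := congrFun hxy 0
  have h1 := congrFun hxy 1
  have h2 := congrFun hxy 2
  have h3 := congrFun hxy 3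
  simp [L] at h0 h1 h2 h3
  funext k
  fin_cases k <;> simp_all

theorem L_zero (x : Fin 4 → ℤ) : L x 0 = x 3 := rfl
theorem L_one (x : Fin 4 → ℤ) : L x 1 = x 0 := rfl
theorem L_two (x : Fin 4 → ℤ) : L x 2 = x 2 := rfl
theorem L_three (x : Fin 4 → ℤ) : L x 3 = x 1 := rfl
theorem L_four (x : Fin 4 → ℤ) : L x 4 = x 2 := rfl
theorem L_five (x : Fin 4 → ℤ) : L x 5 = x 3 := rfl

theorem refl_refl_of_eq_zero (i j : Fin 6) (hij : A6 i j = 0) (v : Fin 6 → ℤ) :
    refl A6 i (refl A6 j v) = v - Pi.single j (pairing A6 j v) - Pi.single i (pairing A6 i v) := by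
  rw [refl_apply A6 i, refl_apply A6 j, sub_eq_add_neg v, pairing_add, ← Pi.single_neg, pairing_single, hij,
    zero_mul, add_zero]

theorem rep_L_simple (i : Fin 4) (x : Fin 4 → ℤ) :
    rep cs6 isCartan6 (cs6.wordProd (gen i)) (L x) = L (refl A4 i x) := by
  have e0 : pairing A4 0 x = 2 * x 0 - x 1 := by
    simp only [pairing, Fin.sum_univ_four]; simp [A4]; ring
  have e1 : pairing A4 1 x = - x 0 + 2 * x 1 - 2 * x 2 := by
    simp only [pairing, Fin.sum_univ_four]; simp [A4]; ring
  have e2 : pairing A4 2 x = - x 1 + 2 * x 2 - x 3 := by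
    simp only [pairing, Fin.sum_univ_four]; simp [A4]; ring
  have e3 : pairing A4 3 x = - x 2 + 2 * x 3 := by
    simp only [pairing, Fin.sum_univ_four]; simp [A4]
  have f0 : ∀ v, pairing A6 0 v = 2 * v 0 - v 2 := by
    intro v; simp only [pairing, Fin.sum_univ_six]; simp [A6]; ring
  have f1 : ∀ v, pairing A6 1 v = 2 * v 1 - v 3 := by
    intro v; simp only [pairing, Fin.sum_univ_six]; simp [A6]; ring
  have f2 : ∀ v, pairing A6 2 v = - v 0 + 2 * v 2 - v 3 := by
    intro v; simp only [pairing, Fin.sum_univ_six]; simp [A6]; ring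
  have f3 : ∀ v, pairing A6 3 v = - v 1 - v 2 + 2 * v 3 - v 4 := by
    intro v; simp only [pairing, Fin.sum_univ_six]; simp [A6]; ring
  have f4 : ∀ v, pairing A6 4 v = - v 3 + 2 * v 4 - v 5 := by
    intro v; simp only [pairing, Fin.sum_univ_six]; simp [A6]; ring
  have f5 : ∀ v, pairing A6 5 v = - v 4 + 2 * v 5 := by
    intro v; simp only [pairing, Fin.sum_univ_six]; simp [A6]
  have hi : i = 0 ∨ i = 1 ∨ i = 2 ∨ i = 3 := by fin_cases i <;> simp
  rcases hi with rfl | rfl | rfl | rfl
  · have hg : cs6.wordProd (gen 0) = cs6.simple 1 := by simp [gen]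
    rw [hg, rep_simple]
    funext k
    have hk : k = 0 ∨ k = 1 ∨ k = 2 ∨ k = 3 ∨ k = 4 ∨ k = 5 := by fin_cases k <;> simp
    rcases hk with rfl | rfl | rfl | rfl | rfl | rfl <;> simp [refl_apply, f1, e0, L_zero, L_one, L_two, L_three, L_four, L_five]
  · have hg : cs6.wordProd (gen 1) = cs6.simple 3 := by simp [gen]
    rw [hg, rep_simple]
    funext k
    have hk : k = 0 ∨ k = 1 ∨ k = 2 ∨ k = 3 ∨ k = 4 ∨ k = 5 := by fin_cases k <;> simp
    rcases hk with rfl | rfl | rfl | rfl | rfl | rfl <;> simp [refl_apply, f3, e1, L_zero, L_one, L_two, L_three, L_four, L_five]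
    ring
  · have hg : cs6.wordProd (gen 2) = cs6.simple 2 * cs6.simple 4 := by simp [gen, wordProd_cons]
    rw [hg, rep_mul_apply, rep_simple, rep_simple, refl_refl_of_eq_zero 2 4 (by decide +kernel), refl_apply]
    funext k
    have hk : k = 0 ∨ k = 1 ∨ k = 2 ∨ k = 3 ∨ k = 4 ∨ k = 5 := by fin_cases k <;> simp
    rcases hk with rfl | rfl | rfl | rfl | rfl | rfl <;> simp [f2, f4, e2, L_zero, L_one, L_two, L_three, L_four, L_five]
    ring
  · have hg : cs6.wordProd (gen 3) = cs6.simple 0 * cs6.simple 5 := by simp [gen, wordProd_cons]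
    rw [hg, rep_mul_apply, rep_simple, rep_simple, refl_refl_of_eq_zero 0 5 (by decide +kernel), refl_apply]
    funext k
    have hk : k = 0 ∨ k = 1 ∨ k = 2 ∨ k = 3 ∨ k = 4 ∨ k = 5 := by fin_cases k <;> simp
    rcases hk with rfl | rfl | rfl | rfl | rfl | rfl <;> simp [f0, f5, e3, L_zero, L_one, L_two, L_three, L_four, L_five]
    ring

theorem rep_L (w : CoxeterMatrix.F₄.Group) (x : Fin 4 → ℤ) :
    rep cs6 isCartan6 (psi w) (L x) = L (rep cs4 isCartan4 w x) := by
  induction w using cs4.simple_induction_left with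
  | one => rw [map_one, map_one, map_one, Module.End.one_apply, Module.End.one_apply]
  | mul_simple_left w i ih =>
    rw [map_mul, rep_mul_apply, ih, rep_mul_apply, rep_simple]
    have h1 : psi (cs4.simple i) = cs6.wordProd (gen i) := psi_simple i
    rw [h1, rep_L_simple]

theorem psi_injective : Function.Injective psi := by
  rw [injective_iff_map_eq_one]
  intro w hw
  apply rep_injective cs4 isCartan4
  refine LinearMap.ext fun x => L_injective ?_
  rw [← rep_L, hw, map_one, map_one, Module.End.one_apply, Module.End.one_apply]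

/-! ### The diagram symmetry -/

set_option backward.isDefEq.respectTransparency false in
theorem M_r : ∀ i j : Fin 6, CoxeterMatrix.E₆ (r i) (r j) = CoxeterMatrix.E₆ i j := by decide +kernel

theorem r_liftable : CoxeterMatrix.E₆.IsLiftable (fun i => cs6.simple (r i)) := by
  intro i j
  show (cs6.simple (r i) * cs6.simple (r j)) ^ _ = 1
  rw [← M_r]
  exact cs6.simple_mul_simple_pow _ _

/-- The automorphism of `W(E₆)` given by the symmetry of the diagram. -/
def rho : CoxeterMatrix.E₆.Group →* CoxeterMatrix.E₆.Group := cs6.lift ⟨_, r_liftable⟩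

theorem rho_simple (i : Fin 6) : rho (cs6.simple i) = cs6.simple (r i) :=
  cs6.lift_apply_simple r_liftable i

theorem A6_r : ∀ i j : Fin 6, A6 (r i) (r j) = A6 i j := by decide +kernel

theorem r_injective : Function.Injective r := fun i j hij => by rw [← r_r i, hij, r_r]

/-- The permutation of coordinates. -/
def R (v : Fin 6 → ℤ) : Fin 6 → ℤ := fun k => v (r k)

theorem R_single (i : Fin 6) (c : ℤ) : R (Pi.single i c) = Pi.single (r i) c := by
  funext k
  show (Pi.single i c : Fin 6 → ℤ) (r k) = _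
  rw [Pi.single_apply, Pi.single_apply]
  have : r k = i ↔ k = r i := ⟨fun h => by rw [← h, r_r], fun h => by rw [h, r_r]⟩
  simp only [this]

theorem pairing_R (i : Fin 6) (v : Fin 6 → ℤ) : pairing A6 (r i) (R v) = pairing A6 i v := by
  unfold pairing
  have : ∀ k, A6 (r i) k * R v k = A6 i (r k) * v (r k) := by
    intro k
    show A6 (r i) k * v (r k) = _
    rw [← A6_r i (r k), r_r]
  simp only [this]
  exact Function.Bijective.sum_comp ⟨r_injective, fun k => ⟨r k, r_r k⟩⟩ (fun k => A6 i k * v k)

theorem refl_R (i : Fin 6) (v : Fin 6 → ℤ) : refl A6 (r i) (R v) = R (refl A6 i v) := by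
  rw [refl_apply, refl_apply, pairing_R, ← R_single]
  rfl

theorem rep_R (w : CoxeterMatrix.E₆.Group) (v : Fin 6 → ℤ) :
    rep cs6 isCartan6 (rho w) (R v) = R (rep cs6 isCartan6 w v) := by
  induction w using cs6.simple_induction_left with
  | one => rw [map_one, map_one, Module.End.one_apply, Module.End.one_apply]
  | mul_simple_left w i ih =>
    rw [map_mul, rep_mul_apply, ih, rep_mul_apply, rep_simple, rho_simple, rep_simple, refl_R]

theorem simple_mem_range (i : Fin 6) (hi : r i = i) : cs6.simple i ∈ psi.range := by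
  have hi' : i = 1 ∨ i = 3 := by revert i; decide
  rcases hi' with rfl | rfl
  · exact ⟨CoxeterMatrix.F₄.simple 0, by rw [psi_simple]; simp [gen]⟩
  · exact ⟨CoxeterMatrix.F₄.simple 1, by rw [psi_simple]; simp [gen]⟩

theorem comm_r (i : Fin 6) : cs6.simple i * cs6.simple (r i) = cs6.simple (r i) * cs6.simple i := by
  have hi : i = 0 ∨ i = 1 ∨ i = 2 ∨ i = 3 ∨ i = 4 ∨ i = 5 := by fin_cases i <;> simp
  have h1 := wordProd_eq_wordProd cs6 isCartan6 [0, 5] [5, 0] (by decide +kernel)
  have h2 := wordProd_eq_wordProd cs6 isCartan6 [2, 4] [4, 2] (by decide +kernel)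
  simp only [wordProd_cons, wordProd_nil, mul_one] at h1 h2
  rcases hi with rfl | rfl | rfl | rfl | rfl | rfl
  · exact h1
  · rfl
  · exact h2
  · rfl
  · exact h2.symm
  · exact h1.symm

theorem mul_mem_range (i : Fin 6) (hi : r i ≠ i) : cs6.simple i * cs6.simple (r i) ∈ psi.range := by
  have hi' : i = 0 ∨ i = 2 ∨ i = 4 ∨ i = 5 := by revert i; decide
  rcases hi' with rfl | rfl | rfl | rfl
  · exact ⟨CoxeterMatrix.F₄.simple 3, by rw [psi_simple]; simp [gen, wordProd_cons, r]⟩
  · exact ⟨CoxeterMatrix.F₄.simple 2, by rw [psi_simple]; simp [gen, wordProd_cons, r]⟩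
  · rw [comm_r]
    exact ⟨CoxeterMatrix.F₄.simple 2, by rw [psi_simple]; simp [gen, wordProd_cons, r]⟩
  · rw [comm_r]
    exact ⟨CoxeterMatrix.F₄.simple 3, by rw [psi_simple]; simp [gen, wordProd_cons, r]⟩

theorem A6_r_self : ∀ i : Fin 6, r i ≠ i → A6 i (r i) = 0 := by decide +kernel

/-- Every element of `W(E₆)` fixed by the diagram automorphism lies in the image of `W(F₄)`. -/
theorem mem_range_of_fixed (w : CoxeterMatrix.E₆.Group) (hw : rho w = w) : w ∈ psi.range := by
  induction hn : cs6.length w using Nat.strong_induction_on generalizing w with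
  | _ n ih =>
    by_cases hw1 : w = 1
    · subst hw1; exact one_mem _
    obtain ⟨i, hi⟩ := cs6.exists_rightDescent_of_ne_one hw1
    have hi' : cs6.length (w * cs6.simple i) < cs6.length w := hi
    by_cases hr : r i = i
    · have h1 : rho (w * cs6.simple i) = w * cs6.simple i := by
        rw [map_mul, hw, rho_simple, hr]
      have h2 := ih _ (by omega) _ h1 rfl
      have h3 := mul_mem h2 (simple_mem_range i hr)
      rwa [simple_mul_simple_cancel_right] at h3
    · have h0 : rep cs6 isCartan6 w (Pi.single i 1) ≤ 0 := nonpos_of_lt cs6 isCartan6 w i hi'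
      have h1 : rep cs6 isCartan6 w (Pi.single (r i) 1) ≤ 0 := by
        have h := rep_R w (Pi.single i 1)
        rw [hw, R_single] at h
        rw [h]
        intro k
        exact h0 (r k)
      have h2 : rep cs6 isCartan6 (w * cs6.simple i) (Pi.single (r i) 1) ≤ 0 := by
        rw [rep_mul_apply, rep_simple, refl_single, A6_r_self i hr, zero_mul, Pi.single_zero, sub_zero]
        exact h1
      have h3 := (lt_iff cs6 isCartan6 (w * cs6.simple i) (r i)).2 h2
      have h4 : rho (w * cs6.simple i * cs6.simple (r i)) = w * cs6.simple i * cs6.simple (r i) := by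
        rw [map_mul, map_mul, hw, rho_simple, rho_simple, r_r, mul_assoc, mul_assoc, comm_r]
      have h5 := ih _ (by omega) _ h4 rfl
      have h6 := mul_mem h5 (mul_mem_range i hr)
      have h7 : w * cs6.simple i * cs6.simple (r i) * (cs6.simple i * cs6.simple (r i)) = w := by
        rw [comm_r, mul_assoc (w * cs6.simple i), ← mul_assoc (cs6.simple (r i)), simple_mul_simple_self,
          one_mul, mul_assoc, simple_mul_simple_self, mul_one]
      rwa [h7] at h6

/-- The image of `W(F₄)` is the fixed group of the diagram automorphism. -/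
theorem mem_range_iff (w : CoxeterMatrix.E₆.Group) : w ∈ psi.range ↔ rho w = w := by
  refine ⟨?_, mem_range_of_fixed w⟩
  rintro ⟨v, rfl⟩
  have h : rho.comp psi = psi := by
    apply cs4.ext_simple
    intro i
    show rho (psi (CoxeterMatrix.F₄.simple i)) = psi (CoxeterMatrix.F₄.simple i)
    rw [psi_simple]
    have hi : i = 0 ∨ i = 1 ∨ i = 2 ∨ i = 3 := by fin_cases i <;> simp
    have g0 : cs6.wordProd (gen 0) = cs6.simple 1 := by simp [gen]
    have g1 : cs6.wordProd (gen 1) = cs6.simple 3 := by simp [gen]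
    have g2 : cs6.wordProd (gen 2) = cs6.simple 2 * cs6.simple 4 := by simp [gen, wordProd_cons]
    have g3 : cs6.wordProd (gen 3) = cs6.simple 0 * cs6.simple 5 := by simp [gen, wordProd_cons]
    rcases hi with rfl | rfl | rfl | rfl
    · rw [g0, rho_simple]; rfl
    · rw [g1, rho_simple]; rfl
    · rw [g2, map_mul, rho_simple, rho_simple]; exact comm_r 4
    · rw [g3, map_mul, rho_simple, rho_simple]; exact comm_r 5
  exact DFunLike.congr_fun h v

end Cfsg.Agent.ChevalleyStructure.CoxeterF4E6
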