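import Mathlib

/-!
The geometric representation of a crystallographic Coxeter group on its root lattice is faithful, and the length
function is governed by the sign of `w(α_i)` (Humphreys, Reflection groups and Coxeter groups, 5.4).

* `pos_of_lt`, `lt_iff_not_pos`, `eq_one_of_pos` : abstract versions for any "positivity" predicate on pairs `(w, i)`;
* `IsCartan M A` : the integer matrix `A` is a (generalised) Cartan matrix of type `M`, `A i j = ⟨α_j, α_i^∨⟩`;
* `rep cs h : W →* Module.End ℤ (B → ℤ)` : the representation, `rep_simple`, `rep_injective`, `nonneg_of_lt`,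
  `nonpos_of_lt`, `lt_iff`.
-/

set_option autoImplicit false

namespace Cfsg.Agent.ChevalleyStructure.CoxeterGeom

open CoxeterSystem

section Abstract

variable {B W : Type*} [Group W] {M : CoxeterMatrix B} (cs : CoxeterSystem M W)

/-- Multiplication on the right by the inverse of an alternating word, one more letter. -/
theorem mul_alt_succ_inv (i j : B) (k : ℕ) (w : W) :
    w * (cs.wordProd (alternatingWord i j (k + 1)))⁻¹ =
      w * (cs.wordProd (alternatingWord i j k))⁻¹ * cs.simple (if Even k then j else i) := by
  rw [alternatingWord_succ', wordProd_cons, mul_inv_rev, inv_simple, mul_assoc]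

/-- Abstract form of "`ℓ(w s_i) > ℓ(w)` implies `w(α_i) > 0`". -/
theorem pos_of_lt (Pos : W → B → Prop) (h0 : ∀ i, Pos 1 i)
    (h1 : ∀ (v : W) (i j : B) (k : ℕ), i ≠ j → (M i j ≠ 0 → k < M i j) → Pos v i → Pos v j →
      Pos (v * cs.wordProd (alternatingWord i j k)) i)
    (w : W) (i : B) (hw : cs.length w < cs.length (w * cs.simple i)) : Pos w i := by
  induction hn : cs.length w using Nat.strong_induction_on generalizing w i with
  | _ n ih =>
    by_cases hw1 : w = 1
    · subst hw1; exact h0 i
    obtain ⟨j, hj⟩ := cs.exists_rightDescent_of_ne_one hw1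
    have hj' : cs.length (w * cs.simple j) < cs.length w := hj
    have hij : i ≠ j := by
      rintro rfl; omega
    -- the length function along the alternating words
    let P : ℕ → Prop := fun k => cs.length (w * (cs.wordProd (alternatingWord i j k))⁻¹) + k = cs.length w
    have hlow : ∀ k, cs.length w ≤ cs.length (w * (cs.wordProd (alternatingWord i j k))⁻¹) + k := by
      intro k
      have h := cs.length_mul_le (w * (cs.wordProd (alternatingWord i j k))⁻¹) (cs.wordProd (alternatingWord i j k))
      rw [inv_mul_cancel_right] at h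
      have h' := cs.length_wordProd_le (alternatingWord i j k)
      rw [length_alternatingWord] at h'
      omega
    have hdown : ∀ k, P (k + 1) → P k := by
      intro k hk
      have hk' : cs.length (w * (cs.wordProd (alternatingWord i j (k + 1)))⁻¹) + (k + 1) = cs.length w := hk
      rw [mul_alt_succ_inv] at hk'
      have := cs.length_mul_simple (w * (cs.wordProd (alternatingWord i j k))⁻¹) (if Even k then j else i)
      have h' := hlow k
      show cs.length (w * (cs.wordProd (alternatingWord i j k))⁻¹) + k = cs.length w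
      omega
    have hdown' : ∀ k m, m ≤ k → P k → P m := by
      intro k m hmk hk
      induction k, hmk using Nat.le_induction with
      | base => exact hk
      | succ k _ ih' => exact ih' (hdown k hk)
    have hP1 : P 1 := by
      have h := cs.length_mul_simple w j
      show cs.length (w * (cs.wordProd (alternatingWord i j (0 + 1)))⁻¹) + 1 = cs.length w
      rw [mul_alt_succ_inv]
      simp only [alternatingWord, wordProd_nil, inv_one, mul_one, Even.zero, if_true]
      omega
    have hPle : ∀ k, P k → k ≤ cs.length w := by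
      intro k hk
      have hk' : cs.length (w * (cs.wordProd (alternatingWord i j k))⁻¹) + k = cs.length w := hk
      omega
    classical
    obtain ⟨k, hk1, hPk, hPk1⟩ : ∃ k, 1 ≤ k ∧ P k ∧ ¬ P (k + 1) := by
      have hle1 := hPle 1 hP1
      refine ⟨Nat.findGreatest P (cs.length w), Nat.le_findGreatest hle1 hP1,
        Nat.findGreatest_spec hle1 hP1, ?_⟩
      intro h
      have := Nat.le_findGreatest (hPle _ h) h
      omega
    have hPk' : cs.length (w * (cs.wordProd (alternatingWord i j k))⁻¹) + k = cs.length w := hPk
    have hPk1' : ¬ cs.length (w * (cs.wordProd (alternatingWord i j (k + 1)))⁻¹) + (k + 1) = cs.length w := hPk1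
    set v : W := w * (cs.wordProd (alternatingWord i j k))⁻¹ with hv
    have hvlt : cs.length v < n := by omega
    -- the next letter
    have hx : cs.length v < cs.length (v * cs.simple (if Even k then j else i)) := by
      rw [mul_alt_succ_inv, ← hv] at hPk1'
      have := cs.length_mul_simple v (if Even k then j else i)
      omega
    have hPx : Pos v (if Even k then j else i) := ih _ hvlt v _ hx rfl
    -- the last letter
    obtain ⟨k', rfl⟩ : ∃ k', k = k' + 1 := ⟨k - 1, by omega⟩
    have hy : cs.length v < cs.length (v * cs.simple (if Even k' then j else i)) := by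
      have h := hlow k'
      have he : v * cs.simple (if Even k' then j else i) = w * (cs.wordProd (alternatingWord i j k'))⁻¹ := by
        rw [hv, mul_alt_succ_inv, simple_mul_simple_cancel_right]
      rw [he]
      omega
    have hPy : Pos v (if Even k' then j else i) := ih _ hvlt v _ hy rfl
    have hPi : Pos v i := by
      by_cases he : Even k'
      · have he' : ¬ Even (k' + 1) := by simpa [parity_simps] using he
        rwa [if_neg he'] at hPx
      · rwa [if_neg he] at hPy
    have hPj : Pos v j := by
      by_cases he : Even k'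
      · rwa [if_pos he] at hPy
      · have he' : Even (k' + 1) := by simpa [parity_simps] using he
        rwa [if_pos he'] at hPx
    -- the number of letters is small
    have hkm : M i j ≠ 0 → k' + 1 < M i j := by
      intro hm0
      by_contra hcon
      have hPm : P (M i j) := hdown' _ _ (by omega) hPk
      have hPm' : cs.length (w * (cs.wordProd (alternatingWord i j (M i j)))⁻¹) + M i j = cs.length w := hPm
      obtain ⟨m, hm⟩ : ∃ m, M i j = m + 1 := ⟨M i j - 1, by omega⟩
      have hbr := cs.wordProd_braidWord_eq i j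
      have hbr2 : cs.wordProd (alternatingWord i j (M i j)) =
          cs.wordProd (alternatingWord i j m) * cs.simple i := by
        have h2 : cs.wordProd (alternatingWord i j (M i j)) = cs.wordProd (alternatingWord j i (M j i)) := hbr
        rw [h2, M.symmetric j i, hm, alternatingWord_succ, wordProd_concat]
      have h3 : w * cs.simple i =
          w * (cs.wordProd (alternatingWord i j (M i j)))⁻¹ * cs.wordProd (alternatingWord i j m) := by
        rw [hbr2, mul_inv_rev, inv_simple]
        group
      have h4 := cs.length_mul_le (w * (cs.wordProd (alternatingWord i j (M i j)))⁻¹)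
        (cs.wordProd (alternatingWord i j m))
      have h5 := cs.length_wordProd_le (alternatingWord i j m)
      rw [length_alternatingWord] at h5
      rw [← h3] at h4
      omega
    have := h1 v i j (k' + 1) hij hkm hPi hPj
    rwa [hv, inv_mul_cancel_right] at this

/-- Abstract form of "`ℓ(w s_i) < ℓ(w)` iff `w(α_i)` is not positive". -/
theorem lt_iff_not_pos (Pos : W → B → Prop) (h0 : ∀ i, Pos 1 i)
    (h1 : ∀ (v : W) (i j : B) (k : ℕ), i ≠ j → (M i j ≠ 0 → k < M i j) → Pos v i → Pos v j →
      Pos (v * cs.wordProd (alternatingWord i j k)) i)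
    (h2 : ∀ w i, Pos w i → ¬ Pos (w * cs.simple i) i) (w : W) (i : B) :
    cs.length (w * cs.simple i) < cs.length w ↔ ¬ Pos w i := by
  constructor
  · intro h hp
    have h3 := pos_of_lt cs Pos h0 h1 (w * cs.simple i) i (by rwa [simple_mul_simple_cancel_right])
    exact h2 w i hp h3
  · intro h
    rcases cs.length_mul_simple w i with h' | h'
    · exact absurd (pos_of_lt cs Pos h0 h1 w i (by omega)) h
    · omega

/-- If `w(α_i)` is positive for all `i` then `w = 1`. -/
theorem eq_one_of_pos (Pos : W → B → Prop) (h0 : ∀ i, Pos 1 i)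
    (h1 : ∀ (v : W) (i j : B) (k : ℕ), i ≠ j → (M i j ≠ 0 → k < M i j) → Pos v i → Pos v j →
      Pos (v * cs.wordProd (alternatingWord i j k)) i)
    (h2 : ∀ w i, Pos w i → ¬ Pos (w * cs.simple i) i) (w : W) (hw : ∀ i, Pos w i) : w = 1 := by
  by_contra hne
  obtain ⟨i, hi⟩ := cs.exists_rightDescent_of_ne_one hne
  exact (lt_iff_not_pos cs Pos h0 h1 h2 w i).1 hi (hw i)

end Abstract

/-! ### The action on the root lattice -/

/-- `A` is a (generalised) Cartan matrix of type `M`: `A i j = ⟨α_j, α_i^∨⟩`. -/
structure IsCartan {B : Type*} (M : CoxeterMatrix B) (A : B → B → ℤ) : Prop where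
  diag : ∀ i, A i i = 2
  rel : ∀ i j, i ≠ j → (M i j = 2 ∧ A i j = 0 ∧ A j i = 0) ∨ (M i j = 3 ∧ A i j = -1 ∧ A j i = -1) ∨
    (M i j = 4 ∧ ((A i j = -1 ∧ A j i = -2) ∨ (A i j = -2 ∧ A j i = -1))) ∨
    (M i j = 6 ∧ ((A i j = -1 ∧ A j i = -3) ∨ (A i j = -3 ∧ A j i = -1)))

section Lattice

variable {B : Type*} [Fintype B]

/-- The pairing `⟨v, α_i^∨⟩`. -/
def pairing (A : B → B → ℤ) (i : B) (v : B → ℤ) : ℤ := ∑ k, A i k * v k

theorem pairing_add (A : B → B → ℤ) (i : B) (v w : B → ℤ) :
    pairing A i (v + w) = pairing A i v + pairing A i w := by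
  simp only [pairing, Pi.add_apply, mul_add, Finset.sum_add_distrib]

theorem pairing_smul (A : B → B → ℤ) (i : B) (c : ℤ) (v : B → ℤ) :
    pairing A i (c • v) = c * pairing A i v := by
  simp only [pairing, Pi.smul_apply, smul_eq_mul, Finset.mul_sum]
  exact Finset.sum_congr rfl fun k _ => by ring

variable [DecidableEq B]

theorem pairing_single (A : B → B → ℤ) (i j : B) (x : ℤ) :
    pairing A i (Pi.single j x) = A i j * x := by
  simp only [pairing, Pi.single_apply, mul_ite, mul_zero, Finset.sum_ite_eq', Finset.mem_univ, if_true]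

/-- The reflection `v ↦ v - ⟨v, α_i^∨⟩ α_i` of the root lattice. -/
def refl (A : B → B → ℤ) (i : B) : Module.End ℤ (B → ℤ) where
  toFun v := v - Pi.single i (pairing A i v)
  map_add' v w := by
    rw [pairing_add, Pi.single_add]; abel
  map_smul' c v := by
    rw [pairing_smul, RingHom.id_apply, smul_sub, ← Pi.single_smul, smul_eq_mul]

theorem refl_apply (A : B → B → ℤ) (i : B) (v : B → ℤ) :
    refl A i v = v - Pi.single i (pairing A i v) := rfl

theorem refl_self_apply (A : B → B → ℤ) (i j : B) (v : B → ℤ) (x y : ℤ) (h : A i i = 2) :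
    refl A i (v + Pi.single i x + Pi.single j y) =
      v + Pi.single i (-x - pairing A i v - A i j * y) + Pi.single j y := by
  rw [refl_apply, pairing_add, pairing_add, pairing_single, pairing_single, h]
  have : -x - pairing A i v - A i j * y = x - (pairing A i v + 2 * x + A i j * y) := by ring
  rw [this, Pi.single_sub]
  abel

theorem refl_self_apply' (A : B → B → ℤ) (i j : B) (v : B → ℤ) (x y : ℤ) (h : A j j = 2) :
    refl A j (v + Pi.single i x + Pi.single j y) =
      v + Pi.single i x + Pi.single j (-y - pairing A j v - A j i * x) := by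
  rw [refl_apply, pairing_add, pairing_add, pairing_single, pairing_single, h]
  have : -y - pairing A j v - A j i * x = y - (pairing A j v + A j i * x + 2 * y) := by ring
  rw [this, Pi.single_sub]
  abel

theorem refl_mul_self (A : B → B → ℤ) (i : B) (h : A i i = 2) : refl A i * refl A i = 1 := by
  refine LinearMap.ext fun v => ?_
  rw [Module.End.mul_apply, Module.End.one_apply, refl_apply, refl_apply, sub_eq_add_neg v, pairing_add,
    ← Pi.single_neg, pairing_single, h]
  have : pairing A i v + 2 * -pairing A i v = - pairing A i v := by ring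
  rw [this]
  abel

theorem refl_mul_refl_apply (A : B → B → ℤ) (i j : B) (hi : A i i = 2) (hj : A j j = 2) (v : B → ℤ) (x y : ℤ) :
    (refl A i * refl A j) (v + Pi.single i x + Pi.single j y) =
      v + Pi.single i (-x - pairing A i v - A i j * (-y - pairing A j v - A j i * x)) +
        Pi.single j (-y - pairing A j v - A j i * x) := by
  rw [Module.End.mul_apply, refl_self_apply' A i j v x y hj, refl_self_apply A i j _ _ _ hi]

theorem isLiftable {M : CoxeterMatrix B} {A : B → B → ℤ} (h : IsCartan M A) : M.IsLiftable (refl A) := by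
  intro i j
  by_cases hij : i = j
  · subst hij
    rw [M.diagonal, pow_one, refl_mul_self A i (h.diag i)]
  have hi := h.diag i
  have hj := h.diag j
  have key : ∀ (v : B → ℤ) (x y x' y' : ℤ), 
      (x' = -x - pairing A i v - A i j * (-y - pairing A j v - A j i * x)) →
      (y' = -y - pairing A j v - A j i * x) →
      (refl A i * refl A j) (v + Pi.single i x + Pi.single j y) = v + Pi.single i x' + Pi.single j y' := by
    intro v x y x' y' hx hy
    rw [refl_mul_refl_apply A i j hi hj, hx, hy]
  have hz : ∀ v : B → ℤ, v = v + Pi.single i 0 + Pi.single j 0 := by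
    intro v; simp
  rcases h.rel i j hij with ⟨hm, hp, hq⟩ | ⟨hm, hp, hq⟩ | ⟨hm, ⟨hp, hq⟩ | ⟨hp, hq⟩⟩ | ⟨hm, ⟨hp, hq⟩ | ⟨hp, hq⟩⟩
  all_goals
    rw [hm]
    refine LinearMap.ext fun v => ?_
    rw [Module.End.one_apply]
    simp only [pow_succ, pow_zero, one_mul]
    simp only [hp, hq] at key
    generalize hR : refl A i * refl A j = R at key ⊢
    simp only [Module.End.mul_apply]
    conv_lhs => rw [hz v]
    conv_rhs => rw [hz v]
    repeat rw [key v _ _ _ _ rfl rfl]
    congr 2
    · congr 1
      ring
    · ring

variable {W : Type*} [Group W] {M : CoxeterMatrix B} (cs : CoxeterSystem M W) {A : B → B → ℤ} (h : IsCartan M A)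

/-- The representation of `W` on the root lattice: `s_i` acts as the reflection `refl A i`. -/
def rep (cs : CoxeterSystem M W) (h : IsCartan M A) : W →* Module.End ℤ (B → ℤ) :=
  cs.lift ⟨refl A, isLiftable h⟩

@[simp] theorem rep_simple (i : B) : rep cs h (cs.simple i) = refl A i :=
  cs.lift_apply_simple (isLiftable h) i

theorem rep_mul_apply (v w : W) (x : B → ℤ) : rep cs h (v * w) x = rep cs h v (rep cs h w x) := by
  rw [map_mul, Module.End.mul_apply]

theorem rep_injective_apply (w : W) : Function.Injective (rep cs h w) := by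
  intro x y hxy
  have h1 := congrArg (rep cs h w⁻¹) hxy
  rwa [← rep_mul_apply, ← rep_mul_apply, inv_mul_cancel, map_one, Module.End.one_apply,
    Module.End.one_apply] at h1

include h in
/-- `s_i α_i = - α_i`. -/
theorem refl_single_self (i : B) (x : ℤ) : refl A i (Pi.single i x) = - Pi.single i x := by
  rw [refl_apply, pairing_single, h.diag, ← Pi.single_sub, ← Pi.single_neg]
  congr 1
  ring

theorem refl_single (A : B → B → ℤ) (i j : B) (x : ℤ) :
    refl A i (Pi.single j x) = Pi.single j x - Pi.single i (A i j * x) := by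
  rw [refl_apply, pairing_single]

/-- In rank two, `w(α_i)` is a non-negative combination of `α_i` and `α_j` for an alternating word `w` in `s_i, s_j`
with less than `m(i,j)` letters ending in `s_j`. -/
theorem exists_nonneg (i j : B) (hij : i ≠ j) (k : ℕ) (hk : k < M i j) :
    ∃ x y : ℤ, 0 ≤ x ∧ 0 ≤ y ∧
      rep cs h (cs.wordProd (alternatingWord i j k)) (Pi.single i 1) = Pi.single i x + Pi.single j y := by
  have hi := h.diag i
  have hj := h.diag j
  -- the recursion
  have step : ∀ (k : ℕ) (x y : ℤ),
      rep cs h (cs.wordProd (alternatingWord i j k)) (Pi.single i 1) = Pi.single i x + Pi.single j y →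
      rep cs h (cs.wordProd (alternatingWord i j (k + 1))) (Pi.single i 1) =
        if Even k then Pi.single i x + Pi.single j (-y - A j i * x)
        else Pi.single i (-x - A i j * y) + Pi.single j y := by
    intro k x y hxy
    rw [alternatingWord_succ', wordProd_cons, rep_mul_apply, hxy, rep_simple]
    have h0 : (Pi.single i x + Pi.single j y : B → ℤ) = 0 + Pi.single i x + Pi.single j y := by
      rw [zero_add]
    have hp : ∀ l, pairing A l 0 = 0 := by
      intro l; simp [pairing]
    by_cases he : Even k
    · rw [if_pos he, if_pos he, h0, refl_self_apply' A i j 0 x y hj, hp, zero_add, sub_zero]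
    · rw [if_neg he, if_neg he, h0, refl_self_apply A i j 0 x y hi, hp, zero_add, sub_zero]
  have s0 : rep cs h (cs.wordProd (alternatingWord i j 0)) (Pi.single i 1) =
      Pi.single i 1 + Pi.single j 0 := by
    simp [alternatingWord]
  have s1 := step 0 _ _ s0
  rw [if_pos (by decide)] at s1
  have s2 := step 1 _ _ s1
  rw [if_neg (by decide)] at s2
  have s3 := step 2 _ _ s2
  rw [if_pos (by decide)] at s3
  have s4 := step 3 _ _ s3
  rw [if_neg (by decide)] at s4
  have s5 := step 4 _ _ s4
  rw [if_pos (by decide)] at s5
  rcases h.rel i j hij with ⟨hm, hp, hq⟩ | ⟨hm, hp, hq⟩ | ⟨hm, ⟨hp, hq⟩ | ⟨hp, hq⟩⟩ | ⟨hm, ⟨hp, hq⟩ | ⟨hp, hq⟩⟩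
  all_goals
    rw [hm] at hk
    rw [hp, hq] at s5 s4 s3 s2
    rw [hq] at s1
    interval_cases k
  all_goals first
    | exact ⟨_, _, by norm_num, by norm_num, s0⟩
    | exact ⟨_, _, by norm_num, by norm_num, s1⟩
    | exact ⟨_, _, by norm_num, by norm_num, s2⟩
    | exact ⟨_, _, by norm_num, by norm_num, s3⟩
    | exact ⟨_, _, by norm_num, by norm_num, s4⟩
    | exact ⟨_, _, by norm_num, by norm_num, s5⟩

omit [Fintype B] in
theorem single_eq_smul (i : B) (x : ℤ) : (Pi.single i x : B → ℤ) = x • Pi.single i 1 := by
  rw [← Pi.single_smul, smul_eq_mul, mul_one]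

/-- `w(α_i) ≠ 0`. -/
theorem rep_single_ne_zero (w : W) (i : B) : rep cs h w (Pi.single i 1) ≠ 0 := by
  intro h0
  have h1 : (Pi.single i 1 : B → ℤ) = 0 := rep_injective_apply cs h w (by rw [h0, map_zero])
  have h2 := congrFun h1 i
  simp at h2

/-- If `ℓ(w s_i) > ℓ(w)` then `w(α_i)` is a non-negative combination of simple roots. -/
theorem nonneg_of_lt (w : W) (i : B) (hw : cs.length w < cs.length (w * cs.simple i)) :
    0 ≤ rep cs h w (Pi.single i 1) := by
  refine pos_of_lt cs (fun w i => 0 ≤ rep cs h w (Pi.single i 1)) ?_ ?_ w i hw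
  · intro i
    show (0 : B → ℤ) ≤ rep cs h 1 (Pi.single i 1)
    rw [map_one, Module.End.one_apply]
    exact Pi.single_nonneg.2 zero_le_one
  · intro v i j k hij hk hvi hvj
    show (0 : B → ℤ) ≤ rep cs h (v * cs.wordProd (alternatingWord i j k)) (Pi.single i 1)
    have hm : M i j ≠ 0 := by
      rcases h.rel i j hij with ⟨hm, _⟩ | ⟨hm, _⟩ | ⟨hm, _⟩ | ⟨hm, _⟩ <;> rw [hm] <;> decide
    obtain ⟨x, y, hx, hy, hxy⟩ := exists_nonneg cs h i j hij k (hk hm)
    rw [rep_mul_apply, hxy, map_add, single_eq_smul i x, single_eq_smul j y, map_smul, map_smul]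
    exact add_nonneg (smul_nonneg hx hvi) (smul_nonneg hy hvj)

/-- `w s_i (α_i) = - w(α_i)`. -/
theorem rep_mul_simple_single (w : W) (i : B) (x : ℤ) :
    rep cs h (w * cs.simple i) (Pi.single i x) = - rep cs h w (Pi.single i x) := by
  rw [rep_mul_apply, rep_simple, refl_single_self h, map_neg]

/-- If `ℓ(w s_i) < ℓ(w)` then `w(α_i)` is a non-positive combination of simple roots. -/
theorem nonpos_of_lt (w : W) (i : B) (hw : cs.length (w * cs.simple i) < cs.length w) :
    rep cs h w (Pi.single i 1) ≤ 0 := by
  have h1 := nonneg_of_lt cs h (w * cs.simple i) i (by rwa [simple_mul_simple_cancel_right])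
  rw [rep_mul_simple_single] at h1
  exact neg_nonneg.1 h1

theorem nonneg_or_nonpos (w : W) (i : B) :
    0 ≤ rep cs h w (Pi.single i 1) ∨ rep cs h w (Pi.single i 1) ≤ 0 := by
  rcases cs.length_mul_simple w i with h' | h'
  · exact Or.inl (nonneg_of_lt cs h w i (by omega))
  · exact Or.inr (nonpos_of_lt cs h w i (by omega))

/-- `ℓ(w s_i) < ℓ(w)` iff `w(α_i)` is negative. -/
theorem lt_iff (w : W) (i : B) :
    cs.length (w * cs.simple i) < cs.length w ↔ rep cs h w (Pi.single i 1) ≤ 0 := by
  constructor
  · exact nonpos_of_lt cs h w i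
  · intro hle
    rcases cs.length_mul_simple w i with h' | h'
    · exact absurd (le_antisymm hle (nonneg_of_lt cs h w i (by omega))) (rep_single_ne_zero cs h w i)
    · omega

/-- `ℓ(w s_i) > ℓ(w)` iff `w(α_i)` is positive. -/
theorem lt_iff' (w : W) (i : B) :
    cs.length w < cs.length (w * cs.simple i) ↔ 0 ≤ rep cs h w (Pi.single i 1) := by
  constructor
  · exact nonneg_of_lt cs h w i
  · intro hle
    rcases cs.length_mul_simple w i with h' | h'
    · omega
    · exact absurd (le_antisymm (nonpos_of_lt cs h w i (by omega)) hle) (rep_single_ne_zero cs h w i)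

/-- An element sending all simple roots to positive roots is trivial. -/
theorem eq_one_of_nonneg (w : W) (hw : ∀ i, 0 ≤ rep cs h w (Pi.single i 1)) : w = 1 := by
  by_contra hne
  obtain ⟨i, hi⟩ := cs.exists_rightDescent_of_ne_one hne
  exact rep_single_ne_zero cs h w i (le_antisymm (nonpos_of_lt cs h w i hi) (hw i))

/-- An element fixing all simple roots is trivial. -/
theorem eq_one_of_fix (w : W) (hw : ∀ i, rep cs h w (Pi.single i 1) = Pi.single i 1) : w = 1 :=
  eq_one_of_nonneg cs h w fun i => by rw [hw i]; exact Pi.single_nonneg.2 zero_le_one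

/-- The geometric representation is faithful. -/
theorem rep_injective : Function.Injective (rep cs h) := by
  rw [injective_iff_map_eq_one]
  intro w hw
  exact eq_one_of_fix cs h w fun i => by rw [hw, Module.End.one_apply]

end Lattice

end Cfsg.Agent.ChevalleyStructure.CoxeterGeom
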