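import Cfsg.Agent.ChevalleyStructure.CoxeterGeom

/-!
A kernel-friendly checker for relations in crystallographic Coxeter groups: a word is trivial as soon as the
corresponding product of reflections fixes all simple roots, computed on lists of integers.
-/

set_option autoImplicit false

namespace Cfsg.Agent.ChevalleyStructure.CoxeterWordCheck

open CoxeterSystem Cfsg.Agent.ChevalleyStructure.CoxeterGeom

variable {n : ℕ}

/-- Dot product of two lists. -/
def dot : List ℤ → List ℤ → ℤ
  | a :: l, b :: m => a * b + dot l m
  | _, _ => 0

/-- Replace the `i`-th entry `b` by `b - c`. -/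
def subAt : ℕ → ℤ → List ℤ → List ℤ
  | _, _, [] => []
  | 0, c, b :: l => (b - c) :: l
  | i + 1, c, b :: l => b :: subAt i c l

/-- The reflection on lists: rows of the Cartan matrix given as lists. -/
def reflList (A : List (List ℤ)) (i : ℕ) (v : List ℤ) : List ℤ := subAt i (dot (A.getD i []) v) v

/-- Apply a word to a list vector (the last letter acts first). -/
def actList (A : List (List ℤ)) : List ℕ → List ℤ → List ℤ
  | [], v => v
  | i :: ω, v => reflList A i (actList A ω v)

/-- The list vector of a function. -/
def ofFn (v : Fin n → ℤ) : List ℤ := List.ofFn v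

theorem subAt_ofFn (v : Fin n → ℤ) (i : Fin n) (c : ℤ) :
    subAt i c (List.ofFn v) = List.ofFn (v - Pi.single i c) := by
  induction n with
  | zero => exact i.elim0
  | succ n ih =>
    rw [List.ofFn_succ, List.ofFn_succ]
    refine Fin.cases ?_ (fun i' => ?_) i
    · simp only [Fin.val_zero, subAt]
      congr 1
      simp
    · simp only [Fin.val_succ, subAt]
      congr 1
      · simp [(Fin.succ_ne_zero _).symm]
      · rw [ih]
        congr 1
        funext k
        simp [Pi.single_apply, Fin.succ_inj]

theorem dot_ofFn (a v : Fin n → ℤ) : dot (List.ofFn a) (List.ofFn v) = ∑ k, a k * v k := by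
  induction n with
  | zero => simp [dot]
  | succ n ih =>
    rw [List.ofFn_succ, List.ofFn_succ, Fin.sum_univ_succ, dot, ih]

/-- The list of rows of `A`. -/
def rows (A : Fin n → Fin n → ℤ) : List (List ℤ) := List.ofFn fun i => List.ofFn (A i)

theorem reflList_ofFn (A : Fin n → Fin n → ℤ) (i : Fin n) (v : Fin n → ℤ) :
    reflList (rows A) i (List.ofFn v) = List.ofFn (refl A i v) := by
  have h1 : (rows A).getD i [] = List.ofFn (A i) := by
    simp [rows, List.getD_eq_getElem?_getD]
  rw [reflList, h1, dot_ofFn, subAt_ofFn, refl_apply]
  rfl

variable {W : Type*} [Group W] {M : CoxeterMatrix (Fin n)} (cs : CoxeterSystem M W) {A : Fin n → Fin n → ℤ}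
  (h : IsCartan M A)

theorem actList_ofFn (ω : List (Fin n)) (v : Fin n → ℤ) :
    actList (rows A) (ω.map (·.val)) (List.ofFn v) = List.ofFn (rep cs h (cs.wordProd ω) v) := by
  induction ω with
  | nil => simp [actList]
  | cons i ω ih =>
    rw [List.map_cons, actList, ih, reflList_ofFn, wordProd_cons, rep_mul_apply, rep_simple]

/-- The unit vectors as lists. -/
def unit (n i : ℕ) : List ℤ := (List.range n).map fun k => if k = i then 1 else 0

theorem ofFn_single (i : Fin n) : List.ofFn (Pi.single i 1 : Fin n → ℤ) = unit n i := by
  apply List.ext_getElem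
  · simp [unit]
  · intro k h1 h2
    simp [unit, Pi.single_apply, Fin.ext_iff]

/-- The check: the word fixes all unit vectors. -/
def check (n : ℕ) (A : List (List ℤ)) (ω : List ℕ) : Bool :=
  (List.range n).all fun i => actList A ω (unit n i) == unit n i

include h in
/-- A word passing the check is a relation of the Coxeter group. -/
theorem wordProd_eq_one (ω : List (Fin n)) (hc : check n (rows A) (ω.map (·.val)) = true) :
    cs.wordProd ω = 1 := by
  apply eq_one_of_fix cs h
  intro i
  rw [check, List.all_eq_true] at hc
  have h1 := hc i (List.mem_range.2 i.isLt)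
  rw [beq_iff_eq, ← ofFn_single, actList_ofFn cs h] at h1
  exact List.ofFn_injective h1

include h in
/-- Two words with the same action are equal in the Coxeter group. -/
theorem wordProd_eq_wordProd (ω ω' : List (Fin n))
    (hc : (List.range n).all (fun i => actList (rows A) (ω.map (·.val)) (unit n i) ==
      actList (rows A) (ω'.map (·.val)) (unit n i)) = true) :
    cs.wordProd ω = cs.wordProd ω' := by
  rw [← mul_inv_eq_one]
  apply eq_one_of_fix cs h
  intro i
  rw [List.all_eq_true] at hc
  -- it is enough to compare the two actions
  have key : rep cs h (cs.wordProd ω) = rep cs h (cs.wordProd ω') := by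
    refine LinearMap.pi_ext' fun i => LinearMap.ext_ring ?_
    have h1 := hc i (List.mem_range.2 i.isLt)
    rw [beq_iff_eq, ← ofFn_single, actList_ofFn cs h, actList_ofFn cs h] at h1
    exact List.ofFn_injective h1
  rw [rep_mul_apply, key, ← rep_mul_apply, mul_inv_cancel, map_one, Module.End.one_apply]

include h in
/-- A word moving some unit vector is not a relation of the Coxeter group. -/
theorem wordProd_ne_one (ω : List (Fin n)) (hc : check n (rows A) (ω.map (·.val)) = false) :
    cs.wordProd ω ≠ 1 := by
  intro h1
  have : check n (rows A) (ω.map (·.val)) = true := by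
    rw [check, List.all_eq_true]
    intro i hi
    have hi' : i < n := List.mem_range.1 hi
    have h2 := actList_ofFn cs h ω (Pi.single ⟨i, hi'⟩ 1)
    rw [h1, map_one, Module.End.one_apply, ofFn_single] at h2
    rw [beq_iff_eq]
    exact h2
  rw [this] at hc
  exact absurd hc (by decide)

end Cfsg.Agent.ChevalleyStructure.CoxeterWordCheck
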