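import Cfsg.Agent.ChevalleyStructure.LaurentNH
import Cfsg.Prelude.Def_ChevD4

/-!
Unconditional facts on the root elements of the Chevalley group of type D₄ over any field, obtained by kernel
computation with the tables: inverses, `h_r(t)` as a diagonal matrix for all 24 roots, and the commutation of the
root elements of different outer nodes.
-/

set_option autoImplicit false

namespace Cfsg.Agent.ChevalleyStructure.D4Cols

open Cfsg.Lie
open Cfsg.Agent.ChevalleyStructure.LaurentWord
open Cfsg.Agent.ChevalleyStructure.LaurentNH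
open scoped Matrix

theorem colsOK : ColsOK chevD4 (col chevD4) := fun _ _ _ _ => rfl

/-- the coefficient of the root `s` on the fundamental root `p_{i+1}` (type D₄ is simply laced) -/
def coef (s i : ℕ) : ℤ := (chevD4.coroot.getD s #[]).getD i 0

/-- the Cartan integer `A_{r,s}` -/
def cart (r s : ℕ) : ℤ :=
  coef r 0 * chevD4.cartan 0 s + (coef r 1 * chevD4.cartan 1 s + (coef r 2 * chevD4.cartan 2 s +
    coef r 3 * chevD4.cartan 3 s))

/-- exponents of the diagonal matrix `h_r(t)` -/
def dg (r j : ℕ) : Mono := if j < 4 then (1, 0, 0) else (1, cart r (j - 4), 0)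

theorem check_inv : ((List.range 24).all fun r =>
    checkEq 28 24 (col chevD4) [(r, 1, 1, 0), (r, -1, 1, 0)] []) = true := by decide +kernel

theorem check_h : ((List.range 24).all fun r =>
    checkDiag 28 24 (col chevD4) (hW chevD4 r (1, 1, 0)) (dg r)) = true := by decide +kernel

/-- `A_{r,s}` is linear in `s`. -/
theorem check_cart : ((List.range 24).all fun r => (List.range 24).all fun s =>
    decide (cart r s = coef s 0 * cart r 18 + (coef s 1 * cart r 14 + (coef s 2 * cart r 13 +
      coef s 3 * cart r 12)))) = true := by decide +kernel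

/-- the pairs of roots ±p_i, ±p_j for different outer nodes i, j -/
def outerPairs : List (ℕ × ℕ) :=
  [(18, 13), (18, 12), (13, 12), (18, 10), (18, 11), (13, 11), (5, 13), (5, 12), (10, 12),
    (5, 10), (5, 11), (10, 11)]

theorem check_comm : (outerPairs.all fun p =>
      checkEq 28 24 (col chevD4) [(p.1, 1, 1, 0), (p.2, 1, 0, 1)] [(p.2, 1, 0, 1), (p.1, 1, 1, 0)]) = true := by
  decide +kernel

section Field
variable {F : Type*} [Field F]

/-- `x_r(t) x_r(-t) = 1` -/
theorem x_mul_x_neg (r : ℕ) (t : F) : chevD4.x F r t * chevD4.x F r (-t) = 1 := by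
  by_cases hr : r < 24
  · exact x_mul_x_neg_of_check chevD4 colsOK (List.all_eq_true.1 check_inv r (List.mem_range.2 hr)) t
  · have hr' : chevD4.nroots ≤ r := not_lt.1 hr
    rw [x_eq_one_of_le chevD4 hr', x_eq_one_of_le chevD4 hr', mul_one]

theorem x_neg_mul_x (r : ℕ) (t : F) : chevD4.x F r (-t) * chevD4.x F r t = 1 := by
  have := x_mul_x_neg r (-t)
  rwa [neg_neg] at this

/-- `x_r(t)` as an element of `GL` -/
def xU (r : ℕ) (t : F) : GL chevD4.Idx F :=
  ⟨chevD4.x F r t, chevD4.x F r (-t), x_mul_x_neg r t, x_neg_mul_x r t⟩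

theorem coe_xU (r : ℕ) (t : F) : ((xU r t : GL chevD4.Idx F) : Matrix chevD4.Idx chevD4.Idx F) = chevD4.x F r t :=
  rfl

theorem xU_inv (r : ℕ) (t : F) : (xU r t)⁻¹ = xU r (-t) := by
  apply Units.ext
  rfl

/-- a word as an element of `GL` -/
def wU (w : List (ℕ × F)) : GL chevD4.Idx F := (w.map fun p => xU p.1 p.2).prod

theorem coe_wU (w : List (ℕ × F)) :
    ((wU w : GL chevD4.Idx F) : Matrix chevD4.Idx chevD4.Idx F) = chevD4.wordMat F w := by
  unfold wU ChevalleyDatum.wordMat
  induction w with
  | nil => rfl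
  | cons p w ih =>
    rw [List.map_cons, List.prod_cons, List.map_cons, List.prod_cons, ← ih, ← coe_xU]
    rfl

/-- commuting root elements of different outer nodes -/
theorem x_comm {r s : ℕ} (h : (r, s) ∈ outerPairs) (t u : F) :
    chevD4.x F r t * chevD4.x F s u = chevD4.x F s u * chevD4.x F r t :=
  x_comm_of_check chevD4 colsOK (List.all_eq_true.1 check_comm (r, s) h) t u

theorem xU_comm {r s : ℕ} (h : (r, s) ∈ outerPairs) (t u : F) : Commute (xU r t) (xU (F := F) s u) :=
  Units.ext (x_comm h t u)

/-- exponent of the entry of `h_r(t)` -/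
def hexp (r : ℕ) : chevD4.Idx → ℤ
  | Sum.inl _ => 0
  | Sum.inr s => cart r s.val

/-- `h_r(t)` is diagonal, for every root `r`. -/
theorem hMat_eq_diagonal {r : ℕ} (hr : r < 24) {t : F} (ht : t ≠ 0) :
    chevD4.hMat F r t = Matrix.diagonal fun j => t ^ hexp r j := by
  rw [hMat_eq, wordMat_eq_of_checkDiag chevD4 colsOK ht one_ne_zero
    (List.all_eq_true.1 check_h r (List.mem_range.2 hr))]
  congr 1
  funext j
  rcases j with i | s
  · rw [code_inl]
    have hi : i.val < 4 := i.2
    unfold dg
    rw [if_pos hi, evM_one]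
    exact (zpow_zero t).symm
  · rw [code_inr]
    have h1 : ¬ (chevD4.rank + s.val < 4) := by
      show ¬ (4 + s.val < 4)
      omega
    have h2 : chevD4.rank + s.val - 4 = s.val := by
      show 4 + s.val - 4 = s.val
      omega
    unfold dg
    rw [if_neg h1, h2]
    simp only [evM, Int.cast_one, one_mul, zpow_zero, mul_one]
    rfl

theorem cart_linear {r s : ℕ} (hr : r < 24) (hs : s < 24) :
    cart r s = coef s 0 * cart r 18 + (coef s 1 * cart r 14 + (coef s 2 * cart r 13 + coef s 3 * cart r 12)) := by
  have := List.all_eq_true.1 (List.all_eq_true.1 check_cart r (List.mem_range.2 hr)) s (List.mem_range.2 hs)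
  simpa using this

end Field

end Cfsg.Agent.ChevalleyStructure.D4Cols
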