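import Cfsg.Agent.ChevalleyStructure.D4CommTab

/-!
Type D₄, any field, unconditional: the root elements `xG r t` of the general linear group, additivity,
commutators of positive root elements.
-/

set_option autoImplicit false

namespace Cfsg.Agent.ChevalleyStructure.D4Comm

open Cfsg.Lie
open Cfsg.Agent.ChevalleyStructure.WordCheck
open Cfsg.Agent.ChevalleyStructure.D4CommTab
open scoped commutatorElement

section
variable {F : Type*} [Field F]

theorem x_add (r : ℕ) (t u : F) : chevD4.x F r t * chevD4.x F r u = chevD4.x F r (t + u) := by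
  by_cases hr : r < 24
  · have h0 := addOK_all r (List.mem_range.2 hr)
    rw [addOK, Bool.and_eq_true] at h0
    have h := wordMat_eq_of_check chevD4 (fun i => if i = 0 then t else u) 0 0 2
      [(r, .var 0), (r, .var 1)] [(r, .add (.var 0) (.var 1))] h0.1 (by simp) (by simp)
    simpa [ChevalleyDatum.wordMat, wval, PExpr.denote] using h
  · have h1 : ∀ v : F, chevD4.x F r v = 1 := fun v => dif_neg hr
    rw [h1, h1, h1, one_mul]

theorem x_zero (r : ℕ) : chevD4.x F r 0 = 1 := by
  by_cases hr : r < 24
  · have h0 := addOK_all r (List.mem_range.2 hr)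
    rw [addOK, Bool.and_eq_true] at h0
    have h := wordMat_eq_of_check chevD4 (fun _ => (0 : F)) 0 0 0 [(r, .const 0)] [] h0.2 (by simp) (by simp)
    simpa [ChevalleyDatum.wordMat, wval, PExpr.denote] using h
  · exact dif_neg hr

/-- the root element `x_r(t)` of type D₄ as an element of the general linear group -/
def xG (r : ℕ) (t : F) : GL chevD4.Idx F where
  val := chevD4.x F r t
  inv := chevD4.x F r (-t)
  val_inv := by rw [x_add, add_neg_cancel, x_zero]
  inv_val := by rw [x_add, neg_add_cancel, x_zero]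

theorem coe_xG (r : ℕ) (t : F) : ((xG r t : GL chevD4.Idx F) : Matrix chevD4.Idx chevD4.Idx F) = chevD4.x F r t := rfl

theorem eq_xG_iff (g : GL chevD4.Idx F) (r : ℕ) (t : F) :
    (g : Matrix chevD4.Idx chevD4.Idx F) = chevD4.x F r t ↔ g = xG r t :=
  ⟨fun h => Units.ext h, fun h => by rw [h]; rfl⟩

theorem xG_add (r : ℕ) (t u : F) : (xG r (t + u) : GL chevD4.Idx F) = xG r t * xG r u :=
  Units.ext (x_add r t u).symm

theorem xG_zero (r : ℕ) : (xG r 0 : GL chevD4.Idx F) = 1 := Units.ext (x_zero r)

theorem xG_neg (r : ℕ) (t : F) : (xG r (-t) : GL chevD4.Idx F) = (xG r t)⁻¹ := by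
  rw [eq_inv_iff_mul_eq_one, ← xG_add, neg_add_cancel, xG_zero]

/-- the value of the commutator -/
def cval (r s : ℕ) (t u : F) : GL chevD4.Idx F :=
  match cm r s with
  | none => 1
  | some kc => xG kc.1 ((kc.2 : F) * (t * u))

theorem xG_comm {r s : ℕ} (hr : 12 ≤ r) (hr' : r < 24) (hs : 12 ≤ s) (hs' : s < 24) (hne : s ≠ r) (t u : F) :
    ⁅(xG r t : GL chevD4.Idx F), xG s u⁆ = cval r s t u := by
  have h0 := commOK_all r (by rw [List.mem_range']; exact ⟨r - 12, by omega, by omega⟩)
    s (by rw [List.mem_range']; exact ⟨s - 12, by omega, by omega⟩) hne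
  have h := wordMat_eq_of_check chevD4 (fun i => if i = 0 then t else u) 0 0 2
    [(r, .var 0), (s, .var 1), (r, .neg (.var 0)), (s, .neg (.var 1))] (cw r s) h0 (by simp) (by simp)
  apply Units.ext
  rw [commutatorElement_def, ← xG_neg, ← xG_neg]
  have h1 : chevD4.wordMat F (wval (fun i => if i = 0 then t else u)
      [(r, .var 0), (s, .var 1), (r, .neg (.var 0)), (s, .neg (.var 1))]) =
      ((xG r t * xG s u * xG r (-t) * xG s (-u) : GL chevD4.Idx F) : Matrix chevD4.Idx chevD4.Idx F) := by
    simp [ChevalleyDatum.wordMat, wval, PExpr.denote, coe_xG, mul_assoc]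
  rw [← h1, h]
  unfold cw cval
  rcases cm r s with _ | kc
  · simp [ChevalleyDatum.wordMat, wval]
  · simp [ChevalleyDatum.wordMat, wval, PExpr.denote, coe_xG]

end

end Cfsg.Agent.ChevalleyStructure.D4Comm
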