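/-
Reflective checker for identities between words in root elements of a Chevalley datum.
-/
import Cfsg.Prelude.Def_ChevStructure

set_option autoImplicit false

namespace Cfsg.Agent.ChevalleyStructure.WordCheck

open Cfsg.Lie

/-! ### Polynomial expressions -/

/-- Polynomial expressions in variables numbered by natural numbers, integer coefficients. -/
inductive PExpr : Type where
  | var (i : ℕ)
  | const (z : ℤ)
  | add (a b : PExpr)
  | mul (a b : PExpr)
  | neg (a : PExpr)
  | pow (a : PExpr) (n : ℕ)

namespace PExpr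

/-- value of an expression -/
def denote {R : Type*} [CommRing R] (ρ : ℕ → R) : PExpr → R
  | var i => ρ i
  | const z => (z : R)
  | add a b => a.denote ρ + b.denote ρ
  | mul a b => a.denote ρ * b.denote ρ
  | neg a => - a.denote ρ
  | pow a n => a.denote ρ ^ n

end PExpr

/-! ### Normalised polynomials -/

/-- exponent vectors -/
abbrev Mono : Type := List ℕ
/-- polynomials as lists of terms -/
abbrev Poly : Type := List (Mono × ℤ)

/-- product of monomials -/
def monoMul : Mono → Mono → Mono
  | [], b => b
  | x :: a, [] => x :: a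
  | x :: a, y :: b => (x + y) :: monoMul a b

/-- cancel the first `L` pairs of mutually inverse variables -/
def monoRed : ℕ → Mono → Mono
  | 0, m => m
  | _ + 1, [] => []
  | _ + 1, [x] => [x]
  | L + 1, x :: y :: m => (x - y) :: (y - x) :: monoRed L m

/-- comparison: 0 = less, 1 = equal, 2 = greater -/
def monoCmp : Mono → Mono → ℕ
  | [], [] => 1
  | [], _ :: _ => 0
  | _ :: _, [] => 2
  | x :: a, y :: b => bif Nat.beq x y then monoCmp a b else bif Nat.ble x y then 0 else 2

/-- reduce a coefficient modulo `ch` -/
def normC (ch : ℕ) (c : ℤ) : ℤ := bif Nat.beq ch 0 then c else c % (ch : ℤ)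

/-- Boolean test for zero -/
def isZ : ℤ → Bool
  | Int.ofNat n => Nat.beq n 0
  | Int.negSucc _ => false

/-- Boolean equality of integers -/
def eqZ : ℤ → ℤ → Bool
  | Int.ofNat m, Int.ofNat n => Nat.beq m n
  | Int.negSucc m, Int.negSucc n => Nat.beq m n
  | _, _ => false

/-- insert a term -/
def insTerm (ch : ℕ) (m : Mono) (c : ℤ) : Poly → Poly
  | [] => [(m, c)]
  | t :: p =>
    match monoCmp m t.1 with
    | 0 => (m, c) :: t :: p
    | 1 => bif isZ (normC ch (c + t.2)) then p else (m, normC ch (c + t.2)) :: p
    | _ => t :: insTerm ch m c p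

/-- sum -/
def padd (ch : ℕ) (p q : Poly) : Poly := p.foldr (fun t acc => insTerm ch t.1 t.2 acc) q

/-- acc + (c m) * p -/
def pmulTerm (ch L : ℕ) (m : Mono) (c : ℤ) (p acc : Poly) : Poly :=
  p.foldr (fun t acc => bif isZ (normC ch (c * t.2)) then acc
    else insTerm ch (monoRed L (monoMul m t.1)) (normC ch (c * t.2)) acc) acc

/-- product -/
def pmul (ch L : ℕ) (p q : Poly) : Poly := p.foldr (fun t acc => pmulTerm ch L t.1 t.2 q acc) []

/-- power -/
def ppow (ch L nv : ℕ) (p : Poly) : ℕ → Poly
  | 0 => [(List.replicate nv 0, 1)]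
  | n + 1 => pmul ch L (ppow ch L nv p n) p

/-- the unit vector -/
def unitMono : ℕ → ℕ → Mono
  | 0, _ => []
  | n + 1, 0 => 1 :: List.replicate n 0
  | n + 1, i + 1 => 0 :: unitMono n i

/-- constant polynomial -/
def pconst (ch nv : ℕ) (z : ℤ) : Poly := bif isZ (normC ch z) then [] else [(List.replicate nv 0, normC ch z)]

/-- multiply by an integer -/
def psmul (ch : ℕ) (z : ℤ) (p : Poly) : Poly :=
  p.foldr (fun t acc => bif isZ (normC ch (z * t.2)) then acc else (t.1, normC ch (z * t.2)) :: acc) []

/-- normal form; for a variable out of range the flag `none` is returned -/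
def toPoly (ch L nv : ℕ) : PExpr → Poly
  | .var i => [(monoRed L (bif Nat.blt i nv then unitMono nv i else List.replicate i 0 ++ [1]), 1)]
  | .const z => pconst ch nv z
  | .add a b => padd ch (toPoly ch L nv a) (toPoly ch L nv b)
  | .mul a b => pmul ch L (toPoly ch L nv a) (toPoly ch L nv b)
  | .neg a => psmul ch (-1) (toPoly ch L nv a)
  | .pow a n => ppow ch L nv (toPoly ch L nv a) n

/-! ### evaluation -/

section Eval
variable {R : Type*} [CommRing R] (ρ : ℕ → R)

/-- value of a monomial, variables starting at `k` -/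
def evalMono (k : ℕ) : Mono → R
  | [] => 1
  | e :: m => ρ k ^ e * evalMono (k + 1) m

/-- value of a polynomial -/
def evalP : Poly → R
  | [] => 0
  | t :: p => (t.2 : R) * evalMono ρ 0 t.1 + evalP p

theorem evalMono_mul : ∀ (a b : Mono) (k : ℕ), evalMono ρ k (monoMul a b) = evalMono ρ k a * evalMono ρ k b
  | [], b, k => by simp [monoMul, evalMono]
  | x :: a, [], k => by simp [monoMul, evalMono]
  | x :: a, y :: b, k => by
    simp only [monoMul, evalMono, evalMono_mul a b (k + 1), pow_add]; ring

theorem evalMono_monoRed : ∀ (L : ℕ) (m : Mono) (k : ℕ),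
    (∀ i < L, ρ (k + 2 * i) * ρ (k + 2 * i + 1) = 1) → evalMono ρ k (monoRed L m) = evalMono ρ k m
  | 0, m, k, _ => by simp [monoRed]
  | L + 1, [], k, _ => by simp [monoRed]
  | L + 1, [x], k, _ => by simp [monoRed]
  | L + 1, x :: y :: m, k, h => by
    have h0 : ρ k * ρ (k + 1) = 1 := by simpa using h 0 (Nat.succ_pos _)
    have ih := evalMono_monoRed L m (k + 2) (fun i hi => by
      have := h (i + 1) (Nat.succ_lt_succ hi)
      have e1 : k + 2 * (i + 1) = k + 2 + 2 * i := by ring
      rw [e1] at this; exact this)
    simp only [monoRed, evalMono]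
    have e2 : k + 1 + 1 = k + 2 := rfl
    rw [e2, ih]
    rcases le_total x y with hxy | hxy
    · obtain ⟨d, rfl⟩ := Nat.exists_eq_add_of_le hxy
      rw [Nat.sub_eq_zero_of_le hxy, Nat.add_sub_cancel_left, pow_add]
      have : ρ k ^ x * ρ (k + 1) ^ x = 1 := by rw [← mul_pow, h0, one_pow]
      calc ρ k ^ 0 * (ρ (k + 1) ^ d * evalMono ρ (k + 2) m)
          = 1 * (ρ (k + 1) ^ d * evalMono ρ (k + 2) m) := by rw [pow_zero]
        _ = (ρ k ^ x * ρ (k + 1) ^ x) * (ρ (k + 1) ^ d * evalMono ρ (k + 2) m) := by rw [this]
        _ = _ := by ring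
    · obtain ⟨d, rfl⟩ := Nat.exists_eq_add_of_le hxy
      rw [Nat.sub_eq_zero_of_le hxy, Nat.add_sub_cancel_left, pow_add]
      have : ρ k ^ y * ρ (k + 1) ^ y = 1 := by rw [← mul_pow, h0, one_pow]
      calc ρ k ^ d * (ρ (k + 1) ^ 0 * evalMono ρ (k + 2) m)
          = 1 * (ρ k ^ d * evalMono ρ (k + 2) m) := by rw [pow_zero]; ring
        _ = (ρ k ^ y * ρ (k + 1) ^ y) * (ρ k ^ d * evalMono ρ (k + 2) m) := by rw [this]
        _ = _ := by ring

theorem eq_of_monoCmp : ∀ (a b : Mono), monoCmp a b = 1 → a = b
  | [], [], _ => rfl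
  | [], _ :: _, h => by simp [monoCmp] at h
  | _ :: _, [], h => by simp [monoCmp] at h
  | x :: a, y :: b, h => by
    unfold monoCmp at h
    rcases hxy : Nat.beq x y with _ | _
    · rw [hxy] at h
      rcases hle : Nat.ble x y with _ | _ <;> rw [hle] at h <;> simp at h
    · rw [hxy] at h
      have : x = y := Nat.eq_of_beq_eq_true hxy
      subst this
      rw [eq_of_monoCmp a b h]

variable {ch L : ℕ}

theorem cast_normC (hch : (ch : R) = 0) (c : ℤ) : ((normC ch c : ℤ) : R) = c := by
  unfold normC
  rcases h : Nat.beq ch 0 with _ | _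
  · simp only [cond_false]
    have h1 : ((c % (ch : ℤ) : ℤ) : R) = ((c % (ch : ℤ) + (ch : ℤ) * (c / (ch : ℤ)) : ℤ) : R) := by
      push_cast
      rw [hch]; ring
    rw [h1, Int.emod_add_mul_ediv]
  · simp

theorem isZ_iff {c : ℤ} (h : isZ c = true) : c = 0 := by
  cases c with
  | ofNat n => simp only [isZ] at h; rw [Nat.eq_of_beq_eq_true h]; rfl
  | negSucc n => simp [isZ] at h

theorem eqZ_iff {a b : ℤ} (h : eqZ a b = true) : a = b := by
  cases a <;> cases b <;> simp only [eqZ, Bool.false_eq_true] at h
  · rw [Nat.eq_of_beq_eq_true h]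
  · rw [Nat.eq_of_beq_eq_true h]

theorem evalP_insTerm (hch : (ch : R) = 0) (m : Mono) (c : ℤ) :
    ∀ p : Poly, evalP ρ (insTerm ch m c p) = (c : R) * evalMono ρ 0 m + evalP ρ p
  | [] => by simp [insTerm, evalP]
  | t :: p => by
    unfold insTerm
    split
    · simp [evalP]
    · rename_i hm
      have hm' := eq_of_monoCmp _ _ hm
      rcases hz : isZ (normC ch (c + t.2)) with _ | _
      · simp only [cond_false, evalP, cast_normC hch]
        rw [hm']; push_cast; ring
      · simp only [cond_true, evalP]
        have h0 : ((c + t.2 : ℤ) : R) = 0 := by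
          rw [← cast_normC hch, isZ_iff hz]; simp
        push_cast at h0
        rw [hm']
        linear_combination (-(evalMono ρ 0 t.1)) * h0
    · simp only [evalP, evalP_insTerm hch m c p]; ring

theorem evalP_padd (hch : (ch : R) = 0) (p q : Poly) : evalP ρ (padd ch p q) = evalP ρ p + evalP ρ q := by
  induction p with
  | nil => simp [padd, evalP]
  | cons t p ih =>
    have : padd ch (t :: p) q = insTerm ch t.1 t.2 (padd ch p q) := rfl
    rw [this, evalP_insTerm ρ hch, ih]; simp only [evalP]; ring

variable (hch : (ch : R) = 0) (hρ : ∀ i < L, ρ (2 * i) * ρ (2 * i + 1) = 1)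
include hch hρ

theorem evalP_pmulTerm (m : Mono) (c : ℤ) (p acc : Poly) :
    evalP ρ (pmulTerm ch L m c p acc) = (c : R) * evalMono ρ 0 m * evalP ρ p + evalP ρ acc := by
  induction p with
  | nil => simp [pmulTerm, evalP]
  | cons t p ih =>
    have hstep : pmulTerm ch L m c (t :: p) acc =
      bif isZ (normC ch (c * t.2)) then pmulTerm ch L m c p acc
      else insTerm ch (monoRed L (monoMul m t.1)) (normC ch (c * t.2)) (pmulTerm ch L m c p acc) := rfl
    rw [hstep]
    rcases hz : isZ (normC ch (c * t.2)) with _ | _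
    · simp only [cond_false, evalP, cast_normC hch, evalP_insTerm ρ hch, ih]
      rw [evalMono_monoRed ρ L _ 0 (by simpa using hρ), evalMono_mul]
      push_cast; ring
    · simp only [cond_true, evalP, ih]
      have h0 : ((c * t.2 : ℤ) : R) = 0 := by
        rw [← cast_normC hch, isZ_iff hz]; simp
      push_cast at h0
      linear_combination (-(evalMono ρ 0 t.1) * evalMono ρ 0 m) * h0

theorem evalP_pmul (p q : Poly) : evalP ρ (pmul ch L p q) = evalP ρ p * evalP ρ q := by
  induction p with
  | nil => simp [pmul, evalP]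
  | cons t p ih =>
    have : pmul ch L (t :: p) q = pmulTerm ch L t.1 t.2 q (pmul ch L p q) := rfl
    rw [this, evalP_pmulTerm ρ hch hρ, ih]; simp only [evalP]; ring

omit hch hρ in
theorem evalMono_replicate (n k : ℕ) : evalMono ρ k (List.replicate n 0) = 1 := by
  induction n generalizing k with
  | zero => rfl
  | succ n ih => simp [List.replicate_succ, evalMono, ih]

omit hch hρ in
theorem evalMono_unit : ∀ (n i k : ℕ), i < n → evalMono ρ k (unitMono n i) = ρ (k + i)
  | 0, i, k, h => absurd h (Nat.not_lt_zero _)
  | n + 1, 0, k, _ => by simp [unitMono, evalMono, evalMono_replicate]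
  | n + 1, i + 1, k, h => by
    simp only [unitMono, evalMono, pow_zero, one_mul]
    rw [evalMono_unit n i (k + 1) (Nat.lt_of_succ_lt_succ h)]
    congr 1; ring

omit hch hρ in
theorem evalMono_replicate_append (i k : ℕ) : evalMono ρ k (List.replicate i 0 ++ [1]) = ρ (k + i) := by
  induction i generalizing k with
  | zero => simp [evalMono]
  | succ n ih =>
    simp only [List.replicate_succ, List.cons_append, evalMono, pow_zero, one_mul, ih]
    congr 1; ring

omit hρ in
theorem evalP_psmul (z : ℤ) (p : Poly) : evalP ρ (psmul ch z p) = (z : R) * evalP ρ p := by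
  induction p with
  | nil => simp [psmul, evalP]
  | cons t p ih =>
    have : psmul ch z (t :: p) = bif isZ (normC ch (z * t.2)) then psmul ch z p
      else (t.1, normC ch (z * t.2)) :: psmul ch z p := rfl
    rw [this]
    rcases hz : isZ (normC ch (z * t.2)) with _ | _
    · simp only [cond_false, evalP, cast_normC hch, ih]; push_cast; ring
    · simp only [cond_true, evalP, ih]
      have h0 : ((z * t.2 : ℤ) : R) = 0 := by
        rw [← cast_normC hch, isZ_iff hz]; simp
      push_cast at h0
      linear_combination (-(evalMono ρ 0 t.1)) * h0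

omit hρ in
theorem evalP_pconst (nv : ℕ) (z : ℤ) : evalP ρ (pconst ch nv z) = (z : R) := by
  unfold pconst
  rcases hz : isZ (normC ch z) with _ | _
  · simp [evalP, cast_normC hch, evalMono_replicate]
  · simp only [cond_true, evalP]
    rw [← cast_normC hch, isZ_iff hz]; simp

theorem evalP_ppow (nv : ℕ) (p : Poly) (n : ℕ) : evalP ρ (ppow ch L nv p n) = evalP ρ p ^ n := by
  induction n with
  | zero => simp [ppow, evalP, evalMono_replicate]
  | succ n ih => simp only [ppow]; rw [evalP_pmul ρ hch hρ, ih, pow_succ]

theorem evalP_toPoly (nv : ℕ) (e : PExpr) : evalP ρ (toPoly ch L nv e) = e.denote ρ := by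
  induction e with
  | var i =>
    simp only [toPoly, evalP, PExpr.denote, Int.cast_one, one_mul, add_zero]
    rw [evalMono_monoRed ρ L _ 0 (by simpa using hρ)]
    rcases h : Nat.blt i nv with _ | _
    · simp only [cond_false]; rw [evalMono_replicate_append]; simp
    · simp only [cond_true]
      rw [evalMono_unit ρ nv i 0 (by simpa [Nat.blt_eq] using h)]; simp
  | const z => simp only [toPoly, PExpr.denote]; exact evalP_pconst ρ hch nv z
  | add a b iha ihb => simp only [toPoly, PExpr.denote]; rw [evalP_padd ρ hch, iha, ihb]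
  | mul a b iha ihb => simp only [toPoly, PExpr.denote]; rw [evalP_pmul ρ hch hρ, iha, ihb]
  | neg a ih => simp only [toPoly, PExpr.denote]; rw [evalP_psmul ρ hch, ih]; simp
  | pow a n ih => simp only [toPoly, PExpr.denote]; rw [evalP_ppow ρ hch hρ, ih]

end Eval


/-! ### Sparse vectors -/

/-- sparse vectors: lists of (coordinate code, polynomial) -/
abbrev SVec : Type := List (ℕ × Poly)

/-- cons unless the polynomial is zero -/
def vcons (i : ℕ) : Poly → SVec → SVec
  | [], v => v
  | t :: p, v => (i, t :: p) :: v

/-- add `p` at coordinate `i` -/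
def vadd (ch i : ℕ) (p : Poly) : SVec → SVec
  | [] => vcons i p []
  | e :: v => bif Nat.beq i e.1 then vcons i (padd ch p e.2) v
      else bif Nat.ble i e.1 then vcons i p (e :: v) else e :: vadd ch i p v

/-- Boolean equality of monomials -/
def meq : Mono → Mono → Bool
  | [], [] => true
  | x :: a, y :: b => Nat.beq x y && meq a b
  | _, _ => false

/-- Boolean equality of polynomials -/
def peq : Poly → Poly → Bool
  | [], [] => true
  | s :: p, t :: q => meq s.1 t.1 && (eqZ s.2 t.2 && peq p q)
  | _, _ => false

/-- Boolean equality of vectors -/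
def veq : SVec → SVec → Bool
  | [], [] => true
  | s :: p, t :: q => Nat.beq s.1 t.1 && (peq s.2 t.2 && veq p q)
  | _, _ => false

theorem meq_iff : ∀ {a b : Mono}, meq a b = true → a = b
  | [], [], _ => rfl
  | [], _ :: _, h => by simp [meq] at h
  | _ :: _, [], h => by simp [meq] at h
  | x :: a, y :: b, h => by
    simp only [meq, Bool.and_eq_true] at h
    rw [Nat.eq_of_beq_eq_true h.1, meq_iff h.2]

theorem peq_iff : ∀ {a b : Poly}, peq a b = true → a = b
  | [], [], _ => rfl
  | [], _ :: _, h => by simp [peq] at h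
  | _ :: _, [], h => by simp [peq] at h
  | x :: a, y :: b, h => by
    simp only [peq, Bool.and_eq_true] at h
    rw [peq_iff h.2.2, Prod.ext (meq_iff h.1) (eqZ_iff h.2.1)]

theorem veq_iff : ∀ {a b : SVec}, veq a b = true → a = b
  | [], [], _ => rfl
  | [], _ :: _, h => by simp [veq] at h
  | _ :: _, [], h => by simp [veq] at h
  | x :: a, y :: b, h => by
    simp only [veq, Bool.and_eq_true] at h
    rw [veq_iff h.2.2, Prod.ext (Nat.eq_of_beq_eq_true h.1) (peq_iff h.2.1)]

/-- value of the coordinate `i` of a sparse vector -/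
def evalV {R : Type*} [CommRing R] (ρ : ℕ → R) : SVec → ℕ → R
  | [], _ => 0
  | e :: v, i => (if e.1 = i then evalP ρ e.2 else 0) + evalV ρ v i

/-- the columns of the matrix of x_r(t): list of (row code, coefficient, exponent of t) -/
def colX (D : ChevalleyDatum) (r j : ℕ) : List (ℕ × ℤ × ℕ) :=
  bif Nat.blt j D.rank then
    [(j, 1, 0), (D.rank + r, -((D.cartanSR.getD j #[]).getD r 0), 1)]
  else bif Nat.beq (j - D.rank) r then [(j, 1, 0)]
  else bif Nat.beq (j - D.rank) (D.negIdx.getD r 0) then
    (j, 1, 0) :: (D.rank + r, -1, 2) ::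
      (List.range D.rank).map fun i => (i, (D.coroot.getD r #[]).getD i 0, 1)
  else (j, 1, 0) :: ((D.chain.getD r #[]).toList.filter (fun e => Nat.beq e.1 (j - D.rank))).flatMap
      fun e => e.2.toList.zipIdx.map fun q => (D.rank + q.1.1, q.1.2, q.2 + 1)

/-- the code of a coordinate -/
def code (D : ChevalleyDatum) : D.Idx → ℕ
  | Sum.inl i => i.val
  | Sum.inr s => D.rank + s.val

/-- acc + c * (column with power function pw) -/
def applyCol (ch L : ℕ) (pw : ℕ → Poly) (c : Poly) (col : List (ℕ × ℤ × ℕ)) (acc : SVec) : SVec :=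
  col.foldr (fun t acc => vadd ch t.1 (pmul ch L (psmul ch t.2.1 (pw t.2.2)) c) acc) acc

/-- apply x_r(p) to a sparse vector -/
def applyX (D : ChevalleyDatum) (ch L nv r : ℕ) (p : Poly) (v : SVec) : SVec :=
  bif Nat.blt r D.nroots then
    v.foldr (fun e acc => bif Nat.blt e.1 (D.rank + D.nroots) then
      applyCol ch L (ppow ch L nv p) e.2 (colX D r e.1) acc else acc) []
  else v

/-- acc + c * (column of polynomials) -/
def applyColP (ch L nv : ℕ) (c : Poly) (col : List (ℕ × PExpr)) (acc : SVec) : SVec :=
  col.foldr (fun t acc => vadd ch t.1 (pmul ch L (toPoly ch L nv t.2) c) acc) acc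

/-- apply a general polynomial matrix given by its columns -/
def applyG (D : ChevalleyDatum) (ch L nv : ℕ) (A : ℕ → List (ℕ × PExpr)) (v : SVec) : SVec :=
  v.foldr (fun e acc => bif Nat.blt e.1 (D.rank + D.nroots) then
      applyColP ch L nv e.2 (A e.1) acc else acc) []

/-- letters: root elements with a polynomial parameter, or arbitrary sparse matrices given by columns -/
inductive Letter : Type where
  | x (r : ℕ) (p : PExpr)
  | gen (A : ℕ → List (ℕ × PExpr))

/-- the sum of the entries with row `i` of a column -/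
def colEntry {R : Type*} [CommRing R] (ρ : ℕ → R) (i : ℕ) : List (ℕ × PExpr) → R
  | [] => 0
  | e :: l => (if e.1 = i then e.2.denote ρ else 0) + colEntry ρ i l

/-- the matrix of a letter -/
def Letter.mat (D : ChevalleyDatum) {F : Type*} [Field F] (ρ : ℕ → F) : Letter → Matrix D.Idx D.Idx F
  | .x r p => D.x F r (p.denote ρ)
  | .gen A => Matrix.of fun i j => colEntry ρ (code D i) (A (code D j))

/-- the matrix of a word -/
def wmat (D : ChevalleyDatum) {F : Type*} [Field F] (ρ : ℕ → F) (w : List Letter) : Matrix D.Idx D.Idx F :=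
  (w.map (Letter.mat D ρ)).prod

/-- symbolic action of a letter -/
def applyL (D : ChevalleyDatum) (ch L nv : ℕ) : Letter → SVec → SVec
  | .x r p, v => applyX D ch L nv r (toPoly ch L nv p) v
  | .gen A, v => applyG D ch L nv A v

/-- symbolic action of a word -/
def applyW (D : ChevalleyDatum) (ch L nv : ℕ) (w : List Letter) (v : SVec) : SVec :=
  w.foldr (fun l acc => applyL D ch L nv l acc) v

/-- the symbolic j-th column of a word -/
def colW (D : ChevalleyDatum) (ch L nv : ℕ) (w : List Letter) (j : ℕ) : SVec :=
  applyW D ch L nv w [(j, [(List.replicate nv 0, 1)])]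

/-- the check -/
def check (D : ChevalleyDatum) (ch L nv : ℕ) (w1 w2 : List Letter) : Bool :=
  (List.range (D.rank + D.nroots)).all fun j => veq (colW D ch L nv w1 j) (colW D ch L nv w2 j)

/-- entry of a sparse vector -/
def vget (i : ℕ) : SVec → Poly
  | [] => []
  | e :: v => bif Nat.beq e.1 i then e.2 else vget i v

section Sound

theorem code_lt (D : ChevalleyDatum) (i : D.Idx) : code D i < D.rank + D.nroots := by
  rcases i with i | i
  · exact lt_of_lt_of_le i.isLt (Nat.le_add_right _ _)
  · exact Nat.add_lt_add_left i.isLt _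

theorem code_inj (D : ChevalleyDatum) {i j : D.Idx} (h : code D i = code D j) : i = j := by
  rcases i with i | i <;> rcases j with j | j <;> simp only [code] at h
  · rw [Fin.ext h]
  · have := i.isLt; omega
  · have := j.isLt; omega
  · rw [Fin.ext (Nat.add_left_cancel h)]

theorem exists_code (D : ChevalleyDatum) {n : ℕ} (h : n < D.rank + D.nroots) : ∃ i : D.Idx, code D i = n := by
  rcases lt_or_ge n D.rank with h1 | h1
  · exact ⟨Sum.inl ⟨n, h1⟩, rfl⟩
  · exact ⟨Sum.inr ⟨n - D.rank, by omega⟩, by simp only [code]; omega⟩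

variable {F : Type*} [Field F] (D : ChevalleyDatum)

/-- sum of the terms of a column with row code `k` -/
def colSum (t : F) (k : ℕ) : List (ℕ × ℤ × ℕ) → F
  | [] => 0
  | e :: l => (if e.1 = k then ((e.2.1 : ℤ) : F) * t ^ e.2.2 else 0) + colSum t k l

theorem colSum_nil (t : F) (k : ℕ) : colSum t k [] = 0 := rfl

theorem colSum_cons (t : F) (k : ℕ) (a : ℕ) (z : ℤ) (n : ℕ) (l : List (ℕ × ℤ × ℕ)) :
    colSum t k ((a, z, n) :: l) = (if a = k then (z : F) * t ^ n else 0) + colSum t k l := rfl

theorem colSum_append (t : F) (k : ℕ) (l l' : List (ℕ × ℤ × ℕ)) :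
    colSum t k (l ++ l') = colSum t k l + colSum t k l' := by
  induction l with
  | nil => simp [colSum]
  | cons e l ih => simp only [List.cons_append, colSum, ih, add_assoc]

theorem colSum_eq_zero (t : F) (k : ℕ) (l : List (ℕ × ℤ × ℕ)) (h : ∀ e ∈ l, e.1 ≠ k) : colSum t k l = 0 := by
  induction l with
  | nil => rfl
  | cons e l ih =>
    simp only [colSum]
    rw [if_neg (h e (List.mem_cons_self)), ih (fun e' he' => h e' (List.mem_cons_of_mem _ he')), zero_add]

theorem colSum_range (t : F) (f : ℕ → ℤ) (k : ℕ) (m n : ℕ) :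
    colSum t k ((List.range n).map fun i => (i, f i, m)) = if k < n then (f k : F) * t ^ m else 0 := by
  induction n with
  | zero => simp [colSum]
  | succ n ih =>
    rw [List.range_succ, List.map_append, colSum_append, ih]
    simp only [List.map_cons, List.map_nil, colSum, add_zero]
    by_cases h1 : k < n
    · rw [if_pos h1, if_neg (by omega), if_pos (by omega), add_zero]
    · by_cases h2 : n = k
      · subst h2; rw [if_neg (lt_irrefl _), if_pos rfl, if_pos (by omega), zero_add]
      · rw [if_neg h1, if_neg h2, if_neg (by omega), add_zero]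

theorem colX_h (r : ℕ) {j : ℕ} (hj : j < D.rank) :
    colX D r j = [(j, 1, 0), (D.rank + r, -((D.cartanSR.getD j #[]).getD r 0), 1)] := by
  have : Nat.blt j D.rank = true := by simpa [Nat.blt_eq] using hj
  unfold colX; rw [this]; rfl

theorem blt_false (s : ℕ) : Nat.blt (D.rank + s) D.rank = false := by
  rw [Bool.eq_false_iff]; simp [Nat.blt_eq]

theorem colX_self (r : ℕ) : colX D r (D.rank + r) = [(D.rank + r, 1, 0)] := by
  unfold colX; rw [blt_false, Nat.add_sub_cancel_left, Nat.beq_refl]; rfl

theorem colX_neg (r s : ℕ) (hs : s ≠ r) (hn : s = D.negIdx.getD r 0) : colX D r (D.rank + s) =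
    (D.rank + s, 1, 0) :: (D.rank + r, -1, 2) ::
      (List.range D.rank).map fun i => (i, (D.coroot.getD r #[]).getD i 0, 1) := by
  have h1 : Nat.beq s r = false := by
    rw [Bool.eq_false_iff]; intro h; exact hs (Nat.eq_of_beq_eq_true h)
  have h2 : Nat.beq s (D.negIdx.getD r 0) = true := by rw [← hn]; exact Nat.beq_refl _
  unfold colX; rw [blt_false, Nat.add_sub_cancel_left, h1, h2]; rfl

theorem colX_chain (r s : ℕ) (hs : s ≠ r) (hn : s ≠ D.negIdx.getD r 0) : colX D r (D.rank + s) =
    (D.rank + s, 1, 0) :: ((D.chain.getD r #[]).toList.filter (fun e => Nat.beq e.1 s)).flatMap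
      fun e => e.2.toList.zipIdx.map fun q => (D.rank + q.1.1, q.1.2, q.2 + 1) := by
  have h1 : Nat.beq s r = false := by
    rw [Bool.eq_false_iff]; intro h; exact hs (Nat.eq_of_beq_eq_true h)
  have h2 : Nat.beq s (D.negIdx.getD r 0) = false := by
    rw [Bool.eq_false_iff]; intro h; exact hn (Nat.eq_of_beq_eq_true h)
  unfold colX; rw [blt_false, Nat.add_sub_cancel_left, h1, h2]; rfl

theorem colSum_chain (t : F) (u : ℕ) (l : List ((ℕ × ℤ) × ℕ)) :
    ((((l.filter (fun q => q.1.1 = u)).map fun q => (q.2 + 1, q.1.2)).map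
      fun km : ℕ × ℤ => ((km.2 : ℤ) : F) * t ^ km.1).sum) =
    colSum t (D.rank + u) (l.map fun q => (D.rank + q.1.1, q.1.2, q.2 + 1)) := by
  induction l with
  | nil => simp [colSum]
  | cons q l ih =>
    rw [List.filter_cons, List.map_cons, colSum_cons, ← ih]
    by_cases hq : q.1.1 = u
    · rw [if_pos (by simpa using hq), if_pos (by rw [hq])]
      simp only [List.map_cons, List.sum_cons]
    · rw [if_neg (by simpa using hq), if_neg (fun h' => hq (Nat.add_left_cancel h')), zero_add]

theorem code_inr (u : Fin D.nroots) : code D (Sum.inr u : D.Idx) = D.rank + u.val := rfl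

theorem code_inl (u : Fin D.rank) : code D (Sum.inl u : D.Idx) = u.val := rfl

/-- The entries of x_r(t) are the entries of the column lists. -/
theorem xMat_entry (r : Fin D.nroots) (t : F) (i j : D.Idx) :
    D.xMat F r t i j = colSum t (code D i) (colX D r.val (code D j)) := by
  rcases j with j | s
  · -- column of a coroot
    have hc : code D (Sum.inl j : D.Idx) = j.val := rfl
    rw [hc, colX_h D r.val j.isLt]
    simp only [colSum_cons, colSum_nil]
    rcases i with i | u
    · have h1 : ¬ (D.rank + r.val = code D (Sum.inl i : D.Idx)) := by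
        have := i.isLt; simp only [code]; omega
      rw [if_neg h1]
      simp only [ChevalleyDatum.xMat, Matrix.of_apply, Int.cast_one, pow_zero, mul_one, add_zero]
      by_cases h : i = j
      · rw [if_pos h, if_pos (by rw [h]; rfl)]
      · rw [if_neg h, if_neg (fun h' => h (Fin.ext h'.symm))]
    · have h1 : ¬ (j.val = code D (Sum.inr u : D.Idx)) := by
        have := j.isLt; simp only [code]; omega
      rw [if_neg h1, code_inr]
      simp only [ChevalleyDatum.xMat, Matrix.of_apply, pow_one, add_zero, zero_add]
      by_cases h : u = r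
      · subst h; rw [if_pos rfl, if_pos rfl]; push_cast; ring
      · rw [if_neg h, if_neg (fun h' => h (Fin.ext (Nat.add_left_cancel h').symm))]
  · have hc : code D (Sum.inr s : D.Idx) = D.rank + s.val := rfl
    rw [hc]
    by_cases hs : s = r
    · subst hs
      rw [colX_self, colSum_cons, colSum_nil]
      rcases i with i | u
      · have h1 : ¬ (D.rank + s.val = code D (Sum.inl i : D.Idx)) := by
          have := i.isLt; simp only [code]; omega
        rw [if_neg h1]
        simp [ChevalleyDatum.xMat, Matrix.of_apply]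
      · simp only [ChevalleyDatum.xMat, Matrix.of_apply, if_true]
        rw [code_inr]
        by_cases h : u = s
        · subst h; rw [if_pos rfl, if_pos rfl]; simp
        · rw [if_neg h, if_neg (fun h' => h (Fin.ext (Nat.add_left_cancel h').symm)), zero_add]
    · have hs' : s.val ≠ r.val := fun h => hs (Fin.ext h)
      by_cases hn : s.val = D.negIdx.getD r.val 0
      · rw [colX_neg D r.val s.val hs' hn, colSum_cons, colSum_cons]
        rcases i with i | u
        · have h1 : ¬ (D.rank + s.val = code D (Sum.inl i : D.Idx)) := by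
            have := i.isLt; simp only [code]; omega
          have h2 : ¬ (D.rank + r.val = code D (Sum.inl i : D.Idx)) := by
            have := i.isLt; simp only [code]; omega
          rw [if_neg h1, if_neg h2, colSum_range]
          have h3 : code D (Sum.inl i : D.Idx) < D.rank := i.isLt
          rw [if_pos h3]
          simp only [ChevalleyDatum.xMat, Matrix.of_apply, if_neg hs, if_pos hn, code, pow_one, zero_add]
        · rw [colSum_eq_zero t (code D (Sum.inr u : D.Idx))
            ((List.range D.rank).map fun i => (i, (D.coroot.getD r.val #[]).getD i 0, 1)) (by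
              intro e he
              obtain ⟨a, ha, rfl⟩ := List.mem_map.1 he
              have := List.mem_range.1 ha
              simp only [code]; omega)]
          simp only [ChevalleyDatum.xMat, Matrix.of_apply, if_neg hs, if_pos hn]
          rw [code_inr]
          by_cases h : u = s
          · subst h
            rw [if_pos rfl, if_pos rfl, if_neg (fun h' => hs (Fin.ext (Nat.add_left_cancel h').symm))]
            simp
          · rw [if_neg h, if_neg (fun h' => h (Fin.ext (Nat.add_left_cancel h').symm))]
            by_cases h' : u = r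
            · subst h'; rw [if_pos rfl, if_pos rfl]; push_cast; ring
            · rw [if_neg h', if_neg (fun h'' => h' (Fin.ext (Nat.add_left_cancel h'').symm))]; ring
      · rw [colX_chain D r.val s.val hs' hn, colSum_cons]
        rcases i with i | u
        · have h1 : ¬ (D.rank + s.val = code D (Sum.inl i : D.Idx)) := by
            have := i.isLt; simp only [code]; omega
          rw [if_neg h1, zero_add, colSum_eq_zero]
          · simp only [ChevalleyDatum.xMat, Matrix.of_apply, if_neg hs, if_neg hn]
          · intro e he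
            obtain ⟨e', _, he'⟩ := List.mem_flatMap.1 he
            obtain ⟨q, _, rfl⟩ := List.mem_map.1 he'
            have := i.isLt; simp only [code]; omega
        · simp only [ChevalleyDatum.xMat, Matrix.of_apply, if_neg hs, if_neg hn, ChevalleyDatum.chainCoeff]
          rw [code_inr]
          congr 1
          · by_cases h : u = s
            · subst h; rw [if_pos rfl, if_pos rfl]; simp
            · rw [if_neg h, if_neg (fun h' => h (Fin.ext (Nat.add_left_cancel h').symm))]
          · have hb : ∀ e : ℕ × Array (ℕ × ℤ), decide (e.1 = s.val) = Nat.beq e.1 s.val := by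
              intro e
              rw [Bool.eq_iff_iff, decide_eq_true_eq]
              exact ⟨fun h => by rw [h]; exact Nat.beq_refl _, fun h => Nat.eq_of_beq_eq_true h⟩
            simp only [hb]
            generalize (D.chain.getD r.val #[]).toList.filter (fun e => Nat.beq e.1 s.val) = l
            induction l with
            | nil => simp [colSum]
            | cons e l ih =>
              rw [List.flatMap_cons, List.flatMap_cons, List.map_append, List.sum_append, colSum_append, ih]
              congr 1
              exact colSum_chain D t u.val e.2.toList.zipIdx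

variable (ρ : ℕ → F) {ch L : ℕ}

theorem evalV_vcons (i : ℕ) (p : Poly) (v : SVec) (k : ℕ) :
    evalV ρ (vcons i p v) k = (if i = k then evalP ρ p else 0) + evalV ρ v k := by
  cases p with
  | nil => simp [vcons, evalP]
  | cons t p => rfl

theorem evalV_vadd (hch : (ch : F) = 0) (i : ℕ) (p : Poly) (v : SVec) (k : ℕ) :
    evalV ρ (vadd ch i p v) k = (if i = k then evalP ρ p else 0) + evalV ρ v k := by
  induction v with
  | nil => simp only [vadd, evalV_vcons]
  | cons e v ih =>
    unfold vadd
    rcases h1 : Nat.beq i e.1 with _ | _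
    · rcases h2 : Nat.ble i e.1 with _ | _
      · simp only [cond_false, evalV, ih]; ring
      · simp only [cond_false, cond_true, evalV_vcons, evalV]
    · have h3 := Nat.eq_of_beq_eq_true h1
      simp only [cond_true, evalV_vcons, evalV, evalP_padd ρ hch]
      rw [h3]
      split <;> ring

theorem evalV_applyCol (hch : (ch : F) = 0) (hρ : ∀ i < L, ρ (2 * i) * ρ (2 * i + 1) = 1)
    (pw : ℕ → Poly) (t : F) (hpw : ∀ n, evalP ρ (pw n) = t ^ n) (c : Poly)
    (col : List (ℕ × ℤ × ℕ)) (acc : SVec) (k : ℕ) :
    evalV ρ (applyCol ch L pw c col acc) k = colSum t k col * evalP ρ c + evalV ρ acc k := by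
  induction col with
  | nil => simp [applyCol, colSum]
  | cons e col ih =>
    have hstep : applyCol ch L pw c (e :: col) acc =
      vadd ch e.1 (pmul ch L (psmul ch e.2.1 (pw e.2.2)) c) (applyCol ch L pw c col acc) := rfl
    rw [hstep, evalV_vadd ρ hch, ih, evalP_pmul ρ hch hρ, evalP_psmul ρ hch, hpw]
    simp only [colSum]
    split <;> ring

theorem evalV_applyColP (hch : (ch : F) = 0) (hρ : ∀ i < L, ρ (2 * i) * ρ (2 * i + 1) = 1)
    (nv : ℕ) (c : Poly) (col : List (ℕ × PExpr)) (acc : SVec) (k : ℕ) :
    evalV ρ (applyColP ch L nv c col acc) k = colEntry ρ k col * evalP ρ c + evalV ρ acc k := by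
  induction col with
  | nil => simp [applyColP, colEntry]
  | cons e col ih =>
    have hstep : applyColP ch L nv c (e :: col) acc =
      vadd ch e.1 (pmul ch L (toPoly ch L nv e.2) c) (applyColP ch L nv c col acc) := rfl
    rw [hstep, evalV_vadd ρ hch, ih, evalP_pmul ρ hch hρ, evalP_toPoly ρ hch hρ]
    simp only [colEntry]
    split <;> ring

/-- the key summation lemma -/
theorem sum_step (M : Matrix D.Idx D.Idx F) (i : D.Idx) (n : ℕ) (a b : F) (v : D.Idx → F)
    (hb : ∀ j : D.Idx, code D j = n → b = M i j * a) (hn : (¬ n < D.rank + D.nroots) → b = 0) :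
    ∑ j, M i j * ((if n = code D j then a else 0) + v j) = b + ∑ j, M i j * v j := by
  have h1 : ∑ j, M i j * ((if n = code D j then a else 0) + v j)
      = ∑ j, M i j * (if n = code D j then a else 0) + ∑ j, M i j * v j := by
    rw [← Finset.sum_add_distrib]
    exact Finset.sum_congr rfl fun j _ => mul_add _ _ _
  rw [h1]
  congr 1
  by_cases hlt : n < D.rank + D.nroots
  · obtain ⟨j0, hj0⟩ := exists_code D hlt
    rw [Finset.sum_eq_single j0]
    · rw [if_pos hj0.symm, hb j0 hj0]
    · intro j _ hj
      rw [if_neg, mul_zero]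
      intro h
      exact hj (code_inj D (h.symm.trans hj0.symm))
    · intro h; exact absurd (Finset.mem_univ _) h
  · rw [hn hlt]
    apply Finset.sum_eq_zero
    intro j _
    rw [if_neg, mul_zero]
    intro h
    exact hlt (h ▸ code_lt D j)

theorem evalV_applyX (hch : (ch : F) = 0) (hρ : ∀ i < L, ρ (2 * i) * ρ (2 * i + 1) = 1)
    (nv r : ℕ) (p : Poly) (v : SVec) (i : D.Idx) :
    evalV ρ (applyX D ch L nv r p v) (code D i) = ∑ j, D.x F r (evalP ρ p) i j * evalV ρ v (code D j) := by
  unfold applyX
  rcases hr : Nat.blt r D.nroots with _ | _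
  · have hr' : ¬ r < D.nroots := by
      intro h; rw [Bool.eq_false_iff] at hr; exact hr (by simpa [Nat.blt_eq] using h)
    simp only [cond_false, ChevalleyDatum.x, dif_neg hr', Matrix.one_apply, ite_mul, one_mul, zero_mul,
      Finset.sum_ite_eq, Finset.mem_univ, if_true]
  · have hr' : r < D.nroots := by simpa [Nat.blt_eq] using hr
    simp only [cond_true, ChevalleyDatum.x, dif_pos hr']
    induction v with
    | nil => simp [evalV]
    | cons e v ih =>
      rw [List.foldr_cons]
      simp only [evalV]
      rcases he : Nat.blt e.1 (D.rank + D.nroots) with _ | _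
      · have he' : ¬ e.1 < D.rank + D.nroots := by
          intro h; rw [Bool.eq_false_iff] at he; exact he (by simpa [Nat.blt_eq] using h)
        rw [sum_step D _ i e.1 (evalP ρ e.2) 0 _ (fun j hj => absurd (hj ▸ code_lt D j) he') (fun _ => rfl)]
        simp only [cond_false, ih, zero_add]
      · have he' : e.1 < D.rank + D.nroots := by simpa [Nat.blt_eq] using he
        rw [sum_step D _ i e.1 (evalP ρ e.2)
          (colSum (evalP ρ p) (code D i) (colX D r e.1) * evalP ρ e.2) _ _ (fun h => absurd he' h)]
        · simp only [cond_true]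
          rw [evalV_applyCol ρ hch hρ (ppow ch L nv p) (evalP ρ p) (fun n => evalP_ppow ρ hch hρ nv p n), ih]
        · intro j hj
          rw [xMat_entry, hj]

theorem evalV_applyG (hch : (ch : F) = 0) (hρ : ∀ i < L, ρ (2 * i) * ρ (2 * i + 1) = 1)
    (nv : ℕ) (A : ℕ → List (ℕ × PExpr)) (v : SVec) (i : D.Idx) :
    evalV ρ (applyG D ch L nv A v) (code D i) =
      ∑ j, (Letter.gen A).mat D ρ i j * evalV ρ v (code D j) := by
  unfold applyG
  induction v with
  | nil => simp [evalV]
  | cons e v ih =>
    rw [List.foldr_cons]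
    simp only [evalV]
    rcases he : Nat.blt e.1 (D.rank + D.nroots) with _ | _
    · have he' : ¬ e.1 < D.rank + D.nroots := by
        intro h; rw [Bool.eq_false_iff] at he; exact he (by simpa [Nat.blt_eq] using h)
      rw [sum_step D _ i e.1 (evalP ρ e.2) 0 _ (fun j hj => absurd (hj ▸ code_lt D j) he') (fun _ => rfl)]
      simp only [cond_false, ih, zero_add]
    · have he' : e.1 < D.rank + D.nroots := by simpa [Nat.blt_eq] using he
      rw [sum_step D _ i e.1 (evalP ρ e.2)
        (colEntry ρ (code D i) (A e.1) * evalP ρ e.2) _ _ (fun h => absurd he' h)]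
      · simp only [cond_true]
        rw [evalV_applyColP ρ hch hρ, ih]
      · intro j hj
        simp only [Letter.mat, Matrix.of_apply, hj]

theorem evalV_applyL (hch : (ch : F) = 0) (hρ : ∀ i < L, ρ (2 * i) * ρ (2 * i + 1) = 1)
    (nv : ℕ) (l : Letter) (v : SVec) (i : D.Idx) :
    evalV ρ (applyL D ch L nv l v) (code D i) = ∑ j, l.mat D ρ i j * evalV ρ v (code D j) := by
  cases l with
  | x r p =>
    simp only [applyL, Letter.mat]
    rw [evalV_applyX D ρ hch hρ, evalP_toPoly ρ hch hρ]
  | gen A => exact evalV_applyG D ρ hch hρ nv A v i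

theorem evalV_applyW (hch : (ch : F) = 0) (hρ : ∀ i < L, ρ (2 * i) * ρ (2 * i + 1) = 1)
    (nv : ℕ) (w : List Letter) (v : SVec) (i : D.Idx) :
    evalV ρ (applyW D ch L nv w v) (code D i) = ∑ j, wmat D ρ w i j * evalV ρ v (code D j) := by
  induction w generalizing i with
  | nil =>
    simp [applyW, wmat, Matrix.one_apply]
  | cons l w ih =>
    have hstep : applyW D ch L nv (l :: w) v = applyL D ch L nv l (applyW D ch L nv w v) := rfl
    have hm : wmat D ρ (l :: w) = l.mat D ρ * wmat D ρ w := by simp [wmat]
    rw [hstep, evalV_applyL D ρ hch hρ, hm]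
    simp only [ih, Matrix.mul_apply, Finset.sum_mul, Finset.mul_sum]
    rw [Finset.sum_comm]
    apply Finset.sum_congr rfl; intro j _
    apply Finset.sum_congr rfl; intro k _
    ring

/-- The entries of the matrix of a word, computed symbolically. -/
theorem wmat_apply (hch : (ch : F) = 0) (hρ : ∀ i < L, ρ (2 * i) * ρ (2 * i + 1) = 1)
    (nv : ℕ) (w : List Letter) (i j : D.Idx) :
    wmat D ρ w i j = evalV ρ (colW D ch L nv w (code D j)) (code D i) := by
  unfold colW
  rw [evalV_applyW D ρ hch hρ]
  simp only [evalV, add_zero, evalP, evalMono_replicate, Int.cast_one, mul_one]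
  rw [Finset.sum_eq_single j]
  · rw [if_pos rfl, mul_one]
  · intro k _ hk
    rw [if_neg (fun h => hk (code_inj D h.symm)), mul_zero]
  · intro h; exact absurd (Finset.mem_univ _) h

/-- Soundness of the check. -/
theorem wmat_eq_of_check (ch L nv : ℕ) (w1 w2 : List Letter) (h : check D ch L nv w1 w2 = true)
    (hch : (ch : F) = 0) (hρ : ∀ i < L, ρ (2 * i) * ρ (2 * i + 1) = 1) :
    wmat D ρ w1 = wmat D ρ w2 := by
  ext i j
  rw [wmat_apply D ρ hch hρ nv, wmat_apply D ρ hch hρ nv]
  have := List.all_eq_true.1 h (code D j) (List.mem_range.2 (code_lt D j))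
  rw [veq_iff this]

theorem wmat_append (w1 w2 : List Letter) : wmat D ρ (w1 ++ w2) = wmat D ρ w1 * wmat D ρ w2 := by
  simp [wmat]

/-- words in root elements as letters -/
def xw (w : List (ℕ × PExpr)) : List Letter := w.map fun l => .x l.1 l.2

/-- value of the parameters -/
def wval (w : List (ℕ × PExpr)) : List (ℕ × F) := w.map fun l => (l.1, l.2.denote ρ)

theorem wmat_xw (w : List (ℕ × PExpr)) : wmat D ρ (xw w) = D.wordMat F (wval ρ w) := by
  unfold wmat xw wval ChevalleyDatum.wordMat
  rw [List.map_map, List.map_map]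
  rfl

/-- Soundness for words in root elements. -/
theorem wordMat_eq_of_check (ch L nv : ℕ) (w1 w2 : List (ℕ × PExpr))
    (h : check D ch L nv (xw w1) (xw w2) = true)
    (hch : (ch : F) = 0) (hρ : ∀ i < L, ρ (2 * i) * ρ (2 * i + 1) = 1) :
    D.wordMat F (wval ρ w1) = D.wordMat F (wval ρ w2) := by
  rw [← wmat_xw, ← wmat_xw]
  exact wmat_eq_of_check D ρ ch L nv _ _ h hch hρ

end Sound

end Cfsg.Agent.ChevalleyStructure.WordCheck
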