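import Cfsg.Prelude.Def_ChevD4
import Cfsg.Agent.ChevalleyStructure.WordCheck

/-!
Type D₄, any field, unconditional: additivity of the root elements and the commutators of the
positive root elements, as matrix identities (kernel-checked through `WordCheck`).
-/

set_option autoImplicit false

namespace Cfsg.Agent.ChevalleyStructure.D4CommTab

open Cfsg.Lie
open Cfsg.Agent.ChevalleyStructure.WordCheck
open scoped commutatorElement

/-- additivity check for the root `r` -/
def addOK (r : ℕ) : Bool :=
  check chevD4 0 0 2 (xw [(r, .var 0), (r, .var 1)]) (xw [(r, .add (.var 0) (.var 1))]) &&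
    check chevD4 0 0 0 (xw [(r, .const 0)]) (xw [])

theorem addOK_all : ∀ r ∈ List.range 24, addOK r = true := by
  decide +kernel

/-- the term `(k, c)` of the commutator `[x_r(t), x_s(u)] = x_k(c t u)`, if `r + s` is a root -/
def cm (r s : ℕ) : Option (ℕ × ℤ) :=
  match chevD4.commTerms r s with
  | [] => none
  | c :: _ => some (c.1, c.2.1)

/-- the right-hand side of the commutator formula -/
def cw (r s : ℕ) : List (ℕ × PExpr) :=
  match cm r s with
  | none => []
  | some kc => [(kc.1, .mul (.const kc.2) (.mul (.var 0) (.var 1)))]

/-- the check of the commutator formula for the pair `(r, s)` -/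
def commOK (r s : ℕ) : Bool :=
  check chevD4 0 0 2 (xw [(r, .var 0), (s, .var 1), (r, .neg (.var 0)), (s, .neg (.var 1))]) (xw (cw r s))

set_option maxHeartbeats 4000000 in
theorem commOK_all : ∀ r ∈ List.range' 12 12, ∀ s ∈ List.range' 12 12, s ≠ r → commOK r s = true := by
  decide +kernel

end Cfsg.Agent.ChevalleyStructure.D4CommTab
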