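import Cfsg.Agent.ChevalleyStructure.SignedSymm
import Cfsg.Prelude.Def_ChevD4
import Cfsg.Prelude.Def_ChevE6

/-!
The graph automorphisms of D₄ (the two 3-cycles) and E₆ as signed permutation symmetries of the tables.
-/

set_option autoImplicit false

namespace Cfsg.Agent.ChevalleyStructure.GraphSymm

open Cfsg.Lie
open Cfsg.Agent.ChevalleyStructure.SignedSymm

/-- Tables of the graph symmetry [5, 1, 4, 3, 2, 0] of E6. -/
def tablesE6 : Tables where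
  rho := [0, 1, 2, 5, 16, 3, 6, 17, 8, 19, 22, 11, 26, 30, 33, 35, 4, 7, 18, 9, 20, 23, 10, 21, 24, 25, 12, 27, 31, 34, 13, 28, 32, 14, 29, 15, 56, 42, 57, 39, 43, 58, 37, 40, 44, 59, 46, 47, 50, 61, 48, 51, 62, 53, 64, 67, 36, 38, 41, 45, 60, 49, 52, 63, 54, 65, 68, 55, 66, 69, 70, 71]
  rhoInv := [0, 1, 2, 5, 16, 3, 6, 17, 8, 19, 22, 11, 26, 30, 33, 35, 4, 7, 18, 9, 20, 23, 10, 21, 24, 25, 12, 27, 31, 34, 13, 28, 32, 14, 29, 15, 56, 42, 57, 39, 43, 58, 37, 40, 44, 59, 46, 47, 50, 61, 48, 51, 62, 53, 64, 67, 36, 38, 41, 45, 60, 49, 52, 63, 54, 65, 68, 55, 66, 69, 70, 71]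
  eps := [1, 1, 1, 1, -1, 1, 1, -1, 1, -1, -1, 1, -1, 1, -1, 1, -1, -1, 1, -1, 1, 1, -1, 1, 1, 1, -1, 1, -1, 1, 1, -1, 1, -1, 1, 1, 1, 1, -1, 1, -1, 1, 1, -1, 1, -1, 1, 1, 1, -1, 1, 1, -1, 1, -1, -1, 1, -1, 1, -1, 1, -1, -1, 1, -1, 1, 1, -1, 1, 1, 1, 1]
  rho0 := [5, 1, 4, 3, 2, 0]
  rho0Inv := [5, 1, 4, 3, 2, 0]
  del := [1, 1, 1, 1, 1, 1]

set_option maxRecDepth 100000 in
theorem checkE6 : tablesE6.check chevE6 = true := by decide +kernel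

/-- The graph symmetry [5, 1, 4, 3, 2, 0] of E6. -/
def symmE6 : Symm chevE6 := Tables.toSymm checkE6

/-- Tables of the graph symmetry [2, 1, 3, 0] of D4. -/
def tablesD4a : Tables where
  rho := [0, 1, 6, 2, 7, 10, 3, 8, 4, 9, 11, 5, 18, 12, 14, 19, 15, 20, 13, 16, 21, 17, 22, 23]
  rhoInv := [0, 1, 3, 6, 8, 11, 2, 4, 7, 9, 5, 10, 13, 18, 14, 16, 19, 21, 12, 15, 17, 20, 22, 23]
  eps := [1, 1, -1, 1, -1, 1, -1, 1, -1, 1, 1, 1, 1, 1, 1, -1, 1, -1, 1, -1, 1, -1, 1, 1]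
  rho0 := [2, 1, 3, 0]
  rho0Inv := [3, 1, 0, 2]
  del := [1, 1, 1, 1]

set_option maxRecDepth 100000 in
theorem checkD4a : tablesD4a.check chevD4 = true := by decide +kernel

/-- The graph symmetry [2, 1, 3, 0] of D4. -/
def symmD4a : Symm chevD4 := Tables.toSymm checkD4a

/-- Tables of the graph symmetry [3, 1, 0, 2] of D4. -/
def tablesD4b : Tables where
  rho := [0, 1, 3, 6, 8, 11, 2, 4, 7, 9, 5, 10, 13, 18, 14, 16, 19, 21, 12, 15, 17, 20, 22, 23]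
  rhoInv := [0, 1, 6, 2, 7, 10, 3, 8, 4, 9, 11, 5, 18, 12, 14, 19, 15, 20, 13, 16, 21, 17, 22, 23]
  eps := [1, 1, 1, -1, -1, 1, -1, -1, 1, 1, 1, 1, 1, 1, 1, 1, -1, -1, 1, -1, -1, 1, 1, 1]
  rho0 := [3, 1, 0, 2]
  rho0Inv := [2, 1, 3, 0]
  del := [1, 1, 1, 1]

set_option maxRecDepth 100000 in
theorem checkD4b : tablesD4b.check chevD4 = true := by decide +kernel

/-- The graph symmetry [3, 1, 0, 2] of D4. -/
def symmD4b : Symm chevD4 := Tables.toSymm checkD4b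

end Cfsg.Agent.ChevalleyStructure.GraphSymm
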