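import Cfsg.Prelude.Def_LieTwisted
import Cfsg.Agent.ChevStructure.FieldMap
import Cfsg.Agent.ChevalleyStructure.GraphSymm
import Cfsg.Agent.ChevalleyStructure.D4Cols

/-!
The twisted group ³D₄(q): every element is fixed by `σ` = conjugation with the triality signed permutation matrix
after the entrywise `q`-Frobenius map.
-/

set_option autoImplicit false

namespace Cfsg.Agent.ChevalleyStructure.D4Fixed

open Cfsg.Lie
open Cfsg.Agent.ChevalleyStructure.SignedSymm
open Cfsg.Agent.ChevalleyStructure.GraphSymm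
open Cfsg.Agent.ChevalleyStructure.D4Cols
open scoped Matrix

/-- In a field with `q ^ n` elements, `x ↦ x ^ q` is a ring homomorphism. -/
theorem exists_frob {K : Type*} [Field K] [Fintype K] {q n : ℕ} (hq : IsPrimePow q)
    (hK : Fintype.card K = q ^ n) : ∃ φ : K →+* K, ∀ x, φ x = x ^ q := by
  obtain ⟨p, k, hp, hk, rfl⟩ := hq
  have hp' : p.Prime := hp.nat_prime
  obtain ⟨p', hchar, m, hp'', hcard⟩ := FiniteField.card' K
  have hpp : p = p' := by
    have h1 : p' ∣ (p ^ k) ^ n := by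
      rw [← hK, hcard]
      exact dvd_pow_self _ m.ne_zero
    have h2 : p' ∣ p := hp''.dvd_of_dvd_pow (hp''.dvd_of_dvd_pow h1)
    exact ((Nat.prime_dvd_prime_iff_eq hp'' hp').1 h2).symm
  subst hpp
  have : ExpChar K p := ExpChar.prime hp'
  exact ⟨iterateFrobenius K p k, fun x => iterateFrobenius_def p k x⟩

section Sigma
variable {K : Type*} [Field K] (φ : K →+* K)

/-- `σ`: entrywise `φ`, then conjugation with the triality matrix. -/
noncomputable def sig : GL chevD4.Idx K →* GL chevD4.Idx K :=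
  (MulAut.conj (symmD4a.P K)).toMonoidHom.comp
    (Units.map (RingHom.mapMatrix φ : Matrix chevD4.Idx chevD4.Idx K →+* Matrix chevD4.Idx chevD4.Idx K).toMonoidHom)

theorem coe_sig (g : GL chevD4.Idx K) :
    ((sig φ g : GL chevD4.Idx K) : Matrix chevD4.Idx chevD4.Idx K) =
      symmD4a.mat K * (g : Matrix chevD4.Idx chevD4.Idx K).map φ * symmD4a.matInv K := rfl

theorem sig_xU {r s : ℕ} (hr : r < 24) (hs : (symmD4a.σ ⟨r, hr⟩).val = s) (he : symmD4a.ε ⟨r, hr⟩ = 1) (t : K) :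
    sig φ (xU r t) = xU s (φ t) := by
  apply Units.ext
  rw [coe_sig, coe_xU, coe_xU, Cfsg.Agent.ChevStructure.FieldMap.x_map]
  have := symmD4a.mat_conj_x K ⟨r, hr⟩ (φ t)
  rw [he, hs] at this
  simpa using this

theorem sig_18 (t : K) : sig φ (xU 18 t) = xU 13 (φ t) := sig_xU φ (by norm_num) rfl rfl t
theorem sig_13 (t : K) : sig φ (xU 13 t) = xU 12 (φ t) := sig_xU φ (by norm_num) rfl rfl t
theorem sig_12 (t : K) : sig φ (xU 12 t) = xU 18 (φ t) := sig_xU φ (by norm_num) rfl rfl t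
theorem sig_14 (t : K) : sig φ (xU 14 t) = xU 14 (φ t) := sig_xU φ (by norm_num) rfl rfl t
theorem sig_5 (t : K) : sig φ (xU 5 t) = xU 10 (φ t) := sig_xU φ (by norm_num) rfl rfl t
theorem sig_10 (t : K) : sig φ (xU 10 t) = xU 11 (φ t) := sig_xU φ (by norm_num) rfl rfl t
theorem sig_11 (t : K) : sig φ (xU 11 t) = xU 5 (φ t) := sig_xU φ (by norm_num) rfl rfl t
theorem sig_9 (t : K) : sig φ (xU 9 t) = xU 9 (φ t) := sig_xU φ (by norm_num) rfl rfl t

/-- the subgroup of `σ`-fixed elements -/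
noncomputable def fix : Subgroup (GL chevD4.Idx K) := (sig φ).eqLocus (MonoidHom.id _)

theorem mem_fix (g : GL chevD4.Idx K) : g ∈ fix φ ↔ sig φ g = g := Iff.rfl

/-- the generator `x_{±p₂}(t)` -/
theorem fix_14 {t : K} (ht : φ t = t) : xU 14 t ∈ fix φ := by
  rw [mem_fix, sig_14, ht]

theorem fix_9 {t : K} (ht : φ t = t) : xU 9 t ∈ fix φ := by
  rw [mem_fix, sig_9, ht]

/-- `x_{p₁}(t) x_{p₃}(t^φ) x_{p₄}(t^{φφ})` -/
noncomputable def X (t : K) : GL chevD4.Idx K := xU 18 t * xU 13 (φ t) * xU 12 (φ (φ t))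

/-- `x_{-p₁}(t) x_{-p₃}(t^φ) x_{-p₄}(t^{φφ})` -/
noncomputable def Y (t : K) : GL chevD4.Idx K := xU 5 t * xU 10 (φ t) * xU 11 (φ (φ t))

theorem c_18_13 (t u : K) : Commute (xU 18 t) (xU 13 u) := xU_comm (by decide) t u
theorem c_18_12 (t u : K) : Commute (xU 18 t) (xU 12 u) := xU_comm (by decide) t u
theorem c_13_12 (t u : K) : Commute (xU 13 t) (xU 12 u) := xU_comm (by decide) t u
theorem c_18_10 (t u : K) : Commute (xU 18 t) (xU 10 u) := xU_comm (by decide) t u
theorem c_18_11 (t u : K) : Commute (xU 18 t) (xU 11 u) := xU_comm (by decide) t u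
theorem c_13_11 (t u : K) : Commute (xU 13 t) (xU 11 u) := xU_comm (by decide) t u
theorem c_5_13 (t u : K) : Commute (xU 5 t) (xU 13 u) := xU_comm (by decide) t u
theorem c_5_12 (t u : K) : Commute (xU 5 t) (xU 12 u) := xU_comm (by decide) t u
theorem c_10_12 (t u : K) : Commute (xU 10 t) (xU 12 u) := xU_comm (by decide) t u
theorem c_5_10 (t u : K) : Commute (xU 5 t) (xU 10 u) := xU_comm (by decide) t u
theorem c_5_11 (t u : K) : Commute (xU 5 t) (xU 11 u) := xU_comm (by decide) t u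
theorem c_10_11 (t u : K) : Commute (xU 10 t) (xU 11 u) := xU_comm (by decide) t u

theorem fix_X {t : K} (ht : φ (φ (φ t)) = t) : X φ t ∈ fix φ := by
  rw [mem_fix]
  unfold X
  rw [map_mul, map_mul, sig_18, sig_13, sig_12, ht, mul_assoc, ← (c_18_12 _ _).eq, ← mul_assoc,
    ← (c_18_13 _ _).eq]

theorem fix_Y {t : K} (ht : φ (φ (φ t)) = t) : Y φ t ∈ fix φ := by
  rw [mem_fix]
  unfold Y
  rw [map_mul, map_mul, sig_5, sig_10, sig_11, ht, mul_assoc, ← (c_5_11 _ _).eq, ← mul_assoc,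
    ← (c_5_10 _ _).eq]

end Sigma

section Twisted
variable {K : Type*} [Field K] {q : ℕ}

theorem mem_twisted_of_word {w : List (ℕ × K)} (hw : w ∈ d4Words K q) : wU w ∈ twistedD4 K q :=
  Subgroup.subset_closure ⟨w, hw, coe_wU w⟩

theorem twisted_eq_closure : twistedD4 K q = Subgroup.closure {g | ∃ w ∈ d4Words K q, g = wU w} := by
  show Subgroup.closure _ = _
  congr 1
  ext g
  constructor
  · rintro ⟨w, hw, hg⟩
    exact ⟨w, hw, Units.ext (hg.trans (coe_wU w).symm)⟩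
  · rintro ⟨w, hw, rfl⟩
    exact ⟨w, hw, coe_wU w⟩

theorem wU_single (r : ℕ) (t : K) : wU [(r, t)] = xU r t := by
  unfold wU
  rw [List.map_cons, List.prod_cons, List.map_nil, List.prod_nil, mul_one]

theorem wU_triple (r s v : ℕ) (t u w : K) : wU [(r, t), (s, u), (v, w)] = xU r t * xU s u * xU v w := by
  unfold wU
  rw [List.map_cons, List.prod_cons, List.map_cons, List.prod_cons, List.map_cons, List.prod_cons, List.map_nil,
    List.prod_nil, mul_one, mul_assoc]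

variable {φ : K →+* K}

theorem X_eq (hφ : ∀ x, φ x = x ^ q) (t : K) : wU [(18, t), (13, t ^ q), (12, t ^ (q ^ 2))] = X φ t := by
  rw [wU_triple]
  unfold X
  rw [hφ (φ t), hφ t, ← pow_mul, ← sq]

theorem Y_eq (hφ : ∀ x, φ x = x ^ q) (t : K) : wU [(5, t), (10, t ^ q), (11, t ^ (q ^ 2))] = Y φ t := by
  rw [wU_triple]
  unfold Y
  rw [hφ (φ t), hφ t, ← pow_mul, ← sq]

theorem X_mem (hφ : ∀ x, φ x = x ^ q) (t : K) : X φ t ∈ twistedD4 K q := by
  rw [← X_eq hφ]
  exact mem_twisted_of_word (Or.inr ⟨t, (d4p1, d4p3, d4p4), by simp, rfl⟩)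

theorem Y_mem (hφ : ∀ x, φ x = x ^ q) (t : K) : Y φ t ∈ twistedD4 K q := by
  rw [← Y_eq hφ]
  exact mem_twisted_of_word (Or.inr ⟨t, (d4m1, d4m3, d4m4), by simp, rfl⟩)

theorem x14_mem {t : K} (ht : t ^ q = t) : xU 14 t ∈ twistedD4 K q := by
  rw [← wU_single]
  exact mem_twisted_of_word (Or.inl ⟨t, ht, d4p2, by simp, rfl⟩)

theorem x9_mem {t : K} (ht : t ^ q = t) : xU 9 t ∈ twistedD4 K q := by
  rw [← wU_single]
  exact mem_twisted_of_word (Or.inl ⟨t, ht, d4m2, by simp, rfl⟩)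

/-- the generators of ³D₄ -/
theorem twisted_induction (hφ : ∀ x, φ x = x ^ q) {S : Subgroup (GL chevD4.Idx K)}
    (h1 : ∀ t, φ t = t → xU 14 t ∈ S) (h2 : ∀ t, φ t = t → xU 9 t ∈ S)
    (h3 : ∀ t, X φ t ∈ S) (h4 : ∀ t, Y φ t ∈ S) : twistedD4 K q ≤ S := by
  rw [twisted_eq_closure, Subgroup.closure_le]
  rintro g ⟨w, hw, rfl⟩
  rcases hw with ⟨t, ht, r, hr, rfl⟩ | ⟨t, rs, hrs, rfl⟩
  · rw [wU_single]
    simp only [List.mem_cons, List.not_mem_nil, or_false] at hr
    rcases hr with rfl | rfl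
    · exact h1 t ((hφ t).trans ht)
    · exact h2 t ((hφ t).trans ht)
  · simp only [List.mem_cons, List.not_mem_nil, or_false] at hrs
    rcases hrs with rfl | rfl
    · exact (X_eq hφ t).symm ▸ h3 t
    · exact (Y_eq hφ t).symm ▸ h4 t

/-- Every element of ³D₄(q) is fixed by `σ`. -/
theorem twisted_le_fix [Fintype K] (hK : Fintype.card K = q ^ 3) (hφ : ∀ x, φ x = x ^ q) :
    twistedD4 K q ≤ fix φ := by
  have h3 : ∀ t : K, φ (φ (φ t)) = t := by
    intro t
    rw [hφ, hφ, hφ, ← pow_mul, ← pow_mul]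
    have : q * (q * q) = q ^ 3 := by ring
    rw [this, ← hK]
    exact FiniteField.pow_card t
  exact twisted_induction hφ (fun t ht => fix_14 φ ht) (fun t ht => fix_9 φ ht) (fun t => fix_X φ (h3 t))
    (fun t => fix_Y φ (h3 t))

end Twisted

end Cfsg.Agent.ChevalleyStructure.D4Fixed
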