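import Cfsg.Agent.ChevalleyStructure.D4Torus
import Cfsg.Prelude.Def_ChevStructure

/-!
The intersection H¹ of the diagonal subgroup with ³D₄(q): it consists exactly of the torus elements with
character `(a, b, a^q, a^{q²})`, `b^q = b`, and has order `(q - 1) (q³ - 1)`.
-/

set_option autoImplicit false

namespace Cfsg.Agent.ChevalleyStructure.D4H1

open Cfsg.Lie
open Cfsg.Agent.ChevalleyStructure.SignedSymm
open Cfsg.Agent.ChevalleyStructure.GraphSymm
open Cfsg.Agent.ChevalleyStructure.D4Cols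
open Cfsg.Agent.ChevalleyStructure.D4Fixed
open Cfsg.Agent.ChevalleyStructure.D4Torus
open scoped Matrix

theorem prod3 {M ι : Type*} [Monoid M] (f g h : ι → M) (w : List ι)
    (h1 : ∀ i j, Commute (g i) (f j)) (h2 : ∀ i j, Commute (h i) (f j)) (h3 : ∀ i j, Commute (h i) (g j)) :
    (w.map fun i => f i * g i * h i).prod = (w.map f).prod * (w.map g).prod * (w.map h).prod := by
  induction w with
  | nil => simp
  | cons i w ih =>
    simp only [List.map_cons, List.prod_cons]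
    rw [ih]
    have c1 : Commute (g i) (w.map f).prod := Commute.list_prod_right _ _ (by
      intro x hx
      rw [List.mem_map] at hx
      obtain ⟨j, _, rfl⟩ := hx
      exact h1 i j)
    have c2 : Commute (h i) (w.map f).prod := Commute.list_prod_right _ _ (by
      intro x hx
      rw [List.mem_map] at hx
      obtain ⟨j, _, rfl⟩ := hx
      exact h2 i j)
    have c3 : Commute (h i) (w.map g).prod := Commute.list_prod_right _ _ (by
      intro x hx
      rw [List.mem_map] at hx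
      obtain ⟨j, _, rfl⟩ := hx
      exact h3 i j)
    calc f i * g i * h i * ((w.map f).prod * (w.map g).prod * (w.map h).prod)
        = f i * (g i * (h i * (w.map f).prod)) * (w.map g).prod * (w.map h).prod := by
          simp only [mul_assoc]
      _ = f i * (g i * ((w.map f).prod * h i)) * (w.map g).prod * (w.map h).prod := by rw [c2.eq]
      _ = f i * (g i * (w.map f).prod) * (h i * (w.map g).prod) * (w.map h).prod := by
          simp only [mul_assoc]
      _ = f i * ((w.map f).prod * g i) * ((w.map g).prod * h i) * (w.map h).prod := by rw [c1.eq, c3.eq]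
      _ = f i * (w.map f).prod * (g i * (w.map g).prod) * (h i * (w.map h).prod) := by
          simp only [mul_assoc]

section
variable {K : Type*} [Field K] (φ : K →+* K)

/-- letters for the outer nodes: `(true, t)` for `X(t)`, `(false, t)` for `Y(t)` -/
noncomputable def f1 (l : Bool × K) : GL chevD4.Idx K := if l.1 then xU 18 l.2 else xU 5 l.2
/-- second component -/
noncomputable def f3 (l : Bool × K) : GL chevD4.Idx K := if l.1 then xU 13 (φ l.2) else xU 10 (φ l.2)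
/-- third component -/
noncomputable def f4 (l : Bool × K) : GL chevD4.Idx K :=
  if l.1 then xU 12 (φ (φ l.2)) else xU 11 (φ (φ l.2))

theorem comm31 (l m : Bool × K) : Commute (f3 φ l) (f1 m) := by
  rcases l with ⟨_ | _, t⟩ <;> rcases m with ⟨_ | _, u⟩
  · exact (c_5_10 _ _).symm
  · exact (c_18_10 _ _).symm
  · exact (c_5_13 _ _).symm
  · exact (c_18_13 _ _).symm

theorem comm41 (l m : Bool × K) : Commute (f4 φ l) (f1 m) := by
  rcases l with ⟨_ | _, t⟩ <;> rcases m with ⟨_ | _, u⟩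
  · exact (c_5_11 _ _).symm
  · exact (c_18_11 _ _).symm
  · exact (c_5_12 _ _).symm
  · exact (c_18_12 _ _).symm

theorem comm43 (l m : Bool × K) : Commute (f4 φ l) (f3 φ m) := by
  rcases l with ⟨_ | _, t⟩ <;> rcases m with ⟨_ | _, u⟩
  · exact (c_10_11 _ _).symm
  · exact (c_13_11 _ _).symm
  · exact (c_10_12 _ _).symm
  · exact (c_13_12 _ _).symm

/-- words in the `X(t)`, `Y(t)` -/
noncomputable def XY (l : Bool × K) : GL chevD4.Idx K := if l.1 then X φ l.2 else Y φ l.2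

theorem XY_prod (w : List (Bool × K)) :
    (w.map (XY φ)).prod = (w.map f1).prod * (w.map (f3 φ)).prod * (w.map (f4 φ)).prod := by
  rw [← prod3 f1 (f3 φ) (f4 φ) w (comm31 φ) (comm41 φ) (comm43 φ)]
  congr 1
  apply List.map_congr_left
  rintro ⟨_ | _, t⟩ _
  · rfl
  · rfl

/-- the word for `n(t)` -/
def nw (t : K) : List (Bool × K) := [(true, t), (false, -t⁻¹), (true, t)]

theorem f1_nw (t : K) : ((nw t).map f1).prod = wU (chevD4.nWord 18 t) := rfl
theorem f3_nw (t : K) : ((nw t).map (f3 φ)).prod = wU (chevD4.nWord 13 (φ t)) := by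
  have : φ (-t⁻¹) = -(φ t)⁻¹ := by rw [map_neg, map_inv₀]
  show (xU 13 (φ t) * (xU 10 (φ (-t⁻¹)) * (xU 13 (φ t) * 1)) : GL chevD4.Idx K) = _
  rw [this]
  rfl
theorem f4_nw (t : K) : ((nw t).map (f4 φ)).prod = wU (chevD4.nWord 12 (φ (φ t))) := by
  have : φ (φ (-t⁻¹)) = -(φ (φ t))⁻¹ := by rw [map_neg, map_inv₀, map_neg, map_inv₀]
  show (xU 12 (φ (φ t)) * (xU 11 (φ (φ (-t⁻¹))) * (xU 12 (φ (φ t)) * 1)) : GL chevD4.Idx K) = _
  rw [this]
  rfl

theorem wU_append (w v : List (ℕ × K)) : wU (w ++ v) = wU w * wU v := by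
  unfold wU
  rw [List.map_append, List.prod_append]

theorem wU_hWord (r : ℕ) (t : K) : wU (chevD4.hWord r t) = wU (chevD4.nWord r t) * wU (chevD4.nWord r (-1)) :=
  wU_append _ _

theorem coe_wU_hWord (r : ℕ) (t : K) :
    ((wU (chevD4.hWord r t) : GL chevD4.Idx K) : Matrix chevD4.Idx chevD4.Idx K) = chevD4.hMat K r t :=
  coe_wU _

theorem wU_hWord_eq_tor {r : ℕ} (hr : r < 24) (t : Kˣ) : wU (chevD4.hWord r (t : K)) = tor (hchar r t) :=
  Units.ext ((coe_wU_hWord r (t : K)).trans (coe_tor_hchar hr t).symm)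

/-- `n_{p₁}(t) n_{p₃}(t^φ) n_{p₄}(t^{φφ})` is a word in the generators of ³D₄. -/
theorem n_outer_eq (t : K) :
    ((nw t).map (XY φ)).prod =
      wU (chevD4.nWord 18 t) * wU (chevD4.nWord 13 (φ t)) * wU (chevD4.nWord 12 (φ (φ t))) := by
  rw [XY_prod, f1_nw, f3_nw, f4_nw]

/-- `h_{p₁}(t) h_{p₃}(t^φ) h_{p₄}(t^{φφ})` is a word in the generators of ³D₄. -/
theorem h_outer_eq (t : K) :
    ((nw t ++ nw (-1)).map (XY φ)).prod =
      wU (chevD4.hWord 18 t) * wU (chevD4.hWord 13 (φ t)) * wU (chevD4.hWord 12 (φ (φ t))) := by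
  rw [XY_prod, List.map_append, List.map_append, List.map_append, List.prod_append, List.prod_append,
    List.prod_append, f1_nw, f3_nw, f4_nw, f1_nw, f3_nw, f4_nw, wU_hWord, wU_hWord, wU_hWord]
  simp only [map_neg, map_one]

theorem neg_14 : chevD4.neg 14 = 9 := rfl

end

section Twisted
variable {K : Type*} [Field K] {q : ℕ} {φ : K →+* K}

theorem XY_mem (hφ : ∀ x, φ x = x ^ q) (w : List (Bool × K)) : (w.map (XY φ)).prod ∈ twistedD4 K q := by
  apply Subgroup.list_prod_mem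
  intro x hx
  rw [List.mem_map] at hx
  obtain ⟨⟨_ | _, t⟩, _, rfl⟩ := hx
  · exact Y_mem hφ t
  · exact X_mem hφ t

/-- `n_{p₂}(t)`, `t^q = t`, lies in ³D₄. -/
theorem n14_mem (hφ : ∀ x, φ x = x ^ q) {t : K} (ht : φ t = t) : wU (chevD4.nWord 14 t) ∈ twistedD4 K q := by
  have e : wU (chevD4.nWord 14 t) = xU 14 t * (xU 9 (-t⁻¹) * (xU 14 t * 1)) := rfl
  rw [e]
  have h1 : t ^ q = t := (hφ t).symm.trans ht
  have h2 : (-t⁻¹) ^ q = -t⁻¹ := by
    rw [← hφ, map_neg, map_inv₀, ht]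
  exact mul_mem (x14_mem h1) (mul_mem (x9_mem h2) (mul_mem (x14_mem h1) (one_mem _)))

theorem h14_mem (hφ : ∀ x, φ x = x ^ q) {t : K} (ht : φ t = t) : wU (chevD4.hWord 14 t) ∈ twistedD4 K q := by
  rw [wU_hWord]
  exact mul_mem (n14_mem hφ ht) (n14_mem hφ (by rw [map_neg, map_one]))

theorem n_outer_mem (hφ : ∀ x, φ x = x ^ q) (t : K) :
    wU (chevD4.nWord 18 t) * wU (chevD4.nWord 13 (φ t)) * wU (chevD4.nWord 12 (φ (φ t))) ∈ twistedD4 K q := by
  rw [← n_outer_eq]
  exact XY_mem hφ _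

theorem h_outer_mem (hφ : ∀ x, φ x = x ^ q) (t : K) :
    wU (chevD4.hWord 18 t) * wU (chevD4.hWord 13 (φ t)) * wU (chevD4.hWord 12 (φ (φ t))) ∈ twistedD4 K q := by
  rw [← h_outer_eq]
  exact XY_mem hφ _

variable (φ) in
/-- the torus element `h_{p₁}(t) h_{p₃}(t^φ) h_{p₄}(t^{φφ}) h_{p₂}(s)` -/
noncomputable def hel (t s : Kˣ) : GL chevD4.Idx K :=
  tor (hchar 18 t * hchar 13 (Units.map (φ : K →* K) t) *
    hchar 12 (Units.map (φ : K →* K) (Units.map (φ : K →* K) t)) * hchar 14 s)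

theorem hel_eq (t s : Kˣ) : hel φ t s = wU (chevD4.hWord 18 (t : K)) * wU (chevD4.hWord 13 (φ t)) *
    wU (chevD4.hWord 12 (φ (φ t))) * wU (chevD4.hWord 14 (s : K)) := by
  have e1 := wU_hWord_eq_tor (r := 18) (by norm_num) t
  have e2 := wU_hWord_eq_tor (r := 13) (by norm_num) (Units.map (φ : K →* K) t)
  have e3 := wU_hWord_eq_tor (r := 12) (by norm_num) (Units.map (φ : K →* K) (Units.map (φ : K →* K) t))
  have e4 := wU_hWord_eq_tor (r := 14) (by norm_num) s
  have e2' : wU (chevD4.hWord 13 (φ t)) = tor (hchar 13 (Units.map (φ : K →* K) t)) := e2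
  have e3' : wU (chevD4.hWord 12 (φ (φ t))) =
    tor (hchar 12 (Units.map (φ : K →* K) (Units.map (φ : K →* K) t))) := e3
  rw [e1, e2', e3', e4, tor_mul, tor_mul, tor_mul]
  rfl

theorem hel_mem_twisted (hφ : ∀ x, φ x = x ^ q) (t s : Kˣ) (hs : φ s = s) : hel φ t s ∈ twistedD4 K q := by
  rw [hel_eq]
  exact mul_mem (h_outer_mem hφ _) (h14_mem hφ hs)

theorem hel_mem_diagonal (t s : Kˣ) : hel φ t s ∈ chevD4.diagonalSubgroup K := by
  unfold hel
  rw [← tor_mul, ← tor_mul, ← tor_mul]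
  exact mul_mem (mul_mem (mul_mem (tor_hchar_mem (by norm_num) _) (tor_hchar_mem (by norm_num) _))
    (tor_hchar_mem (by norm_num) _)) (tor_hchar_mem (by norm_num) _)

theorem hchar_18_0 (t : Kˣ) : hchar 18 t 0 = t ^ 2 := rfl
theorem hchar_18_1 (t : Kˣ) : hchar 18 t 1 = t⁻¹ := by
  show t ^ (-1 : ℤ) = _
  rw [zpow_neg_one]
theorem hchar_13_0 (t : Kˣ) : hchar 13 t 0 = 1 := by
  show t ^ (0 : ℤ) = _
  rw [zpow_zero]
theorem hchar_13_1 (t : Kˣ) : hchar 13 t 1 = t⁻¹ := by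
  show t ^ (-1 : ℤ) = _
  rw [zpow_neg_one]
theorem hchar_12_0 (t : Kˣ) : hchar 12 t 0 = 1 := by
  show t ^ (0 : ℤ) = _
  rw [zpow_zero]
theorem hchar_12_1 (t : Kˣ) : hchar 12 t 1 = t⁻¹ := by
  show t ^ (-1 : ℤ) = _
  rw [zpow_neg_one]
theorem hchar_14_0 (t : Kˣ) : hchar 14 t 0 = t⁻¹ := by
  show t ^ (-1 : ℤ) = _
  rw [zpow_neg_one]
theorem hchar_14_1 (t : Kˣ) : hchar 14 t 1 = t ^ 2 := rfl

theorem sq_one_cases {x : K} (h : x ^ 2 = 1) : x = 1 ∨ x = -1 := by
  have : (x - 1) * (x + 1) = 0 := by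
    have e : (x - 1) * (x + 1) = x ^ 2 - 1 := by ring
    rw [e, h, sub_self]
  rcases mul_eq_zero.1 this with h | h
  · exact Or.inl (sub_eq_zero.1 h)
  · exact Or.inr (eq_neg_of_add_eq_zero_left h)

theorem inj_aux (ψ : Kˣ →* Kˣ) (hψ : ∀ x : Kˣ, x ^ 2 = 1 → ψ x = x) {T S : Kˣ} (hS : ψ S = S) (h1 : T ^ 2 = S)
    (h2 : S ^ 2 = T * ψ T * ψ (ψ T)) : T = 1 ∧ S = 1 := by
  have h3 : ψ T ^ 2 = T ^ 2 := by rw [← map_pow, h1, hS]
  have h4 : ψ (ψ T) ^ 2 = T ^ 2 := by rw [← map_pow, h3, h1, hS]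
  have h5 : (S ^ 2) ^ 2 = T ^ 2 * T ^ 2 * T ^ 2 := by
    rw [h2, mul_pow, mul_pow, h3, h4]
  have h6 : T ^ 2 = 1 := by
    rw [← h1] at h5
    have h7 : ((T ^ 2) ^ 2) ^ 2 = (T ^ 2 * T ^ 2 * T ^ 2) * T ^ 2 := by
      rw [← pow_mul, ← pow_mul, ← pow_add, ← pow_add, ← pow_add]
    rw [h5] at h7
    exact left_eq_mul.1 h7
  have h7 : S = 1 := by rw [← h1, h6]
  have h8 : ψ T = T := hψ T h6
  rw [h8, h8, h7, one_pow, ← pow_two, h6, one_mul] at h2
  exact ⟨h2.symm, h7⟩

theorem hel_injective {t s t' s' : Kˣ} (h1 : φ s = s) (h2 : φ s' = s')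
    (h : hel φ t s = hel φ t' s') : t = t' ∧ s = s' := by
  have h0 := tor_injective h
  have ha := congrFun h0 0
  have hb := congrFun h0 1
  simp only [Pi.mul_apply, hchar_18_0, hchar_18_1, hchar_13_0, hchar_13_1, hchar_12_0, hchar_12_1, hchar_14_0,
    hchar_14_1, mul_one] at ha hb
  -- T = t / t', S = s / s'
  set ψ : Kˣ →* Kˣ := Units.map (φ : K →* K) with hψ
  have hS : ψ (s / s') = s / s' := by
    rw [map_div]
    congr 1
    · exact Units.ext h1
    · exact Units.ext h2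
  have hT2 : (t / t') ^ 2 = s / s' := by
    rw [div_pow, div_eq_div_iff_mul_eq_mul]
    rw [mul_inv_eq_iff_eq_mul] at ha
    rw [ha, mul_assoc, mul_assoc, inv_mul_cancel_comm_assoc, mul_comm]
  have hSN : (s / s') ^ 2 = (t / t') * ψ (t / t') * ψ (ψ (t / t')) := by
    simp only [map_div]
    have e1 : s ^ 2 = (t * ψ t * ψ (ψ t)) * (t'⁻¹ * (ψ t')⁻¹ * (ψ (ψ t'))⁻¹ * s' ^ 2) := by
      rw [← hb]
      have : ∀ a b c d : Kˣ, d = a * b * c * (a⁻¹ * b⁻¹ * c⁻¹ * d) := by
        intro a b c d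
        rw [← mul_inv, ← mul_inv, mul_inv_cancel_left]
      exact this _ _ _ _
    rw [div_pow, e1]
    have : ∀ a b c a' b' c' d : Kˣ, a * b * c * (a'⁻¹ * b'⁻¹ * c'⁻¹ * d) / d = a / a' * (b / b') * (c / c') := by
      intro a b c a' b' c' d
      rw [← mul_assoc, mul_div_assoc, div_self', mul_one, div_eq_mul_inv, div_eq_mul_inv, div_eq_mul_inv]
      ac_rfl
    exact this _ _ _ _ _ _ _
  obtain ⟨hT, hS'⟩ := inj_aux ψ (fun x hx => by
    have hx' : (x : K) ^ 2 = 1 := by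
      rw [← Units.val_pow_eq_pow_val, hx, Units.val_one]
    rcases sq_one_cases hx' with h | h
    · apply Units.ext
      show φ (x : K) = x
      rw [h, map_one]
    · apply Units.ext
      show φ (x : K) = x
      rw [h, map_neg, map_one]) hS hT2 hSN
  exact ⟨div_eq_one.1 hT, div_eq_one.1 hS'⟩

/-- an element of H¹ has the form `tor χ` with `χ = (a, b, a^φ, a^{φφ})`, `b^φ = b` -/
theorem exists_char [Fintype K] (hK : Fintype.card K = q ^ 3) (hφ : ∀ x, φ x = x ^ q) {g : GL chevD4.Idx K}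
    (hg : g ∈ chevD4.diagonalSubgroup K ⊓ twistedD4 K q) :
    ∃ χ : Fin 4 → Kˣ, tor χ = g ∧ φ (χ 1) = χ 1 ∧ χ 2 = Units.map (φ : K →* K) (χ 0) ∧
      χ 3 = Units.map (φ : K →* K) (Units.map (φ : K →* K) (χ 0)) := by
  obtain ⟨χ, hχ⟩ := diagonal_le hg.1
  refine ⟨χ, hχ, ?_⟩
  have hfix : tor χ ∈ fix φ := by
    have : torHom χ ∈ fix φ := by
      rw [hχ]
      exact twisted_le_fix hK hφ hg.2
    exact this
  obtain ⟨h1, h2, h3, _⟩ := tor_fix_iff_aux φ hfix
  refine ⟨h1.symm, Units.ext h2, Units.ext ?_⟩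
  rw [h3, h2]
  rfl

theorem natCard_units [Fintype K] {m : ℕ} (hK : Fintype.card K = m) : Nat.card Kˣ = m - 1 := by
  classical
  rw [Nat.card_eq_fintype_card, Fintype.card_units, hK]

/-- number of units fixed by the Frobenius -/
theorem card_fixed [Fintype K] (hq : 1 < q) {n : ℕ} (hK : Fintype.card K = q ^ n) (hφ : ∀ x, φ x = x ^ q) :
    Nat.card {b : Kˣ // φ b = b} = q - 1 := by
  have e : Nat.card {b : Kˣ // φ b = b} = Nat.card (powMonoidHom (q - 1) : Kˣ →* Kˣ).ker := by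
    apply Nat.card_congr
    apply Equiv.subtypeEquivRight
    intro b
    rw [MonoidHom.mem_ker, powMonoidHom_apply, hφ]
    constructor
    · intro h
      have h1 : b ^ q = b := Units.ext h
      have h2 : b ^ (q - 1) * b = b := by
        rw [← pow_succ, Nat.sub_add_cancel hq.le, h1]
      exact mul_eq_right.1 h2
    · intro h
      have h1 : b ^ q = b := by
        rw [← Nat.sub_add_cancel hq.le, pow_succ, h, one_mul]
      rw [← Units.val_pow_eq_pow_val, h1]
  rw [e, IsCyclic.card_powMonoidHom_ker, natCard_units hK]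
  exact Nat.gcd_eq_right (by simpa using Nat.sub_dvd_pow_sub_pow q 1 n)

theorem card_H1 [Fintype K] (hq : IsPrimePow q) (hK : Fintype.card K = q ^ 3) (hφ : ∀ x, φ x = x ^ q) :
    Nat.card ↥(chevD4.diagonalSubgroup K ⊓ twistedD4 K q) = (q - 1) * (q ^ 3 - 1) := by
  have hcard : Nat.card (Kˣ × {b : Kˣ // φ b = b}) = (q - 1) * (q ^ 3 - 1) := by
    rw [Nat.card_prod, card_fixed hq.one_lt hK hφ, natCard_units hK, mul_comm]
  have hfin : Finite (GL chevD4.Idx K) := inferInstance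
  apply le_antisymm
  · rw [← hcard]
    choose χ hχ using fun g : ↥(chevD4.diagonalSubgroup K ⊓ twistedD4 K q) => exists_char hK hφ g.2
    apply Nat.card_le_card_of_injective (fun g => (χ g 0, ⟨χ g 1, (hχ g).2.1⟩))
    intro g g' h
    have h0 : χ g 0 = χ g' 0 := congrArg Prod.fst h
    have h1 : χ g 1 = χ g' 1 := congrArg (fun x => (Prod.snd x).1) h
    apply Subtype.ext
    rw [← (hχ g).1, ← (hχ g').1]
    congr 1
    funext i
    fin_cases i
    · exact h0
    · exact h1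
    · show χ g 2 = χ g' 2
      rw [(hχ g).2.2.1, (hχ g').2.2.1, h0]
    · show χ g 3 = χ g' 3
      rw [(hχ g).2.2.2, (hχ g').2.2.2, h0]
  · rw [← hcard]
    apply Nat.card_le_card_of_injective
      (fun p : Kˣ × {b : Kˣ // φ b = b} => (⟨hel φ p.1 p.2.1, hel_mem_diagonal _ _,
        hel_mem_twisted hφ _ _ p.2.2⟩ : ↥(chevD4.diagonalSubgroup K ⊓ twistedD4 K q)))
    intro p p' h
    have h' := hel_injective p.2.2 p'.2.2 (congrArg Subtype.val h)
    exact Prod.ext h'.1 (Subtype.ext h'.2)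

end Twisted

end Cfsg.Agent.ChevalleyStructure.D4H1
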