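import Cfsg.Agent.ChevalleyStructure.D4NConj

/-!
Type D₄, any field, unconditional: `h_r(t) x_s(u) h_r(t)⁻¹ = x_s(t ^ A_{r,s} u)` for all roots `r`, `s`.
-/

set_option autoImplicit false

namespace Cfsg.Agent.ChevalleyStructure.D4HConj

open Cfsg.Lie
open Cfsg.Agent.ChevalleyStructure.D4Comm Cfsg.Agent.ChevalleyStructure.D4NCheck
open Cfsg.Agent.ChevalleyStructure.D4NConj Cfsg.Agent.ChevalleyStructure.SparseHDiag

variable {F : Type*} [Field F]

theorem chi_mul (c d : Fin 4 → Fˣ) (s : ℕ) : chi (c * d) s = chi c s * chi d s := by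
  simp only [chi_def, dv_def, Pi.mul_apply, Units.val_mul, mul_zpow]
  ring

theorem chi_crt {r s : ℕ} (hr : r < 24) (hs : s < 24) (t : Fˣ) :
    chi (fun i => t ^ crt r i) s = (t : F) ^ cartanRS chevD4 r s := by
  rw [chi_def, dv_def, cartanRS_eq r (List.mem_range.2 hr) s (List.mem_range.2 hs)]
  show ((t ^ crt r 0 : Fˣ) : F) ^ wt 0 (4 + s) * ((t ^ crt r 1 : Fˣ) : F) ^ wt 1 (4 + s) *
    ((t ^ crt r 2 : Fˣ) : F) ^ wt 2 (4 + s) * ((t ^ crt r 3 : Fˣ) : F) ^ wt 3 (4 + s) = _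
  rw [zpow_add₀ t.ne_zero, zpow_add₀ t.ne_zero, zpow_add₀ t.ne_zero]
  simp only [Units.val_zpow_eq_zpow_val, zpow_mul, crt]

theorem hR_conj {r s : ℕ} (hr : r < 24) (hs : s < 24) {t : F} (ht : t ≠ 0) (u : F) :
    hR r t * xG s u * (hR r t)⁻¹ = xG s (t ^ cartanRS chevD4 r s * u) := by
  have h := hR_eq_torG hr (Units.mk0 t ht)
  rw [Units.val_mk0] at h
  rw [h, torG_conj _ hs, chi_crt hr hs, Units.val_mk0]

/-- `A_{r,s}` for the outer nodes -/
theorem cartanRS_outer : ∀ r ∈ [18, 13, 12], ∀ s ∈ [18, 13, 12], cartanRS chevD4 r s = (if r = s then 2 else 0) ∧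
    cartanRS chevD4 r (23 - s) = (if r = s then -2 else 0) := by
  decide +kernel

end Cfsg.Agent.ChevalleyStructure.D4HConj
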