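import Cfsg.Agent.ChevalleyStructure.D4Tab

/-!
Kernel checks for the root elements of `chevD4`: conjugation by `n_{p_i}(1)`.
-/

set_option autoImplicit false

namespace Cfsg.Agent.ChevalleyStructure.D4NCheck

open Cfsg.Lie
open Cfsg.Agent.ChevalleyStructure.LaurentWord Cfsg.Agent.ChevalleyStructure.D4Tab

/-- indices of the simple roots -/
def simpTab : List ℕ := [18, 14, 13, 12]
/-- `reflTab[i][s]` is the index of `w_{p_i}(s)` -/
def reflTab : List (List ℕ) := [[0, 6, 7, 8, 9, 18, 1, 2, 3, 4, 10, 11, 12, 13, 19, 20, 21, 22, 5, 14, 15, 16, 17, 23], [1, 0, 2, 3, 5, 4, 6, 10, 11, 14, 7, 8, 15, 16, 9, 12, 13, 17, 19, 18, 20, 21, 23, 22], [0, 3, 4, 1, 2, 5, 8, 9, 6, 7, 13, 11, 12, 10, 16, 17, 14, 15, 18, 21, 22, 19, 20, 23], [0, 2, 1, 4, 3, 5, 7, 6, 9, 8, 10, 12, 11, 13, 15, 14, 17, 16, 18, 20, 19, 22, 21, 23]]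
/-- `etaTab[i][s]` is the sign in `n_{p_i} x_s(t) n_{p_i}⁻¹ = x_{w_{p_i} s}(± t)` -/
def etaTab : List (List ℤ) := [[1, 1, 1, 1, 1, -1, -1, -1, -1, -1, 1, 1, 1, 1, -1, -1, -1, -1, -1, 1, 1, 1, 1, 1], [-1, 1, 1, 1, -1, 1, 1, 1, 1, -1, -1, -1, -1, -1, -1, 1, 1, 1, 1, -1, 1, 1, 1, -1], [1, -1, -1, 1, 1, 1, -1, -1, 1, 1, -1, 1, 1, -1, 1, 1, -1, -1, 1, 1, 1, -1, -1, 1], [1, -1, 1, -1, 1, 1, -1, 1, -1, 1, 1, -1, -1, 1, 1, -1, 1, -1, 1, 1, -1, 1, -1, 1]]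

/-- index of the simple root `p_i` -/
def sp (i : ℕ) : ℕ := nth 0 simpTab i
/-- index of the reflected root -/
def rfl' (i s : ℕ) : ℕ := nth 0 (nth [] reflTab i) s
/-- sign -/
def eta (i s : ℕ) : ℤ := nth 0 (nth [] etaTab i) s

/-- the word of `n_{p_i}(1)` with integer parameters -/
def nwM (i : ℕ) : List (ℕ × Mono) := [(sp i, 1, 0, 0), (23 - sp i, -1, 0, 0), (sp i, 1, 0, 0)]

theorem check_nconj0 : ((List.range 24).all fun s =>
    checkEq 28 24 tcols (nwM 0 ++ [(s, 1, 1, 0)]) ((rfl' 0 s, eta 0 s, 1, 0) :: nwM 0)) = true := by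
  decide +kernel
theorem check_nconj1 : ((List.range 24).all fun s =>
    checkEq 28 24 tcols (nwM 1 ++ [(s, 1, 1, 0)]) ((rfl' 1 s, eta 1 s, 1, 0) :: nwM 1)) = true := by
  decide +kernel
theorem check_nconj2 : ((List.range 24).all fun s =>
    checkEq 28 24 tcols (nwM 2 ++ [(s, 1, 1, 0)]) ((rfl' 2 s, eta 2 s, 1, 0) :: nwM 2)) = true := by
  decide +kernel
theorem check_nconj3 : ((List.range 24).all fun s =>
    checkEq 28 24 tcols (nwM 3 ++ [(s, 1, 1, 0)]) ((rfl' 3 s, eta 3 s, 1, 0) :: nwM 3)) = true := by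
  decide +kernel

theorem check_nconj {i s : ℕ} (hi : i < 4) (hs : s < 24) :
    checkEq 28 24 tcols (nwM i ++ [(s, 1, 1, 0)]) ((rfl' i s, eta i s, 1, 0) :: nwM i) = true := by
  have h0 := check_nconj0
  have h1 := check_nconj1
  have h2 := check_nconj2
  have h3 := check_nconj3
  rw [List.all_eq_true] at h0 h1 h2 h3
  interval_cases i
  · exact h0 s (List.mem_range.2 hs)
  · exact h1 s (List.mem_range.2 hs)
  · exact h2 s (List.mem_range.2 hs)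
  · exact h3 s (List.mem_range.2 hs)

end Cfsg.Agent.ChevalleyStructure.D4NCheck
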