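import Cfsg.Agent.ChevalleyStructure.RootData

/-!
The permutation action of `N` on the roots for abstract root group data with pairwise distinct root subgroups:
a homomorphism `N → Perm Φ` with kernel `H`; elements making all simple roots positive are in `H`.
-/

set_option autoImplicit false

namespace Cfsg.Agent.ChevalleyStructure.RootPerm

open Cfsg.Agent.ChevalleyStructure.RootData

variable {Γ : Type*} [Group Γ] {ι Φ : Type*} (R : RGD Γ ι Φ)

theorem acts_unique (hX : Function.Injective R.X) {g : Γ} {w w' : Equiv.Perm Φ} (h : R.Acts g w)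
    (h' : R.Acts g w') : w = w' := by
  ext r
  apply hX
  ext x
  have h1 := h.1 r (g⁻¹ * x * g)
  have h2 := h'.1 r (g⁻¹ * x * g)
  have e : g * (g⁻¹ * x * g) * g⁻¹ = x := by group
  rw [e] at h1 h2
  rw [← h1, h2]

theorem exists_acts {g : Γ} (hg : g ∈ R.N) : ∃ w : Equiv.Perm Φ, R.Acts g w :=
  let ⟨l, hl⟩ := R.acts_of_mem_N hg
  ⟨R.sw l, hl⟩

/-- The permutation of the roots induced by an element of `N`. -/
noncomputable def perm (g : R.N) : Equiv.Perm Φ := (exists_acts R g.2).choose

theorem perm_acts (g : R.N) : R.Acts g.1 (perm R g) := (exists_acts R g.2).choose_spec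

variable {R} in
theorem perm_eq (hX : Function.Injective R.X) {g : R.N} {w : Equiv.Perm Φ} (h : R.Acts g.1 w) :
    perm R g = w := acts_unique R hX (perm_acts R g) h

/-- The homomorphism `N → Perm Φ`. -/
noncomputable def permHom (hX : Function.Injective R.X) : R.N →* Equiv.Perm Φ where
  toFun := perm R
  map_one' := perm_eq hX R.acts_one
  map_mul' g h := perm_eq hX ((perm_acts R g).mul (perm_acts R h))

variable (hX : Function.Injective R.X)

theorem permHom_acts (g : R.N) : R.Acts g.1 (permHom R hX g) := perm_acts R g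

variable {R} in
theorem permHom_eq {g : R.N} {w : Equiv.Perm Φ} (h : R.Acts g.1 w) : permHom R hX g = w :=
  perm_eq hX h

theorem permHom_n (i : ι) : permHom R hX ⟨R.n i, R.n_mem_N i⟩ = R.refl i :=
  permHom_eq hX (R.acts_n i)

theorem permHom_nw (l : List ι) : permHom R hX ⟨R.nw l, R.nw_mem_N l⟩ = R.sw l :=
  permHom_eq hX (R.acts_nw l)

theorem permHom_of_mem_H {g : R.N} (hg : g.1 ∈ R.H) : permHom R hX g = 1 :=
  permHom_eq hX (R.acts_of_mem_H hg)

theorem permHom_neg (g : R.N) (r : Φ) : permHom R hX g (R.neg r) = R.neg (permHom R hX g r) := by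
  obtain ⟨l, hl⟩ := R.acts_of_mem_N g.2
  rw [permHom_eq hX hl, R.sw_neg]

/-- An element of `N` whose permutation preserves the positive roots is in `H`. -/
theorem mem_H_of_pos {g : R.N} (h : ∀ r, R.pos r → R.pos (permHom R hX g r)) : g.1 ∈ R.H := by
  refine R.mem_H_of_conj g.2 fun r hr x hx => ?_
  exact R.X_le_B (h r hr) (((permHom_acts R hX g).1 r x).1 hx)

theorem permHom_eq_one_iff (g : R.N) : permHom R hX g = 1 ↔ g.1 ∈ R.H := by
  constructor
  · intro h
    refine mem_H_of_pos R hX fun r hr => ?_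
    rw [h]
    exact hr
  · exact permHom_of_mem_H R hX

theorem ker_permHom : (permHom R hX).ker = R.H.subgroupOf R.N := by
  ext g
  rw [MonoidHom.mem_ker, permHom_eq_one_iff, Subgroup.mem_subgroupOf]

/-- The number `l.length` for a word `l` with `g ∈ nw l H`. -/
def HasWord (g : Γ) (n : ℕ) : Prop := ∃ l : List ι, l.length = n ∧ ∃ h ∈ R.H, g = R.nw l * h

theorem exists_hasWord {g : Γ} (hg : g ∈ R.N) : ∃ n, HasWord R g n := by
  obtain ⟨l, h, hh, e⟩ := R.exists_nw_of_mem_N hg
  exact ⟨l.length, l, rfl, h, hh, e⟩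

variable {R} in
theorem HasWord.mem_N {g : Γ} {n : ℕ} (h : HasWord R g n) : g ∈ R.N := by
  obtain ⟨l, -, h, hh, rfl⟩ := h
  exact mul_mem (R.nw_mem_N l) (R.H_le_N hh)

variable {R} in
theorem hasWord_zero {g : Γ} (h : HasWord R g 0) : g ∈ R.H := by
  obtain ⟨l, hl, h, hh, rfl⟩ := h
  rw [List.length_eq_zero_iff] at hl
  subst hl
  rw [R.nw_nil, one_mul]
  exact hh

/-- Exchange for elements of `N`: if `g` makes the simple root `p_i` negative then `g n_i` has a shorter word. -/
theorem exchange {g : Γ} {n : ℕ} (hw : HasWord R g n) {w : Equiv.Perm Φ} (ha : R.Acts g w) {i : ι}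
    (hX : Function.Injective R.X)
    (hi : ¬ R.pos (w (R.simple i))) : ∃ m, m + 1 = n ∧ HasWord R (g * R.n i) m := by
  obtain ⟨l, hl, h, hh, rfl⟩ := hw
  have h1 : w = R.sw l := by
    have := (R.acts_nw l).mul (R.acts_of_mem_H hh)
    rw [mul_one] at this
    exact acts_unique R hX ha this
  rw [h1] at hi
  obtain ⟨l', hl', k, hk, e⟩ := R.exists_exchange hi
  refine ⟨l'.length, by rw [hl', hl], l', rfl, k * ((R.n i)⁻¹ * h * R.n i), mul_mem hk (R.n_conj_H' i hh), ?_⟩
  calc R.nw l * h * R.n i = (R.nw l * R.n i) * ((R.n i)⁻¹ * h * R.n i) := by group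
    _ = _ := by rw [e]; group

/-- An element of `N` making all simple roots positive is in `H`. -/
theorem mem_H_of_simple {g : R.N} (h : ∀ i, R.pos (permHom R hX g (R.simple i))) : g.1 ∈ R.H := by
  classical
  have hex := exists_hasWord R g.2
  have hmin := Nat.find_spec hex
  have hlt := fun m (hm : m < Nat.find hex) => Nat.find_min hex hm
  rcases hn : Nat.find hex with _ | n
  · rw [hn] at hmin
    exact hasWord_zero hmin
  · exfalso
    rw [hn] at hmin hlt
    obtain ⟨l, hl, k, hk, e⟩ := hmin
    rcases List.eq_nil_or_concat l with rfl | ⟨l', i, rfl⟩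
    · simp at hl
    · rw [List.concat_eq_append] at hl e
      have h1 : permHom R hX g = R.sw (l' ++ [i]) := by
        apply permHom_eq hX
        rw [e]
        have := (R.acts_nw (l' ++ [i])).mul (R.acts_of_mem_H hk)
        rwa [mul_one] at this
      have hpos := h i
      have hneg : ¬ R.pos (R.sw l' (R.simple i)) := by
        rw [h1, R.sw_append, R.sw_cons, Equiv.Perm.mul_apply, R.sw_nil, mul_one, R.refl_simple, R.sw_neg,
          R.pos_neg] at hpos
        exact hpos
      obtain ⟨l'', hlen'', k', hk', e'⟩ := R.exists_exchange hneg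
      have hl' : (l' ++ [i]).length = l'.length + 1 := by simp
      refine hlt l''.length (by omega) ⟨l'', rfl, k' * k, mul_mem hk' hk, ?_⟩
      rw [e, R.nw_append, R.nw_cons, R.nw_nil, mul_one, e', mul_assoc]

end Cfsg.Agent.ChevalleyStructure.RootPerm
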