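import Cfsg.Agent.ChevalleyStructure.D4RGD
import Cfsg.Agent.ChevalleyStructure.RootPerm
import Cfsg.Agent.ChevalleyStructure.GraphSymm

/-!
Type D₄, any field, unconditional: the homomorphism `N → Perm (Fin 24)` with kernel `H`, and the elements of `N`
commuting with triality on the roots.
-/

set_option autoImplicit false

namespace Cfsg.Agent.ChevalleyStructure.D4Perm

open Cfsg.Lie
open Cfsg.Agent.ChevalleyStructure.D4Comm Cfsg.Agent.ChevalleyStructure.D4NCheck
open Cfsg.Agent.ChevalleyStructure.D4NConj Cfsg.Agent.ChevalleyStructure.D4RGD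
open Cfsg.Agent.ChevalleyStructure.RootPerm
open Cfsg.Agent.ChevalleyStructure.GraphSymm

variable {F : Type*} [Field F]

theorem x_entry_neg_ne {r s : ℕ} (hr : r < 24) (hs : s < 24) (hne : s ≠ r) (t : F) :
    chevD4.x F s t (Sum.inr ⟨r, hr⟩) (Sum.inr ⟨23 - r, show 23 - r < 24 by omega⟩) = 0 := by
  have h1 : ∀ r ∈ List.range 24, ∀ s ∈ List.range 24, s ≠ r →
      ((D4Tab.tcols s (4 + (23 - r))).filter fun e => e.1 = 4 + r) = [] := by decide +kernel
  have h2 := h1 r (List.mem_range.2 hr) s (List.mem_range.2 hs) hne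
  have h3 : ∀ (l : List (ℕ × ℤ × ℕ)) (k : ℕ),
      LaurentWord.colSum t l k = LaurentWord.colSum t (l.filter fun e => e.1 = k) k := by
    intro l k
    induction l with
    | nil => rfl
    | cons e l ih =>
      rw [LaurentWord.colSum_cons, ih]
      by_cases he : e.1 = k
      · rw [List.filter_cons_of_pos (by simpa using he), LaurentWord.colSum_cons]
      · rw [List.filter_cons_of_neg (by simpa using he), if_neg he, zero_add]
  rw [x_entry hs, LaurentWord.code_inr, LaurentWord.code_inr]
  show LaurentWord.colSum t (D4Tab.tcols s (4 + (23 - r))) (4 + r) = _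
  rw [h3, h2, LaurentWord.colSum_nil]

/-- Non-trivial root elements of different roots are different. -/
theorem eq_of_xG_eq {r s : ℕ} (hr : r < 24) (hs : s < 24) {t u : F} (ht : t ≠ 0) (h : xG r t = xG s u) :
    r = s := by
  by_contra hne
  have h1 := x_entry_neg hr t
  have h2 := x_entry_neg_ne hr hs (fun h => hne h.symm) u
  have h3 : chevD4.x F r t = chevD4.x F s u := congrArg Units.val h
  rw [h3, h2] at h1
  have : t ^ 2 = 0 := by linear_combination h1
  exact ht (pow_eq_zero_iff two_ne_zero |>.1 this)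

theorem X_injective (F : Type*) [Field F] : Function.Injective (d4rgd F).X := by
  intro r s h
  have h1 : xG r.val (1 : F) ∈ (d4rgd F).X s := by
    rw [← h]; exact xG_mem_rootSubgroup _ _
  obtain ⟨u, hu⟩ := mem_rootSubgroup.1 h1
  exact Fin.ext (eq_of_xG_eq r.2 s.2 one_ne_zero hu)

/-- The homomorphism `N → Perm (Fin 24)` giving the action on the root subgroups. -/
noncomputable def permD4 (F : Type*) [Field F] : ↥(chevD4.monomialSubgroup F) →* Equiv.Perm (Fin 24) :=
  (permHom (d4rgd F) (X_injective F)).comp (Subgroup.inclusion (d4rgd_N F).ge)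

theorem permD4_apply (g : chevD4.monomialSubgroup F) : permD4 F g =
    permHom (d4rgd F) (X_injective F) (Subgroup.inclusion (d4rgd_N F).ge g) := rfl

theorem coe_incl (g : chevD4.monomialSubgroup F) :
    (Subgroup.inclusion (d4rgd_N F).ge g : GL chevD4.Idx F) = g.1 := Subgroup.coe_inclusion _ g

theorem acts_permD4 (g : chevD4.monomialSubgroup F) : (d4rgd F).Acts g.1 (permD4 F g) := by
  have h := permHom_acts (d4rgd F) (X_injective F) (Subgroup.inclusion (d4rgd_N F).ge g)
  rw [coe_incl, ← permD4_apply] at h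
  exact h

/-- `g X_r g⁻¹ = X_{ρ(g) r}` -/
theorem permD4_spec (g : chevD4.monomialSubgroup F) (r : Fin 24) (x : GL chevD4.Idx F) :
    x ∈ chevD4.rootSubgroup F r.val ↔ g.1 * x * g.1⁻¹ ∈ chevD4.rootSubgroup F (permD4 F g r).val :=
  (acts_permD4 g).1 r x

theorem permD4_eq {g : chevD4.monomialSubgroup F} {w : Equiv.Perm (Fin 24)} (h : (d4rgd F).Acts g.1 w) :
    permD4 F g = w := acts_unique (d4rgd F) (X_injective F) (acts_permD4 g) h

theorem nG_mem (i : Fin 4) : nG F i.val ∈ chevD4.monomialSubgroup F := nR_one_mem (sp_lt i.2)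

theorem permD4_n (i : Fin 4) : permD4 F ⟨nG F i.val, nG_mem i⟩ = reflF i :=
  permD4_eq ((d4rgd F).acts_n i)

theorem permD4_eq_one_iff (g : chevD4.monomialSubgroup F) :
    permD4 F g = 1 ↔ g.1 ∈ chevD4.diagonalSubgroup F := by
  have h := permHom_eq_one_iff (d4rgd F) (X_injective F) (Subgroup.inclusion (d4rgd_N F).ge g)
  rw [coe_incl, ← permD4_apply, d4rgd_H] at h
  exact h

/-- The kernel is `H`. -/
theorem ker_permD4 (F : Type*) [Field F] :
    (permD4 F).ker = (chevD4.diagonalSubgroup F).subgroupOf (chevD4.monomialSubgroup F) := by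
  ext g
  rw [MonoidHom.mem_ker, Subgroup.mem_subgroupOf]
  exact permD4_eq_one_iff g

/-! ### Triality -/

/-- `n_α = n_{p₁} n_{p₃} n_{p₄}` -/
def nA (F : Type*) [Field F] : GL chevD4.Idx F := nG F 0 * nG F 2 * nG F 3
/-- `n_β = n_{p₂}` -/
def nB (F : Type*) [Field F] : GL chevD4.Idx F := nG F 1

theorem nA_def (F : Type*) [Field F] : nA F = nG F 0 * nG F 2 * nG F 3 := rfl
theorem nB_def (F : Type*) [Field F] : nB F = nG F 1 := rfl

theorem nA_mem (F : Type*) [Field F] : nA F ∈ chevD4.monomialSubgroup F :=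
  mul_mem (mul_mem (nG_mem 0) (nG_mem 2)) (nG_mem 3)

theorem nB_mem (F : Type*) [Field F] : nB F ∈ chevD4.monomialSubgroup F := nG_mem 1

/-- the reflection of the short simple relative root, on the 24 roots -/
def wA : Equiv.Perm (Fin 24) := reflF 0 * reflF 2 * reflF 3
/-- the reflection of the long simple relative root, on the 24 roots -/
def wB : Equiv.Perm (Fin 24) := reflF 1

theorem acts_nA (F : Type*) [Field F] : (d4rgd F).Acts (nA F) wA :=
  (((d4rgd F).acts_n 0).mul ((d4rgd F).acts_n 2)).mul ((d4rgd F).acts_n 3)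

theorem acts_nB (F : Type*) [Field F] : (d4rgd F).Acts (nB F) wB := (d4rgd F).acts_n 1

theorem permD4_nA (F : Type*) [Field F] : permD4 F ⟨nA F, nA_mem F⟩ = wA := permD4_eq (acts_nA F)
theorem permD4_nB (F : Type*) [Field F] : permD4 F ⟨nB F, nB_mem F⟩ = wB := permD4_eq (acts_nB F)

/-- table of triality on the roots -/
def rhoTab : List ℕ := [0, 1, 6, 2, 7, 10, 3, 8, 4, 9, 11, 5, 18, 12, 14, 19, 15, 20, 13, 16, 21, 17, 22, 23]
/-- table of the inverse of triality on the roots -/
def rhoInvTab : List ℕ := [0, 1, 3, 6, 8, 11, 2, 4, 7, 9, 5, 10, 13, 18, 14, 16, 19, 21, 12, 15, 17, 20, 22, 23]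

theorem rhoTab_lt : ∀ r ∈ List.range 24, D4Tab.nth 0 rhoTab r < 24 ∧ D4Tab.nth 0 rhoInvTab r < 24 ∧
    D4Tab.nth 0 rhoInvTab (D4Tab.nth 0 rhoTab r) = r ∧ D4Tab.nth 0 rhoTab (D4Tab.nth 0 rhoInvTab r) = r := by
  decide +kernel

/-- triality on the roots: `p₁ ↦ p₃ ↦ p₄ ↦ p₁` -/
def rho : Equiv.Perm (Fin 24) where
  toFun r := ⟨D4Tab.nth 0 rhoTab r.val, (rhoTab_lt r.val (List.mem_range.2 r.2)).1⟩
  invFun r := ⟨D4Tab.nth 0 rhoInvTab r.val, (rhoTab_lt r.val (List.mem_range.2 r.2)).2.1⟩
  left_inv r := Fin.ext (rhoTab_lt r.val (List.mem_range.2 r.2)).2.2.1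
  right_inv r := Fin.ext (rhoTab_lt r.val (List.mem_range.2 r.2)).2.2.2

theorem rho_eq : rho = symmD4a.σ := by
  ext r
  show D4Tab.nth 0 rhoTab r.val = tablesD4a.rho.getD r.val 0
  have h : ∀ r ∈ List.range 24, D4Tab.nth 0 rhoTab r = tablesD4a.rho.getD r 0 := by decide +kernel
  exact h r.val (List.mem_range.2 r.2)

theorem rho_pos : ∀ r : Fin 24, 12 ≤ (rho r).val ↔ 12 ≤ r.val := by decide +kernel
theorem rho_simple0 : rho (simpleF 0) = simpleF 2 := by decide +kernel
theorem rho_simple2 : rho (simpleF 2) = simpleF 3 := by decide +kernel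
theorem rho_simple3 : rho (simpleF 3) = simpleF 0 := by decide +kernel
theorem rho_simple1 : rho (simpleF 1) = simpleF 1 := by decide +kernel
theorem wA_comm : rho * wA = wA * rho := by
  ext r; revert r; decide +kernel
theorem wB_comm : rho * wB = wB * rho := by
  ext r; revert r; decide +kernel
theorem wA_sq : wA * wA = 1 := by
  ext r; revert r; decide +kernel
theorem wB_sq : wB * wB = 1 := by
  ext r; revert r; decide +kernel
theorem refl02 : reflF 0 (simpleF 2) = simpleF 2 := by decide +kernel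
theorem refl03 : reflF 0 (simpleF 3) = simpleF 3 := by decide +kernel
theorem refl23 : reflF 2 (simpleF 3) = simpleF 3 := by decide +kernel

/-- the group generated by `n_α`, `n_β` and `H` -/
def NT (F : Type*) [Field F] : Subgroup (GL chevD4.Idx F) :=
  Subgroup.closure {nA F, nB F} ⊔ chevD4.diagonalSubgroup F

theorem NT_def (F : Type*) [Field F] :
    NT F = Subgroup.closure {nA F, nB F} ⊔ chevD4.diagonalSubgroup F := rfl

theorem nA_mem_NT (F : Type*) [Field F] : nA F ∈ NT F :=
  Subgroup.mem_sup_left (Subgroup.subset_closure (by simp))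
theorem nB_mem_NT (F : Type*) [Field F] : nB F ∈ NT F :=
  Subgroup.mem_sup_left (Subgroup.subset_closure (by simp))

/-- An element of `N` commuting with triality on the roots lies in `⟨n_α, n_β⟩ H`. -/
theorem mem_NT_of_comm {g : chevD4.monomialSubgroup F} (h : rho * permD4 F g = permD4 F g * rho) :
    g.1 ∈ NT F := by
  suffices H : ∀ n : ℕ, ∀ g : GL chevD4.Idx F, ∀ w : Equiv.Perm (Fin 24), HasWord (d4rgd F) g n →
      (d4rgd F).Acts g w → rho * w = w * rho → g ∈ NT F by
    have hg : g.1 ∈ (d4rgd F).N := (d4rgd_N F).ge g.2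
    obtain ⟨n, hn⟩ := exists_hasWord (d4rgd F) hg
    exact H n g.1 _ hn (acts_permD4 g) h
  intro n
  induction n using Nat.strong_induction_on with
  | _ n ih =>
    intro g w hw ha hc
    have hrho : ∀ r, w (rho r) = rho (w r) := fun r => (congrArg (fun f => f r) hc).symm
    by_cases h1 : (d4rgd F).pos (w (simpleF 1))
    · by_cases h0 : (d4rgd F).pos (w (simpleF 0))
      · -- all simple roots are positive
        have hgH := mem_H_of_simple (d4rgd F) (X_injective F) (g := ⟨g, hw.mem_N⟩) (by
          have e : permHom (d4rgd F) (X_injective F) ⟨g, hw.mem_N⟩ = w := permHom_eq (X_injective F) ha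
          rw [e]
          intro i
          have h2 : (d4rgd F).pos (w (simpleF 2)) := by
            rw [← rho_simple0, hrho]; exact (rho_pos _).2 h0
          have h3 : (d4rgd F).pos (w (simpleF 3)) := by
            rw [← rho_simple2, hrho]; exact (rho_pos _).2 h2
          fin_cases i
          · exact h0
          · exact h1
          · exact h2
          · exact h3)
        exact Subgroup.mem_sup_right hgH
      · -- the outer nodes
        have h2 : ¬ (d4rgd F).pos (w (simpleF 2)) := by
          rw [← rho_simple0, hrho]; exact fun h => h0 ((rho_pos _).1 h)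
        have h3 : ¬ (d4rgd F).pos (w (simpleF 3)) := by
          rw [← rho_simple2, hrho]; exact fun h => h2 ((rho_pos _).1 h)
        obtain ⟨m0, e0, hw0⟩ := exchange (d4rgd F) hw ha (i := 0) (X_injective F) h0
        have ha0 := ha.mul ((d4rgd F).acts_n 0)
        have h2' : ¬ (d4rgd F).pos ((w * (d4rgd F).refl 0) (simpleF 2)) := by
          rw [Equiv.Perm.mul_apply, d4rgd_refl, refl02]; exact h2
        obtain ⟨m1, e1, hw1⟩ := exchange (d4rgd F) hw0 ha0 (i := 2) (X_injective F) h2'
        have ha1 := ha0.mul ((d4rgd F).acts_n 2)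
        have h3' : ¬ (d4rgd F).pos ((w * (d4rgd F).refl 0 * (d4rgd F).refl 2) (simpleF 3)) := by
          rw [Equiv.Perm.mul_apply, Equiv.Perm.mul_apply, d4rgd_refl, d4rgd_refl, refl23, refl03]; exact h3
        obtain ⟨m2, e2, hw2⟩ := exchange (d4rgd F) hw1 ha1 (i := 3) (X_injective F) h3'
        have ha2 := ha1.mul ((d4rgd F).acts_n 3)
        have hg' : g * nA F ∈ NT F := by
          refine ih m2 (by omega) (g * nA F) (w * wA) ?_ ?_ ?_
          · have : g * nA F = g * (d4rgd F).n 0 * (d4rgd F).n 2 * (d4rgd F).n 3 := by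
              rw [nA_def, d4rgd_n, d4rgd_n, d4rgd_n]
              show g * (nG F 0 * nG F 2 * nG F 3) = g * nG F 0 * nG F 2 * nG F 3
              group
            rw [this]; exact hw2
          · exact ha.mul (acts_nA F)
          · rw [← mul_assoc, hc, mul_assoc, wA_comm, mul_assoc]
        have := mul_mem hg' (inv_mem (nA_mem_NT F))
        rwa [mul_inv_cancel_right] at this
    · obtain ⟨m0, e0, hw0⟩ := exchange (d4rgd F) hw ha (i := 1) (X_injective F) h1
      have hg' : g * nB F ∈ NT F := by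
        refine ih m0 (by omega) (g * nB F) (w * wB) hw0 (ha.mul (acts_nB F)) ?_
        rw [← mul_assoc, hc, mul_assoc, wB_comm, mul_assoc]
      have := mul_mem hg' (inv_mem (nB_mem_NT F))
      rwa [mul_inv_cancel_right] at this

end Cfsg.Agent.ChevalleyStructure.D4Perm
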