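import Cfsg.Prelude.Def_ChevStructure
import Cfsg.Agent.ChevalleyStructure.D4Comm
import Cfsg.Agent.ChevalleyStructure.TwistedU

/-!
Type D₄, any field, unconditional: ordered product decompositions in the positive unipotent group `U`,
uniqueness of the coordinates for every closed order.
-/

set_option autoImplicit false

namespace Cfsg.Agent.ChevalleyStructure.D4Pos

open Cfsg.Lie
open Cfsg.Agent.ChevalleyStructure.WordCheck (code colX colSum xMat_entry code_inj code_lt colSum_eq_zero colSum_cons)
open Cfsg.Agent.ChevalleyStructure.D4CommTab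
open Cfsg.Agent.ChevalleyStructure.D4Comm
open Cfsg.Agent.ChevalleyStructure.TwistedU
open scoped commutatorElement

/-- Boolean form of `TwistedU.Good` for lists of positive roots of D₄ -/
def goodB : List ℕ → Bool
  | [] => true
  | r :: l => (decide (12 ≤ r) && decide (r < 24) && l.all (fun s => decide (12 ≤ s) && decide (s < 24) &&
      decide (s ≠ r) &&
      match cm r s with
      | none => true
      | some kc => l.contains kc.1)) && goodB l

section
variable {F : Type*} [Field F]

theorem good_of_goodB : ∀ (l : List ℕ), goodB l = true → Good (xG : ℕ → F → GL chevD4.Idx F) l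
  | [], _ => trivial
  | r :: l, h => by
    rw [goodB, Bool.and_eq_true, Bool.and_eq_true, Bool.and_eq_true, List.all_eq_true] at h
    obtain ⟨⟨⟨h1, h2⟩, h3⟩, h4⟩ := h
    refine ⟨?_, good_of_goodB l h4⟩
    intro s hs t u
    have h5 := h3 s hs
    rw [Bool.and_eq_true, Bool.and_eq_true, Bool.and_eq_true] at h5
    obtain ⟨⟨⟨h6, h7⟩, h8⟩, h9⟩ := h5
    rw [xG_comm (of_decide_eq_true h1) (of_decide_eq_true h2) (of_decide_eq_true h6) (of_decide_eq_true h7)
      (of_decide_eq_true h8)]
    unfold cval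
    rcases hc : cm r s with _ | kc
    · exact Subgroup.one_mem _
    · rw [hc] at h9
      have h10 : kc.1 ∈ l := by simpa using h9
      exact mem_rspan (xG : ℕ → F → GL chevD4.Idx F) (S := {k | k ∈ l}) h10 _

/-- codes of the columns considered for a list of roots: all `h_i`, and `e_s`, `s ∈ l` -/
def colCodes (l : List ℕ) : List ℕ := [0, 1, 2, 3] ++ l.map (4 + ·)

/-- the span of the `e_s`, `s ∈ l`, is stable under `X_s`, `s ∈ l`, and `x_s(t) h_i - h_i` lies in it -/
def supOK (l : List ℕ) : Bool :=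
  l.all fun s => decide (s < 24) && (colCodes l).all fun c =>
    match colX chevD4 s c with
    | [] => false
    | e :: rest => (decide (e.1 = c) && decide (e.2.1 = 1) && decide (e.2.2 = 0)) &&
        rest.all fun e => (l.map (4 + ·)).contains e.1

/-- the condition on matrices detected by `supOK`: outside the rows `e_s`, `s ∈ l`, the columns `h_i` and
`e_s`, `s ∈ l`, are those of the identity matrix -/
def Det (l : List ℕ) (M : Matrix chevD4.Idx chevD4.Idx F) : Prop :=
  ∀ i j : chevD4.Idx, code chevD4 j ∈ colCodes l → code chevD4 i ∉ l.map (4 + ·) →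
    M i j = if i = j then 1 else 0

theorem det_one (l : List ℕ) : Det l (1 : Matrix chevD4.Idx chevD4.Idx F) := by
  intro i j _ _
  rw [Matrix.one_apply]

theorem det_mul {l : List ℕ} {M N : Matrix chevD4.Idx chevD4.Idx F} (hM : Det l M) (hN : Det l N) :
    Det l (M * N) := by
  intro i j hj hi
  rw [Matrix.mul_apply]
  have key : ∀ k : chevD4.Idx, M i k * N k j = if k = j then (if i = j then N j j else 0) else
      (if i = k then 0 else 0) := by
    intro k
    by_cases hk : code chevD4 k ∈ l.map (4 + ·)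
    · have hk' : code chevD4 k ∈ colCodes l := by
        unfold colCodes
        exact List.mem_append_right _ hk
      have hik : i ≠ k := fun h => hi (h ▸ hk)
      rw [hM i k hk' hi, if_neg hik, zero_mul]
      by_cases hkj : k = j
      · subst hkj
        rw [if_pos rfl, if_neg hik]
      · rw [if_neg hkj, ite_self]
    · rw [hN k j hj hk]
      by_cases hkj : k = j
      · subst hkj
        rw [if_pos rfl, if_pos rfl, mul_one, hM i k hj hi, hN k k hj hk, if_pos rfl]
      · rw [if_neg hkj, mul_zero, if_neg hkj, ite_self]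
  rw [Finset.sum_congr rfl (fun k _ => key k)]
  by_cases hij : i = j
  · subst hij
    simp only [ite_self, Finset.sum_ite_eq', Finset.mem_univ, if_true]
    rw [hN i i hj hi, if_pos rfl]
  · simp [hij]

theorem det_x {l : List ℕ} (hl : supOK l = true) {s : ℕ} (hs : s ∈ l) (t : F) : Det l (chevD4.x F s t) := by
  intro i j hj hi
  have h1 := (List.all_eq_true.1 hl) s hs
  rw [Bool.and_eq_true, List.all_eq_true] at h1
  have hlt : s < 24 := of_decide_eq_true h1.1
  have h2 := h1.2 _ hj
  have hx : chevD4.x F s t = chevD4.xMat F ⟨s, hlt⟩ t := dif_pos hlt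
  rw [hx, xMat_entry]
  show colSum t (code chevD4 i) (colX chevD4 s (code chevD4 j)) = _
  generalize colX chevD4 s (code chevD4 j) = L at h2
  rcases L with _ | ⟨⟨a, z, n⟩, rest⟩
  · exact absurd h2 (by simp)
  · simp only [Bool.and_eq_true, decide_eq_true_eq, List.all_eq_true] at h2
    obtain ⟨⟨⟨rfl, rfl⟩, rfl⟩, h3⟩ := h2
    rw [colSum_cons, colSum_eq_zero t (code chevD4 i) rest (by
      intro e he h
      apply hi
      rw [← h]
      exact List.contains_iff_mem.1 (h3 e he)), add_zero]
    by_cases hij : i = j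
    · subst hij
      simp
    · rw [if_neg hij, if_neg]
      intro h
      exact hij (code_inj chevD4 h.symm)

theorem det_of_mem {l : List ℕ} (hl : supOK l = true) {g : GL chevD4.Idx F}
    (hg : g ∈ rspan (xG : ℕ → F → GL chevD4.Idx F) {k | k ∈ l}) :
    Det l (g : Matrix chevD4.Idx chevD4.Idx F) := by
  have key : Det l (g : Matrix chevD4.Idx chevD4.Idx F) ∧ Det l ((g⁻¹ : GL chevD4.Idx F) : Matrix chevD4.Idx chevD4.Idx F) := by
    refine Subgroup.closure_induction (p := fun (g : GL chevD4.Idx F) _ => Det l (g : Matrix chevD4.Idx chevD4.Idx F) ∧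
      Det l ((g⁻¹ : GL chevD4.Idx F) : Matrix chevD4.Idx chevD4.Idx F)) ?_ ?_ ?_ ?_ hg
    · rintro _ ⟨s, hs, t, rfl⟩
      refine ⟨det_x hl hs t, ?_⟩
      rw [← xG_neg]
      exact det_x hl hs (-t)
    · rw [inv_one]
      exact ⟨det_one l, det_one l⟩
    · rintro a b _ _ ⟨ha, ha'⟩ ⟨hb, hb'⟩
      rw [mul_inv_rev]
      exact ⟨det_mul ha hb, det_mul hb' ha'⟩
    · rintro a _ ⟨ha, ha'⟩
      rw [inv_inv]
      exact ⟨ha', ha⟩
  exact key.1

/-- the index of a column `h_i` with `A_{i,r} = ±1` -/
def oddCol (r : ℕ) : ℕ := ((List.range 4).find? fun i => (chevD4.cartan i r).natAbs = 1).getD 0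

theorem oddCol_spec : ∀ r ∈ List.range 24, oddCol r < 4 ∧ (chevD4.cartan (oddCol r) r).natAbs = 1 := by
  decide +kernel

theorem x_entry {r : ℕ} (hr : r < chevD4.nroots) (t : F) (i : Fin chevD4.rank) :
    chevD4.x F r t (Sum.inr ⟨r, hr⟩) (Sum.inl i) = - ((chevD4.cartan i r : ℤ) : F) * t := by
  have hx : chevD4.x F r t = chevD4.xMat F ⟨r, hr⟩ t := dif_pos hr
  rw [hx]
  show (if (⟨r, hr⟩ : Fin chevD4.nroots) = ⟨r, hr⟩ then - (((chevD4.cartanSR.getD i.val #[]).getD r 0 : ℤ) : F) * t else 0) = _
  rw [if_pos rfl]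
  rfl

/-- no non-trivial element of `X_r` lies in the group generated by the `X_s`, `s ∈ l`, if `l` is closed and
does not contain `r` -/
theorem eq_zero_of_mem {l : List ℕ} (hl : supOK l = true) {r : ℕ} (hr : r < 24) (hrl : r ∉ l) {t : F}
    (h : (xG r t : GL chevD4.Idx F) ∈ rspan (xG : ℕ → F → GL chevD4.Idx F) {k | k ∈ l}) : t = 0 := by
  have hd := det_of_mem hl h
  obtain ⟨h4, h5⟩ := oddCol_spec r (List.mem_range.2 hr)
  have hr' : r < chevD4.nroots := hr
  have h4' : oddCol r < chevD4.rank := h4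
  have h6 := hd (Sum.inr ⟨r, hr'⟩) (Sum.inl ⟨oddCol r, h4'⟩) (by
    show oddCol r ∈ colCodes l
    unfold colCodes
    apply List.mem_append_left
    have : ∀ k < 4, k ∈ [0, 1, 2, 3] := by decide
    exact this _ h4) (by
    show 4 + r ∉ _
    intro h'
    obtain ⟨a, ha, he⟩ := List.mem_map.1 h'
    have : a = r := by omega
    exact hrl (this ▸ ha))
  rw [coe_xG, x_entry] at h6
  rw [if_neg (by intro h; cases h)] at h6
  rcases Int.natAbs_eq_iff.1 h5 with h7 | h7
  · simp only at h6
    rw [h7] at h6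
    simpa using h6
  · simp only at h6
    rw [h7] at h6
    simpa using h6

/-- Boolean condition for uniqueness of the coordinates: all proper tails are closed -/
def uniqB : List ℕ → Bool
  | [] => true
  | r :: l => (decide (r < 24) && !(l.contains r) && supOK l) && uniqB l

theorem lprod_inj : ∀ (l : List ℕ), uniqB l = true → ∀ {t t' : ℕ → F},
    lprod (xG : ℕ → F → GL chevD4.Idx F) l t = lprod xG l t' → ∀ r ∈ l, t r = t' r
  | [], _, _, _, _, r, hr => by simp at hr
  | r :: l, h, t, t', he, s, hs => by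
    rw [uniqB, Bool.and_eq_true, Bool.and_eq_true, Bool.and_eq_true] at h
    obtain ⟨⟨⟨h1, h2⟩, h3⟩, h4⟩ := h
    rw [lprod_cons, lprod_cons] at he
    have hrl : r ∉ l := by simpa using h2
    have h5 : (xG r (-t' r + t r) : GL chevD4.Idx F) = lprod xG l t' * (lprod xG l t)⁻¹ := by
      rw [xG_add, xG_neg, eq_mul_inv_iff_mul_eq, mul_assoc, he]
      group
    have h6 : -t' r + t r = 0 := by
      apply eq_zero_of_mem h3 (of_decide_eq_true h1) hrl
      rw [h5]
      exact Subgroup.mul_mem _ (lprod_mem_rspan _ (fun _ h => h) _)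
        (Subgroup.inv_mem _ (lprod_mem_rspan _ (fun _ h => h) _))
    have h7 : t r = t' r := by
      rw [neg_add_eq_zero] at h6
      exact h6.symm
    rcases List.mem_cons.1 hs with rfl | hs'
    · exact h7
    · rw [h7] at he
      exact lprod_inj l h4 (mul_left_cancel he) s hs'

/-- the order `p₂ | p₁ p₃ p₄ | …` adapted to triality, `p₂` first -/
def ordA : List ℕ := [14, 18, 13, 12, 19, 16, 15, 21, 17, 20, 22, 23]

/-- the order `p₁ p₃ p₄ | p₂ | …` adapted to triality, `p₂` second -/
def ordB : List ℕ := [18, 13, 12, 14, 19, 16, 15, 21, 17, 20, 22, 23]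

theorem goodB_ordA : goodB ordA = true := by decide +kernel
theorem goodB_ordB : goodB ordB = true := by decide +kernel
theorem uniqB_ordA : uniqB ordA = true := by decide +kernel
theorem uniqB_ordB : uniqB ordB = true := by decide +kernel

theorem isPosRoot_iff (r : ℕ) : chevD4.IsPosRoot r ↔ 12 ≤ r ∧ r < 24 := by
  constructor
  · intro h
    have h1 : r < 24 := h.1
    have key : ∀ r ∈ List.range 24, chevD4.IsPosRoot r → 12 ≤ r := by decide +kernel
    exact ⟨key r (List.mem_range.2 h1) h, h1⟩
  · rintro ⟨h1, h2⟩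
    have key : ∀ r ∈ List.range 24, 12 ≤ r → chevD4.IsPosRoot r := by decide +kernel
    exact key r (List.mem_range.2 h2) h1

theorem mem_ordA_iff (r : ℕ) : r ∈ ordA ↔ chevD4.IsPosRoot r := by
  rw [isPosRoot_iff]
  unfold ordA
  simp only [List.mem_cons, List.not_mem_nil, or_false]
  omega

theorem mem_ordB_iff (r : ℕ) : r ∈ ordB ↔ chevD4.IsPosRoot r := by
  rw [isPosRoot_iff]
  unfold ordB
  simp only [List.mem_cons, List.not_mem_nil, or_false]
  omega

theorem posUnipotent_eq_rspan (l : List ℕ) (hl : ∀ r, r ∈ l ↔ chevD4.IsPosRoot r) :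
    chevD4.posUnipotent F = rspan (xG : ℕ → F → GL chevD4.Idx F) {k | k ∈ l} := by
  unfold ChevalleyDatum.posUnipotent rspan
  congr 1
  ext g
  constructor
  · rintro ⟨r, t, hr, hg⟩
    exact ⟨r, (hl r).2 hr, t, (eq_xG_iff g r t).1 hg⟩
  · rintro ⟨r, hr, t, hg⟩
    exact ⟨r, t, (hl r).1 hr, (eq_xG_iff g r t).2 hg⟩

theorem exists_lprod_of_mem (l : List ℕ) (hl : ∀ r, r ∈ l ↔ chevD4.IsPosRoot r) (hnd : l.Nodup)
    (hg : goodB l = true) {g : GL chevD4.Idx F} (h : g ∈ chevD4.posUnipotent F) :
    ∃ t, g = lprod (xG : ℕ → F → GL chevD4.Idx F) l t := by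
  rw [posUnipotent_eq_rspan l hl] at h
  exact exists_lprod xG_add hnd (good_of_goodB l hg) h

end

end Cfsg.Agent.ChevalleyStructure.D4Pos
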