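import Mathlib
import Cfsg.Prelude.Def_LieExceptional
/-!
Abstract root group data in a group `Γ` and the (B,N)-pair they give.

`RGD Γ ι Φ` records: a set `Φ` of (indices of) roots with positivity and negation, simple roots
indexed by `ι`, the simple reflections as permutations of `Φ`, root subgroups `X r ≤ Γ`, a subgroup `H`
normalising all of them and elements `n i` realising the simple reflections, with the rank one
decomposition and the normality of the complement of a simple root in `U`.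
-/

set_option autoImplicit false

namespace Cfsg.Agent.ChevalleyStructure.RootData

open scoped Pointwise

/-- Root group data in a group `Γ`. -/
structure RGD (Γ : Type*) [Group Γ] (ι Φ : Type*) where
  /-- positive roots -/
  pos : Φ → Prop
  /-- negation of roots -/
  neg : Φ → Φ
  /-- simple roots -/
  simple : ι → Φ
  /-- simple reflections as permutations of the roots -/
  refl : ι → Equiv.Perm Φ
  /-- root subgroups -/
  X : Φ → Subgroup Γ
  /-- the torus -/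
  H : Subgroup Γ
  /-- representatives of the simple reflections -/
  n : ι → Γ
  simple_inj : Function.Injective simple
  pos_simple : ∀ i, pos (simple i)
  pos_neg : ∀ r, pos (neg r) ↔ ¬ pos r
  refl_refl : ∀ i r, refl i (refl i r) = r
  refl_simple : ∀ i, refl i (simple i) = neg (simple i)
  refl_neg : ∀ i r, refl i (neg r) = neg (refl i r)
  pos_refl : ∀ i r, pos r → r ≠ simple i → pos (refl i r)
  H_conj : ∀ h ∈ H, ∀ r, ∀ x ∈ X r, h * x * h⁻¹ ∈ X r
  n_conj : ∀ i r, ∀ x ∈ X r, n i * x * (n i)⁻¹ ∈ X (refl i r)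
  n_conj_H : ∀ i, ∀ h ∈ H, n i * h * (n i)⁻¹ ∈ H
  n_sq : ∀ i, n i * n i ∈ H
  n_mem : ∀ i, n i ∈ X (simple i) ⊔ X (neg (simple i)) ⊔ H
  rank_one : ∀ i, ∀ x ∈ X (neg (simple i)),
    x = 1 ∨ ∃ y ∈ X (simple i), ∃ h ∈ H, ∃ z ∈ X (simple i), x = y * n i * h * z
  U_conj : ∀ i, ∀ x ∈ X (simple i), ∀ r, pos r → r ≠ simple i → ∀ y ∈ X r,
    x * y * x⁻¹ ∈ Subgroup.closure {g : Γ | ∃ r, pos r ∧ r ≠ simple i ∧ g ∈ X r}
  neg_not_le : ∀ r, ¬ pos r → ¬ X r ≤ Subgroup.closure {g : Γ | ∃ r, pos r ∧ g ∈ X r} ⊔ H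

variable {Γ : Type*} [Group Γ] {ι Φ : Type*}

namespace RGD

variable (R : RGD Γ ι Φ)

/-- The subgroup generated by the positive root subgroups. -/
def U : Subgroup Γ := Subgroup.closure {g : Γ | ∃ r, R.pos r ∧ g ∈ R.X r}

/-- The subgroup generated by the positive root subgroups other than the one of a simple root. -/
def Ui (i : ι) : Subgroup Γ := Subgroup.closure {g : Γ | ∃ r, R.pos r ∧ r ≠ R.simple i ∧ g ∈ R.X r}

/-- `B = U H`. -/
def B : Subgroup Γ := R.U ⊔ R.H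

/-- `N`, generated by `H` and the `n i`. -/
def N : Subgroup Γ := R.H ⊔ Subgroup.closure (Set.range R.n)

/-- The whole group, generated by `B` and `N`. -/
def G : Subgroup Γ := R.B ⊔ R.N

theorem U_def : R.U = Subgroup.closure {g : Γ | ∃ r, R.pos r ∧ g ∈ R.X r} := rfl
theorem Ui_def (i : ι) :
    R.Ui i = Subgroup.closure {g : Γ | ∃ r, R.pos r ∧ r ≠ R.simple i ∧ g ∈ R.X r} := rfl
theorem B_def : R.B = R.U ⊔ R.H := rfl
theorem N_def : R.N = R.H ⊔ Subgroup.closure (Set.range R.n) := rfl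
theorem G_def : R.G = R.B ⊔ R.N := rfl

theorem X_le_U {r : Φ} (hr : R.pos r) : R.X r ≤ R.U :=
  fun _ hx => Subgroup.subset_closure ⟨r, hr, hx⟩

theorem X_le_B {r : Φ} (hr : R.pos r) : R.X r ≤ R.B := (R.X_le_U hr).trans le_sup_left

theorem X_le_Ui {i : ι} {r : Φ} (hr : R.pos r) (hri : r ≠ R.simple i) : R.X r ≤ R.Ui i :=
  fun _ hx => Subgroup.subset_closure ⟨r, hr, hri, hx⟩

theorem Ui_le_U (i : ι) : R.Ui i ≤ R.U :=
  Subgroup.closure_mono fun _ ⟨r, h1, _, h3⟩ => ⟨r, h1, h3⟩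

theorem U_le_B : R.U ≤ R.B := le_sup_left
theorem H_le_B : R.H ≤ R.B := le_sup_right
theorem H_le_N : R.H ≤ R.N := le_sup_left
theorem B_le_G : R.B ≤ R.G := le_sup_left
theorem N_le_G : R.N ≤ R.G := le_sup_right
theorem n_mem_N (i : ι) : R.n i ∈ R.N :=
  (le_sup_right : Subgroup.closure (Set.range R.n) ≤ R.N) (Subgroup.subset_closure ⟨i, rfl⟩)
theorem Ui_le_B (i : ι) : R.Ui i ≤ R.B := (R.Ui_le_U i).trans R.U_le_B

theorem not_X_le_B {r : Φ} (hr : ¬ R.pos r) : ¬ R.X r ≤ R.B := R.neg_not_le r hr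

/-! ### Elements of `N` acting on roots -/

/-- `g` normalises `H` and permutes the root subgroups through `w`. -/
def Acts (g : Γ) (w : Equiv.Perm Φ) : Prop :=
  (∀ r, ∀ x, x ∈ R.X r ↔ g * x * g⁻¹ ∈ R.X (w r)) ∧ (∀ h, h ∈ R.H ↔ g * h * g⁻¹ ∈ R.H)

theorem acts_one : R.Acts 1 1 := by
  refine ⟨fun r x => by simp, fun h => by simp⟩

variable {R}

theorem Acts.mul {g g' : Γ} {w w' : Equiv.Perm Φ} (h : R.Acts g w) (h' : R.Acts g' w') :
    R.Acts (g * g') (w * w') := by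
  refine ⟨fun r x => ?_, fun y => ?_⟩
  · rw [h'.1 r x, h.1 (w' r)]
    simp [mul_assoc]
  · rw [h'.2 y, h.2]
    simp [mul_assoc]

theorem Acts.inv {g : Γ} {w : Equiv.Perm Φ} (h : R.Acts g w) : R.Acts g⁻¹ w⁻¹ := by
  refine ⟨fun r x => ?_, fun y => ?_⟩
  · rw [h.1 (w⁻¹ r)]
    simp [mul_assoc]
  · rw [h.2 (g⁻¹ * y * g⁻¹⁻¹)]
    simp [mul_assoc]

variable (R)

theorem acts_of_mem_H {h : Γ} (hh : h ∈ R.H) : R.Acts h 1 := by
  refine ⟨fun r x => ⟨fun hx => R.H_conj h hh r x hx, fun hx => ?_⟩, fun y => ⟨fun hy => ?_, fun hy => ?_⟩⟩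
  · have := R.H_conj h⁻¹ (inv_mem hh) r _ hx
    simpa [mul_assoc] using this
  · exact mul_mem (mul_mem hh hy) (inv_mem hh)
  · have := mul_mem (mul_mem (inv_mem hh) hy) hh
    simpa [mul_assoc] using this

theorem acts_n (i : ι) : R.Acts (R.n i) (R.refl i) := by
  have hsq := R.n_sq i
  refine ⟨fun r x => ⟨fun hx => R.n_conj i r x hx, fun hx => ?_⟩,
    fun y => ⟨fun hy => R.n_conj_H i y hy, fun hy => ?_⟩⟩
  · have h1 := R.n_conj i _ _ hx
    rw [R.refl_refl] at h1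
    have h2 := ((R.acts_of_mem_H hsq).1 r x).2
    apply h2
    simpa [mul_assoc] using h1
  · have h1 := R.n_conj_H i _ hy
    have h2 := ((R.acts_of_mem_H hsq).2 y).2
    apply h2
    simpa [mul_assoc] using h1

/-- The product of the `n i` along a list. -/
def nw (l : List ι) : Γ := (l.map R.n).prod

/-- The product of the simple reflections along a list. -/
def sw (l : List ι) : Equiv.Perm Φ := (l.map R.refl).prod

@[simp] theorem nw_nil : R.nw [] = 1 := rfl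
@[simp] theorem sw_nil : R.sw [] = 1 := rfl
theorem nw_cons (i : ι) (l : List ι) : R.nw (i :: l) = R.n i * R.nw l := by simp [nw]
theorem sw_cons (i : ι) (l : List ι) : R.sw (i :: l) = R.refl i * R.sw l := by simp [sw]
theorem nw_append (l l' : List ι) : R.nw (l ++ l') = R.nw l * R.nw l' := by simp [nw]
theorem sw_append (l l' : List ι) : R.sw (l ++ l') = R.sw l * R.sw l' := by simp [sw]

theorem acts_nw (l : List ι) : R.Acts (R.nw l) (R.sw l) := by
  induction l with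
  | nil => exact R.acts_one
  | cons i l ih => rw [R.nw_cons, R.sw_cons]; exact (R.acts_n i).mul ih

theorem nw_mem_N (l : List ι) : R.nw l ∈ R.N := by
  induction l with
  | nil => exact one_mem _
  | cons i l ih => rw [R.nw_cons]; exact mul_mem (R.n_mem_N i) ih

theorem sw_neg (l : List ι) (r : Φ) : R.sw l (R.neg r) = R.neg (R.sw l r) := by
  induction l with
  | nil => rfl
  | cons i l ih => rw [R.sw_cons, Equiv.Perm.mul_apply, Equiv.Perm.mul_apply, ih, R.refl_neg]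

/-- Every element of `N` is a product of `n i`'s times an element of `H`. -/
theorem exists_nw_of_mem_N {g : Γ} (hg : g ∈ R.N) : ∃ l : List ι, ∃ h ∈ R.H, g = R.nw l * h := by
  rw [N_def, ← Subgroup.closure_eq R.H, ← Subgroup.closure_union] at hg
  refine Subgroup.closure_induction_left (p := fun g _ => ∃ l : List ι, ∃ h ∈ R.H, g = R.nw l * h)
    ⟨[], 1, one_mem _, by simp⟩ ?_ ?_ hg
  · rintro x (hx | ⟨i, rfl⟩) y _ ⟨l, h, hh, rfl⟩
    · refine ⟨l, ((R.nw l)⁻¹ * x * R.nw l) * h, mul_mem ?_ hh, by group⟩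
      have := ((R.acts_nw l).inv.2 x).1 hx
      simpa using this
    · exact ⟨i :: l, h, hh, by rw [R.nw_cons, mul_assoc]⟩
  · rintro x (hx | ⟨i, rfl⟩) y _ ⟨l, h, hh, rfl⟩
    · refine ⟨l, ((R.nw l)⁻¹ * x⁻¹ * R.nw l) * h, mul_mem ?_ hh, by group⟩
      have := ((R.acts_nw l).inv.2 x⁻¹).1 (inv_mem hx)
      simpa using this
    · have h1 : (R.nw (i :: l))⁻¹ * (R.n i * R.n i)⁻¹ * R.nw (i :: l) ∈ R.H := by
        have := ((R.acts_nw (i :: l)).inv.2 _).1 (inv_mem (R.n_sq i))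
        simpa using this
      refine ⟨i :: l, _, mul_mem h1 hh, ?_⟩
      rw [R.nw_cons]
      group

theorem acts_of_mem_N {g : Γ} (hg : g ∈ R.N) : ∃ l : List ι, R.Acts g (R.sw l) := by
  obtain ⟨l, h, hh, rfl⟩ := R.exists_nw_of_mem_N hg
  refine ⟨l, ?_⟩
  have := (R.acts_nw l).mul (R.acts_of_mem_H hh)
  simpa using this

theorem H_normal_N {g : Γ} (hg : g ∈ R.N) {h : Γ} (hh : h ∈ R.H) : g * h * g⁻¹ ∈ R.H := by
  obtain ⟨l, hl⟩ := R.acts_of_mem_N hg
  exact (hl.2 h).1 hh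

/-- If `g` acts through `w` and conjugates a positive root subgroup into `B` then its image is positive. -/
theorem pos_of_conj_le {g : Γ} {w : Equiv.Perm Φ} (h : R.Acts g w) {r : Φ}
    (hr : ∀ x ∈ R.X r, g * x * g⁻¹ ∈ R.B) : R.pos (w r) := by
  by_contra hw
  refine R.not_X_le_B hw fun y hy => ?_
  have h1 : g⁻¹ * y * g ∈ R.X r := by
    rw [h.1 r]
    simpa [mul_assoc] using hy
  have h2 := hr _ h1
  simpa [mul_assoc] using h2

theorem X_neg_simple_not_le (i : ι) : ¬ R.X (R.neg (R.simple i)) ≤ R.B :=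
  R.not_X_le_B (by rw [R.pos_neg, not_not]; exact R.pos_simple i)

/-! ### The rank one subgroups -/

/-- The elements `x h` and `x n_i h y` (`x, y ∈ X_i`, `h ∈ H`). -/
def rankOneSet (i : ι) : Set Γ :=
  {g | (∃ x ∈ R.X (R.simple i), ∃ h ∈ R.H, g = x * h) ∨
    ∃ x ∈ R.X (R.simple i), ∃ h ∈ R.H, ∃ y ∈ R.X (R.simple i), g = x * R.n i * h * y}

theorem H_conj' {h : Γ} (hh : h ∈ R.H) {r : Φ} {x : Γ} (hx : x ∈ R.X r) : h⁻¹ * x * h ∈ R.X r := by
  have := R.H_conj h⁻¹ (inv_mem hh) r x hx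
  simpa using this

theorem n_conj' (i : ι) {r : Φ} {x : Γ} (hx : x ∈ R.X r) : (R.n i)⁻¹ * x * R.n i ∈ R.X (R.refl i r) := by
  have h1 := ((R.acts_n i).inv.1 r x).1 hx
  have h2 : (R.refl i)⁻¹ r = R.refl i r := by
    rw [Equiv.Perm.inv_eq_iff_eq, R.refl_refl]
  rw [h2] at h1
  simpa using h1

theorem n_conj_H' (i : ι) {h : Γ} (hh : h ∈ R.H) : (R.n i)⁻¹ * h * R.n i ∈ R.H := by
  have h1 := ((R.acts_n i).inv.2 h).1 hh
  simpa using h1

theorem refl_neg_simple (i : ι) : R.refl i (R.neg (R.simple i)) = R.simple i := by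
  rw [← R.refl_simple, R.refl_refl]

theorem mul_mem_rankOneSet {i : ι} {g s : Γ} (hg : g ∈ R.X (R.simple i) ∨ g ∈ R.H ∨ g = R.n i)
    (hs : s ∈ R.rankOneSet i) : g * s ∈ R.rankOneSet i := by
  rcases hg with hg | hg | rfl
  · rcases hs with ⟨x, hx, h, hh, rfl⟩ | ⟨x, hx, h, hh, y, hy, rfl⟩
    · exact Or.inl ⟨g * x, mul_mem hg hx, h, hh, by group⟩
    · exact Or.inr ⟨g * x, mul_mem hg hx, h, hh, y, hy, by group⟩
  · rcases hs with ⟨x, hx, h, hh, rfl⟩ | ⟨x, hx, h, hh, y, hy, rfl⟩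
    · exact Or.inl ⟨g * x * g⁻¹, R.H_conj g hg _ x hx, g * h, mul_mem hg hh, by group⟩
    · exact Or.inr ⟨g * x * g⁻¹, R.H_conj g hg _ x hx, ((R.n i)⁻¹ * g * R.n i) * h,
        mul_mem (R.n_conj_H' i hg) hh, y, hy, by group⟩
  · rcases hs with ⟨x, hx, h, hh, rfl⟩ | ⟨x, hx, h, hh, y, hy, rfl⟩
    · exact Or.inr ⟨1, one_mem _, h, hh, h⁻¹ * x * h, R.H_conj' hh hx, by group⟩
    · have hz : R.n i * x * (R.n i)⁻¹ ∈ R.X (R.neg (R.simple i)) := by
        have := R.n_conj i _ x hx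
        rwa [R.refl_simple] at this
      have e : R.n i * (x * R.n i * h * y) = (R.n i * x * (R.n i)⁻¹) * ((R.n i * R.n i) * h) * y := by
        group
      have hsq : (R.n i * R.n i) * h ∈ R.H := mul_mem (R.n_sq i) hh
      rcases R.rank_one i _ hz with h1 | ⟨a, ha, k, hk, b, hb, h1⟩
      · rw [e, h1]
        refine Or.inl ⟨((R.n i * R.n i) * h) * y * ((R.n i * R.n i) * h)⁻¹, R.H_conj _ hsq _ y hy,
          (R.n i * R.n i) * h, hsq, by group⟩
      · rw [e, h1]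
        refine Or.inr ⟨a, ha, k * ((R.n i * R.n i) * h), mul_mem hk hsq,
          ((R.n i * R.n i) * h)⁻¹ * b * ((R.n i * R.n i) * h) * y, mul_mem (R.H_conj' hsq hb) hy, by group⟩

theorem mem_rankOneSet {i : ι} {g : Γ}
    (hg : g ∈ R.X (R.simple i) ⊔ R.X (R.neg (R.simple i)) ⊔ R.H) : g ∈ R.rankOneSet i := by
  have key : ∀ g : Γ, g ∈ R.X (R.neg (R.simple i)) → ∀ s ∈ R.rankOneSet i, g * s ∈ R.rankOneSet i := by
    intro g hg s hs
    rcases R.rank_one i g hg with rfl | ⟨a, ha, k, hk, b, hb, rfl⟩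
    · simpa using hs
    · have e : a * R.n i * k * b * s = a * (R.n i * (k * (b * s))) := by group
      rw [e]
      exact R.mul_mem_rankOneSet (Or.inl ha) (R.mul_mem_rankOneSet (Or.inr (Or.inr rfl))
        (R.mul_mem_rankOneSet (Or.inr (Or.inl hk)) (R.mul_mem_rankOneSet (Or.inl hb) hs)))
  rw [← Subgroup.closure_eq (R.X (R.simple i)), ← Subgroup.closure_eq (R.X (R.neg (R.simple i))),
    ← Subgroup.closure_eq R.H, ← Subgroup.closure_union, ← Subgroup.closure_union] at hg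
  refine Subgroup.closure_induction_left (p := fun g _ => g ∈ R.rankOneSet i)
    (Or.inl ⟨1, one_mem _, 1, one_mem _, by simp⟩) ?_ ?_ hg
  · rintro x ((hx | hx) | hx) y _ hy
    · exact R.mul_mem_rankOneSet (Or.inl hx) hy
    · exact key x hx y hy
    · exact R.mul_mem_rankOneSet (Or.inr (Or.inl hx)) hy
  · rintro x ((hx | hx) | hx) y _ hy
    · exact R.mul_mem_rankOneSet (Or.inl (inv_mem hx)) hy
    · exact key _ (inv_mem hx) y hy
    · exact R.mul_mem_rankOneSet (Or.inr (Or.inl (inv_mem hx))) hy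

/-- An element of `X_i` normalising `X_{-i}` is trivial. -/
theorem eq_one_of_conj {i : ι} {x : Γ} (hx : x ∈ R.X (R.simple i))
    (h : ∀ y, y ∈ R.X (R.neg (R.simple i)) ↔ x * y * x⁻¹ ∈ R.X (R.neg (R.simple i))) : x = 1 := by
  have hz : (R.n i)⁻¹ * x * R.n i ∈ R.X (R.neg (R.simple i)) := by
    have := R.n_conj' i hx
    rwa [R.refl_simple] at this
  rcases R.rank_one i _ hz with h1 | ⟨a, ha, k, hk, b, hb, h1⟩
  · have : x = R.n i * ((R.n i)⁻¹ * x * R.n i) * (R.n i)⁻¹ := by group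
    rw [this, h1]; group
  · exfalso
    refine R.X_neg_simple_not_le i fun y hy => ?_
    -- write `y = n (k b z (k b)⁻¹) n⁻¹` and so on
    have h2 : (R.n i)⁻¹ * y * R.n i ∈ R.X (R.simple i) := by
      have := R.n_conj' i hy
      rwa [R.refl_neg_simple] at this
    -- `z := (k b)⁻¹ (n⁻¹ y n) (k b) ∈ X_i`
    have h3 : b⁻¹ * (k⁻¹ * ((R.n i)⁻¹ * y * R.n i) * k) * b ∈ R.X (R.simple i) :=
      mul_mem (mul_mem (inv_mem hb) (R.H_conj' hk h2)) hb
    -- conjugating by `n⁻¹ x n` keeps `X_i`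
    have h4 : ∀ z, z ∈ R.X (R.simple i) →
        ((R.n i)⁻¹ * x * R.n i) * z * ((R.n i)⁻¹ * x * R.n i)⁻¹ ∈ R.X (R.simple i) := by
      intro z hz
      have h5 : R.n i * z * (R.n i)⁻¹ ∈ R.X (R.neg (R.simple i)) := by
        have := R.n_conj i _ z hz
        rwa [R.refl_simple] at this
      have h6 := (h _).1 h5
      have h7 := R.n_conj' i h6
      rw [R.refl_neg_simple] at h7
      have e : ((R.n i)⁻¹ * x * R.n i) * z * ((R.n i)⁻¹ * x * R.n i)⁻¹ =
        (R.n i)⁻¹ * (x * (R.n i * z * (R.n i)⁻¹) * x⁻¹) * R.n i := by group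
      rw [e]; exact h7
    have h5 := h4 _ h3
    rw [h1] at h5
    have e : a * R.n i * k * b * (b⁻¹ * (k⁻¹ * ((R.n i)⁻¹ * y * R.n i) * k) * b) * (a * R.n i * k * b)⁻¹ =
      a * y * a⁻¹ := by group
    rw [e] at h5
    have h6 : a⁻¹ * (a * y * a⁻¹) * a ∈ R.X (R.simple i) := mul_mem (mul_mem (inv_mem ha) h5) ha
    have e2 : a⁻¹ * (a * y * a⁻¹) * a = y := by group
    rw [e2] at h6
    exact R.X_le_B (R.pos_simple i) h6

/-- An element of the rank one subgroup interchanging `X_i` and `X_{-i}` is in `n_i H`. -/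
theorem mem_n_mul_H {i : ι} {g : Γ} (hg : g ∈ R.X (R.simple i) ⊔ R.X (R.neg (R.simple i)) ⊔ R.H)
    (h1 : ∀ x, x ∈ R.X (R.simple i) ↔ g * x * g⁻¹ ∈ R.X (R.neg (R.simple i)))
    (h2 : ∀ x, x ∈ R.X (R.neg (R.simple i)) ↔ g * x * g⁻¹ ∈ R.X (R.simple i)) :
    ∃ h ∈ R.H, g = R.n i * h := by
  rcases R.mem_rankOneSet hg with ⟨x, hx, h, hh, rfl⟩ | ⟨x, hx, h, hh, y, hy, rfl⟩
  · exfalso
    refine R.X_neg_simple_not_le i fun z hz => ?_
    have h3 : x⁻¹ * (x * h * z * (x * h)⁻¹) * x ∈ R.X (R.simple i) :=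
      mul_mem (mul_mem (inv_mem hx) ((h2 z).1 hz)) hx
    have h4 := R.H_conj' hh h3
    have e : h⁻¹ * (x⁻¹ * (x * h * z * (x * h)⁻¹) * x) * h = z := by group
    rw [e] at h4
    exact R.X_le_B (R.pos_simple i) h4
  · have nconj : ∀ z, z ∈ R.X (R.simple i) ↔ R.n i * z * (R.n i)⁻¹ ∈ R.X (R.neg (R.simple i)) := by
      intro z
      have := (R.acts_n i).1 (R.simple i) z
      rwa [R.refl_simple] at this
    have nconj' : ∀ z, z ∈ R.X (R.neg (R.simple i)) ↔ R.n i * z * (R.n i)⁻¹ ∈ R.X (R.simple i) := by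
      intro z
      have := (R.acts_n i).1 (R.neg (R.simple i)) z
      rwa [R.refl_neg_simple] at this
    have hconj : ∀ r z, z ∈ R.X r ↔ h * z * h⁻¹ ∈ R.X r := fun r z => (R.acts_of_mem_H hh).1 r z
    have conjself : ∀ y ∈ R.X (R.simple i), ∀ z, z ∈ R.X (R.simple i) ↔ y * z * y⁻¹ ∈ R.X (R.simple i) := by
      intro y hy z
      refine ⟨fun hz => mul_mem (mul_mem hy hz) (inv_mem hy), fun hz => ?_⟩
      have := mul_mem (mul_mem (inv_mem hy) hz) hy
      have e : y⁻¹ * (y * z * y⁻¹) * y = z := by group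
      rwa [e] at this
    have hx1 : x = 1 := by
      refine R.eq_one_of_conj hx fun z => ?_
      -- z ∈ X_{-i} ↔ y⁻¹ h⁻¹ n⁻¹ z n h y ∈ X_i ↔ ...
      have a1 : z ∈ R.X (R.neg (R.simple i)) ↔ y⁻¹ * (h⁻¹ * ((R.n i)⁻¹ * z * R.n i) * h) * y ∈ R.X (R.simple i) := by
        rw [conjself y hy (y⁻¹ * (h⁻¹ * ((R.n i)⁻¹ * z * R.n i) * h) * y), hconj (R.simple i),
          nconj (h * (y * (y⁻¹ * (h⁻¹ * ((R.n i)⁻¹ * z * R.n i) * h) * y) * y⁻¹) * h⁻¹)]
        have e : R.n i * (h * (y * (y⁻¹ * (h⁻¹ * ((R.n i)⁻¹ * z * R.n i) * h) * y) * y⁻¹) * h⁻¹) * (R.n i)⁻¹ = z := by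
          group
        rw [e]
      rw [a1, h1]
      have e : x * R.n i * h * y * (y⁻¹ * (h⁻¹ * ((R.n i)⁻¹ * z * R.n i) * h) * y) * (x * R.n i * h * y)⁻¹ =
        x * z * x⁻¹ := by group
      rw [e]
    subst hx1
    have hy1 : y = 1 := by
      refine R.eq_one_of_conj hy fun z => ?_
      rw [h2 z]
      have e : 1 * R.n i * h * y * z * (1 * R.n i * h * y)⁻¹ =
        R.n i * (h * (y * z * y⁻¹) * h⁻¹) * (R.n i)⁻¹ := by group
      rw [e, ← nconj', ← hconj]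
    exact ⟨h, hh, by rw [hy1]; group⟩

/-- If the product of reflections along `l` sends the simple root `i` to the simple root `j`, then
conjugation by `nw l` sends `n i` to `n j` modulo `H`. -/
theorem nw_mul_n {l : List ι} {i j : ι} (hl : R.sw l (R.simple i) = R.simple j) :
    ∃ h ∈ R.H, R.nw l * R.n i = R.n j * R.nw l * h := by
  have ha := R.acts_nw l
  have haneg : R.sw l (R.neg (R.simple i)) = R.neg (R.simple j) := by rw [R.sw_neg, hl]
  have c1 : ∀ x, x ∈ R.X (R.simple i) ↔ R.nw l * x * (R.nw l)⁻¹ ∈ R.X (R.simple j) := by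
    intro x; have := ha.1 (R.simple i) x; rwa [hl] at this
  have c2 : ∀ x, x ∈ R.X (R.neg (R.simple i)) ↔ R.nw l * x * (R.nw l)⁻¹ ∈ R.X (R.neg (R.simple j)) := by
    intro x; have := ha.1 (R.neg (R.simple i)) x; rwa [haneg] at this
  have hmem : R.nw l * R.n i * (R.nw l)⁻¹ ∈
      R.X (R.simple j) ⊔ R.X (R.neg (R.simple j)) ⊔ R.H := by
    have h1 : R.X (R.simple i) ⊔ R.X (R.neg (R.simple i)) ⊔ R.H ≤
        (R.X (R.simple j) ⊔ R.X (R.neg (R.simple j)) ⊔ R.H).comap (MulAut.conj (R.nw l)).toMonoidHom := by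
      refine sup_le (sup_le ?_ ?_) ?_
      · intro x hx
        exact (le_sup_left.trans le_sup_left : R.X (R.simple j) ≤ _) ((c1 x).1 hx)
      · intro x hx
        exact (le_sup_right.trans le_sup_left : R.X (R.neg (R.simple j)) ≤ _) ((c2 x).1 hx)
      · intro x hx
        exact (le_sup_right : R.H ≤ _) ((ha.2 x).1 hx)
    exact h1 (R.n_mem i)
  have nci : ∀ z, z ∈ R.X (R.simple i) ↔ R.n i * z * (R.n i)⁻¹ ∈ R.X (R.neg (R.simple i)) := by
    intro z
    have := (R.acts_n i).1 (R.simple i) z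
    rwa [R.refl_simple] at this
  have nci' : ∀ z, z ∈ R.X (R.neg (R.simple i)) ↔ R.n i * z * (R.n i)⁻¹ ∈ R.X (R.simple i) := by
    intro z
    have := (R.acts_n i).1 (R.neg (R.simple i)) z
    rwa [R.refl_neg_simple] at this
  obtain ⟨h, hh, he⟩ := R.mem_n_mul_H (i := j) hmem
    (fun x => by
      have e1 : R.nw l * ((R.nw l)⁻¹ * x * R.nw l) * (R.nw l)⁻¹ = x := by group
      have e2 : R.nw l * (R.n i * ((R.nw l)⁻¹ * x * R.nw l) * (R.n i)⁻¹) * (R.nw l)⁻¹ =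
        R.nw l * R.n i * (R.nw l)⁻¹ * x * (R.nw l * R.n i * (R.nw l)⁻¹)⁻¹ := by group
      have := c1 ((R.nw l)⁻¹ * x * R.nw l)
      rw [e1] at this
      rw [← this, nci, c2, e2])
    (fun x => by
      have e1 : R.nw l * ((R.nw l)⁻¹ * x * R.nw l) * (R.nw l)⁻¹ = x := by group
      have e2 : R.nw l * (R.n i * ((R.nw l)⁻¹ * x * R.nw l) * (R.n i)⁻¹) * (R.nw l)⁻¹ =
        R.nw l * R.n i * (R.nw l)⁻¹ * x * (R.nw l * R.n i * (R.nw l)⁻¹)⁻¹ := by group
      have := c2 ((R.nw l)⁻¹ * x * R.nw l)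
      rw [e1] at this
      rw [← this, nci', c1, e2])
  refine ⟨(R.nw l)⁻¹ * h * R.nw l, ?_, ?_⟩
  · have := (ha.inv.2 h).1 hh
    simpa using this
  · have e : R.nw l * R.n i = (R.nw l * R.n i * (R.nw l)⁻¹) * R.nw l := by group
    rw [e, he]; group

/-- Exchange: if a product of reflections sends a simple root to a non-positive root. -/
theorem exists_split {l : List ι} {i : ι} (h : ¬ R.pos (R.sw l (R.simple i))) :
    ∃ l1 j l2, l = l1 ++ j :: l2 ∧ R.sw l2 (R.simple i) = R.simple j := by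
  induction l with
  | nil => exact absurd (R.pos_simple i) h
  | cons k l ih =>
    by_cases hp : R.pos (R.sw l (R.simple i))
    · refine ⟨[], k, l, rfl, ?_⟩
      by_contra hne
      exact h (by rw [R.sw_cons]; exact R.pos_refl k _ hp hne)
    · obtain ⟨l1, j, l2, rfl, h2⟩ := ih hp
      exact ⟨k :: l1, j, l2, rfl, h2⟩

/-- Exchange, in the group. -/
theorem exists_exchange {l : List ι} {i : ι} (h : ¬ R.pos (R.sw l (R.simple i))) :
    ∃ l' : List ι, l'.length + 1 = l.length ∧ ∃ h ∈ R.H, R.nw l * R.n i = R.nw l' * h := by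
  obtain ⟨l1, j, l2, rfl, h2⟩ := R.exists_split h
  obtain ⟨k, hk, e⟩ := R.nw_mul_n h2
  refine ⟨l1 ++ l2, by simp [add_assoc], (R.nw l2)⁻¹ * (R.n j * R.n j) * R.nw l2 * k, mul_mem ?_ hk, ?_⟩
  · have := ((R.acts_nw l2).inv.2 _).1 (R.n_sq j)
    simpa [mul_assoc] using this
  · rw [R.nw_append, R.nw_cons, R.nw_append]
    calc R.nw l1 * (R.n j * R.nw l2) * R.n i = R.nw l1 * R.n j * (R.nw l2 * R.n i) := by group
      _ = R.nw l1 * R.n j * (R.n j * R.nw l2 * k) := by rw [e]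
      _ = _ := by group

/-- If `nw l` conjugates every positive root subgroup into `B`, it lies in `H`. -/
theorem nw_mem_H : ∀ {l : List ι}, (∀ r, R.pos r → ∀ x ∈ R.X r, R.nw l * x * (R.nw l)⁻¹ ∈ R.B) →
    R.nw l ∈ R.H := by
  suffices H : ∀ m : ℕ, ∀ l : List ι, l.length ≤ m →
      (∀ r, R.pos r → ∀ x ∈ R.X r, R.nw l * x * (R.nw l)⁻¹ ∈ R.B) → R.nw l ∈ R.H from
    fun {l} hl => H l.length l le_rfl hl
  intro m
  induction m with
  | zero =>
    intro l hl _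
    have : l = [] := List.length_eq_zero_iff.1 (Nat.le_zero.1 hl)
    subst this
    exact one_mem _
  | succ m ih =>
    intro l hlen hl
    rcases List.eq_nil_or_concat l with rfl | ⟨l', i, rfl⟩
    · exact one_mem _
    · rw [List.concat_eq_append] at hl hlen ⊢
      have hpos : R.pos (R.sw (l' ++ [i]) (R.simple i)) :=
        R.pos_of_conj_le (R.acts_nw _) (hl _ (R.pos_simple i))
      have hneg : ¬ R.pos (R.sw l' (R.simple i)) := by
        rw [R.sw_append, R.sw_cons, Equiv.Perm.mul_apply, R.sw_nil, mul_one, R.refl_simple, R.sw_neg,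
          R.pos_neg] at hpos
        exact hpos
      obtain ⟨l'', hlen'', h, hh, e⟩ := R.exists_exchange hneg
      have e' : R.nw (l' ++ [i]) = R.nw l'' * h := by
        rw [R.nw_append, R.nw_cons, R.nw_nil, mul_one, e]
      have hlen3 : l''.length ≤ m := by
        have : (l' ++ [i]).length = l'.length + 1 := by simp
        omega
      rw [e']
      refine mul_mem (ih l'' hlen3 fun r hr x hx => ?_) hh
      have h1 := hl r hr (h⁻¹ * x * h) (R.H_conj' hh hx)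
      rw [e'] at h1
      have e2 : R.nw l'' * h * (h⁻¹ * x * h) * (R.nw l'' * h)⁻¹ = R.nw l'' * x * (R.nw l'')⁻¹ := by group
      rwa [e2] at h1

/-- An element of `N` conjugating every positive root subgroup into `B` lies in `H`. -/
theorem mem_H_of_conj {g : Γ} (hg : g ∈ R.N)
    (hl : ∀ r, R.pos r → ∀ x ∈ R.X r, g * x * g⁻¹ ∈ R.B) : g ∈ R.H := by
  obtain ⟨l, h, hh, rfl⟩ := R.exists_nw_of_mem_N hg
  refine mul_mem (R.nw_mem_H fun r hr x hx => ?_) hh
  have h1 := hl r hr (h⁻¹ * x * h) (R.H_conj' hh hx)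
  have e2 : R.nw l * h * (h⁻¹ * x * h) * (R.nw l * h)⁻¹ = R.nw l * x * (R.nw l)⁻¹ := by group
  rwa [e2] at h1

/-- `B ⊓ N = H`. -/
theorem B_inf_N : R.B ⊓ R.N = R.H := by
  refine le_antisymm ?_ (le_inf R.H_le_B R.H_le_N)
  rintro g ⟨hB, hN⟩
  exact R.mem_H_of_conj hN fun r hr x hx =>
    mul_mem (mul_mem hB (R.X_le_B hr hx)) (inv_mem hB)

/-! ### Decomposition of `B` with respect to a simple root -/

theorem conj_Ui {i : ι} {g : Γ} {w : Equiv.Perm Φ} (h : R.Acts g w)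
    (hw : ∀ r, R.pos r → r ≠ R.simple i → R.pos (w r) ∧ w r ≠ R.simple i) {u : Γ} (hu : u ∈ R.Ui i) :
    g * u * g⁻¹ ∈ R.Ui i := by
  have : R.Ui i ≤ (R.Ui i).comap (MulAut.conj g).toMonoidHom := by
    rw [Ui_def, Subgroup.closure_le]
    rintro x ⟨r, h1, h2, h3⟩
    exact R.X_le_Ui (hw r h1 h2).1 (hw r h1 h2).2 ((h.1 r x).1 h3)
  exact this hu

theorem H_conj_Ui {i : ι} {h u : Γ} (hh : h ∈ R.H) (hu : u ∈ R.Ui i) : h * u * h⁻¹ ∈ R.Ui i :=
  R.conj_Ui (R.acts_of_mem_H hh) (fun _ h1 h2 => ⟨h1, h2⟩) hu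

theorem n_conj_Ui {i : ι} {u : Γ} (hu : u ∈ R.Ui i) : R.n i * u * (R.n i)⁻¹ ∈ R.Ui i := by
  refine R.conj_Ui (R.acts_n i) (fun r h1 h2 => ⟨R.pos_refl i r h1 h2, fun h3 => ?_⟩) hu
  have : r = R.neg (R.simple i) := by rw [← R.refl_simple, ← h3, R.refl_refl]
  rw [this, R.pos_neg] at h1
  exact h1 (R.pos_simple i)

theorem n_conj_Ui' {i : ι} {u : Γ} (hu : u ∈ R.Ui i) : (R.n i)⁻¹ * u * R.n i ∈ R.Ui i := by
  have h1 := R.H_conj_Ui (inv_mem (R.n_sq i)) (R.n_conj_Ui hu)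
  have e : (R.n i * R.n i)⁻¹ * (R.n i * u * (R.n i)⁻¹) * ((R.n i * R.n i)⁻¹)⁻¹ =
    (R.n i)⁻¹ * u * R.n i := by group
  rwa [e] at h1

theorem X_conj_Ui {i : ι} {x u : Γ} (hx : x ∈ R.X (R.simple i)) (hu : u ∈ R.Ui i) :
    x * u * x⁻¹ ∈ R.Ui i := by
  have : R.Ui i ≤ (R.Ui i).comap (MulAut.conj x).toMonoidHom := by
    rw [Ui_def, Subgroup.closure_le]
    rintro y ⟨r, h1, h2, h3⟩
    exact R.U_conj i x hx r h1 h2 y h3
  exact this hu

/-- `U = U_i X_i`. -/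
theorem exists_of_mem_U (i : ι) {b : Γ} (hb : b ∈ R.U) :
    ∃ u ∈ R.Ui i, ∃ x ∈ R.X (R.simple i), b = u * x := by
  rw [U_def] at hb
  have key : ∀ x y : Γ, (∃ r, R.pos r ∧ x ∈ R.X r) →
      (∃ u ∈ R.Ui i, ∃ x ∈ R.X (R.simple i), y = u * x) →
      ∃ u ∈ R.Ui i, ∃ z ∈ R.X (R.simple i), x * y = u * z := by
    rintro x y ⟨r, hr, hx⟩ ⟨u, hu, z, hz, rfl⟩
    by_cases hri : r = R.simple i
    · subst hri
      exact ⟨x * u * x⁻¹, R.X_conj_Ui hx hu, x * z, mul_mem hx hz, by group⟩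
    · exact ⟨x * u, mul_mem (R.X_le_Ui hr hri hx) hu, z, hz, by group⟩
  refine Subgroup.closure_induction_left
    (p := fun g _ => ∃ u ∈ R.Ui i, ∃ x ∈ R.X (R.simple i), g = u * x)
    ⟨1, one_mem _, 1, one_mem _, by simp⟩ ?_ ?_ hb
  · rintro x hx y _ hy
    exact key x y hx hy
  · rintro x ⟨r, hr, hx⟩ y _ hy
    exact key x⁻¹ y ⟨r, hr, inv_mem hx⟩ hy

theorem H_conj_U {h u : Γ} (hh : h ∈ R.H) (hu : u ∈ R.U) : h * u * h⁻¹ ∈ R.U := by
  have : R.U ≤ R.U.comap (MulAut.conj h).toMonoidHom := by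
    rw [U_def, Subgroup.closure_le]
    rintro y ⟨r, h1, h3⟩
    exact R.X_le_U h1 (R.H_conj h hh r y h3)
  exact this hu

/-- `B = U H`. -/
theorem exists_of_mem_B {b : Γ} (hb : b ∈ R.B) : ∃ u ∈ R.U, ∃ h ∈ R.H, b = u * h := by
  rw [B_def] at hb
  rw [← Subgroup.closure_eq R.H, ← Subgroup.closure_eq R.U, ← Subgroup.closure_union] at hb
  refine Subgroup.closure_induction_left (p := fun g _ => ∃ u ∈ R.U, ∃ h ∈ R.H, g = u * h)
    ⟨1, one_mem _, 1, one_mem _, by simp⟩ ?_ ?_ hb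
  · rintro x (hx | hx) y _ ⟨u, hu, h, hh, rfl⟩
    · exact ⟨x * u, mul_mem hx hu, h, hh, by group⟩
    · exact ⟨x * u * x⁻¹, R.H_conj_U hx hu, x * h, mul_mem hx hh, by group⟩
  · rintro x (hx | hx) y _ ⟨u, hu, h, hh, rfl⟩
    · exact ⟨x⁻¹ * u, mul_mem (inv_mem hx) hu, h, hh, by group⟩
    · exact ⟨x⁻¹ * u * (x⁻¹)⁻¹, R.H_conj_U (inv_mem hx) hu, x⁻¹ * h, mul_mem (inv_mem hx) hh, by group⟩

theorem exists_of_mem_B' (i : ι) {b : Γ} (hb : b ∈ R.B) :
    ∃ u ∈ R.Ui i, ∃ x ∈ R.X (R.simple i), ∃ h ∈ R.H, b = u * x * h := by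
  obtain ⟨u, hu, h, hh, rfl⟩ := R.exists_of_mem_B hb
  obtain ⟨v, hv, x, hx, rfl⟩ := R.exists_of_mem_U i hu
  exact ⟨v, hv, x, hx, h, hh, rfl⟩

theorem mem_doubleCoset_iff {g a : Γ} {B : Subgroup Γ} :
    g ∈ DoubleCoset.doubleCoset a (B : Set Γ) B ↔ ∃ b ∈ B, ∃ c ∈ B, g = b * a * c := by
  rw [DoubleCoset.mem_doubleCoset]
  simp only [SetLike.mem_coe]

/-- The double coset axiom. -/
theorem mul_mem_union (i : ι) {g : Γ} (hg : g ∈ R.N) {b : Γ} (hb : b ∈ R.B) :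
    R.n i * b * g ∈ DoubleCoset.doubleCoset (R.n i * g) (R.B : Set Γ) R.B ∪
      DoubleCoset.doubleCoset g (R.B : Set Γ) R.B := by
  obtain ⟨l, hl⟩ := R.acts_of_mem_N hg
  obtain ⟨u, hu, x, hx, h, hh, rfl⟩ := R.exists_of_mem_B' i hb
  have hnu := R.n_conj_Ui hu
  set r := (R.sw l)⁻¹ (R.simple i) with hr
  have hr' : R.sw l r = R.simple i := by simp [hr]
  by_cases hp : R.pos r
  · left
    rw [mem_doubleCoset_iff]
    have h1 : h⁻¹ * x * h ∈ R.X (R.simple i) := R.H_conj' hh hx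
    have h2 : g⁻¹ * (h⁻¹ * x * h) * g ∈ R.X r := by
      rw [hl.1 r, hr']
      have e : g * (g⁻¹ * (h⁻¹ * x * h) * g) * g⁻¹ = h⁻¹ * x * h := by group
      rwa [e]
    refine ⟨(R.n i * u * (R.n i)⁻¹) * (R.n i * h * (R.n i)⁻¹),
      mul_mem (R.Ui_le_B i hnu) (R.H_le_B (R.n_conj_H i h hh)),
      g⁻¹ * (h⁻¹ * x * h) * g, R.X_le_B hp h2, by group⟩
  · have hz : R.n i * x * (R.n i)⁻¹ ∈ R.X (R.neg (R.simple i)) := by
      have := R.n_conj i _ x hx
      rwa [R.refl_simple] at this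
    rcases R.rank_one i _ hz with h1 | ⟨y, hy, k, hk, z, hz', h1⟩
    · left
      rw [mem_doubleCoset_iff]
      refine ⟨(R.n i * u * (R.n i)⁻¹) * (R.n i * h * (R.n i)⁻¹),
        mul_mem (R.Ui_le_B i hnu) (R.H_le_B (R.n_conj_H i h hh)), 1, one_mem _, ?_⟩
      have hx1 : x = 1 := by
        have : x = (R.n i)⁻¹ * (R.n i * x * (R.n i)⁻¹) * R.n i := by group
        rw [this, h1]; group
      rw [hx1]; group
    · right
      rw [mem_doubleCoset_iff]
      -- `n u x h g = (n u n⁻¹) (y n k z) (n h g)`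
      -- push `z` to the right through `n h g`
      have hh' : R.n i * h * (R.n i)⁻¹ ∈ R.H := R.n_conj_H i h hh
      have hz2 : (R.n i * h * (R.n i)⁻¹)⁻¹ * z * (R.n i * h * (R.n i)⁻¹) ∈ R.X (R.simple i) :=
        R.H_conj' hh' hz'
      have hz3 : (R.n i)⁻¹ * ((R.n i * h * (R.n i)⁻¹)⁻¹ * z * (R.n i * h * (R.n i)⁻¹)) * R.n i ∈
          R.X (R.neg (R.simple i)) := by
        have := R.n_conj' i hz2
        rwa [R.refl_simple] at this
      have hnegr : R.sw l (R.neg r) = R.neg (R.simple i) := by rw [R.sw_neg, hr']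
      have hz4 : g⁻¹ * ((R.n i)⁻¹ * ((R.n i * h * (R.n i)⁻¹)⁻¹ * z * (R.n i * h * (R.n i)⁻¹)) * R.n i) * g ∈
          R.X (R.neg r) := by
        rw [hl.1, hnegr]
        have e : ∀ q : Γ, g * (g⁻¹ * q * g) * g⁻¹ = q := fun q => by group
        rwa [e]
      have hposneg : R.pos (R.neg r) := (R.pos_neg r).2 hp
      have hk' : R.n i * (k * (R.n i * h * (R.n i)⁻¹)) * (R.n i)⁻¹ ∈ R.H :=
        R.n_conj_H i _ (mul_mem hk hh')
      refine ⟨(R.n i * u * (R.n i)⁻¹) * y * (R.n i * (k * (R.n i * h * (R.n i)⁻¹)) * (R.n i)⁻¹) *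
          (R.n i * R.n i), ?_, _, R.X_le_B hposneg hz4, ?_⟩
      · exact mul_mem (mul_mem (mul_mem (R.Ui_le_B i hnu) (R.X_le_B (R.pos_simple i) hy))
          (R.H_le_B hk')) (R.H_le_B (R.n_sq i))
      · calc R.n i * (u * x * h) * g
            = (R.n i * u * (R.n i)⁻¹) * (R.n i * x * (R.n i)⁻¹) * (R.n i * h) * g := by group
          _ = (R.n i * u * (R.n i)⁻¹) * (y * R.n i * k * z) * (R.n i * h) * g := by rw [h1]
          _ = _ := by group

theorem n_not_mem_B (i : ι) : R.n i ∉ R.B := by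
  intro h
  refine R.X_neg_simple_not_le i fun z hz => ?_
  have h1 : (R.n i)⁻¹ * z * R.n i ∈ R.X (R.simple i) := by
    have := R.n_conj' i hz
    rwa [R.refl_neg_simple] at this
  have e : z = R.n i * ((R.n i)⁻¹ * z * R.n i) * (R.n i)⁻¹ := by group
  rw [e]
  exact mul_mem (mul_mem h (R.X_le_B (R.pos_simple i) h1)) (inv_mem h)

theorem n_inv_mul_not_mem {i j : ι} (hij : i ≠ j) : (R.n i)⁻¹ * R.n j ∉ R.B := by
  intro h
  have hN : (R.n i)⁻¹ * R.n j ∈ R.N := mul_mem (inv_mem (R.n_mem_N i)) (R.n_mem_N j)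
  have hH : (R.n i)⁻¹ * R.n j ∈ R.H := by rw [← R.B_inf_N]; exact ⟨h, hN⟩
  -- conjugate `X_j` : `n_j X_j n_j⁻¹ = X_{-j}` and `n_i X_j n_i⁻¹ = X_{s_i j}` positive
  have hne : R.simple j ≠ R.simple i := fun h => hij (R.simple_inj h).symm
  have hp : R.pos (R.refl i (R.simple j)) := R.pos_refl i _ (R.pos_simple j) hne
  refine R.X_neg_simple_not_le j fun z hz => ?_
  have h1 : (R.n j)⁻¹ * z * R.n j ∈ R.X (R.simple j) := by
    have := R.n_conj' j hz
    rwa [R.refl_neg_simple] at this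
  have h2 := R.H_conj _ hH _ _ h1
  have h3 := R.n_conj i _ _ h2
  have e : R.n i * ((R.n i)⁻¹ * R.n j * ((R.n j)⁻¹ * z * R.n j) * ((R.n i)⁻¹ * R.n j)⁻¹) * (R.n i)⁻¹ = z := by
    group
  rw [e] at h3
  exact R.X_le_B hp h3

theorem n_injective : Function.Injective R.n := by
  intro i j hij
  by_contra hne
  exact R.n_inv_mul_not_mem hne (by rw [hij]; simp)

theorem n_mem_G (i : ι) : R.n i ∈ R.G := R.N_le_G (R.n_mem_N i)

/-- The (B,N)-pair of root group data, in the subgroup `G` generated by `B` and `N`. -/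
def bnPair (G : Subgroup Γ) (hG : G = R.G) : Cfsg.BNPair G where
  B := R.B.subgroupOf G
  N := R.N.subgroupOf G
  S := Set.range fun i => (⟨R.n i, by rw [hG]; exact R.n_mem_G i⟩ : G)
  sup_eq_top := by
    subst hG
    rw [← Subgroup.subgroupOf_sup R.B_le_G R.N_le_G]
    exact Subgroup.subgroupOf_self _
  conj_mem := by
    intro n hn t ht
    obtain ⟨ht1, ht2⟩ := Subgroup.mem_inf.1 ht
    rw [Subgroup.mem_subgroupOf] at hn ht1 ht2 ⊢
    have ht : (t : Γ) ∈ R.H := by rw [← R.B_inf_N]; exact ⟨ht1, ht2⟩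
    exact R.H_le_B (R.H_normal_N hn ht)
  subset := by
    rintro _ ⟨i, rfl⟩
    exact R.n_mem_N i
  sq_mem := by
    rintro _ ⟨i, rfl⟩
    exact R.H_le_B (R.n_sq i)
  inj := by
    rintro _ ⟨i, rfl⟩ _ ⟨j, rfl⟩ h
    have : i = j := by
      by_contra hne
      exact R.n_inv_mul_not_mem hne h
    subst this; rfl
  closure_sup := by
    subst hG
    apply le_antisymm
    · refine sup_le ?_ inf_le_right
      rw [Subgroup.closure_le]
      rintro _ ⟨i, rfl⟩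
      exact R.n_mem_N i
    · intro g hg
      rw [Subgroup.mem_subgroupOf] at hg
      obtain ⟨l, h, hh, e⟩ := R.exists_nw_of_mem_N hg
      have hl : ∀ l : List ι, ∃ g' : R.G, (g' : Γ) = R.nw l ∧
          g' ∈ Subgroup.closure (Set.range fun i => (⟨R.n i, R.n_mem_G i⟩ : R.G)) := by
        intro l
        induction l with
        | nil => exact ⟨1, rfl, one_mem _⟩
        | cons i l ih =>
          obtain ⟨g', e', h'⟩ := ih
          refine ⟨⟨R.n i, R.n_mem_G i⟩ * g', ?_, mul_mem (Subgroup.subset_closure ⟨i, rfl⟩) h'⟩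
          rw [R.nw_cons, ← e']; rfl
      obtain ⟨g', e', h'⟩ := hl l
      have hg2 : g = g' * ⟨h, R.B_le_G (R.H_le_B hh)⟩ := by
        apply Subtype.ext
        rw [e, ← e']; rfl
      rw [hg2]
      refine mul_mem (Subgroup.mem_sup_left h') (Subgroup.mem_sup_right ⟨?_, ?_⟩)
      · exact R.H_le_B hh
      · exact R.H_le_N hh
  mul_mem_union := by
    rintro _ ⟨i, rfl⟩ n hn b hb
    rw [Subgroup.mem_subgroupOf] at hn hb
    rcases R.mul_mem_union i hn hb with h | h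
    · left
      obtain ⟨x, hx, y, hy, e⟩ := mem_doubleCoset_iff.1 h
      refine mem_doubleCoset_iff.2 ⟨⟨x, by rw [hG]; exact R.B_le_G hx⟩, hx, ⟨y, by rw [hG]; exact R.B_le_G hy⟩, hy, ?_⟩
      exact Subtype.ext e
    · right
      obtain ⟨x, hx, y, hy, e⟩ := mem_doubleCoset_iff.1 h
      refine mem_doubleCoset_iff.2 ⟨⟨x, by rw [hG]; exact R.B_le_G hx⟩, hx, ⟨y, by rw [hG]; exact R.B_le_G hy⟩, hy, ?_⟩
      exact Subtype.ext e
  conj_ne := by
    rintro _ ⟨i, rfl⟩ h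
    refine R.X_neg_simple_not_le i fun z hz => ?_
    have h1 : (R.n i)⁻¹ * z * R.n i ∈ R.X (R.simple i) := by
      have := R.n_conj' i hz
      rwa [R.refl_neg_simple] at this
    have h2 : (R.n i)⁻¹ * z * R.n i ∈ R.B := R.X_le_B (R.pos_simple i) h1
    have h2G : (R.n i)⁻¹ * z * R.n i ∈ G := by rw [hG]; exact R.B_le_G h2
    have h3 : (⟨R.n i, by rw [hG]; exact R.n_mem_G i⟩ : G) * ⟨(R.n i)⁻¹ * z * R.n i, h2G⟩ *
        (⟨R.n i, by rw [hG]; exact R.n_mem_G i⟩ : G) ∈ (R.B.subgroupOf G : Set G) := by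
      rw [← h]
      exact ⟨⟨(R.n i)⁻¹ * z * R.n i, h2G⟩, h2, rfl⟩
    have h4 : R.n i * ((R.n i)⁻¹ * z * R.n i) * R.n i ∈ R.B := h3
    have h5 : z = (R.n i * ((R.n i)⁻¹ * z * R.n i) * R.n i) * (R.n i * R.n i)⁻¹ := by group
    rw [h5]
    exact mul_mem h4 (inv_mem (R.H_le_B (R.n_sq i)))

end RGD

end Cfsg.Agent.ChevalleyStructure.RootData
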