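import Cfsg.Agent.ChevalleyStructure.D4NConj
import Cfsg.Agent.ChevalleyStructure.RootData
import Cfsg.Agent.ChevalleyStructure.Triangular

/-!
Type D₄, any field, unconditional: the root group data of the Chevalley group of type D₄.
-/

set_option autoImplicit false

namespace Cfsg.Agent.ChevalleyStructure.D4RGD

open Cfsg.Lie
open Cfsg.Agent.ChevalleyStructure.D4Comm Cfsg.Agent.ChevalleyStructure.D4NCheck
open Cfsg.Agent.ChevalleyStructure.D4NConj
open scoped commutatorElement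

variable {F : Type*} [Field F]

/-! ### closure forms of the standard subgroups -/

theorem isPosRoot_iff (r : ℕ) : chevD4.IsPosRoot r ↔ 12 ≤ r ∧ r < 24 := by
  constructor
  · intro h
    have h2 : ∀ r ∈ List.range 24, chevD4.IsPosRoot r → 12 ≤ r := by decide +kernel
    exact ⟨h2 r (List.mem_range.2 h.1) h, h.1⟩
  · rintro ⟨h1, h3⟩
    have h2 : ∀ r ∈ List.range 24, 12 ≤ r → chevD4.IsPosRoot r := by decide +kernel
    exact h2 r (List.mem_range.2 h3) h1

theorem isNegRoot_iff (r : ℕ) : chevD4.IsNegRoot r ↔ r < 12 := by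
  constructor
  · intro h
    have h2 : ∀ r ∈ List.range 24, chevD4.IsNegRoot r → r < 12 := by decide +kernel
    exact h2 r (List.mem_range.2 h.1) h
  · intro h1
    have h2 : ∀ r ∈ List.range 24, r < 12 → chevD4.IsNegRoot r := by decide +kernel
    exact h2 r (List.mem_range.2 (by omega)) h1

theorem mem_rootSubgroup {r : ℕ} {g : GL chevD4.Idx F} :
    g ∈ chevD4.rootSubgroup F r ↔ ∃ t : F, g = xG r t := by
  constructor
  · intro hg
    refine Subgroup.closure_induction (p := fun g _ => ∃ t : F, g = xG r t) ?_ ?_ ?_ ?_ hg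
    · rintro g ⟨t, ht⟩
      exact ⟨t, (eq_xG_iff g r t).1 ht⟩
    · exact ⟨0, (xG_zero r).symm⟩
    · rintro _ _ _ _ ⟨t, rfl⟩ ⟨u, rfl⟩
      exact ⟨t + u, (xG_add r t u).symm⟩
    · rintro _ _ ⟨t, rfl⟩
      exact ⟨-t, xG_inv r t⟩
  · rintro ⟨t, rfl⟩
    exact Subgroup.subset_closure ⟨t, coe_xG r t⟩

theorem xG_mem_rootSubgroup (r : ℕ) (t : F) : xG r t ∈ chevD4.rootSubgroup F r :=
  mem_rootSubgroup.2 ⟨t, rfl⟩

theorem hR_mem {r : ℕ} (hr : r < 24) {t : F} (ht : t ≠ 0) : hR r t ∈ chevD4.diagonalSubgroup F :=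
  Subgroup.subset_closure ⟨r, t, hr, ht, coe_hR hr t⟩

theorem diagonal_le_iff (K : Subgroup (GL chevD4.Idx F)) :
    chevD4.diagonalSubgroup F ≤ K ↔ ∀ r < 24, ∀ t : F, t ≠ 0 → hR r t ∈ K := by
  constructor
  · intro h r hr t ht
    exact h (hR_mem hr ht)
  · intro h
    refine (Subgroup.closure_le _).2 ?_
    rintro g ⟨r, t, hr, ht, hg⟩
    have : g = hR r t := Units.ext (hg.trans (coe_hR hr t).symm)
    rw [this]
    exact h r hr t ht

theorem diagonal_le_torus (F : Type*) [Field F] : chevD4.diagonalSubgroup F ≤ torus F := by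
  rw [diagonal_le_iff]
  intro r hr t ht
  exact ⟨_, hR_eq_torG hr (Units.mk0 t ht)⟩

theorem nR_one_mem {r : ℕ} (hr : r < 24) : nR r (1 : F) ∈ chevD4.monomialSubgroup F :=
  (le_sup_right : _ ≤ chevD4.monomialSubgroup F) (Subgroup.subset_closure ⟨r, hr, coe_nR hr 1⟩)

theorem diagonal_le_monomial (F : Type*) [Field F] : chevD4.diagonalSubgroup F ≤ chevD4.monomialSubgroup F :=
  le_sup_left

theorem monomial_le_iff (K : Subgroup (GL chevD4.Idx F)) :
    chevD4.monomialSubgroup F ≤ K ↔ chevD4.diagonalSubgroup F ≤ K ∧ ∀ r < 24, nR r (1 : F) ∈ K := by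
  constructor
  · intro h
    exact ⟨(diagonal_le_monomial F).trans h, fun r hr => h (nR_one_mem hr)⟩
  · rintro ⟨h1, h2⟩
    refine sup_le h1 ((Subgroup.closure_le _).2 ?_)
    rintro g ⟨r, hr, hg⟩
    have : g = nR r 1 := Units.ext (hg.trans (coe_nR hr 1).symm)
    rw [this]
    exact h2 r hr

theorem sp_lt {i : ℕ} (hi : i < 4) : sp i < 24 := by
  have h : ∀ i ∈ List.range 4, sp i < 24 := by decide +kernel
  exact h i (List.mem_range.2 hi)

theorem sp_ge {i : ℕ} (hi : i < 4) : 12 ≤ sp i := by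
  have h : ∀ i ∈ List.range 4, 12 ≤ sp i := by decide +kernel
  exact h i (List.mem_range.2 hi)

theorem nR_mem {r : ℕ} (hr : r < 24) {t : F} (ht : t ≠ 0) : nR r t ∈ chevD4.monomialSubgroup F := by
  rw [nR_eq]
  exact mul_mem (diagonal_le_monomial F (hR_mem hr ht)) (nR_one_mem hr)

/-! ### the data -/

/-- simple roots -/
def simpleF (i : Fin 4) : Fin 24 := ⟨sp i.val, sp_lt i.2⟩

/-- simple reflections -/
def reflF (i : Fin 4) : Equiv.Perm (Fin 24) where
  toFun s := ⟨rfl' i.val s.val, rfl'_lt i.2 s.2⟩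
  invFun s := ⟨rfl' i.val s.val, rfl'_lt i.2 s.2⟩
  left_inv := by
    intro s
    apply Fin.ext
    have h : ∀ i ∈ List.range 4, ∀ s ∈ List.range 24, rfl' i (rfl' i s) = s := by decide +kernel
    exact h i.val (List.mem_range.2 i.2) s.val (List.mem_range.2 s.2)
  right_inv := by
    intro s
    apply Fin.ext
    have h : ∀ i ∈ List.range 4, ∀ s ∈ List.range 24, rfl' i (rfl' i s) = s := by decide +kernel
    exact h i.val (List.mem_range.2 i.2) s.val (List.mem_range.2 s.2)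

@[simp] theorem reflF_val (i : Fin 4) (s : Fin 24) : (reflF i s).val = rfl' i.val s.val := rfl
@[simp] theorem simpleF_val (i : Fin 4) : (simpleF i).val = sp i.val := rfl

/-- negation -/
def negF (r : Fin 24) : Fin 24 := ⟨23 - r.val, by omega⟩
@[simp] theorem negF_val (r : Fin 24) : (negF r).val = 23 - r.val := rfl

theorem n_conj_H (i : Fin 4) {h : GL chevD4.Idx F} (hh : h ∈ chevD4.diagonalSubgroup F) :
    nG F i.val * h * (nG F i.val)⁻¹ ∈ chevD4.diagonalSubgroup F := by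
  have : chevD4.diagonalSubgroup F ≤
      (chevD4.diagonalSubgroup F).comap (MulAut.conj (nG F i.val)).toMonoidHom := by
    rw [diagonal_le_iff]
    intro r hr t ht
    show nG F i.val * hR r t * (nG F i.val)⁻¹ ∈ chevD4.diagonalSubgroup F
    have hlt := rfl'_lt i.2 hr
    have e : nG F i.val * hR r t * (nG F i.val)⁻¹ =
        (nG F i.val * nR r t * (nG F i.val)⁻¹) * (nG F i.val * nR r (-1) * (nG F i.val)⁻¹) := by
      rw [hR_def]; group
    rw [e, nG_conj_nR i.2 hr, nG_conj_nR i.2 hr]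
    rcases eta_cases i.2 hr with h | h
    · rw [h, Int.cast_one, one_mul, one_mul, ← hR_def]
      exact hR_mem hlt ht
    · rw [h, Int.cast_neg, Int.cast_one, neg_one_mul, neg_one_mul, neg_neg]
      have e2 : nR (rfl' i.val r) (-t) * nR (rfl' i.val r) 1 =
          hR (rfl' i.val r) (-t) * (hR (rfl' i.val r) (-1))⁻¹ := by
        have e3 : nR (rfl' i.val r) (1 : F) = (nR (rfl' i.val r) (-1))⁻¹ := by
          rw [nR_inv, neg_neg]
        rw [hR_def, hR_def, e3]
        group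
      rw [e2]
      exact mul_mem (hR_mem hlt (neg_ne_zero.2 ht)) (inv_mem (hR_mem hlt (neg_ne_zero.2 one_ne_zero)))
  exact this hh

theorem n_sq (i : Fin 4) : nG F i.val * nG F i.val ∈ chevD4.diagonalSubgroup F := by
  have e : nG F i.val * nG F i.val = (hR (sp i.val) (-1 : F))⁻¹ := by
    have e3 : nR (sp i.val) (1 : F) = (nR (sp i.val) (-1))⁻¹ := by
      rw [nR_inv, neg_neg]
    rw [nG_def, hR_def, e3]
    group
  rw [e]
  exact inv_mem (hR_mem (F := F) (sp_lt i.2) (neg_ne_zero.2 one_ne_zero))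

theorem H_conj {h : GL chevD4.Idx F} (hh : h ∈ chevD4.diagonalSubgroup F) {r : ℕ} (hr : r < 24) {x : GL chevD4.Idx F}
    (hx : x ∈ chevD4.rootSubgroup F r) : h * x * h⁻¹ ∈ chevD4.rootSubgroup F r := by
  obtain ⟨c, rfl⟩ := diagonal_le_torus F hh
  obtain ⟨t, rfl⟩ := mem_rootSubgroup.1 hx
  rw [torG_conj c hr]
  exact xG_mem_rootSubgroup _ _

theorem cm_facts : ∀ i ∈ List.range 4, ∀ s ∈ List.range 24, 12 ≤ s → s ≠ sp i →
    ∀ kc ∈ D4CommTab.cm (sp i) s, 12 ≤ kc.1 ∧ kc.1 < 24 ∧ kc.1 ≠ sp i := by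
  decide +kernel

theorem U_conj (i : Fin 4) {x : GL chevD4.Idx F} (hx : x ∈ chevD4.rootSubgroup F (sp i.val)) {r : Fin 24}
    (hr : 12 ≤ r.val) (hne : r ≠ simpleF i) {y : GL chevD4.Idx F} (hy : y ∈ chevD4.rootSubgroup F r.val) :
    x * y * x⁻¹ ∈ Subgroup.closure {g : GL chevD4.Idx F | ∃ r : Fin 24, 12 ≤ r.val ∧ r ≠ simpleF i ∧
      g ∈ chevD4.rootSubgroup F r.val} := by
  obtain ⟨t, rfl⟩ := mem_rootSubgroup.1 hx
  obtain ⟨u, rfl⟩ := mem_rootSubgroup.1 hy
  have hne' : r.val ≠ sp i.val := fun h => hne (Fin.ext h)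
  have h := xG_comm (F := F) (sp_ge i.2) (sp_lt i.2) hr r.2 hne' t u
  have e : xG (sp i.val) t * xG r.val u * (xG (sp i.val) t)⁻¹ = ⁅xG (sp i.val) t, xG r.val u⁆ * xG r.val u := by
    rw [commutatorElement_def]; group
  rw [e, h]
  refine mul_mem ?_ (Subgroup.subset_closure ⟨r, hr, hne, xG_mem_rootSubgroup _ _⟩)
  have hf := cm_facts i.val (List.mem_range.2 i.2) r.val (List.mem_range.2 r.2) hr hne'
  unfold cval
  cases hcm : D4CommTab.cm (sp i.val) r.val with
  | none => exact one_mem _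
  | some kc =>
    obtain ⟨h1, h2, h3⟩ := hf kc hcm
    exact Subgroup.subset_closure ⟨⟨kc.1, h2⟩, h1, fun h => h3 (congrArg Fin.val h), xG_mem_rootSubgroup _ _⟩

theorem diagonal_le_diagSub (F : Type*) [Field F] : chevD4.diagonalSubgroup F ≤
    Cfsg.Agent.ChevalleyStructure.TriAbstract.diagSub chevD4.Idx F := by
  intro g hg
  obtain ⟨c, rfl⟩ := diagonal_le_torus F hg
  exact TriAbstract.mem_diagSub'.2 ⟨_, coe_torG c⟩

theorem mem_types : chevD4 ∈ Triangular.types := by simp [Triangular.types]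

theorem x_entry_neg {r : ℕ} (hr : r < 24) (t : F) :
    chevD4.x F r t (Sum.inr ⟨r, hr⟩) (Sum.inr ⟨23 - r, show 23 - r < 24 by omega⟩) = -t ^ 2 := by
  have h1 : ∀ r ∈ List.range 24,
      ((D4Tab.tcols r (4 + (23 - r))).filter fun e => e.1 = 4 + r) = [(4 + r, -1, 2)] := by decide +kernel
  have h2 := h1 r (List.mem_range.2 hr)
  have h3 : ∀ (l : List (ℕ × ℤ × ℕ)) (k : ℕ),
      LaurentWord.colSum t l k = LaurentWord.colSum t (l.filter fun e => e.1 = k) k := by
    intro l k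
    induction l with
    | nil => rfl
    | cons e l ih =>
      rw [LaurentWord.colSum_cons, ih]
      by_cases he : e.1 = k
      · rw [List.filter_cons_of_pos (by simpa using he), LaurentWord.colSum_cons]
      · rw [List.filter_cons_of_neg (by simpa using he), if_neg he, zero_add]
  rw [x_entry hr, LaurentWord.code_inr, LaurentWord.code_inr]
  show LaurentWord.colSum t (D4Tab.tcols r (4 + (23 - r))) (4 + r) = _
  rw [h3, h2, LaurentWord.colSum_cons, LaurentWord.colSum_nil, if_pos rfl]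
  simp

theorem xG_eq_one_iff {r : ℕ} (hr : r < 24) (t : F) : xG r t = 1 ↔ t = 0 := by
  constructor
  · intro h
    have h1 := x_entry_neg hr t
    have h2 : chevD4.x F r t = 1 := congrArg Units.val h
    rw [h2, Matrix.one_apply_ne] at h1
    · have : t ^ 2 = 0 := by linear_combination h1
      exact pow_eq_zero_iff (two_ne_zero) |>.1 this
    · intro h3
      have h4 := congrArg Fin.val (Sum.inr.inj h3)
      simp only at h4
      omega
  · rintro rfl
    exact xG_zero r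

theorem neg_not_le (F : Type*) [Field F] {r : Fin 24} (hr : ¬ 12 ≤ r.val) : ¬ chevD4.rootSubgroup F r.val ≤
    Subgroup.closure {g : GL chevD4.Idx F | ∃ r : Fin 24, 12 ≤ r.val ∧ g ∈ chevD4.rootSubgroup F r.val} ⊔
      chevD4.diagonalSubgroup F := by
  intro h
  have h1 : xG r.val (1 : F) ∈ chevD4.borelSubgroup F := by
    refine (show _ ≤ chevD4.borelSubgroup F from sup_le_sup_right ?_ _) (h (xG_mem_rootSubgroup r.val 1))
    rw [Subgroup.closure_le]
    rintro g ⟨s, hs, hg⟩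
    obtain ⟨t, rfl⟩ := mem_rootSubgroup.1 hg
    exact Subgroup.subset_closure ⟨s.val, t, (isPosRoot_iff _).2 ⟨hs, s.2⟩, coe_xG _ _⟩
  have h2 : xG r.val (1 : F) ∈ chevD4.negUnipotent F :=
    Subgroup.subset_closure ⟨r.val, 1, (isNegRoot_iff _).2 (by omega), coe_xG _ _⟩
  have h3 := Triangular.borel_inf_neg mem_types (diagonal_le_diagSub F)
  have h4 : xG r.val (1 : F) ∈ (⊥ : Subgroup (GL chevD4.Idx F)) := by
    rw [← h3]; exact ⟨h1, h2⟩
  rw [Subgroup.mem_bot, xG_eq_one_iff r.2] at h4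
  exact one_ne_zero h4

theorem rank_one (i : Fin 4) {x : GL chevD4.Idx F} (hx : x ∈ chevD4.rootSubgroup F (23 - sp i.val)) :
    x = 1 ∨ ∃ y ∈ chevD4.rootSubgroup F (sp i.val), ∃ h ∈ chevD4.diagonalSubgroup F,
      ∃ z ∈ chevD4.rootSubgroup F (sp i.val), x = y * nG F i.val * h * z := by
  obtain ⟨u, rfl⟩ := mem_rootSubgroup.1 hx
  by_cases hu : u = 0
  · left
    rw [hu, xG_zero]
  right
  have ht : -u⁻¹ ≠ 0 := neg_ne_zero.2 (inv_ne_zero hu)
  refine ⟨xG (sp i.val) (u⁻¹), xG_mem_rootSubgroup _ _,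
    (nG F i.val)⁻¹ * hR (sp i.val) (-u⁻¹) * nG F i.val, ?_, xG (sp i.val) (u⁻¹), xG_mem_rootSubgroup _ _, ?_⟩
  · have h1 := n_conj_H i (mul_mem (mul_mem (inv_mem (n_sq (F := F) i))
      (hR_mem (sp_lt i.2) ht)) (n_sq (F := F) i))
    have e : nG F i.val * ((nG F i.val * nG F i.val)⁻¹ * hR (sp i.val) (-u⁻¹) * (nG F i.val * nG F i.val)) *
      (nG F i.val)⁻¹ = (nG F i.val)⁻¹ * hR (sp i.val) (-u⁻¹) * nG F i.val := by group
    rwa [e] at h1
  · have e1 : xG (sp i.val) (u⁻¹) * nG F i.val * ((nG F i.val)⁻¹ * hR (sp i.val) (-u⁻¹) * nG F i.val) *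
        xG (sp i.val) (u⁻¹) = xG (sp i.val) (u⁻¹) * (hR (sp i.val) (-u⁻¹) * nG F i.val) * xG (sp i.val) (u⁻¹) := by
      group
    rw [e1, nG_def, ← nR_eq, nR_def]
    have e2 : xG (sp i.val) (u⁻¹) = (xG (sp i.val) (-u⁻¹))⁻¹ := by rw [xG_inv, neg_neg]
    rw [e2, inv_neg, inv_inv, neg_neg]
    group

/-- The root group data of type D₄. -/
def d4rgd (F : Type*) [Field F] : RootData.RGD (GL chevD4.Idx F) (Fin 4) (Fin 24) where
  pos r := 12 ≤ r.val
  neg := negF
  simple := simpleF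
  refl := reflF
  X r := chevD4.rootSubgroup F r.val
  H := chevD4.diagonalSubgroup F
  n i := nG F i.val
  simple_inj := by decide
  pos_simple i := sp_ge i.2
  pos_neg r := by simp only [negF_val]; omega
  refl_refl i r := (reflF i).left_inv r
  refl_simple := by decide +kernel
  refl_neg := by decide +kernel
  pos_refl := by decide +kernel
  H_conj h hh r x hx := H_conj hh r.2 hx
  n_conj i r x hx := by
    obtain ⟨t, rfl⟩ := mem_rootSubgroup.1 hx
    rw [nG_conj i.2 r.2]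
    exact xG_mem_rootSubgroup _ _
  n_conj_H i h hh := n_conj_H i hh
  n_sq := n_sq
  n_mem i := by
    rw [nG_def, nR_def]
    have h1 : xG (simpleF i).val (1 : F) ∈ chevD4.rootSubgroup F (simpleF i).val := xG_mem_rootSubgroup _ _
    have h2 : xG (negF (simpleF i)).val (-(1 : F)⁻¹) ∈ chevD4.rootSubgroup F (negF (simpleF i)).val :=
      xG_mem_rootSubgroup _ _
    exact Subgroup.mem_sup_left (mul_mem (Subgroup.mem_sup_left h1)
      (mul_mem (Subgroup.mem_sup_right h2) (Subgroup.mem_sup_left h1)))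
  rank_one i x hx := rank_one i hx
  U_conj i x hx r hr hne y hy := U_conj i hx hr hne hy
  neg_not_le r hr := neg_not_le F hr

/-! ### identification of the standard subgroups -/

/-- for each root `r` a word `l` and a simple root `p_i` with `w_l p_i = r` -/
def pathTab : List (List (Fin 4) × Fin 4) := [([1, 3, 2, 1, 0], 0), ([3, 2, 1, 0], 0), ([2, 1, 0], 0), ([3, 1, 0], 0), ([1, 0], 0), ([0], 0), ([3, 2, 1], 1), ([2, 1], 1), ([3, 1], 1), ([1], 1), ([2], 2), ([3], 3), ([], 3), ([], 2), ([], 1), ([3], 1), ([2], 1), ([3, 2], 1), ([], 0), ([1], 0), ([3, 1], 0), ([2, 1], 0), ([3, 2, 1], 0), ([1, 3, 2, 1], 0)]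

theorem path_spec : ∀ r : Fin 24, ∃ a ∈ pathTab, (a.1.map reflF).prod (simpleF a.2) = r := by
  decide +kernel

theorem exists_word (F : Type*) [Field F] (r : Fin 24) :
    ∃ (l : List (Fin 4)) (i : Fin 4), (d4rgd F).sw l (simpleF i) = r := by
  obtain ⟨a, -, h⟩ := path_spec r
  exact ⟨a.1, a.2, h⟩

theorem d4rgd_X (F : Type*) [Field F] (r : Fin 24) : (d4rgd F).X r = chevD4.rootSubgroup F r.val := rfl
theorem d4rgd_H (F : Type*) [Field F] : (d4rgd F).H = chevD4.diagonalSubgroup F := rfl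
theorem d4rgd_n (F : Type*) [Field F] (i : Fin 4) : (d4rgd F).n i = nG F i.val := rfl
theorem d4rgd_refl (F : Type*) [Field F] (i : Fin 4) : (d4rgd F).refl i = reflF i := rfl
theorem d4rgd_simple (F : Type*) [Field F] (i : Fin 4) : (d4rgd F).simple i = simpleF i := rfl
theorem d4rgd_pos (F : Type*) [Field F] (r : Fin 24) : (d4rgd F).pos r ↔ 12 ≤ r.val := Iff.rfl

theorem d4rgd_U (F : Type*) [Field F] : (d4rgd F).U = chevD4.posUnipotent F := by
  apply le_antisymm
  · rw [RootData.RGD.U_def, Subgroup.closure_le]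
    rintro g ⟨s, hs, hg⟩
    obtain ⟨t, rfl⟩ := mem_rootSubgroup.1 hg
    exact Subgroup.subset_closure ⟨s.val, t, (isPosRoot_iff _).2 ⟨hs, s.2⟩, coe_xG _ _⟩
  · refine (Subgroup.closure_le _).2 ?_
    rintro g ⟨r, t, hr, hg⟩
    rw [isPosRoot_iff] at hr
    have : g = xG r t := (eq_xG_iff g r t).1 hg
    rw [this]
    exact (d4rgd F).X_le_U (r := ⟨r, hr.2⟩) hr.1 (xG_mem_rootSubgroup r t)

theorem d4rgd_B (F : Type*) [Field F] : (d4rgd F).B = chevD4.borelSubgroup F := by
  rw [RootData.RGD.B_def, d4rgd_U]; rfl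

/-- `n_r(1) ∈ N` generated by the simple ones -/
theorem nR_one_mem' (F : Type*) [Field F] {r : ℕ} (hr : r < 24) : nR r (1 : F) ∈ (d4rgd F).N := by
  obtain ⟨l, i, hl⟩ := exists_word F ⟨r, hr⟩
  have key : ∀ l : List (Fin 4), ∃ ε : F, (ε = 1 ∨ ε = -1) ∧
      (d4rgd F).nw l * nG F i.val * ((d4rgd F).nw l)⁻¹ = nR ((d4rgd F).sw l (simpleF i)).val ε := by
    intro l
    induction l with
    | nil => exact ⟨1, Or.inl rfl, by rw [RootData.RGD.nw_nil, RootData.RGD.sw_nil, one_mul, inv_one, mul_one]; rfl⟩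
    | cons j l ih =>
      obtain ⟨ε, hε, e⟩ := ih
      refine ⟨(eta j.val ((d4rgd F).sw l (simpleF i)).val : F) * ε, ?_, ?_⟩
      · rcases eta_cases j.2 ((d4rgd F).sw l (simpleF i)).2 with h | h <;> rcases hε with h' | h' <;>
          rw [h, h'] <;> simp
      · rw [RootData.RGD.nw_cons, RootData.RGD.sw_cons]
        have e2 : (d4rgd F).n j * (d4rgd F).nw l * nG F i.val * ((d4rgd F).n j * (d4rgd F).nw l)⁻¹ =
            nG F j.val * ((d4rgd F).nw l * nG F i.val * ((d4rgd F).nw l)⁻¹) * (nG F j.val)⁻¹ := by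
          rw [d4rgd_n]; group
        rw [e2, e, nG_conj_nR j.2 (Fin.is_lt _)]
        rfl
  obtain ⟨ε, hε, e⟩ := key l
  rw [hl] at e
  have h1 : nR r ε ∈ (d4rgd F).N := by
    have := mul_mem (mul_mem ((d4rgd F).nw_mem_N l) ((d4rgd F).n_mem_N i)) (inv_mem ((d4rgd F).nw_mem_N l))
    rw [d4rgd_n, e] at this
    exact this
  rcases hε with rfl | rfl
  · exact h1
  · have := inv_mem h1
    rwa [nR_inv, neg_neg] at this

theorem d4rgd_N (F : Type*) [Field F] : (d4rgd F).N = chevD4.monomialSubgroup F := by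
  apply le_antisymm
  · rw [RootData.RGD.N_def]
    refine sup_le (diagonal_le_monomial F) ((Subgroup.closure_le _).2 ?_)
    rintro _ ⟨i, rfl⟩
    exact nR_one_mem (sp_lt i.2)
  · rw [monomial_le_iff]
    exact ⟨(d4rgd F).H_le_N, fun r hr => nR_one_mem' F hr⟩

theorem xG_mem_group (r : ℕ) (t : F) : xG r t ∈ chevD4.group F := by
  by_cases hr : r < 24
  · exact Subgroup.subset_closure ⟨⟨r, hr⟩, t, by
      rw [coe_xG, ChevalleyDatum.x, dif_pos (show r < chevD4.nroots from hr)]⟩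
  · have : xG r t = 1 := Units.ext (dif_neg hr)
    rw [this]
    exact one_mem _

theorem nR_mem_group (r : ℕ) (t : F) : nR r t ∈ chevD4.group F := by
  rw [nR_def]
  exact mul_mem (xG_mem_group _ _) (mul_mem (xG_mem_group _ _) (xG_mem_group _ _))

theorem hR_mem_group (r : ℕ) (t : F) : hR r t ∈ chevD4.group F := by
  rw [hR_def]
  exact mul_mem (nR_mem_group _ _) (nR_mem_group _ _)

theorem d4rgd_G (F : Type*) [Field F] : (d4rgd F).G = chevD4.group F := by
  apply le_antisymm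
  · rw [RootData.RGD.G_def, RootData.RGD.B_def, RootData.RGD.N_def]
    have hH : (d4rgd F).H ≤ chevD4.group F := (diagonal_le_iff _).2 fun r _ t _ => hR_mem_group r t
    refine sup_le (sup_le ?_ hH) (sup_le hH ((Subgroup.closure_le _).2 ?_))
    · rw [RootData.RGD.U_def, Subgroup.closure_le]
      rintro g ⟨s, hs, hg⟩
      obtain ⟨t, rfl⟩ := mem_rootSubgroup.1 hg
      exact xG_mem_group _ _
    · rintro _ ⟨i, rfl⟩
      exact nR_mem_group _ _
  · refine (Subgroup.closure_le _).2 ?_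
    rintro g ⟨r, t, hg⟩
    have : g = xG r.val t := (eq_xG_iff g r.val t).1 (by
      rw [hg, ChevalleyDatum.x, dif_pos r.2])
    rw [this]
    obtain ⟨l, i, hl⟩ := exists_word F r
    have h1 := ((d4rgd F).acts_nw l).1 (simpleF i)
      (((d4rgd F).nw l)⁻¹ * xG r.val t * (d4rgd F).nw l)
    rw [hl] at h1
    have e : (d4rgd F).nw l * (((d4rgd F).nw l)⁻¹ * xG r.val t * (d4rgd F).nw l) * ((d4rgd F).nw l)⁻¹ =
        xG r.val t := by group
    rw [e] at h1
    have h2 := h1.2 (xG_mem_rootSubgroup r.val t)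
    rw [← e]
    exact mul_mem (mul_mem ((d4rgd F).N_le_G ((d4rgd F).nw_mem_N l))
      ((d4rgd F).B_le_G ((d4rgd F).X_le_B ((d4rgd F).pos_simple i) h2)))
      (inv_mem ((d4rgd F).N_le_G ((d4rgd F).nw_mem_N l)))

/-- `B ⊓ N = H` -/
theorem borel_inf_monomial (F : Type*) [Field F] :
    chevD4.borelSubgroup F ⊓ chevD4.monomialSubgroup F = chevD4.diagonalSubgroup F := by
  rw [← d4rgd_B, ← d4rgd_N, RootData.RGD.B_inf_N]; rfl

theorem conj_mem_diagonal {g h : GL chevD4.Idx F} (hg : g ∈ chevD4.monomialSubgroup F)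
    (hh : h ∈ chevD4.diagonalSubgroup F) : g * h * g⁻¹ ∈ chevD4.diagonalSubgroup F := by
  rw [← d4rgd_N] at hg
  exact (d4rgd F).H_normal_N hg hh

theorem posUnipotent_inf_diagonal (F : Type*) [Field F] :
    chevD4.posUnipotent F ⊓ chevD4.diagonalSubgroup F = ⊥ :=
  Triangular.pos_inf_diagonal mem_types (diagonal_le_diagSub F)

end Cfsg.Agent.ChevalleyStructure.D4RGD
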