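import Cfsg.Prelude.Def_ChevD4
import Cfsg.Agent.ChevalleyStructure.LaurentWord

/-!
A fast table of the columns of the root elements of the datum `chevD4`, for the reflective checker of
`LaurentWord`, and the resulting word identities.
-/

set_option autoImplicit false

namespace Cfsg.Agent.ChevalleyStructure.D4Tab

open Cfsg.Lie
open Cfsg.Agent.ChevalleyStructure.LaurentWord

/-- `n`-th entry of a list, by structural recursion. -/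
def nth {α : Type} (d : α) : List α → ℕ → α
  | [], _ => d
  | a :: _, 0 => a
  | _ :: l, n + 1 => nth d l n

/-- The columns of `x_r(t)` for `chevD4`: `colTab[r][j]` is the list of `(row code, coefficient, exponent of t)`. -/
def colTab : List (List (List (ℕ × ℤ × ℕ))) := [
  [[(0, 1, 0), (4, 0, 1)], [(1, 1, 0), (4, 1, 1)], [(2, 1, 0), (4, 0, 1)], [(3, 1, 0), (4, 0, 1)], [(4, 1, 0)], [(5, 1, 0)], [(6, 1, 0)], [(7, 1, 0)], [(8, 1, 0)], [(9, 1, 0)], [(10, 1, 0)], [(11, 1, 0)], [(12, 1, 0)], [(13, 1, 0)], [(14, 1, 0)], [(15, 1, 0)], [(16, 1, 0)], [(17, 1, 0)], [(18, 1, 0), (5, 1, 1)], [(19, 1, 0), (6, -1, 1)], [(20, 1, 0), (7, -1, 1)], [(21, 1, 0), (8, 1, 1)], [(22, 1, 0)], [(23, 1, 0), (10, -1, 1)], [(24, 1, 0), (11, 1, 1)], [(25, 1, 0), (12, 1, 1)], [(26, 1, 0), (13, -1,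 1)], [(27, 1, 0), (4, -1, 2), (0, -1, 1), (1, -2, 1), (2, -1, 1), (3, -1, 1)]],
  [[(0, 1, 0), (5, 1, 1)], [(1, 1, 0), (5, -1, 1)], [(2, 1, 0), (5, 1, 1)], [(3, 1, 0), (5, 1, 1)], [(4, 1, 0)], [(5, 1, 0)], [(6, 1, 0)], [(7, 1, 0)], [(8, 1, 0)], [(9, 1, 0)], [(10, 1, 0)], [(11, 1, 0)], [(12, 1, 0)], [(13, 1, 0), (4, 1, 1)], [(14, 1, 0)], [(15, 1, 0)], [(16, 1, 0), (6, 1, 1)], [(17, 1, 0), (7, 1, 1)], [(18, 1, 0)], [(19, 1, 0)], [(20, 1, 0)], [(21, 1, 0), (9, 1, 1)], [(22, 1, 0), (10, -1, 1)], [(23, 1, 0)], [(24, 1, 0), (14, -1, 1)], [(25, 1, 0), (15, -1, 1)], [(26, 1, 0), (5, -1, 2), (0, -1, 1), (1, -1, 1), (2, -1, 1), (3, -1, 1)], [(27, 1, 0), (18, -1, 1)]],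
  [[(0, 1, 0), (6, 1, 1)], [(1, 1, 0), (6, 0, 1)], [(2, 1, 0), (6, 1, 1)], [(3, 1, 0), (6, -1, 1)], [(4, 1, 0)], [(5, 1, 0)], [(6, 1, 0)], [(7, 1, 0)], [(8, 1, 0)], [(9, 1, 0)], [(10, 1, 0)], [(11, 1, 0)], [(12, 1, 0), (4, -1, 1)], [(13, 1, 0)], [(14, 1, 0)], [(15, 1, 0), (5, 1, 1)], [(16, 1, 0)], [(17, 1, 0), (8, 1, 1)], [(18, 1, 0)], [(19, 1, 0)], [(20, 1, 0), (9, 1, 1)], [(21, 1, 0)], [(22, 1, 0), (11, -1, 1)], [(23, 1, 0), (14, -1, 1)], [(24, 1, 0)], [(25, 1, 0), (6, -1, 2), (0, -1, 1), (1, -1, 1), (2, -1, 1), (3, 0, 1)], [(26, 1, 0), (16, -1, 1)], [(27, 1, 0), (19, 1, 1)]],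
  [[(0, 1, 0), (7, 1, 1)], [(1, 1, 0), (7, 0, 1)], [(2, 1, 0), (7, -1, 1)], [(3, 1, 0), (7, 1, 1)], [(4, 1, 0)], [(5, 1, 0)], [(6, 1, 0)], [(7, 1, 0)], [(8, 1, 0)], [(9, 1, 0)], [(10, 1, 0)], [(11, 1, 0), (4, -1, 1)], [(12, 1, 0)], [(13, 1, 0)], [(14, 1, 0), (5, 1, 1)], [(15, 1, 0)], [(16, 1, 0), (8, 1, 1)], [(17, 1, 0)], [(18, 1, 0)], [(19, 1, 0), (9, 1, 1)], [(20, 1, 0)], [(21, 1, 0)], [(22, 1, 0), (12, -1, 1)], [(23, 1, 0), (15, -1, 1)], [(24, 1, 0), (7, -1, 2), (0, -1, 1), (1, -1, 1), (2, 0, 1), (3, -1, 1)], [(25, 1, 0)], [(26, 1, 0), (17, -1, 1)], [(27, 1, 0), (20, 1, 1)]],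
  [[(0, 1, 0), (8, 1, 1)], [(1, 1, 0), (8, 1, 1)], [(2, 1, 0), (8, -1, 1)], [(3, 1, 0), (8, -1, 1)], [(4, 1, 0)], [(5, 1, 0)], [(6, 1, 0)], [(7, 1, 0)], [(8, 1, 0)], [(9, 1, 0)], [(10, 1, 0), (4, 1, 1)], [(11, 1, 0)], [(12, 1, 0)], [(13, 1, 0)], [(14, 1, 0), (6, 1, 1)], [(15, 1, 0), (7, 1, 1)], [(16, 1, 0)], [(17, 1, 0)], [(18, 1, 0), (9, 1, 1)], [(19, 1, 0)], [(20, 1, 0)], [(21, 1, 0)], [(22, 1, 0), (13, -1, 1)], [(23, 1, 0), (8, -1, 2), (0, -1, 1), (1, -1, 1), (2, 0, 1), (3, 0, 1)], [(24, 1, 0), (16, -1, 1)], [(25, 1, 0), (17, -1, 1)], [(26, 1, 0)], [(27, 1, 0), (21, -1, 1)]],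
  [[(0, 1, 0), (9, 2, 1)], [(1, 1, 0), (9, -1, 1)], [(2, 1, 0), (9, 0, 1)], [(3, 1, 0), (9, 0, 1)], [(4, 1, 0)], [(5, 1, 0)], [(6, 1, 0)], [(7, 1, 0)], [(8, 1, 0)], [(9, 1, 0)], [(10, 1, 0), (5, 1, 1)], [(11, 1, 0), (6, 1, 1)], [(12, 1, 0), (7, 1, 1)], [(13, 1, 0), (8, 1, 1)], [(14, 1, 0)], [(15, 1, 0)], [(16, 1, 0)], [(17, 1, 0)], [(18, 1, 0)], [(19, 1, 0)], [(20, 1, 0)], [(21, 1, 0)], [(22, 1, 0), (9, -1, 2), (0, -1, 1), (1, 0, 1), (2, 0, 1), (3, 0, 1)], [(23, 1, 0), (18, -1, 1)], [(24, 1, 0), (19, -1, 1)], [(25, 1, 0), (20, -1, 1)], [(26, 1, 0), (21, -1, 1)], [(27, 1, 0)]],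
  [[(0, 1, 0), (10, -1, 1)], [(1, 1, 0), (10, 0, 1)], [(2, 1, 0), (10, 1, 1)], [(3, 1, 0), (10, 1, 1)], [(4, 1, 0)], [(5, 1, 0)], [(6, 1, 0)], [(7, 1, 0)], [(8, 1, 0), (4, -1, 1)], [(9, 1, 0), (5, -1, 1)], [(10, 1, 0)], [(11, 1, 0)], [(12, 1, 0)], [(13, 1, 0)], [(14, 1, 0)], [(15, 1, 0)], [(16, 1, 0), (11, 1, 1)], [(17, 1, 0), (12, 1, 1)], [(18, 1, 0)], [(19, 1, 0), (14, -1, 1)], [(20, 1, 0), (15, -1, 1)], [(21, 1, 0), (10, -1, 2), (0, 0, 1), (1, -1, 1), (2, -1, 1), (3, -1, 1)], [(22, 1, 0)], [(23, 1, 0)], [(24, 1, 0)], [(25, 1, 0)], [(26, 1, 0), (22, 1, 1)], [(27, 1, 0), (23, 1, 1)]],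
  [[(0, 1, 0), (11, -1, 1)], [(1, 1, 0), (11, 1, 1)], [(2, 1, 0), (11, 1, 1)], [(3, 1, 0), (11, -1, 1)], [(4, 1, 0)], [(5, 1, 0)], [(6, 1, 0)], [(7, 1, 0), (4, 1, 1)], [(8, 1, 0)], [(9, 1, 0), (6, -1, 1)], [(10, 1, 0)], [(11, 1, 0)], [(12, 1, 0)], [(13, 1, 0)], [(14, 1, 0)], [(15, 1, 0), (10, 1, 1)], [(16, 1, 0)], [(17, 1, 0), (13, 1, 1)], [(18, 1, 0), (14, -1, 1)], [(19, 1, 0)], [(20, 1, 0), (11, -1, 2), (0, 0, 1), (1, -1, 1), (2, -1, 1), (3, 0, 1)], [(21, 1, 0), (16, -1, 1)], [(22, 1, 0)], [(23, 1, 0)], [(24, 1, 0)], [(25, 1, 0), (22, 1, 1)], [(26, 1, 0)], [(27, 1, 0), (24, -1, 1)]],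
  [[(0, 1, 0), (12, -1, 1)], [(1, 1, 0), (12, 1, 1)], [(2, 1, 0), (12, -1, 1)], [(3, 1, 0), (12, 1, 1)], [(4, 1, 0)], [(5, 1, 0)], [(6, 1, 0), (4, 1, 1)], [(7, 1, 0)], [(8, 1, 0)], [(9, 1, 0), (7, -1, 1)], [(10, 1, 0)], [(11, 1, 0)], [(12, 1, 0)], [(13, 1, 0)], [(14, 1, 0), (10, 1, 1)], [(15, 1, 0)], [(16, 1, 0), (13, 1, 1)], [(17, 1, 0)], [(18, 1, 0), (15, -1, 1)], [(19, 1, 0), (12, -1, 2), (0, 0, 1), (1, -1, 1), (2, 0, 1), (3, -1, 1)], [(20, 1, 0)], [(21, 1, 0), (17, -1, 1)], [(22, 1, 0)], [(23, 1, 0)], [(24, 1, 0), (22, 1, 1)], [(25, 1, 0)], [(26, 1, 0)], [(27, 1, 0), (25, -1, 1)]],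
  [[(0, 1, 0), (13, -1, 1)], [(1, 1, 0), (13, 2, 1)], [(2, 1, 0), (13, -1, 1)], [(3, 1, 0), (13, -1, 1)], [(4, 1, 0)], [(5, 1, 0), (4, -1, 1)], [(6, 1, 0)], [(7, 1, 0)], [(8, 1, 0)], [(9, 1, 0), (8, -1, 1)], [(10, 1, 0)], [(11, 1, 0)], [(12, 1, 0)], [(13, 1, 0)], [(14, 1, 0), (11, 1, 1)], [(15, 1, 0), (12, 1, 1)], [(16, 1, 0)], [(17, 1, 0)], [(18, 1, 0), (13, -1, 2), (0, 0, 1), (1, -1, 1), (2, 0, 1), (3, 0, 1)], [(19, 1, 0), (16, -1, 1)], [(20, 1, 0), (17, -1, 1)], [(21, 1, 0)], [(22, 1, 0)], [(23, 1, 0), (22, 1, 1)], [(24, 1, 0)], [(25, 1, 0)], [(26, 1, 0)], [(27, 1, 0), (26, 1, 1)]],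
  [[(0, 1, 0), (14, 0, 1)], [(1, 1, 0), (14, -1, 1)], [(2, 1, 0), (14, 2, 1)], [(3, 1, 0), (14, 0, 1)], [(4, 1, 0)], [(5, 1, 0)], [(6, 1, 0)], [(7, 1, 0), (5, -1, 1)], [(8, 1, 0), (6, -1, 1)], [(9, 1, 0)], [(10, 1, 0)], [(11, 1, 0)], [(12, 1, 0), (10, -1, 1)], [(13, 1, 0), (11, -1, 1)], [(14, 1, 0)], [(15, 1, 0)], [(16, 1, 0)], [(17, 1, 0), (14, -1, 2), (0, 0, 1), (1, 0, 1), (2, -1, 1), (3, 0, 1)], [(18, 1, 0)], [(19, 1, 0)], [(20, 1, 0), (18, 1, 1)], [(21, 1, 0), (19, 1, 1)], [(22, 1, 0)], [(23, 1, 0)], [(24, 1, 0)], [(25, 1, 0), (23, 1, 1)], [(26, 1, 0), (24, 1, 1)], [(27, 1, 0)]],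
  [[(0, 1, 0), (15, 0, 1)], [(1, 1, 0), (15, -1, 1)], [(2, 1, 0), (15, 0, 1)], [(3, 1, 0), (15, 2, 1)], [(4, 1, 0)], [(5, 1, 0)], [(6, 1, 0), (5, -1, 1)], [(7, 1, 0)], [(8, 1, 0), (7, -1, 1)], [(9, 1, 0)], [(10, 1, 0)], [(11, 1, 0), (10, -1, 1)], [(12, 1, 0)], [(13, 1, 0), (12, -1, 1)], [(14, 1, 0)], [(15, 1, 0)], [(16, 1, 0), (15, -1, 2), (0, 0, 1), (1, 0, 1), (2, 0, 1), (3, -1, 1)], [(17, 1, 0)], [(18, 1, 0)], [(19, 1, 0), (18, 1, 1)], [(20, 1, 0)], [(21, 1, 0), (20, 1, 1)], [(22, 1, 0)], [(23, 1, 0)], [(24, 1, 0), (23, 1, 1)], [(25, 1, 0)], [(26, 1, 0), (25, 1, 1)], [(27, 1, 0)]],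
  [[(0, 1, 0), (16, 0, 1)], [(1, 1, 0), (16, 1, 1)], [(2, 1, 0), (16, 0, 1)], [(3, 1, 0), (16, -2, 1)], [(4, 1, 0)], [(5, 1, 0), (6, -1, 1)], [(6, 1, 0)], [(7, 1, 0), (8, -1, 1)], [(8, 1, 0)], [(9, 1, 0)], [(10, 1, 0), (11, -1, 1)], [(11, 1, 0)], [(12, 1, 0), (13, -1, 1)], [(13, 1, 0)], [(14, 1, 0)], [(15, 1, 0), (16, -1, 2), (0, 0, 1), (1, 0, 1), (2, 0, 1), (3, 1, 1)], [(16, 1, 0)], [(17, 1, 0)], [(18, 1, 0), (19, 1, 1)], [(19, 1, 0)], [(20, 1, 0), (21, 1, 1)], [(21, 1, 0)], [(22, 1, 0)], [(23, 1, 0), (24, 1, 1)], [(24, 1, 0)], [(25, 1, 0), (26, 1, 1)], [(26, 1, 0)], [(27, 1, 0)]],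
  [[(0, 1, 0), (17, 0, 1)], [(1, 1, 0), (17, 1, 1)], [(2, 1, 0), (17, -2, 1)], [(3, 1, 0), (17, 0, 1)], [(4, 1, 0)], [(5, 1, 0), (7, -1, 1)], [(6, 1, 0), (8, -1, 1)], [(7, 1, 0)], [(8, 1, 0)], [(9, 1, 0)], [(10, 1, 0), (12, -1, 1)], [(11, 1, 0), (13, -1, 1)], [(12, 1, 0)], [(13, 1, 0)], [(14, 1, 0), (17, -1, 2), (0, 0, 1), (1, 0, 1), (2, 1, 1), (3, 0, 1)], [(15, 1, 0)], [(16, 1, 0)], [(17, 1, 0)], [(18, 1, 0), (20, 1, 1)], [(19, 1, 0), (21, 1, 1)], [(20, 1, 0)], [(21, 1, 0)], [(22, 1, 0)], [(23, 1, 0), (25, 1, 1)], [(24, 1, 0), (26, 1, 1)], [(25, 1, 0)], [(26, 1, 0)], [(27, 1, 0)]],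
  [[(0, 1, 0), (18, 1, 1)], [(1, 1, 0), (18, -2, 1)], [(2, 1, 0), (18, 1, 1)], [(3, 1, 0), (18, 1, 1)], [(4, 1, 0), (5, -1, 1)], [(5, 1, 0)], [(6, 1, 0)], [(7, 1, 0)], [(8, 1, 0), (9, -1, 1)], [(9, 1, 0)], [(10, 1, 0)], [(11, 1, 0), (14, 1, 1)], [(12, 1, 0), (15, 1, 1)], [(13, 1, 0), (18, -1, 2), (0, 0, 1), (1, 1, 1), (2, 0, 1), (3, 0, 1)], [(14, 1, 0)], [(15, 1, 0)], [(16, 1, 0), (19, -1, 1)], [(17, 1, 0), (20, -1, 1)], [(18, 1, 0)], [(19, 1, 0)], [(20, 1, 0)], [(21, 1, 0)], [(22, 1, 0), (23, 1, 1)], [(23, 1, 0)], [(24, 1, 0)], [(25, 1, 0)], [(26, 1, 0), (27, 1, 1)], [(27, 1, 0)]],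
  [[(0, 1, 0), (19, 1, 1)], [(1, 1, 0), (19, -1, 1)], [(2, 1, 0), (19, 1, 1)], [(3, 1, 0), (19, -1, 1)], [(4, 1, 0), (6, 1, 1)], [(5, 1, 0)], [(6, 1, 0)], [(7, 1, 0), (9, -1, 1)], [(8, 1, 0)], [(9, 1, 0)], [(10, 1, 0), (14, 1, 1)], [(11, 1, 0)], [(12, 1, 0), (19, -1, 2), (0, 0, 1), (1, 1, 1), (2, 0, 1), (3, 1, 1)], [(13, 1, 0), (16, 1, 1)], [(14, 1, 0)], [(15, 1, 0), (18, -1, 1)], [(16, 1, 0)], [(17, 1, 0), (21, -1, 1)], [(18, 1, 0)], [(19, 1, 0)], [(20, 1, 0)], [(21, 1, 0)], [(22, 1, 0), (24, 1, 1)], [(23, 1, 0)], [(24, 1, 0)], [(25, 1, 0), (27, -1, 1)], [(26, 1, 0)], [(27, 1, 0)]],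
  [[(0, 1, 0), (20, 1, 1)], [(1, 1, 0), (20, -1, 1)], [(2, 1, 0), (20, -1, 1)], [(3, 1, 0), (20, 1, 1)], [(4, 1, 0), (7, 1, 1)], [(5, 1, 0)], [(6, 1, 0), (9, -1, 1)], [(7, 1, 0)], [(8, 1, 0)], [(9, 1, 0)], [(10, 1, 0), (15, 1, 1)], [(11, 1, 0), (20, -1, 2), (0, 0, 1), (1, 1, 1), (2, 1, 1), (3, 0, 1)], [(12, 1, 0)], [(13, 1, 0), (17, 1, 1)], [(14, 1, 0), (18, -1, 1)], [(15, 1, 0)], [(16, 1, 0), (21, -1, 1)], [(17, 1, 0)], [(18, 1, 0)], [(19, 1, 0)], [(20, 1, 0)], [(21, 1, 0)], [(22, 1, 0), (25, 1, 1)], [(23, 1, 0)], [(24, 1, 0), (27, -1, 1)], [(25, 1, 0)], [(26, 1, 0)], [(27, 1, 0)]],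
  [[(0, 1, 0), (21, 1, 1)], [(1, 1, 0), (21, 0, 1)], [(2, 1, 0), (21, -1, 1)], [(3, 1, 0), (21, -1, 1)], [(4, 1, 0), (8, -1, 1)], [(5, 1, 0), (9, -1, 1)], [(6, 1, 0)], [(7, 1, 0)], [(8, 1, 0)], [(9, 1, 0)], [(10, 1, 0), (21, -1, 2), (0, 0, 1), (1, 1, 1), (2, 1, 1), (3, 1, 1)], [(11, 1, 0), (16, 1, 1)], [(12, 1, 0), (17, 1, 1)], [(13, 1, 0)], [(14, 1, 0), (19, -1, 1)], [(15, 1, 0), (20, -1, 1)], [(16, 1, 0)], [(17, 1, 0)], [(18, 1, 0)], [(19, 1, 0)], [(20, 1, 0)], [(21, 1, 0)], [(22, 1, 0), (26, 1, 1)], [(23, 1, 0), (27, 1, 1)], [(24, 1, 0)], [(25, 1, 0)], [(26, 1, 0)], [(27, 1, 0)]],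
  [[(0, 1, 0), (22, -2, 1)], [(1, 1, 0), (22, 1, 1)], [(2, 1, 0), (22, 0, 1)], [(3, 1, 0), (22, 0, 1)], [(4, 1, 0)], [(5, 1, 0), (10, 1, 1)], [(6, 1, 0), (11, 1, 1)], [(7, 1, 0), (12, 1, 1)], [(8, 1, 0), (13, 1, 1)], [(9, 1, 0), (22, -1, 2), (0, 1, 1), (1, 0, 1), (2, 0, 1), (3, 0, 1)], [(10, 1, 0)], [(11, 1, 0)], [(12, 1, 0)], [(13, 1, 0)], [(14, 1, 0)], [(15, 1, 0)], [(16, 1, 0)], [(17, 1, 0)], [(18, 1, 0), (23, -1, 1)], [(19, 1, 0), (24, -1, 1)], [(20, 1, 0), (25, -1, 1)], [(21, 1, 0), (26, -1, 1)], [(22, 1, 0)], [(23, 1, 0)], [(24, 1, 0)], [(25, 1, 0)], [(26, 1, 0)], [(27, 1, 0)]],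
  [[(0, 1, 0), (23, -1, 1)], [(1, 1, 0), (23, -1, 1)], [(2, 1, 0), (23, 1, 1)], [(3, 1, 0), (23, 1, 1)], [(4, 1, 0), (10, 1, 1)], [(5, 1, 0)], [(6, 1, 0), (14, 1, 1)], [(7, 1, 0), (15, 1, 1)], [(8, 1, 0), (23, -1, 2), (0, 1, 1), (1, 1, 1), (2, 0, 1), (3, 0, 1)], [(9, 1, 0), (18, 1, 1)], [(10, 1, 0)], [(11, 1, 0)], [(12, 1, 0)], [(13, 1, 0), (22, -1, 1)], [(14, 1, 0)], [(15, 1, 0)], [(16, 1, 0), (24, -1, 1)], [(17, 1, 0), (25, -1, 1)], [(18, 1, 0)], [(19, 1, 0)], [(20, 1, 0)], [(21, 1, 0), (27, -1, 1)], [(22, 1, 0)], [(23, 1, 0)], [(24, 1, 0)], [(25, 1, 0)], [(26, 1, 0)], [(27, 1, 0)]],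
  [[(0, 1, 0), (24, -1, 1)], [(1, 1, 0), (24, 0, 1)], [(2, 1, 0), (24, 1, 1)], [(3, 1, 0), (24, -1, 1)], [(4, 1, 0), (11, -1, 1)], [(5, 1, 0), (14, 1, 1)], [(6, 1, 0)], [(7, 1, 0), (24, -1, 2), (0, 1, 1), (1, 1, 1), (2, 0, 1), (3, 1, 1)], [(8, 1, 0), (16, 1, 1)], [(9, 1, 0), (19, 1, 1)], [(10, 1, 0)], [(11, 1, 0)], [(12, 1, 0), (22, -1, 1)], [(13, 1, 0)], [(14, 1, 0)], [(15, 1, 0), (23, -1, 1)], [(16, 1, 0)], [(17, 1, 0), (26, -1, 1)], [(18, 1, 0)], [(19, 1, 0)], [(20, 1, 0), (27, 1, 1)], [(21, 1, 0)], [(22, 1, 0)], [(23, 1, 0)], [(24, 1, 0)], [(25, 1, 0)], [(26, 1, 0)], [(27, 1, 0)]],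
  [[(0, 1, 0), (25, -1, 1)], [(1, 1, 0), (25, 0, 1)], [(2, 1, 0), (25, -1, 1)], [(3, 1, 0), (25, 1, 1)], [(4, 1, 0), (12, -1, 1)], [(5, 1, 0), (15, 1, 1)], [(6, 1, 0), (25, -1, 2), (0, 1, 1), (1, 1, 1), (2, 1, 1), (3, 0, 1)], [(7, 1, 0)], [(8, 1, 0), (17, 1, 1)], [(9, 1, 0), (20, 1, 1)], [(10, 1, 0)], [(11, 1, 0), (22, -1, 1)], [(12, 1, 0)], [(13, 1, 0)], [(14, 1, 0), (23, -1, 1)], [(15, 1, 0)], [(16, 1, 0), (26, -1, 1)], [(17, 1, 0)], [(18, 1, 0)], [(19, 1, 0), (27, 1, 1)], [(20, 1, 0)], [(21, 1, 0)], [(22, 1, 0)], [(23, 1, 0)], [(24, 1, 0)], [(25, 1, 0)], [(26, 1, 0)], [(27, 1, 0)]],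
  [[(0, 1, 0), (26, -1, 1)], [(1, 1, 0), (26, 1, 1)], [(2, 1, 0), (26, -1, 1)], [(3, 1, 0), (26, -1, 1)], [(4, 1, 0), (13, 1, 1)], [(5, 1, 0), (26, -1, 2), (0, 1, 1), (1, 1, 1), (2, 1, 1), (3, 1, 1)], [(6, 1, 0), (16, 1, 1)], [(7, 1, 0), (17, 1, 1)], [(8, 1, 0)], [(9, 1, 0), (21, 1, 1)], [(10, 1, 0), (22, -1, 1)], [(11, 1, 0)], [(12, 1, 0)], [(13, 1, 0)], [(14, 1, 0), (24, -1, 1)], [(15, 1, 0), (25, -1, 1)], [(16, 1, 0)], [(17, 1, 0)], [(18, 1, 0), (27, -1, 1)], [(19, 1, 0)], [(20, 1, 0)], [(21, 1, 0)], [(22, 1, 0)], [(23, 1, 0)], [(24, 1, 0)], [(25, 1, 0)], [(26, 1, 0)], [(27, 1, 0)]],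
  [[(0, 1, 0), (27, 0, 1)], [(1, 1, 0), (27, -1, 1)], [(2, 1, 0), (27, 0, 1)], [(3, 1, 0), (27, 0, 1)], [(4, 1, 0), (27, -1, 2), (0, 1, 1), (1, 2, 1), (2, 1, 1), (3, 1, 1)], [(5, 1, 0), (18, 1, 1)], [(6, 1, 0), (19, -1, 1)], [(7, 1, 0), (20, -1, 1)], [(8, 1, 0), (21, 1, 1)], [(9, 1, 0)], [(10, 1, 0), (23, -1, 1)], [(11, 1, 0), (24, 1, 1)], [(12, 1, 0), (25, 1, 1)], [(13, 1, 0), (26, -1, 1)], [(14, 1, 0)], [(15, 1, 0)], [(16, 1, 0)], [(17, 1, 0)], [(18, 1, 0)], [(19, 1, 0)], [(20, 1, 0)], [(21, 1, 0)], [(22, 1, 0)], [(23, 1, 0)], [(24, 1, 0)], [(25, 1, 0)], [(26, 1, 0)], [(27, 1, 0)]]]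

/-- The table lookup. -/
def tcols (r j : ℕ) : List (ℕ × ℤ × ℕ) := nth [] (nth [] colTab r) j

theorem tcols_ok : ColsOK chevD4 tcols := by
  have h : ∀ r ∈ List.range 24, ∀ j ∈ List.range 28, tcols r j = col chevD4 r j := by
    decide +kernel
  intro r hr j hj
  exact h r (List.mem_range.2 hr) j (List.mem_range.2 hj)

end Cfsg.Agent.ChevalleyStructure.D4Tab
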