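import Cfsg.Prelude.Def_ChevD4
import Cfsg.Agent.ChevalleyStructure.CoreCheck

set_option autoImplicit false

namespace Cfsg.Agent.ChevalleyStructure.D4Tables

open Cfsg.Lie Cfsg.Agent.ChevalleyStructure.SparseAct Cfsg.Agent.ChevalleyStructure.CoreCheck

/-- Heights of the roots of D₄, by code. -/
def d4Height (j : ℕ) : ℤ :=
  [0, 0, 0, 0, -5, -4, -3, -3, -2, -1, -3, -2, -2, -1, -1, -1, 1, 1, 1, 2, 2, 3, 1, 2, 3, 3, 4, 5].getD j 0

theorem d4_checkU : checkU chevD4 d4Height = true := by decide +kernel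

theorem d4_checkH : (List.range 24).all (fun r => checkHRoot chevD4 0 r) = true := by decide +kernel

theorem d4_checkHRoot : ∀ r < chevD4.nroots, checkHRoot chevD4 0 r = true := by
  intro r hr
  exact List.all_eq_true.mp d4_checkH r (List.mem_range.mpr hr)

end Cfsg.Agent.ChevalleyStructure.D4Tables
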