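import Cfsg.Agent.ChevalleyStructure.D4Fixed

/-!
The diagonal subgroup of the Chevalley group of type D₄ as a torus with explicit characters, and its intersection
with ³D₄(q).
-/

set_option autoImplicit false

namespace Cfsg.Agent.ChevalleyStructure.D4Torus

open Cfsg.Lie
open Cfsg.Agent.ChevalleyStructure.SignedSymm
open Cfsg.Agent.ChevalleyStructure.GraphSymm
open Cfsg.Agent.ChevalleyStructure.D4Cols
open Cfsg.Agent.ChevalleyStructure.D4Fixed
open scoped Matrix

section Torus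
variable {F : Type*} [Field F]

/-- a diagonal matrix with unit entries as an element of `GL` -/
def diagU (d : chevD4.Idx → Fˣ) : GL chevD4.Idx F where
  val := Matrix.diagonal fun j => (d j : F)
  inv := Matrix.diagonal fun j => ((d j)⁻¹ : Fˣ)
  val_inv := by
    rw [Matrix.diagonal_mul_diagonal, ← Matrix.diagonal_one]
    congr 1
    funext j
    exact Units.mul_inv _
  inv_val := by
    rw [Matrix.diagonal_mul_diagonal, ← Matrix.diagonal_one]
    congr 1
    funext j
    exact Units.inv_mul _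

theorem coe_diagU (d : chevD4.Idx → Fˣ) :
    ((diagU d : GL chevD4.Idx F) : Matrix chevD4.Idx chevD4.Idx F) = Matrix.diagonal fun j => (d j : F) := rfl

theorem diagU_mul (d e : chevD4.Idx → Fˣ) : diagU d * diagU e = diagU (d * e) := by
  apply Units.ext
  show Matrix.diagonal _ * Matrix.diagonal _ = Matrix.diagonal _
  rw [Matrix.diagonal_mul_diagonal]
  rfl

theorem diagU_one : (diagU 1 : GL chevD4.Idx F) = 1 := by
  apply Units.ext
  show Matrix.diagonal (fun _ => ((1 : Fˣ) : F)) = 1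
  rw [Units.val_one]
  exact Matrix.diagonal_one

theorem diagU_injective : Function.Injective (diagU : (chevD4.Idx → Fˣ) → GL chevD4.Idx F) := by
  intro d e h
  have h' := congrArg (Units.val) h
  rw [coe_diagU, coe_diagU] at h'
  funext j
  apply Units.ext
  exact congrFun (Matrix.diagonal_injective h') j

/-- the value of the character `χ` of the root lattice (given on the fundamental roots) -/
def val (χ : Fin 4 → Fˣ) : chevD4.Idx → Fˣ
  | Sum.inl _ => 1
  | Sum.inr s => χ 0 ^ coef s.val 0 * (χ 1 ^ coef s.val 1 * (χ 2 ^ coef s.val 2 * χ 3 ^ coef s.val 3))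

/-- the torus element with character `χ` -/
def tor (χ : Fin 4 → Fˣ) : GL chevD4.Idx F := diagU (val χ)

theorem val_mul (χ ψ : Fin 4 → Fˣ) : val (χ * ψ) = val χ * val ψ := by
  funext j
  rcases j with i | s
  · exact (one_mul _).symm
  · show (χ 0 * ψ 0) ^ _ * ((χ 1 * ψ 1) ^ _ * ((χ 2 * ψ 2) ^ _ * (χ 3 * ψ 3) ^ _)) = (_ * _) * (_ * _)
    rw [mul_zpow, mul_zpow, mul_zpow, mul_zpow]
    exact (by
      have key : ∀ a a' b b' c c' d d' : Fˣ, (a * a') * ((b * b') * ((c * c') * (d * d'))) =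
        (a * (b * (c * d))) * (a' * (b' * (c' * d'))) := by
        intros; ac_rfl
      exact key _ _ _ _ _ _ _ _)

theorem tor_mul (χ ψ : Fin 4 → Fˣ) : tor χ * tor ψ = tor (χ * ψ) := by
  unfold tor
  rw [diagU_mul, val_mul]

theorem val_one : val (1 : Fin 4 → Fˣ) = 1 := by
  funext j
  rcases j with i | s
  · rfl
  · show (1 : Fˣ) ^ _ * ((1 : Fˣ) ^ _ * ((1 : Fˣ) ^ _ * (1 : Fˣ) ^ _)) = 1
    rw [one_zpow, one_zpow, one_zpow, one_zpow]
    simp

theorem tor_one : tor (1 : Fin 4 → Fˣ) = 1 := by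
  unfold tor
  rw [val_one, diagU_one]

/-- the torus as a monoid homomorphism -/
def torHom : (Fin 4 → Fˣ) →* GL chevD4.Idx F where
  toFun := tor
  map_one' := tor_one
  map_mul' χ ψ := (tor_mul χ ψ).symm

/-- root coordinate -/
abbrev R (s : ℕ) (hs : s < 24 := by norm_num) : chevD4.Idx := Sum.inr ⟨s, hs⟩

theorem val_18 (χ : Fin 4 → Fˣ) : val χ (R 18) = χ 0 := by
  show χ 0 ^ (1 : ℤ) * (χ 1 ^ (0 : ℤ) * (χ 2 ^ (0 : ℤ) * χ 3 ^ (0 : ℤ))) = _
  simp
theorem val_14 (χ : Fin 4 → Fˣ) : val χ (R 14) = χ 1 := by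
  show χ 0 ^ (0 : ℤ) * (χ 1 ^ (1 : ℤ) * (χ 2 ^ (0 : ℤ) * χ 3 ^ (0 : ℤ))) = _
  simp
theorem val_13 (χ : Fin 4 → Fˣ) : val χ (R 13) = χ 2 := by
  show χ 0 ^ (0 : ℤ) * (χ 1 ^ (0 : ℤ) * (χ 2 ^ (1 : ℤ) * χ 3 ^ (0 : ℤ))) = _
  simp
theorem val_12 (χ : Fin 4 → Fˣ) : val χ (R 12) = χ 3 := by
  show χ 0 ^ (0 : ℤ) * (χ 1 ^ (0 : ℤ) * (χ 2 ^ (0 : ℤ) * χ 3 ^ (1 : ℤ))) = _
  simp

theorem tor_injective : Function.Injective (tor : (Fin 4 → Fˣ) → GL chevD4.Idx F) := by
  intro χ ψ h
  have h' := diagU_injective h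
  funext i
  fin_cases i
  · have := congrFun h' (R 18)
    rwa [val_18, val_18] at this
  · have := congrFun h' (R 14)
    rwa [val_14, val_14] at this
  · have := congrFun h' (R 13)
    rwa [val_13, val_13] at this
  · have := congrFun h' (R 12)
    rwa [val_12, val_12] at this

/-- the character of `h_r(t)` -/
def hchar (r : ℕ) (t : Fˣ) : Fin 4 → Fˣ :=
  ![t ^ cart r 18, t ^ cart r 14, t ^ cart r 13, t ^ cart r 12]

theorem coe_tor_hchar {r : ℕ} (hr : r < 24) (t : Fˣ) :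
    ((tor (hchar r t) : GL chevD4.Idx F) : Matrix chevD4.Idx chevD4.Idx F) = chevD4.hMat F r (t : F) := by
  rw [hMat_eq_diagonal hr t.ne_zero]
  show Matrix.diagonal _ = Matrix.diagonal _
  congr 1
  funext j
  rcases j with i | s
  · show ((1 : Fˣ) : F) = (t : F) ^ (0 : ℤ)
    rw [zpow_zero, Units.val_one]
  · show (((t ^ cart r 18) ^ coef s.val 0 * ((t ^ cart r 14) ^ coef s.val 1 *
      ((t ^ cart r 13) ^ coef s.val 2 * (t ^ cart r 12) ^ coef s.val 3)) : Fˣ) : F) = (t : F) ^ cart r s.val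
    rw [cart_linear hr s.isLt, ← zpow_mul, ← zpow_mul, ← zpow_mul, ← zpow_mul, ← zpow_add, ← zpow_add,
      ← zpow_add, Units.val_zpow_eq_zpow_val, mul_comm (cart r 18), mul_comm (cart r 14), mul_comm (cart r 13),
      mul_comm (cart r 12)]

/-- Every element of the diagonal subgroup is a torus element. -/
theorem diagonal_le : chevD4.diagonalSubgroup F ≤ (torHom (F := F)).range := by
  show Subgroup.closure _ ≤ _
  rw [Subgroup.closure_le]
  rintro g ⟨r, t, hr, ht, hg⟩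
  refine ⟨hchar r (Units.mk0 t ht), Units.ext ?_⟩
  rw [hg]
  exact coe_tor_hchar hr (Units.mk0 t ht)

theorem tor_hchar_mem {r : ℕ} (hr : r < 24) (t : Fˣ) : tor (hchar r t) ∈ chevD4.diagonalSubgroup F :=
  Subgroup.subset_closure ⟨r, t, hr, t.ne_zero, coe_tor_hchar hr t⟩

end Torus

section Fix
variable {K : Type*} [Field K] (φ : K →+* K)

theorem val_perm_of_fix {d : chevD4.Idx → Kˣ} (h : diagU d ∈ fix φ) (j : chevD4.Idx) :
    (d (symmD4a.perm j) : K) = φ (d j) := by
  rw [mem_fix] at h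
  have h1 := congrArg Units.val h
  rw [coe_sig, coe_diagU] at h1
  have h2 : symmD4a.mat K * (Matrix.diagonal fun j => (d j : K)).map φ =
      (Matrix.diagonal fun j => (d j : K)) * symmD4a.mat K := by
    rw [← h1, mul_assoc (_ * _), symmD4a.matInv_mul_mat, mul_one]
    rw [h1]
  have h3 := congrFun (congrFun h2 (symmD4a.perm j)) j
  rw [symmD4a.mat_mul, symmD4a.mul_mat, Matrix.map_apply, Matrix.diagonal_apply_eq, Matrix.diagonal_apply_eq,
    mul_comm] at h3
  have h4 : ((symmD4a.sgn j : ℤ) : K) ≠ 0 := by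
    intro h0
    have := symmD4a.sgn_sq' K j
    rw [h0, zero_mul] at this
    exact zero_ne_one this
  exact (mul_right_cancel₀ h4 h3).symm

theorem tor_fix_iff_aux {χ : Fin 4 → Kˣ} (h : tor χ ∈ fix φ) :
    (χ 1 : K) = φ (χ 1) ∧ (χ 2 : K) = φ (χ 0) ∧ (χ 3 : K) = φ (χ 2) ∧ (χ 0 : K) = φ (χ 3) := by
  have h18 := val_perm_of_fix φ h (R 18)
  have h14 := val_perm_of_fix φ h (R 14)
  have h13 := val_perm_of_fix φ h (R 13)
  have h12 := val_perm_of_fix φ h (R 12)
  have e18 : symmD4a.perm (R 18) = R 13 := rfl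
  have e14 : symmD4a.perm (R 14) = R 14 := rfl
  have e13 : symmD4a.perm (R 13) = R 12 := rfl
  have e12 : symmD4a.perm (R 12) = R 18 := rfl
  rw [e18, val_13, val_18] at h18
  rw [e14, val_14] at h14
  rw [e13, val_12, val_13] at h13
  rw [e12, val_18, val_12] at h12
  exact ⟨h14, h18, h13, h12⟩

end Fix

end Cfsg.Agent.ChevalleyStructure.D4Torus
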