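import Cfsg.Agent.ChevalleyStructure.D4Perm
import Cfsg.Agent.ChevalleyStructure.D4H1

/-!
The monomial subgroup `N¹ = N ⊓ ³D₄(q)` of the twisted group: `N¹ = ⟨n_α, n_β⟩ H¹`, and its permutation action on
the 24 roots.
-/

set_option autoImplicit false

namespace Cfsg.Agent.ChevalleyStructure.D4TwN

open Cfsg.Lie
open Cfsg.Agent.ChevalleyStructure.D4Comm Cfsg.Agent.ChevalleyStructure.D4NCheck
open Cfsg.Agent.ChevalleyStructure.D4NConj Cfsg.Agent.ChevalleyStructure.D4RGD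
open Cfsg.Agent.ChevalleyStructure.D4Perm
open Cfsg.Agent.ChevalleyStructure.D4Cols
open Cfsg.Agent.ChevalleyStructure.D4Fixed
open Cfsg.Agent.ChevalleyStructure.GraphSymm

variable {K : Type*} [Field K] (φ : K →+* K)

theorem xU_eq (r : ℕ) (t : K) : xU r t = xG r t := Units.ext rfl

theorem wU_nWord_eq {r : ℕ} (hr : r < 24) (t : K) : wU (chevD4.nWord r t) = nR r t := by
  apply Units.ext
  rw [coe_wU, coe_nR hr]
  rfl

/-- `σ x_r(t) = x_{ρ r}(ε_r φ(t))` -/
theorem sig_xG (r : Fin 24) (t : K) : ∃ ε : K, ε ≠ 0 ∧ sig φ (xG r.val t) = xG (rho r).val (ε * φ t) := by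
  refine ⟨((symmD4a.ε r : ℤ) : K), ?_, ?_⟩
  · intro h
    have h1 := symmD4a.ε_sq' K r
    rw [h, mul_zero] at h1
    exact zero_ne_one h1
  · apply Units.ext
    rw [coe_sig, coe_xG, coe_xG, Cfsg.Agent.ChevStructure.FieldMap.x_map, rho_eq]
    exact symmD4a.mat_conj_x K r (φ t)

/-- The permutation of an element of `N` fixed by `σ` commutes with triality. -/
theorem comm_of_fix {g : chevD4.monomialSubgroup K} (hg : g.1 ∈ fix φ) :
    rho * permD4 K g = permD4 K g * rho := by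
  ext r
  rw [Equiv.Perm.mul_apply, Equiv.Perm.mul_apply]
  have hg' : sig φ g.1 = g.1 := hg
  obtain ⟨ε, hε, e⟩ := sig_xG φ r 1
  -- `g x_r(1) g⁻¹ = x_{w r}(u)`
  obtain ⟨u, hu⟩ := mem_rootSubgroup.1 ((permD4_spec g r (xG r.val 1)).1 (xG_mem_rootSubgroup _ _))
  have hu0 : u ≠ 0 := by
    rintro rfl
    rw [xG_zero, conj_eq_one_iff, xG_eq_one_iff r.2] at hu
    exact one_ne_zero hu
  obtain ⟨ε', hε', e'⟩ := sig_xG φ (permD4 K g r) u
  have h1 : g.1 * sig φ (xG r.val 1) * g.1⁻¹ = xG (rho (permD4 K g r)).val (ε' * φ u) := by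
    rw [← e', ← hu, map_mul, map_mul, map_inv, hg']
  rw [e] at h1
  obtain ⟨v, hv⟩ := mem_rootSubgroup.1
    ((permD4_spec g (rho r) (xG (rho r).val (ε * φ 1))).1 (xG_mem_rootSubgroup _ _))
  rw [h1] at hv
  have hne : ε' * φ u ≠ 0 := mul_ne_zero hε' (by rwa [Ne, map_eq_zero])
  exact eq_of_xG_eq (Fin.is_lt _) (Fin.is_lt _) hne hv

variable {φ} {q : ℕ}

theorem nB_mem_twisted (hφ : ∀ x, φ x = x ^ q) : nB K ∈ twistedD4 K q := by
  have h := D4H1.n14_mem (φ := φ) hφ (map_one φ)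
  rw [wU_nWord_eq (by norm_num)] at h
  exact h

theorem nA_mem_twisted (hφ : ∀ x, φ x = x ^ q) : nA K ∈ twistedD4 K q := by
  have h := D4H1.n_outer_mem (φ := φ) hφ 1
  rw [map_one, map_one, wU_nWord_eq (by norm_num), wU_nWord_eq (by norm_num), wU_nWord_eq (by norm_num)] at h
  exact h

/-- The group of permutations of the 24 roots generated by the two relative reflections. -/
def WT : Subgroup (Equiv.Perm (Fin 24)) := Subgroup.closure {wA, wB}

theorem WT_def : WT = Subgroup.closure {wA, wB} := rfl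

theorem wA_mem : wA ∈ WT := Subgroup.subset_closure (by simp)
theorem wB_mem : wB ∈ WT := Subgroup.subset_closure (by simp)

/-- The elements of `GL` acting on the root subgroups through `WT`. -/
def actsIn (K : Type*) [Field K] : Subgroup (GL chevD4.Idx K) where
  carrier := {g | ∃ w ∈ WT, (d4rgd K).Acts g w}
  mul_mem' := by
    rintro g h ⟨w, hw, ha⟩ ⟨w', hw', ha'⟩
    exact ⟨w * w', mul_mem hw hw', ha.mul ha'⟩
  one_mem' := ⟨1, one_mem _, (d4rgd K).acts_one⟩
  inv_mem' := by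
    rintro g ⟨w, hw, ha⟩
    exact ⟨w⁻¹, inv_mem hw, ha.inv⟩

theorem NT_le_actsIn (K : Type*) [Field K] : NT K ≤ actsIn K := by
  rw [NT_def]
  refine sup_le ?_ ?_
  · rw [Subgroup.closure_le]
    rintro g (rfl | rfl)
    · exact ⟨wA, wA_mem, acts_nA K⟩
    · exact ⟨wB, wB_mem, acts_nB K⟩
  · intro h hh
    exact ⟨1, one_mem _, (d4rgd K).acts_of_mem_H hh⟩

theorem permD4_mem_WT {g : chevD4.monomialSubgroup K} (h : g.1 ∈ NT K) : permD4 K g ∈ WT := by
  obtain ⟨w, hw, ha⟩ := NT_le_actsIn K h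
  rw [permD4_eq ha]
  exact hw

variable [Fintype K]

/-- The elements of `N¹` lie in `⟨n_α, n_β⟩ H`. -/
theorem mem_NT (hK : Fintype.card K = q ^ 3) (hφ : ∀ x, φ x = x ^ q) {g : GL chevD4.Idx K}
    (hg : g ∈ chevD4.monomialSubgroup K ⊓ twistedD4 K q) : g ∈ NT K :=
  mem_NT_of_comm (g := ⟨g, hg.1⟩) (comm_of_fix φ (twisted_le_fix hK hφ hg.2))

/-- `N¹ = ⟨n_α, n_β⟩ H¹`. -/
theorem N1_eq (hK : Fintype.card K = q ^ 3) (hφ : ∀ x, φ x = x ^ q) :
    chevD4.monomialSubgroup K ⊓ twistedD4 K q =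
      Subgroup.closure {nA K, nB K} ⊔ (chevD4.diagonalSubgroup K ⊓ twistedD4 K q) := by
  have hc : Subgroup.closure {nA K, nB K} ≤ chevD4.monomialSubgroup K ⊓ twistedD4 K q := by
    rw [Subgroup.closure_le]
    rintro g (rfl | rfl)
    · exact ⟨nA_mem K, nA_mem_twisted hφ⟩
    · exact ⟨nB_mem K, nB_mem_twisted hφ⟩
  apply le_antisymm
  · intro g hg
    have h1 := mem_NT hK hφ hg
    have h2 : Subgroup.closure {nA K, nB K} ≤
        Subgroup.normalizer (chevD4.diagonalSubgroup K : Set (GL chevD4.Idx K)) := by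
      intro n hn
      have hn' : n ∈ chevD4.monomialSubgroup K := (hc hn).1
      rw [Subgroup.mem_normalizer_iff]
      intro h
      constructor
      · exact fun hh => conj_mem_diagonal hn' hh
      · intro hh
        have := conj_mem_diagonal (inv_mem hn') hh
        have e : n⁻¹ * (n * h * n⁻¹) * n⁻¹⁻¹ = h := by group
        rwa [e] at this
    rw [NT_def] at h1
    have h3 : (g : GL chevD4.Idx K) ∈ ((Subgroup.closure {nA K, nB K} ⊔ chevD4.diagonalSubgroup K :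
        Subgroup (GL chevD4.Idx K)) : Set (GL chevD4.Idx K)) := h1
    rw [Subgroup.coe_mul_of_left_le_normalizer_right _ _ h2] at h3
    obtain ⟨n, hn, h, hh, rfl⟩ := h3
    have hn' : n ∈ twistedD4 K q := (hc hn).2
    have hh2 : h ∈ twistedD4 K q := by
      have h4 : n⁻¹ * (n * h) ∈ twistedD4 K q := mul_mem (inv_mem hn') hg.2
      rwa [inv_mul_cancel_left] at h4
    exact mul_mem (Subgroup.mem_sup_left hn) (Subgroup.mem_sup_right ⟨hh, hh2⟩)
  · exact sup_le hc (inf_le_inf_right _ (diagonal_le_monomial K))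

/-- The action of `N¹` on the 24 roots. -/
noncomputable def permT (K : Type*) [Field K] (q : ℕ) :
    ↥(chevD4.monomialSubgroup K ⊓ twistedD4 K q) →* Equiv.Perm (Fin 24) :=
  (permD4 K).comp (Subgroup.inclusion inf_le_left)

omit [Fintype K] in
theorem permT_apply (g : ↥(chevD4.monomialSubgroup K ⊓ twistedD4 K q)) :
    permT K q g = permD4 K ⟨g.1, g.2.1⟩ := rfl

theorem ker_permT (K : Type*) [Field K] (q : ℕ) : (permT K q).ker =
    (chevD4.diagonalSubgroup K ⊓ twistedD4 K q).subgroupOf (chevD4.monomialSubgroup K ⊓ twistedD4 K q) := by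
  ext g
  rw [MonoidHom.mem_ker, Subgroup.mem_subgroupOf]
  have h : permT K q g = 1 ↔ g.1 ∈ chevD4.diagonalSubgroup K := permD4_eq_one_iff ⟨g.1, g.2.1⟩
  rw [h]
  exact ⟨fun h => ⟨h, g.2.2⟩, fun h => h.1⟩

theorem range_permT (hK : Fintype.card K = q ^ 3) (hφ : ∀ x, φ x = x ^ q) : (permT K q).range = WT := by
  apply le_antisymm
  · rintro _ ⟨g, rfl⟩
    rw [permT_apply]
    exact permD4_mem_WT (g := ⟨g.1, g.2.1⟩) (mem_NT hK hφ g.2)
  · rw [WT_def, Subgroup.closure_le]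
    rintro w (rfl | rfl)
    · exact ⟨⟨nA K, nA_mem K, nA_mem_twisted hφ⟩, permD4_nA K⟩
    · exact ⟨⟨nB K, nB_mem K, nB_mem_twisted hφ⟩, permD4_nB K⟩

end Cfsg.Agent.ChevalleyStructure.D4TwN
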