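import Cfsg.Agent.ChevalleyStructure.D4Pos
import Cfsg.Agent.ChevalleyStructure.D4H1
import Cfsg.Agent.ChevalleyStructure.D4RGD

/-!
The twisted group ³D₄(q): relative root groups in the positive unipotent group, `U ⊓ G¹ = U ⊓ Fix σ` and its
unique product decomposition.
-/

set_option autoImplicit false

namespace Cfsg.Agent.ChevalleyStructure.D4U

open Cfsg.Lie
open Cfsg.Agent.ChevalleyStructure.SignedSymm
open Cfsg.Agent.ChevalleyStructure.GraphSymm
open Cfsg.Agent.ChevalleyStructure.D4Fixed (sig coe_sig fix mem_fix twisted_le_fix twisted_induction)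
open Cfsg.Agent.ChevalleyStructure.D4Cols (xU coe_xU wU)
open Cfsg.Agent.ChevalleyStructure.D4Comm
open Cfsg.Agent.ChevalleyStructure.D4CommTab
open Cfsg.Agent.ChevalleyStructure.D4Pos
open Cfsg.Agent.ChevalleyStructure.D4NCheck
open Cfsg.Agent.ChevalleyStructure.D4NConj (nR nR_def nG nG_conj nG_def)
open Cfsg.Agent.ChevalleyStructure.TwistedU
open scoped commutatorElement

section
variable {K : Type*} [Field K] (φ : K →+* K)

theorem xU_eq (r : ℕ) (t : K) : (xU r t : GL chevD4.Idx K) = xG r t := Units.ext (by rw [coe_xU, coe_xG])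

theorem sig_xG {r s : ℕ} {c : ℤ} (hr : r < 24) (hs : (symmD4a.σ ⟨r, hr⟩).val = s)
    (he : symmD4a.ε ⟨r, hr⟩ = c) (t : K) : sig φ (xG r t) = xG s ((c : K) * φ t) := by
  apply Units.ext
  rw [coe_sig, coe_xG, coe_xG, Cfsg.Agent.ChevStructure.FieldMap.x_map]
  have := symmD4a.mat_conj_x K ⟨r, hr⟩ (φ t)
  rw [he, hs] at this
  exact this

theorem sig_12 (t : K) : sig φ (xG 12 t) = xG 18 (φ t) := by
  simpa using sig_xG φ (r := 12) (s := 18) (c := 1) (by norm_num) rfl rfl t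
theorem sig_13 (t : K) : sig φ (xG 13 t) = xG 12 (φ t) := by
  simpa using sig_xG φ (r := 13) (s := 12) (c := 1) (by norm_num) rfl rfl t
theorem sig_14 (t : K) : sig φ (xG 14 t) = xG 14 (φ t) := by
  simpa using sig_xG φ (r := 14) (s := 14) (c := 1) (by norm_num) rfl rfl t
theorem sig_15 (t : K) : sig φ (xG 15 t) = xG 19 (-φ t) := by
  simpa using sig_xG φ (r := 15) (s := 19) (c := -1) (by norm_num) rfl rfl t
theorem sig_16 (t : K) : sig φ (xG 16 t) = xG 15 (φ t) := by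
  simpa using sig_xG φ (r := 16) (s := 15) (c := 1) (by norm_num) rfl rfl t
theorem sig_17 (t : K) : sig φ (xG 17 t) = xG 20 (-φ t) := by
  simpa using sig_xG φ (r := 17) (s := 20) (c := -1) (by norm_num) rfl rfl t
theorem sig_18 (t : K) : sig φ (xG 18 t) = xG 13 (φ t) := by
  simpa using sig_xG φ (r := 18) (s := 13) (c := 1) (by norm_num) rfl rfl t
theorem sig_19 (t : K) : sig φ (xG 19 t) = xG 16 (-φ t) := by
  simpa using sig_xG φ (r := 19) (s := 16) (c := -1) (by norm_num) rfl rfl t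
theorem sig_20 (t : K) : sig φ (xG 20 t) = xG 21 (φ t) := by
  simpa using sig_xG φ (r := 20) (s := 21) (c := 1) (by norm_num) rfl rfl t
theorem sig_21 (t : K) : sig φ (xG 21 t) = xG 17 (-φ t) := by
  simpa using sig_xG φ (r := 21) (s := 17) (c := -1) (by norm_num) rfl rfl t
theorem sig_22 (t : K) : sig φ (xG 22 t) = xG 22 (φ t) := by
  simpa using sig_xG φ (r := 22) (s := 22) (c := 1) (by norm_num) rfl rfl t
theorem sig_23 (t : K) : sig φ (xG 23 t) = xG 23 (φ t) := by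
  simpa using sig_xG φ (r := 23) (s := 23) (c := 1) (by norm_num) rfl rfl t

/-- commuting positive root elements -/
theorem xG_commute {r s : ℕ} (h : (decide (12 ≤ r) && decide (r < 24) && decide (12 ≤ s) && decide (s < 24) &&
    decide (s ≠ r) && (cm r s).isNone) = true) (t u : K) : Commute (xG r t : GL chevD4.Idx K) (xG s u) := by
  simp only [Bool.and_eq_true, decide_eq_true_eq, Option.isNone_iff_eq_none] at h
  obtain ⟨⟨⟨⟨⟨h1, h2⟩, h3⟩, h4⟩, h5⟩, h6⟩ := h
  rw [← commutatorElement_eq_one_iff_commute, xG_comm h1 h2 h3 h4 h5]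
  unfold cval
  rw [h6]

theorem rot3 {G : Type*} [Group G] {a b c : G} (h1 : Commute a c) (h2 : Commute b c) (R : G) :
    a * (b * (c * R)) = c * (a * (b * R)) := by
  rw [← mul_assoc b c R, h2.eq, mul_assoc, ← mul_assoc a c, h1.eq, mul_assoc]

/-- the action of `σ` on the coordinates of positive unipotent elements -/
def tw (t : ℕ → K) : ℕ → K
  | 12 => φ (t 13)
  | 13 => φ (t 18)
  | 14 => φ (t 14)
  | 15 => φ (t 16)
  | 16 => -φ (t 19)
  | 17 => -φ (t 21)
  | 18 => φ (t 12)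
  | 19 => -φ (t 15)
  | 20 => -φ (t 17)
  | 21 => φ (t 20)
  | 22 => φ (t 22)
  | 23 => φ (t 23)
  | _ => 0

theorem sig_lprod_outer (t : ℕ → K) : sig φ (lprod xG [18, 13, 12] t) = lprod xG [18, 13, 12] (tw φ t) := by
  simp only [lprod_cons, lprod_nil, map_mul, map_one, sig_12, sig_13, sig_18]
  rw [rot3 (xG_commute (by decide +kernel) _ _) (xG_commute (by decide +kernel) _ _)]
  rfl

theorem sig_lprod (t : ℕ → K) : sig φ (lprod xG ordA t) = lprod xG ordA (tw φ t) := by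
  unfold ordA
  simp only [lprod_cons, lprod_nil, map_mul, map_one, sig_12, sig_13, sig_14, sig_15, sig_16, sig_17, sig_18, sig_19,
    sig_20, sig_21, sig_22, sig_23]
  rw [rot3 (a := xG 13 _) (xG_commute (by decide +kernel) _ _) (xG_commute (by decide +kernel) _ _),
    rot3 (a := xG 16 _) (xG_commute (by decide +kernel) _ _) (xG_commute (by decide +kernel) _ _),
    rot3 (a := xG 17 _) (xG_commute (by decide +kernel) _ _) (xG_commute (by decide +kernel) _ _)]
  rfl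

theorem lprod_mem_fix_iff (t : ℕ → K) :
    (lprod xG ordA t : GL chevD4.Idx K) ∈ fix φ ↔ ∀ r ∈ ordA, t r = tw φ t r := by
  rw [mem_fix, sig_lprod]
  constructor
  · intro h
    exact lprod_inj ordA uniqB_ordA h.symm
  · intro h
    exact (lprod_congr xG h).symm

end

/-! ### relative root groups -/

section
variable {K : Type*} [Field K]

/-- `n_a = n_{p₂}(1)` -/
def na (K : Type*) [Field K] : GL chevD4.Idx K := nG K 1

/-- `n_b = n_{p₁}(1) n_{p₃}(1) n_{p₄}(1)` -/
def nb (K : Type*) [Field K] : GL chevD4.Idx K := nG K 0 * nG K 2 * nG K 3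

theorem na_conj {s : ℕ} (hs : s < 24) (t : K) :
    ∃ u : K, na K * xG s t * (na K)⁻¹ = xG (rfl' 1 s) u :=
  ⟨_, nG_conj (by norm_num) hs t⟩

/-- the permutation induced by `n_b` -/
def rb (s : ℕ) : ℕ := rfl' 0 (rfl' 2 (rfl' 3 s))

theorem nb_conj {s : ℕ} (hs : s < 24) (t : K) :
    ∃ u : K, nb K * xG s t * (nb K)⁻¹ = xG (rb s) u := by
  have h3 := D4NConj.rfl'_lt (i := 3) (by norm_num) hs
  have h2 := D4NConj.rfl'_lt (i := 2) (by norm_num) h3
  refine ⟨(eta 0 (rfl' 2 (rfl' 3 s)) : K) * ((eta 2 (rfl' 3 s) : K) * ((eta 3 s : K) * t)), ?_⟩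
  have e : nb K * xG s t * (nb K)⁻¹ =
      nG K 0 * (nG K 2 * (nG K 3 * xG s t * (nG K 3)⁻¹) * (nG K 2)⁻¹) * (nG K 0)⁻¹ := by
    unfold nb
    group
  rw [e, nG_conj (by norm_num) hs, nG_conj (by norm_num) h3, nG_conj (by norm_num) h2]
  rfl

/-- the group generated by the root groups of a list of roots -/
abbrev RS (K : Type*) [Field K] (l : List ℕ) : Subgroup (GL chevD4.Idx K) := rspan xG {k | k ∈ l}

theorem conj_RS {n : GL chevD4.Idx K} {f : ℕ → ℕ} (hn : ∀ s < 24, ∀ t : K, ∃ u : K, n * xG s t * n⁻¹ = xG (f s) u)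
    {l l' : List ℕ} (h : (l.all fun s => decide (s < 24) && l'.contains (f s)) = true) {g : GL chevD4.Idx K}
    (hg : g ∈ RS K l) : n * g * n⁻¹ ∈ RS K l' := by
  have key : RS K l ≤ (RS K l').comap (MulAut.conj n).toMonoidHom := by
    refine rspan_le xG fun s hs t => ?_
    have h1 := List.all_eq_true.1 h s hs
    rw [Bool.and_eq_true, decide_eq_true_eq, List.contains_iff_mem] at h1
    obtain ⟨u, hu⟩ := hn s h1.1 t
    show n * xG s t * n⁻¹ ∈ RS K l'
    rw [hu]
    exact mem_rspan xG (S := {k | k ∈ l'}) h1.2 u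
  exact key hg

variable (K) in
theorem na_RS {l l' : List ℕ} (h : (l.all fun s => decide (s < 24) && l'.contains (rfl' 1 s)) = true)
    {g : GL chevD4.Idx K} (hg : g ∈ RS K l) : na K * g * (na K)⁻¹ ∈ RS K l' :=
  conj_RS (fun _ hs t => na_conj hs t) h hg

variable (K) in
theorem nb_RS {l l' : List ℕ} (h : (l.all fun s => decide (s < 24) && l'.contains (rb s)) = true)
    {g : GL chevD4.Idx K} (hg : g ∈ RS K l) : nb K * g * (nb K)⁻¹ ∈ RS K l' :=
  conj_RS (fun _ hs t => nb_conj hs t) h hg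

end

section Twisted
variable {K : Type*} [Field K] {q : ℕ} {φ : K →+* K}

theorem wU_nWord {r : ℕ} (hr : r < 24) (t : K) : wU (chevD4.nWord r t) = nR r t := by
  apply Units.ext
  rw [D4Cols.coe_wU, D4NConj.coe_nR hr]
  rfl

theorem na_mem (hφ : ∀ x, φ x = x ^ q) : na K ∈ twistedD4 K q := by
  have h := D4H1.n14_mem (q := q) hφ (t := (1 : K)) (map_one φ)
  rw [wU_nWord (by norm_num)] at h
  exact h

theorem nb_mem (hφ : ∀ x, φ x = x ^ q) : nb K ∈ twistedD4 K q := by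
  have h := D4H1.n_outer_mem (q := q) hφ (1 : K)
  rw [map_one, map_one, wU_nWord (by norm_num), wU_nWord (by norm_num), wU_nWord (by norm_num)] at h
  exact h

theorem mem_of_conj {G : Type*} [Group G] {S : Subgroup G} {n g : G} (hn : n ∈ S) (h : n * g * n⁻¹ ∈ S) : g ∈ S := by
  have := S.mul_mem (S.mul_mem (S.inv_mem hn) h) hn
  have e : n⁻¹ * (n * g * n⁻¹) * n = g := by group
  rwa [e] at this

variable (hK3 : ∀ t : K, φ (φ (φ t)) = t) (hφ : ∀ x, φ x = x ^ q) (hle : twistedD4 K q ≤ fix φ)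

theorem RS_14_fix {g : GL chevD4.Idx K} (hg : g ∈ RS K [14]) (hf : g ∈ fix φ) :
    ∃ t, φ t = t ∧ g = xG 14 t := by
  obtain ⟨t, rfl⟩ := exists_lprod xG_add (by decide) (good_of_goodB [14] (by decide +kernel)) hg
  rw [lprod_cons, lprod_nil, mul_one] at hf ⊢
  rw [mem_fix, sig_14] at hf
  refine ⟨t 14, ?_, rfl⟩
  have h := lprod_inj [14] (by decide +kernel) (t := fun _ => φ (t 14)) (t' := t) (by
    rw [lprod_cons, lprod_cons, lprod_nil, lprod_nil, hf]) 14 (by simp)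
  exact h

include hφ in
theorem RS_14_le {g : GL chevD4.Idx K} (hg : g ∈ RS K [14]) (hf : g ∈ fix φ) : g ∈ twistedD4 K q := by
  obtain ⟨t, ht, rfl⟩ := RS_14_fix hg hf
  rw [← xU_eq]
  exact D4Fixed.x14_mem ((hφ t).symm.trans ht)

theorem RS_outer_fix {g : GL chevD4.Idx K} (hg : g ∈ RS K [18, 13, 12]) (hf : g ∈ fix φ) :
    ∃ t, g = D4Fixed.X φ t := by
  obtain ⟨t, rfl⟩ := exists_lprod xG_add (by decide) (good_of_goodB [18, 13, 12] (by decide +kernel)) hg
  rw [mem_fix, sig_lprod_outer] at hf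
  have h := lprod_inj [18, 13, 12] (by decide +kernel) hf.symm
  have h13 := h 13 (by simp)
  have h12 := h 12 (by simp)
  simp only [tw] at h13 h12
  refine ⟨t 18, ?_⟩
  unfold D4Fixed.X
  rw [xU_eq, xU_eq, xU_eq, lprod_cons, lprod_cons, lprod_cons, lprod_nil, mul_one, h12, h13, mul_assoc]

include hφ in
theorem RS_outer_le {g : GL chevD4.Idx K} (hg : g ∈ RS K [18, 13, 12]) (hf : g ∈ fix φ) : g ∈ twistedD4 K q := by
  obtain ⟨t, rfl⟩ := RS_outer_fix hg hf
  exact D4Fixed.X_mem hφ t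

theorem conj_fix {n g : GL chevD4.Idx K} (hn : n ∈ fix φ) (hg : g ∈ fix φ) : n * g * n⁻¹ ∈ fix φ :=
  mul_mem (mul_mem hn hg) (inv_mem hn)

include hφ hle in
theorem RS_ab_le {g : GL chevD4.Idx K} (hg : g ∈ RS K [19, 16, 15]) (hf : g ∈ fix φ) : g ∈ twistedD4 K q :=
  mem_of_conj (na_mem hφ) (RS_outer_le hφ (na_RS K (by decide +kernel) hg) (conj_fix (hle (na_mem hφ)) hf))

include hφ hle in
theorem RS_abb_le {g : GL chevD4.Idx K} (hg : g ∈ RS K [21, 17, 20]) (hf : g ∈ fix φ) : g ∈ twistedD4 K q :=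
  mem_of_conj (nb_mem hφ) (RS_ab_le hφ hle (nb_RS K (by decide +kernel) hg) (conj_fix (hle (nb_mem hφ)) hf))

include hφ hle in
theorem RS_22_le {g : GL chevD4.Idx K} (hg : g ∈ RS K [22]) (hf : g ∈ fix φ) : g ∈ twistedD4 K q :=
  mem_of_conj (nb_mem hφ) (RS_14_le hφ (nb_RS K (by decide +kernel) hg) (conj_fix (hle (nb_mem hφ)) hf))

include hφ hle in
theorem RS_23_le {g : GL chevD4.Idx K} (hg : g ∈ RS K [23]) (hf : g ∈ fix φ) : g ∈ twistedD4 K q :=
  mem_of_conj (na_mem hφ) (RS_22_le hφ hle (na_RS K (by decide +kernel) hg) (conj_fix (hle (na_mem hφ)) hf))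

/-- coordinates of the fixed positive unipotent elements -/
def crd (φ : K →+* K) (a b c d e f : K) : ℕ → K
  | 14 => a
  | 18 => b
  | 13 => φ b
  | 12 => φ (φ b)
  | 19 => c
  | 16 => -φ c
  | 15 => -φ (φ c)
  | 21 => d
  | 17 => -φ d
  | 20 => φ (φ d)
  | 22 => e
  | 23 => f
  | _ => 0

/-- the fixed positive unipotent elements -/
def elt (φ : K →+* K) (a b c d e f : K) : GL chevD4.Idx K := lprod xG ordA (crd φ a b c d e f)

theorem elt_eq (a b c d e f : K) : elt φ a b c d e f =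
    xG 14 a * (xG 18 b * xG 13 (φ b) * xG 12 (φ (φ b))) * (xG 19 c * xG 16 (-φ c) * xG 15 (-φ (φ c))) *
      (xG 21 d * xG 17 (-φ d) * xG 20 (φ (φ d))) * xG 22 e * xG 23 f := by
  unfold elt ordA
  simp only [lprod_cons, lprod_nil, crd, mul_one, mul_assoc]

include hK3 in
theorem elt_mem_fix_iff (a b c d e f : K) : elt φ a b c d e f ∈ fix φ ↔ φ a = a ∧ φ e = e ∧ φ f = f := by
  unfold elt
  rw [lprod_mem_fix_iff]
  unfold ordA
  simp only [List.forall_mem_cons, List.not_mem_nil, false_imp_iff, implies_true, and_true, crd, tw, hK3, map_neg,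
    neg_neg, true_and]
  constructor
  · rintro ⟨h1, h2, h3⟩
    exact ⟨h1.symm, h2.symm, h3.symm⟩
  · rintro ⟨h1, h2, h3⟩
    exact ⟨h1.symm, h2.symm, h3.symm⟩

theorem exists_elt {g : GL chevD4.Idx K} (hg : g ∈ chevD4.posUnipotent K) (hf : g ∈ fix φ) :
    ∃ a b c d e f : K, g = elt φ a b c d e f := by
  obtain ⟨t, rfl⟩ := exists_lprod_of_mem ordA mem_ordA_iff (by decide) goodB_ordA hg
  rw [lprod_mem_fix_iff] at hf
  refine ⟨t 14, t 18, t 19, t 21, t 22, t 23, ?_⟩
  unfold elt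
  apply lprod_congr
  have h13 := hf 13 (by decide)
  have h12 := hf 12 (by decide)
  have h16 := hf 16 (by decide)
  have h15 := hf 15 (by decide)
  have h17 := hf 17 (by decide)
  have h20 := hf 20 (by decide)
  simp only [tw] at h13 h12 h16 h15 h17 h20
  unfold ordA
  simp only [List.forall_mem_cons, List.not_mem_nil, false_imp_iff, implies_true, and_true, crd, true_and]
  refine ⟨h13, by rw [h12, h13], h16, by rw [h15, h16, map_neg], h17, by rw [h20, h17, map_neg, neg_neg]⟩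

theorem elt_mem_U (a b c d e f : K) : elt φ a b c d e f ∈ chevD4.posUnipotent K := by
  rw [posUnipotent_eq_rspan ordA mem_ordA_iff]
  exact lprod_mem_rspan xG (fun _ h => h) _

theorem xG14_mem (hφ : ∀ x, φ x = x ^ q) {t : K} (ht : φ t = t) : xG 14 t ∈ twistedD4 K q := by
  rw [← xU_eq]
  exact D4Fixed.x14_mem ((hφ t).symm.trans ht)

include hK3 hφ hle in
theorem elt_mem {a b c d e f : K} (ha : φ a = a) (he : φ e = e) (hf : φ f = f) :
    elt φ a b c d e f ∈ twistedD4 K q := by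
  rw [elt_eq]
  have hab : xG 19 c * xG 16 (-φ c) * xG 15 (-φ (φ c)) = elt φ 0 0 c 0 0 0 := by
    rw [elt_eq]
    simp only [map_zero, xG_zero, neg_zero, one_mul, mul_one]
  have habb : xG 21 d * xG 17 (-φ d) * xG 20 (φ (φ d)) = elt φ 0 0 0 d 0 0 := by
    rw [elt_eq]
    simp only [map_zero, xG_zero, neg_zero, one_mul, mul_one]
  have mem (l : List ℕ) (r : ℕ) (t : K) (h : r ∈ l) : xG r t ∈ RS K l := mem_rspan xG (S := {k | k ∈ l}) h t
  refine mul_mem (mul_mem (mul_mem (mul_mem (mul_mem (xG14_mem hφ ha) ?_) ?_) ?_) ?_) ?_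
  · have := D4Fixed.X_mem (q := q) hφ b
    unfold D4Fixed.X at this
    rwa [xU_eq, xU_eq, xU_eq] at this
  · refine RS_ab_le hφ hle (mul_mem (mul_mem (mem _ _ _ (by decide)) (mem _ _ _ (by decide)))
      (mem _ _ _ (by decide))) ?_
    rw [hab, elt_mem_fix_iff hK3]
    simp
  · refine RS_abb_le hφ hle (mul_mem (mul_mem (mem _ _ _ (by decide)) (mem _ _ _ (by decide)))
      (mem _ _ _ (by decide))) ?_
    rw [habb, elt_mem_fix_iff hK3]
    simp
  · refine RS_22_le hφ hle (mem _ _ _ (by decide)) ?_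
    rw [mem_fix, sig_22, he]
  · refine RS_23_le hφ hle (mem _ _ _ (by decide)) ?_
    rw [mem_fix, sig_23, hf]

include hK3 hφ hle in
/-- `U ⊓ G¹` consists exactly of the elements `elt φ a b c d e f`, `a, e, f` fixed by `φ`. -/
theorem mem_U_inf_iff (g : GL chevD4.Idx K) : g ∈ chevD4.posUnipotent K ⊓ twistedD4 K q ↔
    ∃ a b c d e f : K, φ a = a ∧ φ e = e ∧ φ f = f ∧ g = elt φ a b c d e f := by
  constructor
  · rintro ⟨hU, hG⟩
    obtain ⟨a, b, c, d, e, f, rfl⟩ := exists_elt hU (hle hG)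
    obtain ⟨h1, h2, h3⟩ := (elt_mem_fix_iff hK3 a b c d e f).1 (hle hG)
    exact ⟨a, b, c, d, e, f, h1, h2, h3, rfl⟩
  · rintro ⟨a, b, c, d, e, f, h1, h2, h3, rfl⟩
    exact ⟨elt_mem_U a b c d e f, elt_mem hK3 hφ hle h1 h2 h3⟩

include hK3 hφ hle in
/-- `U ⊓ G¹ = U ⊓ Fix σ` -/
theorem U_inf_eq : chevD4.posUnipotent K ⊓ twistedD4 K q = chevD4.posUnipotent K ⊓ fix φ := by
  apply le_antisymm
  · exact inf_le_inf_left _ hle
  · rintro g ⟨hU, hf⟩
    obtain ⟨a, b, c, d, e, f, rfl⟩ := exists_elt hU hf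
    obtain ⟨h1, h2, h3⟩ := (elt_mem_fix_iff hK3 a b c d e f).1 hf
    exact ⟨hU, elt_mem hK3 hφ hle h1 h2 h3⟩

theorem elt_inj {a b c d e f a' b' c' d' e' f' : K} (h : elt φ a b c d e f = elt φ a' b' c' d' e' f') :
    a = a' ∧ b = b' ∧ c = c' ∧ d = d' ∧ e = e' ∧ f = f' := by
  have h1 := lprod_inj ordA uniqB_ordA h
  exact ⟨h1 14 (by decide), h1 18 (by decide), h1 19 (by decide), h1 21 (by decide), h1 22 (by decide),
    h1 23 (by decide)⟩

include hK3 hφ hle in
theorem card_U_inf [Finite K] : Nat.card ↥(chevD4.posUnipotent K ⊓ twistedD4 K q) =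
    Nat.card {a : K // φ a = a} ^ 3 * Nat.card K ^ 3 := by
  let f : ({a : K // φ a = a} × {a : K // φ a = a} × {a : K // φ a = a}) × (K × K × K) →
      ↥(chevD4.posUnipotent K ⊓ twistedD4 K q) := fun p =>
    ⟨elt φ p.1.1 p.2.1 p.2.2.1 p.2.2.2 p.1.2.1 p.1.2.2,
      (mem_U_inf_iff hK3 hφ hle _).2 ⟨_, _, _, _, _, _, p.1.1.2, p.1.2.1.2, p.1.2.2.2, rfl⟩⟩
  have hf : Function.Bijective f := by
    constructor
    · rintro ⟨⟨a, e, f⟩, b, c, d⟩ ⟨⟨a', e', f'⟩, b', c', d'⟩ h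
      obtain ⟨h1, h2, h3, h4, h5, h6⟩ := elt_inj (congrArg Subtype.val h)
      simp only at h1 h2 h3 h4 h5 h6
      rw [Subtype.ext h1, Subtype.ext h5, Subtype.ext h6, h2, h3, h4]
    · rintro ⟨g, hg⟩
      obtain ⟨a, b, c, d, e, f, h1, h2, h3, rfl⟩ := (mem_U_inf_iff hK3 hφ hle g).1 hg
      exact ⟨((⟨a, h1⟩, ⟨e, h2⟩, ⟨f, h3⟩), b, c, d), rfl⟩
  rw [← Nat.card_congr (Equiv.ofBijective f hf)]
  simp only [Nat.card_prod]
  ring

end Twisted

section Count
variable {K : Type*} [Field K] [Fintype K] {q : ℕ} {φ : K →+* K}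

/-- the fixed field of the `q`-Frobenius map has `q` elements -/
theorem card_fix_field (hq : 1 < q) {n : ℕ} (hK : Fintype.card K = q ^ n) (hφ : ∀ x, φ x = x ^ q) :
    Nat.card {a : K // φ a = a} = q := by
  have h := D4H1.card_fixed (q := q) hq hK hφ
  have e : {a : K // φ a = a} ≃ Option {b : Kˣ // φ b = b} := by
    classical
    exact
    { toFun := fun a => if h : (a : K) = 0 then none else some ⟨Units.mk0 a h, a.2⟩
      invFun := fun o => match o with
        | none => ⟨0, map_zero φ⟩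
        | some b => ⟨(b : Kˣ), b.2⟩
      left_inv := by
        rintro ⟨a, ha⟩
        by_cases h : a = 0
        · subst h
          simp
        · simp [h]
      right_inv := by
        rintro (_ | ⟨b, hb⟩)
        · simp
        · simp }
  rw [Nat.card_congr e, Finite.card_option, h]
  omega

theorem phi3 (hK : Fintype.card K = q ^ 3) (hφ : ∀ x, φ x = x ^ q) (t : K) : φ (φ (φ t)) = t := by
  rw [hφ, hφ, hφ, ← pow_mul, ← pow_mul]
  have : q * (q * q) = q ^ 3 := by ring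
  rw [this, ← hK]
  exact FiniteField.pow_card t

/-- `|U ⊓ G¹| = q ^ 12` for ³D₄(q). -/
theorem card_U1 (hq : IsPrimePow q) (hK : Fintype.card K = q ^ 3) :
    Nat.card ↥(chevD4.posUnipotent K ⊓ twistedD4 K q) = q ^ 12 := by
  obtain ⟨φ, hφ⟩ := D4Fixed.exists_frob hq hK
  rw [card_U_inf (phi3 hK hφ) hφ (twisted_le_fix hK hφ), card_fix_field hq.one_lt hK hφ, Nat.card_eq_fintype_card, hK]
  ring

end Count

end Cfsg.Agent.ChevalleyStructure.D4U
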