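/-
Depth transport (abstract part of the Curtis-Tits theorem).

Given elements n_j of a group, a permutation action of simple reflections s_j on a set of roots with a height
function, subgroups X0 r for the roots of a base set (standard rank-two subsystems) and the braid relations among
the n_j, there is a family X r of subgroups, for all roots r, with n_j (X r) n_j⁻¹ = X (s_j r) for all j and r.
-/
import Mathlib

set_option autoImplicit false

namespace Cfsg.Agent.ChevalleyStructure.DepthTransport

/-- the conjugate subgroup g X g⁻¹ -/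
def cj {Γ : Type*} [Group Γ] (g : Γ) (X : Subgroup Γ) : Subgroup Γ := X.map (MulAut.conj g).toMonoidHom

theorem cj_def {Γ : Type*} [Group Γ] (g : Γ) (X : Subgroup Γ) :
    cj g X = X.map (MulAut.conj g).toMonoidHom := rfl

theorem mem_cj {Γ : Type*} [Group Γ] {g x : Γ} {X : Subgroup Γ} : x ∈ cj g X ↔ g⁻¹ * x * g ∈ X := by
  constructor
  · rintro ⟨y, hy, rfl⟩
    have : g⁻¹ * (g * y * g⁻¹) * g = y := by group
    simpa [MulAut.conj_apply, this] using hy
  · intro h
    refine ⟨g⁻¹ * x * g, h, ?_⟩
    simp only [MulEquiv.coe_toMonoidHom, MulAut.conj_apply]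
    group

theorem conj_mem_cj {Γ : Type*} [Group Γ] (g : Γ) {x : Γ} {X : Subgroup Γ} (h : x ∈ X) :
    g * x * g⁻¹ ∈ cj g X := ⟨x, h, rfl⟩

theorem cj_one {Γ : Type*} [Group Γ] (X : Subgroup Γ) : cj 1 X = X := by
  ext x; simp [mem_cj]

theorem cj_mul {Γ : Type*} [Group Γ] (g h : Γ) (X : Subgroup Γ) : cj (g * h) X = cj g (cj h X) := by
  ext x
  simp only [mem_cj, mul_inv_rev, mul_assoc]

theorem cj_inv_cj {Γ : Type*} [Group Γ] (g : Γ) (X : Subgroup Γ) : cj g⁻¹ (cj g X) = X := by
  rw [← cj_mul, inv_mul_cancel, cj_one]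

theorem cj_cj_inv {Γ : Type*} [Group Γ] (g : Γ) (X : Subgroup Γ) : cj g (cj g⁻¹ X) = X := by
  rw [← cj_mul, mul_inv_cancel, cj_one]

theorem cj_mono {Γ : Type*} [Group Γ] (g : Γ) {X Y : Subgroup Γ} (h : X ≤ Y) : cj g X ≤ cj g Y :=
  Subgroup.map_mono h

theorem cj_injective {Γ : Type*} [Group Γ] (g : Γ) : Function.Injective (cj g) := by
  intro X Y h
  rw [← cj_inv_cj g X, ← cj_inv_cj g Y, h]

/-- alternating product a b a b ⋯ (m factors) -/
def altp {Γ : Type*} [Group Γ] (a b : Γ) : ℕ → Γ
  | 0 => 1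
  | (m + 1) => a * altp b a m

theorem altp_zero {Γ : Type*} [Group Γ] (a b : Γ) : altp a b 0 = 1 := rfl
theorem altp_succ {Γ : Type*} [Group Γ] (a b : Γ) (m : ℕ) : altp a b (m + 1) = a * altp b a m := rfl

/-- the root reached from r by applying f, then g, then f, … (m steps) -/
def down {Φ : Type*} (f g : Φ → Φ) : ℕ → Φ → Φ
  | 0, r => r
  | (m + 1), r => down g f m (f r)

theorem down_zero {Φ : Type*} (f g : Φ → Φ) (r : Φ) : down f g 0 r = r := rfl
theorem down_succ {Φ : Type*} (f g : Φ → Φ) (m : ℕ) (r : Φ) : down f g (m + 1) r = down g f m (f r) := rfl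

/-- every edge of the alternating descending path of length m from r, starting with the label i, satisfies K -/
def PathAll {Φ ι : Type*} (s : ι → Φ → Φ) (K : Φ → ι → Prop) : ℕ → ι → ι → Φ → Prop
  | 0, _, _, _ => True
  | (m + 1), i, j, r => K r i ∧ PathAll s K m j i (s i r)

theorem PathAll.mono {Φ ι : Type*} {s : ι → Φ → Φ} {K K' : Φ → ι → Prop} (h : ∀ r i, K r i → K' r i) :
    ∀ {m : ℕ} {i j : ι} {r : Φ}, PathAll s K m i j r → PathAll s K' m i j r
  | 0, _, _, _, _ => trivial
  | (_ + 1), _, _, _, hp => ⟨h _ _ hp.1, PathAll.mono h hp.2⟩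

/-- The data for the transport theorem. -/
structure Data (Γ Φ ι : Type*) [Group Γ] where
  /-- the elements n_j -/
  n : ι → Γ
  /-- a "torus" normalised by the n_j and containing their squares -/
  T : Subgroup Γ
  conj_T : ∀ j, cj (n j) T = T
  sq_T : ∀ j, n j * n j ∈ T
  /-- the simple reflections on the set of roots -/
  s : ι → Φ → Φ
  s_s : ∀ j r, s j (s j r) = r
  /-- the roots for which the root subgroup is given in advance -/
  base : Φ → Prop
  X0 : Φ → Subgroup Γ
  T_X0 : ∀ r, base r → ∀ t ∈ T, cj t (X0 r) = X0 r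
  /-- the edges of the base -/
  bedge : Φ → ι → Prop
  bedge_base : ∀ r k, bedge r k → base r ∧ base (s k r) ∧ cj (n k) (X0 (s k r)) = X0 r
  /-- height -/
  ht : Φ → ℕ
  parent : Φ → ι
  ht_parent : ∀ r, ¬ base r → ht (s (parent r) r) < ht r
  /-- the Coxeter matrix -/
  m : ι → ι → ℕ
  braid : ∀ i j, altp (n i) (n j) (m i j + 1) = altp (n j) (n i) (m i j + 1)
  /-- the certificate: `m i j + 1` is the order of s_i s_j -/
  cert : ∀ r k, ht (s k r) ≤ ht r → bedge r k ∨ (k = parent r ∧ ¬ base r) ∨
    ∃ j, down (s j) (s k) (m j k + 1) r = down (s k) (s j) (m j k + 1) r ∧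
      PathAll s (fun r' i => (ht r' < ht r ∧ ht (s i r') < ht r) ∨ bedge r' i ∨ (i = parent r' ∧ ¬ base r'))
        (m j k + 1) j k r ∧
      PathAll s (fun r' i => (ht r' < ht r ∧ ht (s i r') < ht r) ∨ bedge r' i ∨ (i = parent r' ∧ ¬ base r'))
        (m j k) j k (s k r)

namespace Data

variable {Γ Φ ι : Type*} [Group Γ] (D : Data Γ Φ ι)

open Classical in
/-- the family of root subgroups -/
noncomputable def X (r : Φ) : Subgroup Γ :=
  if h : D.base r then D.X0 r else cj (D.n (D.parent r)) (X (D.s (D.parent r) r))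
termination_by D.ht r
decreasing_by exact D.ht_parent r h

theorem X_base {r : Φ} (h : D.base r) : D.X r = D.X0 r := by
  rw [X, dif_pos h]

theorem X_not_base {r : Φ} (h : ¬ D.base r) : D.X r = cj (D.n (D.parent r)) (D.X (D.s (D.parent r) r)) := by
  rw [X, dif_neg h]

theorem conj_mem_T (j : ι) {t : Γ} (ht : t ∈ D.T) : (D.n j)⁻¹ * t * D.n j ∈ D.T := by
  rw [← mem_cj, D.conj_T]; exact ht

theorem conj_mem_T' (j : ι) {t : Γ} (ht : t ∈ D.T) : D.n j * t * (D.n j)⁻¹ ∈ D.T := by
  rw [← D.conj_T j]; exact conj_mem_cj _ ht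

/-- T normalises every X r -/
theorem T_X (r : Φ) : ∀ t ∈ D.T, cj t (D.X r) = D.X r := by
  induction hk : D.ht r using Nat.strong_induction_on generalizing r with
  | _ k ih =>
    intro t ht
    by_cases hb : D.base r
    · rw [D.X_base hb]; exact D.T_X0 r hb t ht
    · have h1 := ih _ (hk ▸ D.ht_parent r hb) _ rfl _ (D.conj_mem_T (D.parent r) ht)
      rw [D.X_not_base hb, ← cj_mul]
      have h2 : t * D.n (D.parent r) = D.n (D.parent r) * ((D.n (D.parent r))⁻¹ * t * D.n (D.parent r)) := by
        group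
      rw [h2, cj_mul, h1]

/-- the statement that the edge from `s i r` to `r` is compatible -/
def Known (r : Φ) (i : ι) : Prop := cj (D.n i) (D.X (D.s i r)) = D.X r

theorem Known.symm {r : Φ} {i : ι} (h : D.Known r i) : D.Known (D.s i r) i := by
  unfold Known at h ⊢
  rw [D.s_s, ← h, ← cj_mul, D.T_X _ _ (D.sq_T i)]

theorem known_path : ∀ {m : ℕ} {i j : ι} {r : Φ}, PathAll D.s D.Known m i j r →
    D.X r = cj (altp (D.n i) (D.n j) m) (D.X (down (D.s i) (D.s j) m r))
  | 0, _, _, _, _ => by rw [altp_zero, down_zero, cj_one]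
  | (m + 1), i, j, r, hp => by
    have h1 : cj (D.n i) (D.X (D.s i r)) = D.X r := hp.1
    rw [altp_succ, down_succ, cj_mul, ← known_path hp.2, h1]

theorem known_aux (h : ℕ) : ∀ (r : Φ) (k : ι), D.ht r ≤ h → D.ht (D.s k r) ≤ h → D.Known r k := by
  induction h using Nat.strong_induction_on with
  | _ h ih =>
    -- the main case
    have main : ∀ (r : Φ) (k : ι), D.ht r ≤ h → D.ht (D.s k r) ≤ D.ht r → D.Known r k := by
      intro r k hr hk
      rcases lt_or_eq_of_le hr with hlt | heq
      · exact ih _ hlt r k le_rfl hk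
      · have step : ∀ r' i, ((D.ht r' < D.ht r ∧ D.ht (D.s i r') < D.ht r) ∨ D.bedge r' i ∨
            (i = D.parent r' ∧ ¬ D.base r')) → D.Known r' i := by
          rintro r' i (⟨h1, h2⟩ | h1 | ⟨rfl, h1⟩)
          · refine ih (max (D.ht r') (D.ht (D.s i r'))) ?_ r' i (le_max_left _ _) (le_max_right _ _)
            rw [← heq]; exact max_lt h1 h2
          · obtain ⟨b1, b2, b3⟩ := D.bedge_base r' i h1
            unfold Known
            rw [D.X_base b1, D.X_base b2, b3]
          · unfold Known
            rw [← D.X_not_base h1]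
        rcases D.cert r k hk with h1 | h1 | ⟨j, e, p1, p2⟩
        · exact step r k (Or.inr (Or.inl h1))
        · exact step r k (Or.inr (Or.inr h1))
        · have q1 := D.known_path (p1.mono step)
          have q2 := D.known_path (p2.mono step)
          unfold Known
          rw [q2, ← cj_mul, ← altp_succ, ← D.braid j k, q1, e, down_succ]
    intro r k hr hk
    rcases le_total (D.ht (D.s k r)) (D.ht r) with h1 | h1
    · exact main r k hr h1
    · have := main (D.s k r) k hk (by rw [D.s_s]; exact h1)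
      have h2 := this.symm
      rw [D.s_s] at h2
      exact h2

/-- the main theorem -/
theorem conj_X (r : Φ) (k : ι) : cj (D.n k) (D.X r) = D.X (D.s k r) := by
  have h := D.known_aux (max (D.ht (D.s k r)) (D.ht r)) (D.s k r) k (le_max_left _ _)
    (by rw [D.s_s]; exact le_max_right _ _)
  unfold Known at h
  rwa [D.s_s] at h

/-- every X r is a conjugate of a base subgroup by a word in the n_j -/
theorem exists_word (r : Φ) : ∃ (w : List ι) (r0 : Φ), D.base r0 ∧ r = w.foldr D.s r0 ∧
    D.X r = cj (w.map D.n).prod (D.X0 r0) := by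
  induction hk : D.ht r using Nat.strong_induction_on generalizing r with
  | _ k ih =>
    by_cases hb : D.base r
    · exact ⟨[], r, hb, rfl, by rw [D.X_base hb, List.map_nil, List.prod_nil, cj_one]⟩
    · obtain ⟨w, r0, h1, h2, h3⟩ := ih _ (hk ▸ D.ht_parent r hb) _ rfl
      refine ⟨D.parent r :: w, r0, h1, ?_, ?_⟩
      · rw [List.foldr_cons, ← h2, D.s_s]
      · rw [List.map_cons, List.prod_cons, cj_mul, ← h3, ← D.X_not_base hb]

/-- conjugating by a word -/
theorem conj_word (w : List ι) (r : Φ) : cj (w.map D.n).prod (D.X r) = D.X (w.foldr D.s r) := by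
  induction w with
  | nil => rw [List.map_nil, List.prod_nil, cj_one, List.foldr_nil]
  | cons a w ih => rw [List.map_cons, List.prod_cons, cj_mul, ih, D.conj_X, List.foldr_cons]

end Data

end Cfsg.Agent.ChevalleyStructure.DepthTransport
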