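/-
Certificates for the depth transport (Curtis-Tits theorem) for the types D4, F4, E6, E7, E8: supports of the roots,
heights, parents and the rank-two polygons, all checked by the kernel on packed tables.
-/
import Cfsg.Agent.ChevalleyStructure.Reach
import Cfsg.Agent.ChevalleyStructure.DepthTransport
import Cfsg.Prelude.Def_CurtisTits

set_option autoImplicit false

namespace Cfsg.Agent.ChevalleyStructure.DepthCert

open Cfsg.Lie
open Cfsg.Agent.ChevalleyStructure.W0Core
open Cfsg.Agent.ChevalleyStructure.DepthTransport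

/-! ### supports -/

/-- the bit mask of the non-zero entries of a list -/
def supp (c : List ℤ) : ℕ := c.foldr (fun a m => 2 * m + (if a = 0 then 0 else 1)) 0

theorem testBit_supp : ∀ (c : List ℤ) (k : ℕ), (supp c).testBit k = true ↔ c.getD k 0 ≠ 0
  | [], k => by simp [supp]
  | a :: c, 0 => by
    have : supp (a :: c) = 2 * supp c + (if a = 0 then 0 else 1) := rfl
    rw [this, Nat.testBit_zero]
    by_cases h : a = 0
    · simp [h]
    · simp [h]
  | a :: c, (k + 1) => by
    have : supp (a :: c) = 2 * supp c + (if a = 0 then 0 else 1) := rfl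
    have h2 : (2 * supp c + (if a = 0 then 0 else 1)) / 2 = supp c := by
      split <;> omega
    rw [this, Nat.testBit_succ, h2, testBit_supp c k, List.getD_cons_succ]

/-- the packed support table is correct -/
def suppOK (D : ChevalleyDatum) (B : ℕ) : Bool :=
  (D.coroot.toList.map fun c => supp c.toList) == ((List.range D.nroots).map fun r => look B r)

theorem suppOK_spec {D : ChevalleyDatum} {B : ℕ} (h : suppOK D B = true) {r : ℕ} (hr : r < D.nroots) (k : ℕ) :
    (look B r).testBit k = true ↔ (D.coroot.getD r #[]).getD k 0 ≠ 0 := by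
  have h1 : (D.coroot.toList.map fun c => supp c.toList) = ((List.range D.nroots).map fun r => look B r) :=
    eq_of_beq h
  have hlen : D.coroot.toList.length = D.nroots := by
    have := congrArg List.length h1
    simpa using this
  have hr' : r < D.coroot.toList.length := by rw [hlen]; exact hr
  have h2 : (D.coroot.toList.map fun c => supp c.toList)[r]'(by simpa using hr') = look B r := by
    simp only [h1]
    simp
  rw [List.getElem_map] at h2
  have h3 : D.coroot.getD r #[] = D.coroot.toList[r] := by
    rw [Array.getD_eq_getD_getElem?, Array.getElem?_eq_getElem (by simpa using hr')]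
    simp
  rw [← h2, testBit_supp, h3]
  rw [Array.getD_eq_getD_getElem?, List.getD_eq_getElem?_getD, Array.getElem?_toList]

/-- `r` lies in the span of the fundamental roots `i` and `j` -/
def in2 (B i j r : ℕ) : Bool := Nat.beq (look B r ||| (2 ^ i ||| 2 ^ j)) (2 ^ i ||| 2 ^ j)

theorem in2_iff {B i j r : ℕ} : in2 B i j r = true ↔ ∀ k, k ≠ i → k ≠ j → (look B r).testBit k = false := by
  unfold in2
  rw [Nat.beq_eq]
  constructor
  · intro h k hi hj
    have h1 := congrArg (fun x => x.testBit k) h
    simp only [Nat.testBit_or, Nat.testBit_two_pow] at h1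
    have hi' : decide (i = k) = false := by simpa using fun e => hi e.symm
    have hj' : decide (j = k) = false := by simpa using fun e => hj e.symm
    rw [hi', hj'] at h1
    simpa using h1
  · intro h
    apply Nat.eq_of_testBit_eq
    intro k
    simp only [Nat.testBit_or, Nat.testBit_two_pow]
    by_cases hi : i = k
    · simp [hi]
    · by_cases hj : j = k
      · simp [hj]
      · rw [h k (fun e => hi e.symm) (fun e => hj e.symm)]
        simp

/-- all supports are below 2 ^ l -/
def smallOK (B n l : ℕ) : Bool := (List.range n).all fun r => Nat.blt (look B r) (2 ^ l)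

theorem inRankTwoSub_iff {D : ChevalleyDatum} {B : ℕ} (h : suppOK D B = true) (hs : smallOK B D.nroots D.rank = true)
    {i j r : ℕ} (hr : r < D.nroots) (hi : i < D.rank) (hj : j < D.rank) :
    D.InRankTwoSub i j r ↔ in2 B i j r = true := by
  rw [in2_iff]
  constructor
  · rintro ⟨_, _, _, h1⟩ k hki hkj
    by_cases hk : k < D.rank
    · by_contra hne
      exact (suppOK_spec h hr k).1 (by simpa using hne) (h1 k hk hki hkj)
    · have := List.all_eq_true.1 hs r (List.mem_range.2 hr)
      rw [Nat.blt_eq] at this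
      exact Nat.testBit_lt_two_pow (this.trans_le (Nat.pow_le_pow_right (by norm_num) (not_lt.1 hk)))
  · intro h1
    refine ⟨hr, hi, hj, fun k _ hki hkj => ?_⟩
    by_contra hne
    have := (suppOK_spec h hr k).2 hne
    rw [h1 k hki hkj] at this
    exact Bool.false_ne_true this

/-! ### the checker -/

/-- packed tables -/
structure Tb where
  n : ℕ
  l : ℕ
  T : ℕ → ℕ
  B : ℕ
  H : ℕ
  P : ℕ
  M : ℕ

namespace Tb

variable (t : Tb)

def bedge (r k : ℕ) : Bool := (List.range t.l).any fun i => in2 t.B i k r
def base (r : ℕ) : Bool := (List.range t.l).any fun j => t.bedge r j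
def mm (i j : ℕ) : ℕ := look t.M (t.l * i + j)

def okEdge (h r i : ℕ) : Bool :=
  (Nat.blt (look t.H r) h && Nat.blt (look t.H (look (t.T i) r)) h) || t.bedge r i ||
    (Nat.beq i (look t.P r) && !t.base r)

def path (h : ℕ) : ℕ → ℕ → ℕ → ℕ → Bool
  | 0, _, _, _ => true
  | (m + 1), i, j, r => t.okEdge h r i && path h m j i (look (t.T i) r)

def dn : ℕ → ℕ → ℕ → ℕ → ℕ
  | 0, _, _, r => r
  | (m + 1), i, j, r => dn m j i (look (t.T i) r)

def certOne (r k : ℕ) : Bool :=
  Nat.blt (look t.H r) (look t.H (look (t.T k) r)) || t.bedge r k || (Nat.beq k (look t.P r) && !t.base r) ||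
    (List.range t.l).any fun j =>
      Nat.beq (t.dn (t.mm j k + 1) j k r) (t.dn (t.mm j k + 1) k j r) &&
        t.path (look t.H r) (t.mm j k + 1) j k r && t.path (look t.H r) (t.mm j k) j k (look (t.T k) r)

/-- the whole check -/
def check : Bool :=
  (List.range t.n).all fun r =>
    Nat.blt (look t.P r) t.l && (t.base r || Nat.blt (look t.H (look (t.T (look t.P r)) r)) (look t.H r)) &&
    (List.range t.l).all fun k => t.certOne r k

end Tb

/-- The combinatorial data for the depth transport. -/
structure Comb (D : ChevalleyDatum) where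
  s : Fin D.rank → Fin D.nroots → Fin D.nroots
  s_val : ∀ i r, (s i r : ℕ) = D.reflectRoot i r
  s_s : ∀ i r, s i (s i r) = r
  ht : Fin D.nroots → ℕ
  parent : Fin D.nroots → Fin D.rank
  m : Fin D.rank → Fin D.rank → ℕ
  m_spec : ∀ i j : Fin D.rank, (i = j ∧ m i j = 0) ∨
    (D.cartan i (D.simple j) = 0 ∧ D.cartan j (D.simple i) = 0 ∧ m i j = 1) ∨
    (D.cartan i (D.simple j) = -1 ∧ D.cartan j (D.simple i) = -1 ∧ m i j = 2) ∨
    (D.cartan i (D.simple j) = -1 ∧ D.cartan j (D.simple i) = -2 ∧ m i j = 3) ∨
    (D.cartan i (D.simple j) = -2 ∧ D.cartan j (D.simple i) = -1 ∧ m i j = 3)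
  ht_parent : ∀ r : Fin D.nroots, ¬ (∃ i j : ℕ, D.InRankTwoSub i j r) → ht (s (parent r) r) < ht r
  cert : ∀ (r : Fin D.nroots) (k : Fin D.rank), ht (s k r) ≤ ht r → (∃ i : ℕ, D.InRankTwoSub i k r) ∨
    (k = parent r ∧ ¬ (∃ i j : ℕ, D.InRankTwoSub i j r)) ∨
    ∃ j, down (s j) (s k) (m j k + 1) r = down (s k) (s j) (m j k + 1) r ∧
      PathAll s (fun r' i => (ht r' < ht r ∧ ht (s i r') < ht r) ∨ (∃ i' : ℕ, D.InRankTwoSub i' i r') ∨
        (i = parent r' ∧ ¬ (∃ i j : ℕ, D.InRankTwoSub i j r'))) (m j k + 1) j k r ∧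
      PathAll s (fun r' i => (ht r' < ht r ∧ ht (s i r') < ht r) ∨ (∃ i' : ℕ, D.InRankTwoSub i' i r') ∨
        (i = parent r' ∧ ¬ (∃ i j : ℕ, D.InRankTwoSub i j r'))) (m j k) j k (s k r)

/-- the check of the Coxeter matrix against the Cartan integers of the fundamental roots -/
def mOK (D : ChevalleyDatum) (l M : ℕ) : Bool :=
  (List.range l).all fun i => (List.range l).all fun j =>
    let a := D.cartan i (D.simple j)
    let b := D.cartan j (D.simple i)
    let m := look M (l * i + j)
    (decide (i = j) && decide (m = 0)) || (decide (a = 0) && decide (b = 0) && decide (m = 1)) ||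
      (decide (a = -1) && decide (b = -1) && decide (m = 2)) ||
      (decide (a = -1) && decide (b = -2) && decide (m = 3)) ||
      (decide (a = -2) && decide (b = -1) && decide (m = 3))

theorem bedge_iff {D : ChevalleyDatum} {t : Tb} (hl : t.l = D.rank)
    (h : suppOK D t.B = true) (hs : smallOK t.B D.nroots D.rank = true) {r k : ℕ} (hr : r < D.nroots)
    (hk : k < D.rank) : t.bedge r k = true ↔ ∃ i : ℕ, D.InRankTwoSub i k r := by
  unfold Tb.bedge
  rw [List.any_eq_true]
  constructor
  · rintro ⟨i, hi, h1⟩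
    rw [List.mem_range, hl] at hi
    exact ⟨i, (inRankTwoSub_iff h hs hr hi hk).2 h1⟩
  · rintro ⟨i, h1⟩
    exact ⟨i, by rw [List.mem_range, hl]; exact h1.2.1, (inRankTwoSub_iff h hs hr h1.2.1 hk).1 h1⟩

theorem base_iff {D : ChevalleyDatum} {t : Tb} (hl : t.l = D.rank)
    (h : suppOK D t.B = true) (hs : smallOK t.B D.nroots D.rank = true) {r : ℕ} (hr : r < D.nroots) :
    t.base r = true ↔ ∃ i j : ℕ, D.InRankTwoSub i j r := by
  unfold Tb.base
  rw [List.any_eq_true]
  constructor
  · rintro ⟨j, hj, h1⟩
    rw [List.mem_range, hl] at hj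
    obtain ⟨i, hi⟩ := (bedge_iff hl h hs hr hj).1 h1
    exact ⟨i, j, hi⟩
  · rintro ⟨i, j, h1⟩
    exact ⟨j, by rw [List.mem_range, hl]; exact h1.2.2.1, (bedge_iff hl h hs hr h1.2.2.1).2 ⟨i, h1⟩⟩

section build

variable {D : ChevalleyDatum} (hD : D ∈ [chevG2, chevB2, chevD4, chevF4, chevE6, chevE7, chevE8])
  {t : Tb} (hl : t.l = D.rank) (hn : t.n = D.nroots)
  (hT : ∀ i < D.rank, ∀ s < D.nroots, D.reflectRoot i s = look (t.T i) s)
  (h : suppOK D t.B = true) (hs : smallOK t.B D.nroots D.rank = true) (hM : mOK D D.rank t.M = true)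
  (hc : t.check = true)

/-- the reflection as a map of `Fin nroots` -/
def sF (i : Fin D.rank) (r : Fin D.nroots) : Fin D.nroots := ⟨D.reflectRoot i r, Reach.reflect_lt hD i.2 r.2⟩

include hT in
theorem sF_val (i : Fin D.rank) (r : Fin D.nroots) : (sF hD i r : ℕ) = look (t.T i) r := hT i i.2 r r.2

include hT in
theorem down_val : ∀ (m : ℕ) (i j : Fin D.rank) (r : Fin D.nroots),
    ((down (sF hD i) (sF hD j) m r : Fin D.nroots) : ℕ) = t.dn m i j r
  | 0, _, _, _ => rfl
  | (m + 1), i, j, r => by
    rw [down_succ, down_val m j i, sF_val hD hT]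
    rfl

include hc hn in
theorem check_spec {r : ℕ} (hr : r < D.nroots) : look t.P r < t.l ∧
    (t.base r = true ∨ look t.H (look (t.T (look t.P r)) r) < look t.H r) ∧ ∀ k < t.l, t.certOne r k = true := by
  have h1 := List.all_eq_true.1 hc r (List.mem_range.2 (hn ▸ hr))
  rw [Bool.and_eq_true, Bool.and_eq_true, Bool.or_eq_true, Nat.blt_eq, Nat.blt_eq] at h1
  exact ⟨h1.1.1, h1.1.2, fun k hk => List.all_eq_true.1 h1.2 k (List.mem_range.2 hk)⟩

/-- the parent map -/
def par (r : Fin D.nroots) : Fin D.rank :=
  ⟨look t.P r, hl ▸ (check_spec hn hc r.2).1⟩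

include hT h hs in
theorem edge_spec {r0 : Fin D.nroots} {r : Fin D.nroots} {i : Fin D.rank}
    (h1 : t.okEdge (look t.H r0) r i = true) :
    (look t.H r < look t.H r0 ∧ look t.H (sF hD i r) < look t.H r0) ∨ (∃ i' : ℕ, D.InRankTwoSub i' i r) ∨
        (i = par hl hn hc r ∧ ¬ (∃ i j : ℕ, D.InRankTwoSub i j r)) := by
  unfold Tb.okEdge at h1
  rw [Bool.or_eq_true, Bool.or_eq_true, Bool.and_eq_true, Bool.and_eq_true, Nat.blt_eq, Nat.blt_eq,
    bedge_iff hl h hs r.2 i.2, Bool.not_eq_true', Nat.beq_eq] at h1
  rcases h1 with (h1 | h1) | ⟨h1, h2⟩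
  · left
    rw [sF_val hD hT]
    exact h1
  · exact Or.inr (Or.inl h1)
  · right; right
    refine ⟨Fin.ext h1, ?_⟩
    rw [← base_iff hl h hs r.2, h2]
    simp

include hT h hs in
theorem path_spec {r0 : Fin D.nroots} : ∀ {m : ℕ} {i j : Fin D.rank} {r : Fin D.nroots},
    t.path (look t.H r0) m i j r = true →
    PathAll (sF hD) (fun r' i => (look t.H r' < look t.H r0 ∧ look t.H (sF hD i r') < look t.H r0) ∨
      (∃ i' : ℕ, D.InRankTwoSub i' i r') ∨
        (i = par hl hn hc r' ∧ ¬ (∃ i j : ℕ, D.InRankTwoSub i j r'))) m i j r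
  | 0, _, _, _, _ => trivial
  | (m + 1), i, j, r, hp => by
    have hp' : (t.okEdge (look t.H r0) r i && t.path (look t.H r0) m j i (look (t.T i) r)) = true := hp
    rw [Bool.and_eq_true] at hp'
    refine ⟨edge_spec hD hl hn hT h hs hc hp'.1, path_spec ?_⟩
    rw [sF_val hD hT]
    exact hp'.2

/-- the combinatorial data from the tables -/
def mkComb : Comb D where
  s := sF hD
  s_val _ _ := rfl
  s_s i r := Fin.ext (Reach.reflect_reflect hD i.2 r.2)
  ht r := look t.H r
  parent r := par hl hn hc r
  m i j := look t.M (D.rank * i + j)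
  m_spec i j := by
    have h1 := List.all_eq_true.1 (List.all_eq_true.1 hM i (List.mem_range.2 i.2)) j (List.mem_range.2 j.2)
    simp only [Bool.or_eq_true, Bool.and_eq_true, decide_eq_true_eq] at h1
    rcases h1 with (((⟨h1, h2⟩ | ⟨⟨h1, h2⟩, h3⟩) | ⟨⟨h1, h2⟩, h3⟩) | ⟨⟨h1, h2⟩, h3⟩) | ⟨⟨h1, h2⟩, h3⟩
    · exact Or.inl ⟨Fin.ext h1, h2⟩
    · exact Or.inr (Or.inl ⟨h1, h2, h3⟩)
    · exact Or.inr (Or.inr (Or.inl ⟨h1, h2, h3⟩))
    · exact Or.inr (Or.inr (Or.inr (Or.inl ⟨h1, h2, h3⟩)))
    · exact Or.inr (Or.inr (Or.inr (Or.inr ⟨h1, h2, h3⟩)))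
  ht_parent r hr := by
    rcases (check_spec hn hc r.2).2.1 with h1 | h1
    · exact absurd ((base_iff hl h hs r.2).1 h1) hr
    · rw [sF_val hD hT]
      exact h1
  cert r k hk := by
    have h1 := (check_spec hn hc r.2).2.2 k (by rw [hl]; exact k.2)
    unfold Tb.certOne at h1
    rw [Bool.or_eq_true, Bool.or_eq_true, Bool.or_eq_true, Bool.and_eq_true, Nat.blt_eq,
      bedge_iff hl h hs r.2 k.2, Bool.not_eq_true', Nat.beq_eq] at h1
    rcases h1 with ((h1 | h1) | ⟨h1, h2⟩) | h1
    · exfalso
      rw [sF_val hD hT] at hk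
      omega
    · exact Or.inl h1
    · refine Or.inr (Or.inl ⟨Fin.ext h1, ?_⟩)
      rw [← base_iff hl h hs r.2, h2]
      simp
    · right; right
      rw [List.any_eq_true] at h1
      obtain ⟨j, hj, h1⟩ := h1
      rw [List.mem_range, hl] at hj
      rw [Bool.and_eq_true, Bool.and_eq_true, Nat.beq_eq] at h1
      obtain ⟨⟨h1, h2⟩, h3⟩ := h1
      have hmm : ∀ k : ℕ, t.mm j k = look t.M (D.rank * j + k) := by
        intro k
        unfold Tb.mm
        rw [hl]
      rw [hmm] at h1 h2 h3
      refine ⟨⟨j, hj⟩, Fin.ext ?_, path_spec hD hl hn hT h hs hc h2, path_spec hD hl hn hT h hs hc ?_⟩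
      · rw [down_val hD hT, down_val hD hT]
        exact h1
      · rw [sF_val hD hT]
        exact h3

end build

/-- tables of type D4 -/
def tbD4 : Tb where
  n := 24
  l := 4
  T := W0Small.tabD4
  B := 0xf0f070b03010e060a0204080804020a060e01030b070f0f
  H := 0x50403030201030202010101010101020203010203030405
  P := 0x10000000000020101000000000000010102000000000001
  M := 0x10201010002010202000201010200

theorem suppD4 : suppOK chevD4 tbD4.B = true := by decide +kernel
theorem smallD4 : smallOK tbD4.B 24 4 = true := by decide +kernel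
theorem mD4 : mOK chevD4 4 tbD4.M = true := by decide +kernel
theorem checkD4 : tbD4.check = true := by decide +kernel

/-- tables of type F4 -/
def tbF4 : Tb where
  n := 48
  l := 4
  T := W0Small.tabF4
  B := 0xf0f0f0f0f0f070f0f0f070f0703010e0e060e06020c040808040c02060e060e0e0103070f070f0f0f070f0f0f0f0f0f
  H := 0xb0a09080706050706050404030201050403030201020101010102010203030405010203040405060705060708090a0b
  P := 0x30201000000000102010100000000020101030200020000000002000203010102000000000101020100000000010203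
  M := 0x20101020003010103000201010200

theorem suppF4 : suppOK chevF4 tbF4.B = true := by decide +kernel
theorem smallF4 : smallOK tbF4.B 48 4 = true := by decide +kernel
theorem mF4 : mOK chevF4 4 tbF4.M = true := by decide +kernel
theorem checkF4 : tbF4.check = true := by decide +kernel

/-- tables of type E6 -/
def tbE6 : Tb where
  n := 72
  l := 6
  T := W0E6.tabE6
  B := 0x3f3f3f3f1f3f3f1f3f1f0f3d1d0d05013e3e1e3e1e0e3a1a0a023c1c0c04381808301020201030081838040c1c3c020a1a3a0e1e3e1e3e3e01050d1d3d0f1f3f1f3f3f1f3f3f3f3f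
  H := 0xb0a09080708070606050405040302010706050504030403020104030201030201020101010102010203010203040102030403040505060701020304050405060607080708090a0b
  P := 0x10302020200000000000000000000000403030101010101010002020200030300040000000004000303000202020001010101010103030400000000000000000000000202020301
  M := 0x201010101020002010101010200020201010102000102010102010001010101020100

theorem suppE6 : suppOK chevE6 tbE6.B = true := by decide +kernel
theorem smallE6 : smallOK tbE6.B 72 6 = true := by decide +kernel
theorem mE6 : mOK chevE6 6 tbE6.M = true := by decide +kernel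
theorem checkE6 : tbE6.check = true := by decide +kernel

/-- tables of type E7 -/
def tbE7 : Tb where
  n := 126
  l := 7
  T := W0E7.tabE7
  B := 0x7f7f7f7f7f7f3f7f7f7f3f7f7f3f7f3f1f7f7f3f7f3f1f7f3f1f0f7d3d1d0d05017e7e3e7e3e1e7e3e1e0e7a3a1a0a027c3c1c0c047838180870301060204040206010307008183878040c1c3c7c020a1a3a7a0e1e3e7e1e3e7e3e7e7e01050d1d3d7d0f1f3f7f1f3f7f3f7f7f1f3f7f3f7f7f3f7f7f7f3f7f7f7f7f7f7f
  H := 0x11100f0e0d0c0b0d0c0b0a0b0a090908070a0908080706070605040605040302010908070706050605040305040302010504030201040302010302010201010101020102030102030401020304050102030405030405060506070708090102030405060405060706070808090a070809090a0b0a0b0c0d0b0c0d0e0f1011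
  P := 0x203010101010403030302020202020200000000000000000000000000000000050404030303010101010101010100020202020003030300040400050000000005000404000303030002020202000101010101010101030303040405000000000000000000000000000000000202020202020303030401010101030200
  M := 0x20101010101020002010101010102000201010101010200020201010101020001020101010201000101010101020100

theorem suppE7 : suppOK chevE7 tbE7.B = true := by decide +kernel
theorem smallE7 : smallOK tbE7.B 126 7 = true := by decide +kernel
theorem mE7 : mOK chevE7 7 tbE7.M = true := by decide +kernel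
theorem checkE7 : tbE7.check = true := by decide +kernel

/-- tables of type E8 -/
def tbE8 : Tb where
  n := 240
  l := 8
  T := W0E8.tabE8
  B := 0xffffffffffffffffffffffffff7fffffffffffff7fffffffff7fffffff7fffff7fff7f3fffffff7fffff7fff7f3fffff7fff7f3fff7f3f1fffff7fff7f3fff7f3f1fff7f3f1f0ffd7d3d1d0d0501fefe7efe7e3efe7e3e1efe7e3e1e0efa7a3a1a0a02fc7c3c1c0c04f878381808f0703010e06020c040808040c02060e0103070f008183878f8040c1c3c7cfc020a1a3a7afa0e1e3e7efe1e3e7efe3e7efe7efefe01050d1d3d7dfd0f1f3f7fff1f3f7fff3f7fff7fffff1f3f7fff3f7fff7fffff3f7fff7fffff7fffffff3f7fff7fffff7fffffff7fffffffff7fffffffffffff7fffffffffffffffffffffffffff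
  H := 0x1d1c1b1a1918171716151413121116151413121110131211100f11100f0e0f0e0d0d0c0b100f0e0d0e0d0c0c0b0a0d0c0b0b0a090a0908070c0b0a0a0908090807060807060504070605040302010b0a09090807080706050706050403060504030201060504030201050403020104030201030201020101010102010203010203040102030405010203040506010203040506030405060705060708070809090a0b0102030405060704050607080607080908090a0a0b0c0708090a090a0b0b0c0d0a0b0c0c0d0e0d0e0f100b0c0d0d0e0f0e0f10110f1011121310111213141516111213141516171718191a1b1c1d
  P := 0x70605040301000200000000000001030202020202040303030301010101010101010101050404040303030303030202020202020202020200000000000000000000000000000000000000000000060505040404030303030101010101010101010100020202020200030303030004040400050500060000000006000505000404040003030303000202020202000101010101010101010103030303040404050506000000000000000000000000000000000000000000000202020202020202020203030303030304040405010101010101010101010303030304020202020203010000000000000200010304050607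
  M := 0x20101010101010200020101010101010200020101010101010200020101010101010200020201010101010200010201010101020100010101010101020100

theorem suppE8 : suppOK chevE8 tbE8.B = true := by decide +kernel
theorem smallE8 : smallOK tbE8.B 240 8 = true := by decide +kernel
theorem mE8 : mOK chevE8 8 tbE8.M = true := by decide +kernel
theorem checkE8 : tbE8.check = true := by decide +kernel

/-- The combinatorial data exist for each of the five types. -/
theorem exists_comb {D : ChevalleyDatum} (hD : D ∈ [chevD4, chevF4, chevE6, chevE7, chevE8]) : Nonempty (Comb D) := by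
  simp only [List.mem_cons, List.not_mem_nil, or_false] at hD
  rcases hD with h | h | h | h | h <;> rw [h]
  · exact ⟨mkComb (t := tbD4) (by simp) rfl rfl W0Small.tabD4_ok suppD4 smallD4 mD4 checkD4⟩
  · exact ⟨mkComb (t := tbF4) (by simp) rfl rfl W0Small.tabF4_ok suppF4 smallF4 mF4 checkF4⟩
  · exact ⟨mkComb (t := tbE6) (by simp) rfl rfl W0E6.tabE6_ok suppE6 smallE6 mE6 checkE6⟩
  · exact ⟨mkComb (t := tbE7) (by simp) rfl rfl W0E7.tabE7_ok suppE7 smallE7 mE7 checkE7⟩
  · exact ⟨mkComb (t := tbE8) (by simp) rfl rfl W0E8.tabE8_ok suppE8 smallE8 mE8 checkE8⟩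

end Cfsg.Agent.ChevalleyStructure.DepthCert
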