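import Cfsg.Agent.ChevalleyStructure.E6AdPhi

/-!
# The action of the group of the 27-dimensional module of type `E₆` on the adjoint module

`Z r t` is the root element `1 + t N_r` of the 27-dimensional module. If `Γ` is the subgroup of `GL I27 F` generated by
the `Z r t`, then `Γ / Z(Γ)` is isomorphic to the Chevalley group `chevE6.group F` (`quot_equiv`).
-/

set_option autoImplicit false

namespace Cfsg.Agent.ChevalleyStructure.E6Ad

open Cfsg.Lie
open Cfsg.Agent.ChevalleyStructure.E6AdTab
open Cfsg.Agent.ChevalleyStructure.E6AdMat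
open Cfsg.Agent.ChevalleyStructure.E6AdPhi
open Cfsg.Agent.ChevalleyStructure.XColumns
open scoped Matrix

universe u v w

/-! ### An isomorphism from an intertwining relation -/

theorem nonempty_equiv_of_rel {G : Type u} {K : Type v} {ι : Type w} [Group G] [Group K] (Γ : Subgroup G)
    (X : Subgroup K) (R : G → K → Prop) (h1 : R 1 1) (hmul : ∀ g g' k k', R g k → R g' k' → R (g * g') (k * k'))
    (hinv : ∀ g k, R g k → R g⁻¹ k⁻¹) (hinj : ∀ k, R 1 k → k = 1) (z : ι → G) (x : ι → K)
    (hz : Γ = Subgroup.closure (Set.range z)) (hx : X = Subgroup.closure (Set.range x))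
    (hR : ∀ i, R (z i) (x i)) (hcen : ∀ g : Γ, R (g : G) 1 ↔ g ∈ Subgroup.center Γ) :
    Nonempty (Γ ⧸ Subgroup.center Γ ≃* X) := by
  have hex : ∀ g ∈ Γ, ∃ k ∈ X, R g k := by
    intro g hg
    rw [hz] at hg
    induction hg using Subgroup.closure_induction with
    | mem g hg =>
      obtain ⟨i, rfl⟩ := hg
      exact ⟨x i, hx ▸ Subgroup.subset_closure ⟨i, rfl⟩, hR i⟩
    | one => exact ⟨1, X.one_mem, h1⟩
    | mul a b _ _ ha hb =>
      obtain ⟨k, hk, hk'⟩ := ha
      obtain ⟨l, hl, hl'⟩ := hb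
      exact ⟨k * l, X.mul_mem hk hl, hmul _ _ _ _ hk' hl'⟩
    | inv a _ ha =>
      obtain ⟨k, hk, hk'⟩ := ha
      exact ⟨k⁻¹, X.inv_mem hk, hinv _ _ hk'⟩
  have huniq : ∀ g k l, R g k → R g l → k = l := by
    intro g k l hk hl
    have := hmul _ _ _ _ (hinv _ _ hk) hl
    rw [inv_mul_cancel] at this
    exact inv_mul_eq_one.1 (hinj _ this)
  choose ρ hρX hρR using hex
  let f : Γ →* X := MonoidHom.mk' (fun g => ⟨ρ g.1 g.2, hρX g.1 g.2⟩) (by
    intro a b
    refine Subtype.ext ?_
    exact huniq _ _ _ (hρR (a * b).1 (a * b).2) (hmul _ _ _ _ (hρR a.1 a.2) (hρR b.1 b.2)))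
  have hf : ∀ g : Γ, R (g : G) (f g : K) := fun g => hρR g.1 g.2
  have hsurj : Function.Surjective f := by
    rintro ⟨k, hk⟩
    have : ∃ g ∈ Γ, R g k := by
      rw [hx] at hk
      induction hk using Subgroup.closure_induction with
      | mem k hk =>
        obtain ⟨i, rfl⟩ := hk
        exact ⟨z i, hz ▸ Subgroup.subset_closure ⟨i, rfl⟩, hR i⟩
      | one => exact ⟨1, Γ.one_mem, h1⟩
      | mul a b _ _ ha hb =>
        obtain ⟨g, hg, hg'⟩ := ha
        obtain ⟨g', hg1, hg2⟩ := hb
        exact ⟨g * g', Γ.mul_mem hg hg1, hmul _ _ _ _ hg' hg2⟩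
      | inv a _ ha =>
        obtain ⟨g, hg, hg'⟩ := ha
        exact ⟨g⁻¹, Γ.inv_mem hg, hinv _ _ hg'⟩
    obtain ⟨g, hg, hg'⟩ := this
    exact ⟨⟨g, hg⟩, Subtype.ext (huniq _ _ _ (hf ⟨g, hg⟩) hg')⟩
  have hker : f.ker = Subgroup.center Γ := by
    ext g
    rw [← hcen, MonoidHom.mem_ker]
    constructor
    · intro h
      have := hf g
      rw [h] at this
      exact this
    · intro h
      exact Subtype.ext (huniq _ _ _ (hf g) h)
  exact ⟨(QuotientGroup.quotientMulEquivOfEq hker.symm).trans (QuotientGroup.quotientKerEquivOfSurjective f hsurj)⟩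

/-! ### The root elements -/

variable {F : Type u} [Field F]

/-- The root element `1 + t N_r`. -/
def Z (r : Fin 72) (t : F) : GL I27 F where
  val := 1 + t • N F r.val
  inv := 1 - t • N F r.val
  val_inv := by
    rw [add_mul, one_mul, mul_sub, mul_one, smul_mul_smul_comm, N_sq r.isLt, smul_zero, sub_zero, sub_add_cancel]
  inv_val := by
    rw [sub_mul, one_mul, mul_add, mul_one, smul_mul_smul_comm, N_sq r.isLt, smul_zero, add_zero,
      add_sub_cancel_right]

theorem coe_Z (r : Fin 72) (t : F) : ((Z r t : GL I27 F) : Matrix I27 I27 F) = 1 + t • N F r.val := rfl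

/-- The group generated by the root elements of the 27-dimensional module. -/
def Gam (F : Type u) [Field F] : Subgroup (GL I27 F) := Subgroup.closure {g | ∃ (r : Fin 72) (t : F), g = Z r t}

theorem Z_mem_Gam (r : Fin 72) (t : F) : Z r t ∈ Gam F := Subgroup.subset_closure ⟨r, t, rfl⟩

/-! ### The centre -/

theorem commute_N {g : GL I27 F} (h : ∀ r t, Z r t * g = g * Z r t) {s : ℕ} (hs : s < 72) :
    (g : Matrix I27 I27 F) * N F s = N F s * g := by
  have h1 := congrArg (fun x : GL I27 F => (x : Matrix I27 I27 F)) (h ⟨s, hs⟩ 1)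
  simp only [Units.val_mul, coe_Z, one_smul, add_mul, mul_add, one_mul, mul_one] at h1
  exact (add_left_cancel h1).symm

theorem Hm_eq_Cm {i : ℕ} (hi : i < 6) : Hm F i = Cm F (sr i) := by
  have h := List.all_eq_true.1 sr_all i (List.mem_range.2 hi)
  simp only [Bool.and_eq_true, decide_eq_true_eq, List.all_eq_true, List.mem_range] at h
  rw [Hm, Cm]
  congr 1
  funext a
  rw [cv_eq, Finset.sum_eq_single (⟨i, hi⟩ : Fin 6)]
  · rw [h.2 i hi, if_pos rfl, one_mul]
  · intro j _ hj
    rw [h.2 j.val j.isLt, if_neg, zero_mul]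
    intro h'; exact hj (Fin.ext h')
  · intro h; exact absurd (Finset.mem_univ _) h

theorem commute_phi {g : GL I27 F} (h : ∀ r t, Z r t * g = g * Z r t) (v : chevE6.Idx → F) :
    (g : Matrix I27 I27 F) * phi F v = phi F v * g := by
  have hC : ∀ r < 72, (g : Matrix I27 I27 F) * Cm F r = Cm F r * g := by
    intro r hr
    have hn := (root_facts hr).1
    have h1 := N_neg (F := F) hr
    have h2 : Cm F r = N F r * N F (chevE6.neg r) - N F (chevE6.neg r) * N F r := by
      rw [h1]; abel
    rw [h2, mul_sub, sub_mul, ← mul_assoc, commute_N h hr, mul_assoc, commute_N h hn, ← mul_assoc, ← mul_assoc,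
      commute_N h hn, mul_assoc (N F (chevE6.neg r)), commute_N h hr, ← mul_assoc]
  rw [phi_apply, mul_add, add_mul, Finset.mul_sum, Finset.mul_sum, Finset.sum_mul, Finset.sum_mul]
  congr 1
  · refine Finset.sum_congr rfl fun i _ => ?_
    have h1 := List.all_eq_true.1 sr_all i.val (List.mem_range.2 i.isLt)
    simp only [Bool.and_eq_true, decide_eq_true_eq] at h1
    rw [mul_smul_comm, smul_mul_assoc, Hm_eq_Cm i.isLt, hC _ h1.1]
  · refine Finset.sum_congr rfl fun s _ => ?_
    rw [mul_smul_comm, smul_mul_assoc, commute_N h s.isLt]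

theorem inList : Elts.InList chevE6 := by
  simp [Elts.InList]

theorem rel_one : Rel (F := F) 1 1 := fun v => by rw [one_mul, Matrix.one_mulVec, mul_one]

theorem rel_mul {g g' : Matrix I27 I27 F} {k k' : Matrix chevE6.Idx chevE6.Idx F} (h : Rel g k) (h' : Rel g' k') :
    Rel (g * g') (k * k') := by
  intro v
  rw [mul_assoc, h' v, ← mul_assoc, h, mul_assoc, Matrix.mulVec_mulVec]

theorem rel_inv {g : GL I27 F} {k : GL chevE6.Idx F} (h : Rel (F := F) g k) :
    Rel (F := F) (g⁻¹ : GL I27 F) (k⁻¹ : GL chevE6.Idx F) := by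
  intro v
  have h1 := h (((k⁻¹ : GL chevE6.Idx F) : Matrix chevE6.Idx chevE6.Idx F) *ᵥ v)
  rw [Matrix.mulVec_mulVec, ← Units.val_mul, mul_inv_cancel, Units.val_one, Matrix.one_mulVec] at h1
  have h2 : ((g⁻¹ : GL I27 F) : Matrix I27 I27 F) * g = 1 := by
    rw [← Units.val_mul, inv_mul_cancel, Units.val_one]
  have h3 : (g : Matrix I27 I27 F) * ((g⁻¹ : GL I27 F) : Matrix I27 I27 F) = 1 := by
    rw [← Units.val_mul, mul_inv_cancel, Units.val_one]
  calc ((g⁻¹ : GL I27 F) : Matrix I27 I27 F) * phi F v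
      = (g⁻¹ : GL I27 F) * (phi F v * g) * (g⁻¹ : GL I27 F) := by rw [mul_assoc, mul_assoc, h3, mul_one]
    _ = _ := by rw [← h1, ← mul_assoc, h2, one_mul]

theorem rel_one_left {k : GL chevE6.Idx F} (h : Rel (F := F) 1 k) : k = 1 := by
  refine Units.ext ?_
  have h1 : ∀ v, (k : Matrix chevE6.Idx chevE6.Idx F) *ᵥ v = v := by
    intro v
    have := h v
    rw [one_mul, mul_one] at this
    exact (phi_injective this).symm
  ext a b
  have := congrFun (h1 (Pi.single b 1)) a
  rw [Matrix.mulVec_single_one] at this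
  rw [Units.val_one, Matrix.one_apply, ← Pi.single_apply]
  exact this

/-- The group generated by the root elements, modulo its centre. -/
theorem quot_equiv (F : Type u) [Field F] :
    Nonempty (Gam F ⧸ Subgroup.center (Gam F) ≃* ↥(chevE6.group F)) := by
  refine nonempty_equiv_of_rel (ι := Fin 72 × F) (Gam F) (chevE6.group F) (fun g k => Rel (F := F) g k) rel_one
    (fun g g' k k' h h' => ?_) (fun g k h => rel_inv h) (fun k h => rel_one_left h) (fun p => Z p.1 p.2)
    (fun p => Elts.xG inList p.1.val p.2) ?_ ?_ (fun p => ?_) (fun g => ?_)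
  · exact rel_mul h h'
  · unfold Gam
    congr 1
    ext g
    constructor
    · rintro ⟨r, t, rfl⟩; exact ⟨(r, t), rfl⟩
    · rintro ⟨⟨r, t⟩, rfl⟩; exact ⟨r, t, rfl⟩
  · unfold ChevalleyDatum.group
    congr 1
    ext g
    constructor
    · rintro ⟨r, t, h⟩
      refine ⟨(r, t), ?_⟩
      exact ((Elts.eq_xG_iff inList g r.val t).2 (h.trans (Elts.x_of_lt r.isLt t).symm)).symm
    · rintro ⟨⟨r, t⟩, rfl⟩
      exact ⟨r, t, Elts.x_of_lt r.isLt t⟩
  · exact rel_Z p.1.isLt p.2
  · constructor
    · intro h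
      have hN : ∀ s : Fin 72, ((g : GL I27 F) : Matrix I27 I27 F) * N F s.val =
          N F s.val * ((g : GL I27 F) : Matrix I27 I27 F) := by
        intro s
        have := h (ev chevE6 F s.val)
        rw [Units.val_one, Matrix.one_mulVec, phi_ev s.isLt] at this
        exact this
      rw [Subgroup.mem_center_iff]
      rintro ⟨x, hx⟩
      refine Subtype.ext ?_
      show x * (g : GL I27 F) = (g : GL I27 F) * x
      unfold Gam at hx
      induction hx using Subgroup.closure_induction with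
      | mem x hx =>
        obtain ⟨r, t, rfl⟩ := hx
        refine Units.ext ?_
        rw [Units.val_mul, Units.val_mul, coe_Z, add_mul, mul_add, one_mul, mul_one, smul_mul_assoc, mul_smul_comm,
          hN]
      | one => rw [one_mul, mul_one]
      | mul a b _ _ ha hb => rw [mul_assoc, hb, ← mul_assoc, ha, mul_assoc]
      | inv a _ ha => rw [inv_mul_eq_iff_eq_mul, ← mul_assoc, ha, mul_inv_cancel_right]
    · intro h v
      rw [Units.val_one, Matrix.one_mulVec]
      refine commute_phi (fun r t => ?_) v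
      have := Subgroup.mem_center_iff.1 h ⟨Z r t, Z_mem_Gam r t⟩
      exact congrArg Subtype.val this

end Cfsg.Agent.ChevalleyStructure.E6Ad
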