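import Cfsg.Agent.ChevalleyStructure.E6AdTab

/-!
Kernel checks for the 27-dimensional representation of type `E₆`: the pairs of roots `(r, s)` with
`0 ≤ r < 18`, and the roots `r` in that range.
-/

set_option autoImplicit false

namespace Cfsg.Agent.ChevalleyStructure.E6AdCheck0

open Cfsg.Agent.ChevalleyStructure.FastBase
open Cfsg.Agent.ChevalleyStructure.E6AdTab

set_option maxRecDepth 100000 in
theorem pairs : allLt 18 (fun k => force (Nat.add k 0) fun r => allLt 72 fun s => pairOK r s) = true := by
  decide +kernel

set_option maxRecDepth 100000 in
theorem roots : allLt 18 (fun k => force (Nat.add k 0) fun r => rootOK r) = true := by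
  decide +kernel

end Cfsg.Agent.ChevalleyStructure.E6AdCheck0
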