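import Cfsg.Agent.ChevalleyStructure.E6Ad
import Cfsg.Agent.ChevalleyStructure.E6Form.Cubic

/-!
# The root elements of the 27-dimensional module of type `E₆` preserve the cubic form
-/

set_option autoImplicit false

namespace Cfsg.Agent.ChevalleyStructure.E6AdCubic

open Cfsg.Lie
open Cfsg.Agent.ChevalleyStructure.FastBase (force force_eq allLt allLt_iff)
open Cfsg.Agent.ChevalleyStructure.E6AdTab
open Cfsg.Agent.ChevalleyStructure.E6AdMat
open Cfsg.Agent.ChevalleyStructure.E6Ad
open Cfsg.Agent.ChevalleyStructure.E6Form.Cubic (mono term Q cubicT_eq cubicT_add_smul)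
open scoped Matrix

universe u

variable {F : Type u} [Field F]

/-! ### The transpose -/

theorem N_transpose_aux {r : ℕ} (hr : r < 72) {a b : I27} (h : N F r a b ≠ 0) :
    N F (chevE6.neg r) b a = N F r a b := by
  simp only [N, Matrix.of_apply] at h ⊢
  have hst : ∀ c : I27, st (num c) = 2 * (num c + 1) := fun _ => rfl
  have h1 : lk (P r) (st (num b)) / 2 = num a + 1 := by
    by_contra h'
    exact h (by rw [dec, if_neg h'])
  have h2 : lks (P (chevE6.neg r)) (lk (P r) (st (num b))) = st (num b) := by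
    rcases (cor_facts hr (num_lt b)).2.2.1 with h' | h'
    · omega
    · exact h'
  have h3 : lk (P (chevE6.neg r)) (st (num a)) = lk (P (chevE6.neg r)) (lk (P r) (st (num b))) :=
    lk_of_div (by rw [h1, hst]; omega)
  have h6 : dec F (st (num b)) b = 1 := by rw [dec_st, Pi.single_eq_same]
  rcases Nat.mod_two_eq_zero_or_one (lk (P r) (st (num b))) with h4 | h4
  · rw [lks_eq_of_even _ h4] at h2
    rw [h3, h2, h6, dec, if_pos h1, if_pos h4]
  · rw [lks_eq_of_odd _ h4] at h2
    have h5 : dec F (lk (P (chevE6.neg r)) (lk (P r) (st (num b)))) = - dec F (st (num b)) := by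
      have h7 := congrArg (dec F) h2
      rw [dec_xor] at h7
      rw [← h7, neg_neg]
    rw [h3, h5, Pi.neg_apply, h6, dec, if_pos h1, if_neg (by omega)]

theorem N_transpose {r : ℕ} (hr : r < 72) (a b : I27) : N F r a b = N F (chevE6.neg r) b a := by
  by_cases h : N F r a b = 0
  · by_cases h' : N F (chevE6.neg r) b a = 0
    · rw [h, h']
    · have := N_transpose_aux (root_facts hr).1 h'
      rw [(root_facts hr).2.2.1] at this
      exact this
  · exact (N_transpose_aux hr h).symm

/-! ### The checks -/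

/-- The coordinate with number `k`. -/
def ix (k : ℕ) : I27 := (⟨k / 9 % 3, Nat.mod_lt _ (by norm_num)⟩, ⟨k / 3 % 3, Nat.mod_lt _ (by norm_num)⟩,
  ⟨k % 3, Nat.mod_lt _ (by norm_num)⟩)

theorem ix_num (a : I27) : ix (num a) = a := by
  obtain ⟨i, j, k⟩ := a
  simp only [ix, num]
  refine Prod.ext (Fin.ext ?_) (Prod.ext (Fin.ext ?_) (Fin.ext ?_)) <;> simp only <;> omega

/-- The value of a state on a vector. -/
def vl (x : I27 → F) (w : ℕ) : F :=
  if w ≤ 1 then 0 else if w % 2 = 0 then x (ix (w / 2 - 1)) else - x (ix (w / 2 - 1))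

theorem N_mulVec {r : ℕ} (hr : r < 72) (x : I27 → F) (a : I27) :
    (N F r *ᵥ x) a = vl x (lk (P (chevE6.neg r)) (st (num a))) := by
  have h1 : (N F r *ᵥ x) a = ∑ b, dec F (lk (P (chevE6.neg r)) (st (num a))) b * x b := by
    rw [Matrix.mulVec, dotProduct]
    refine Finset.sum_congr rfl fun b _ => ?_
    rw [N_transpose hr]
    rfl
  rw [h1]
  have h56 := (cor_facts (root_facts hr).1 (num_lt a)).1
  generalize lk (P (chevE6.neg r)) (st (num a)) = w at h56
  rcases Nat.lt_or_ge w 2 with hw | hw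
  · rw [dec_le_one (by omega), vl, if_pos (by omega)]
    simp
  · obtain ⟨c, hc, ⟨h2, -, h3⟩ | ⟨h2, -, h3⟩⟩ := exists_dec (F := F) hw h56
    · rw [h3, vl, if_neg (by omega), if_pos h2, hc, Nat.add_sub_cancel, ix_num, Finset.sum_eq_single c]
      · rw [Pi.single_eq_same, one_mul]
      · intro b _ hb
        rw [Pi.single_eq_of_ne hb, zero_mul]
      · intro h; exact absurd (Finset.mem_univ _) h
    · rw [h3, vl, if_neg (by omega), if_neg (by omega), hc, Nat.add_sub_cancel, ix_num, Finset.sum_eq_single c]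
      · rw [Pi.neg_apply, Pi.single_eq_same, neg_one_mul]
      · intro b _ hb
        rw [Pi.neg_apply, Pi.single_eq_of_ne hb, neg_zero, zero_mul]
      · intro h; exact absurd (Finset.mem_univ _) h

/-- Code of a monomial of degree three. -/
def code (a b c : ℕ) : ℕ :=
  let p := min a b
  let q := max a b
  let t := max p c
  min p c + 32 * (min q t + 32 * max q t)

/-- The monomial with a given code. -/
def pc (x : ℕ → F) (n : ℕ) : F := x (n % 32) * (x (n / 32 % 32) * x (n / 32 / 32))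

theorem min_max (x : ℕ → F) (a b : ℕ) : x (min a b) * x (max a b) = x a * x b := by
  rcases le_total a b with h | h
  · rw [min_eq_left h, max_eq_right h]
  · rw [min_eq_right h, max_eq_left h, mul_comm]

theorem pc_code (x : ℕ → F) {a b c : ℕ} (ha : a < 27) (hb : b < 27) (hc : c < 27) :
    pc x (code a b c) = x a * x b * x c := by
  have h1 : pc x (code a b c) = x (min (min a b) c) * (x (min (max a b) (max (min a b) c)) *
      x (max (max a b) (max (min a b) c))) := by
    have e : ∀ lo mi hi : ℕ, lo < 32 → mi < 32 → pc x (lo + 32 * (mi + 32 * hi)) = x lo * (x mi * x hi) := by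
      intro lo mi hi h1 h2
      rw [pc]
      have e1 : (lo + 32 * (mi + 32 * hi)) % 32 = lo := by omega
      have e2 : (lo + 32 * (mi + 32 * hi)) / 32 = mi + 32 * hi := by omega
      have e3 : (mi + 32 * hi) % 32 = mi := by omega
      have e4 : (mi + 32 * hi) / 32 = hi := by omega
      rw [e1, e2, e3, e4]
    exact e _ _ _ (by omega) (by omega)
  rw [h1, min_max, mul_left_comm, min_max]
  rw [mul_comm (x (max a b)), mul_right_comm, min_max]

/-- The terms of the polar form `Q x (N_r x)` coming from one monomial: `q` is the packed matrix of `-r`. -/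
def tm (q : ℕ) (m : ℤ × I27 × I27 × I27) : List (ℤ × ℕ) :=
  [(m.1 * (if lk q (st (num m.2.2.2)) % 2 = 0 then 1 else -1), lk q (st (num m.2.2.2)),
      code (num m.2.1) (num m.2.2.1) (lk q (st (num m.2.2.2)) / 2 - 1)),
    (m.1 * (if lk q (st (num m.2.2.1)) % 2 = 0 then 1 else -1), lk q (st (num m.2.2.1)),
      code (num m.2.1) (lk q (st (num m.2.2.1)) / 2 - 1) (num m.2.2.2)),
    (m.1 * (if lk q (st (num m.2.1)) % 2 = 0 then 1 else -1), lk q (st (num m.2.1)),
      code (lk q (st (num m.2.1)) / 2 - 1) (num m.2.2.1) (num m.2.2.2))].filterMap fun e =>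
        if e.2.1 ≤ 1 then none else some (e.1, e.2.2)

/-- The check that `Q x (N_r x) = 0`. -/
def qOK (r : ℕ) : Bool :=
  force (P (chevE6.neg r)) fun q =>
  let L := mono.flatMap (tm q)
  L.all (fun e => decide (e.1 = 1 ∨ e.1 = -1)) &&
  ((L.filter fun e => decide (e.1 = 1)).map Prod.snd).isPerm ((L.filter fun e => !decide (e.1 = 1)).map Prod.snd) &&
  mono.all fun m => (Nat.ble (lk q (st (num m.2.1))) 1 && Nat.ble (lk q (st (num m.2.2.1))) 1) ||
    (Nat.ble (lk q (st (num m.2.1))) 1 && Nat.ble (lk q (st (num m.2.2.2))) 1) ||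
    (Nat.ble (lk q (st (num m.2.2.1))) 1 && Nat.ble (lk q (st (num m.2.2.2))) 1)

set_option maxRecDepth 100000 in
theorem qOK_all : (List.range 72).all qOK = true := by decide +kernel

/-- The value of an element of the list `tm`. -/
def gv (x : I27 → F) (e : ℤ × ℕ) : F := (e.1 : F) * pc (fun k => x (ix k)) e.2

theorem sum_filterMap (x : I27 → F) (l : List (ℤ × ℕ × ℕ)) :
    ((l.filterMap fun e => if e.2.1 ≤ 1 then none else some (e.1, e.2.2)).map (gv x)).sum =
      (l.map fun e => if e.2.1 ≤ 1 then 0 else gv x (e.1, e.2.2)).sum := by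
  induction l with
  | nil => rfl
  | cons e l ih =>
    rw [List.filterMap_cons, List.map_cons, List.sum_cons]
    by_cases h : e.2.1 ≤ 1
    · simp only [if_pos h, zero_add]
      exact ih
    · simp only [if_neg h, List.map_cons, List.sum_cons]
      rw [ih]

theorem gv_eq (x : I27 → F) (c : ℤ) {w n : ℕ} {a b : F} (h : 2 ≤ w →
    pc (fun k => x (ix k)) n = a * b * x (ix (w / 2 - 1))) :
    (if w ≤ 1 then 0 else gv x (c * (if w % 2 = 0 then 1 else -1), n)) = (c : F) * (a * b * vl x w) := by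
  by_cases hw : w ≤ 1
  · rw [if_pos hw, vl, if_pos hw, mul_zero, mul_zero]
  · rw [if_neg hw, vl, if_neg hw, gv, h (by omega)]
    by_cases h2 : w % 2 = 0
    · rw [if_pos h2, if_pos h2, mul_one]
    · rw [if_neg h2, if_neg h2]
      push_cast
      ring

theorem tm_sum {r : ℕ} (hr : r < 72) (x : I27 → F) (m : ℤ × I27 × I27 × I27) :
    term m x x (N F r *ᵥ x) + term m x (N F r *ᵥ x) x + term m (N F r *ᵥ x) x x =
      ((tm (P (chevE6.neg r)) m).map (gv x)).sum := by
  have h56 : ∀ a, lk (P (chevE6.neg r)) (st (num a)) < 56 := fun a => (cor_facts (root_facts hr).1 (num_lt a)).1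
  rw [tm, sum_filterMap]
  simp only [List.map_cons, List.map_nil, List.sum_cons, List.sum_nil, add_zero]
  rw [gv_eq x m.1 (a := x m.2.1) (b := x m.2.2.1) fun h => by
      rw [pc_code _ (num_lt _) (num_lt _) (by have := h56 m.2.2.2; omega), ix_num, ix_num],
    gv_eq x m.1 (a := x m.2.1) (b := x m.2.2.2) fun h => by
      rw [pc_code _ (num_lt _) (by have := h56 m.2.2.1; omega) (num_lt _), ix_num, ix_num]; ring,
    gv_eq x m.1 (a := x m.2.2.1) (b := x m.2.2.2) fun h => by
      rw [pc_code _ (by have := h56 m.2.1; omega) (num_lt _) (num_lt _), ix_num, ix_num]; ring]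
  simp only [term, N_mulVec hr]
  ring

theorem sum_split (x : I27 → F) (L : List (ℤ × ℕ)) (h : ∀ e ∈ L, e.1 = 1 ∨ e.1 = -1) :
    (L.map (gv x)).sum = (((L.filter fun e => decide (e.1 = 1)).map Prod.snd).map (pc fun k => x (ix k))).sum -
      (((L.filter fun e => !decide (e.1 = 1)).map Prod.snd).map (pc fun k => x (ix k))).sum := by
  induction L with
  | nil => simp
  | cons e L ih =>
    have ih' := ih fun e he => h e (List.mem_cons_of_mem _ he)
    rw [List.map_cons, List.sum_cons, ih', List.filter_cons, List.filter_cons, gv]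
    rcases h e List.mem_cons_self with h1 | h1
    · rw [if_pos (by simp [h1]), if_neg (by simp [h1]), List.map_cons, List.map_cons, List.sum_cons, h1]
      push_cast; ring
    · rw [if_neg (by simp [h1]), if_pos (by simp [h1]), List.map_cons, List.map_cons, List.sum_cons, h1]
      push_cast; ring

theorem qOK_facts {r : ℕ} (hr : r < 72) :
    (∀ e ∈ mono.flatMap (tm (P (chevE6.neg r))), e.1 = 1 ∨ e.1 = -1) ∧
    (((mono.flatMap (tm (P (chevE6.neg r)))).filter fun e => decide (e.1 = 1)).map Prod.snd).Perm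
      (((mono.flatMap (tm (P (chevE6.neg r)))).filter fun e => !decide (e.1 = 1)).map Prod.snd) ∧
    ∀ m ∈ mono, (lk (P (chevE6.neg r)) (st (num m.2.1)) ≤ 1 ∧ lk (P (chevE6.neg r)) (st (num m.2.2.1)) ≤ 1) ∨
      (lk (P (chevE6.neg r)) (st (num m.2.1)) ≤ 1 ∧ lk (P (chevE6.neg r)) (st (num m.2.2.2)) ≤ 1) ∨
      (lk (P (chevE6.neg r)) (st (num m.2.2.1)) ≤ 1 ∧ lk (P (chevE6.neg r)) (st (num m.2.2.2)) ≤ 1) := by
  have h := List.all_eq_true.1 qOK_all r (List.mem_range.2 hr)
  simp only [qOK, force_eq, Bool.and_eq_true, List.isPerm_iff] at h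
  obtain ⟨⟨h1, h2⟩, h3⟩ := h
  refine ⟨fun e he => of_decide_eq_true (List.all_eq_true.1 h1 e he), h2, fun m hm => ?_⟩
  have := List.all_eq_true.1 h3 m hm
  simp only [Bool.and_eq_true, Bool.or_eq_true, Nat.ble_eq] at this
  exact or_assoc.1 this

theorem Q_N {r : ℕ} (hr : r < 72) (x : I27 → F) : Q x (N F r *ᵥ x) = 0 := by
  obtain ⟨h1, h2, -⟩ := qOK_facts hr
  have h3 : Q x (N F r *ᵥ x) = ((mono.flatMap (tm (P (chevE6.neg r)))).map (gv x)).sum := by
    rw [Q]
    generalize mono = l
    induction l with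
    | nil => rfl
    | cons m l ih =>
      rw [List.map_cons, List.sum_cons, ih, List.flatMap_cons, List.map_append, List.sum_append, tm_sum hr]
  rw [h3, sum_split x _ h1, (h2.map _).sum_eq, sub_self]

theorem two_zero {r : ℕ} (hr : r < 72) (x : I27 → F) {m : ℤ × I27 × I27 × I27} (hm : m ∈ mono) :
    ((N F r *ᵥ x) m.2.1 = 0 ∧ (N F r *ᵥ x) m.2.2.1 = 0) ∨ ((N F r *ᵥ x) m.2.1 = 0 ∧ (N F r *ᵥ x) m.2.2.2 = 0) ∨
      ((N F r *ᵥ x) m.2.2.1 = 0 ∧ (N F r *ᵥ x) m.2.2.2 = 0) := by
  simp only [N_mulVec hr]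
  rcases (qOK_facts hr).2.2 m hm with ⟨h1, h2⟩ | ⟨h1, h2⟩ | ⟨h1, h2⟩
  · exact Or.inl ⟨if_pos h1, if_pos h2⟩
  · exact Or.inr (Or.inl ⟨if_pos h1, if_pos h2⟩)
  · exact Or.inr (Or.inr ⟨if_pos h1, if_pos h2⟩)

theorem sum_zero {α : Type*} (l : List α) (f : α → F) (h : ∀ m ∈ l, f m = 0) : (l.map f).sum = 0 := by
  induction l with
  | nil => rfl
  | cons m l ih =>
    rw [List.map_cons, List.sum_cons, h m List.mem_cons_self, ih fun m hm => h m (List.mem_cons_of_mem _ hm), add_zero]

theorem Q_N' {r : ℕ} (hr : r < 72) (x : I27 → F) : Q (N F r *ᵥ x) x = 0 := by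
  rw [Q]
  refine sum_zero _ _ fun m hm => ?_
  simp only [term]
  rcases two_zero hr x hm with ⟨h1, h2⟩ | ⟨h1, h2⟩ | ⟨h1, h2⟩ <;> rw [h1, h2] <;> ring

theorem cubicT_N {r : ℕ} (hr : r < 72) (x : I27 → F) : cubicT (N F r *ᵥ x) = 0 := by
  rw [cubicT_eq]
  refine sum_zero _ _ fun m hm => ?_
  simp only [term]
  rcases two_zero hr x hm with ⟨h1, h2⟩ | ⟨h1, h2⟩ | ⟨h1, h2⟩ <;> rw [h1, h2] <;> ring

/-- The root elements preserve the cubic form. -/
theorem Z_mem (r : Fin 72) (t : F) : Z r t ∈ E6univ F := by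
  have h : ∀ v, cubicT ((Units.coeHom (Matrix I27 I27 F) (Z r t)) *ᵥ v) = cubicT v := by
    intro v
    rw [Units.coeHom_apply, coe_Z, Matrix.add_mulVec, Matrix.one_mulVec, Matrix.smul_mulVec, cubicT_add_smul,
      Q_N r.isLt, Q_N' r.isLt, cubicT_N r.isLt]
    ring
  exact h

theorem Gam_le : Gam F ≤ E6univ F := by
  unfold Gam
  rw [Subgroup.closure_le]
  rintro _ ⟨r, t, rfl⟩
  exact Z_mem r t

/-- If the isometries of the cubic form are generated by the root elements, then the isometry group modulo its centre is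
the Chevalley group. -/
theorem main (h : E6univ F ≤ Subgroup.closure {g | ∃ (r : Fin 72) (t : F), g = Z r t}) :
    Nonempty (E6 F ≃* ↥(chevE6.group F)) := by
  have h1 : E6univ F = Gam F := le_antisymm h Gam_le
  have h2 := quot_equiv F
  rw [← h1] at h2
  exact h2

end Cfsg.Agent.ChevalleyStructure.E6AdCubic
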