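import Cfsg.Agent.ChevalleyStructure.E6AdCheck0
import Cfsg.Agent.ChevalleyStructure.E6AdCheck1
import Cfsg.Agent.ChevalleyStructure.E6AdCheck2
import Cfsg.Agent.ChevalleyStructure.E6AdCheck3

/-!
# The matrices of the root vectors of type `E₆` on the 27-dimensional module

`N F r` is the matrix of the root vector of `r`, `Hm F i` that of the `i`-th fundamental coroot, `Cm F r` that of the
coroot of `r`. The relations: `N_comm`, `N_bra` (brackets), `N_sq`, `N_neg` (`[N_r, N_{-r}]`), `N_H`, `Cm_N`.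
-/

set_option autoImplicit false

namespace Cfsg.Agent.ChevalleyStructure.E6AdMat

open Cfsg.Lie
open Cfsg.Agent.ChevalleyStructure.FastBase
open Cfsg.Agent.ChevalleyStructure.E6AdTab
open scoped Matrix

universe u

/-! ### The checks -/

theorem pairOK_all {r s : ℕ} (hr : r < 72) (hs : s < 72) : pairOK r s = true := by
  have key : ∀ (j k : ℕ), r = Nat.add k j → k < 18 →
      allLt 18 (fun k => force (Nat.add k j) fun r => allLt 72 fun s => pairOK r s) = true → pairOK r s = true := by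
    intro j k hk hk' h
    have h1 := allLt_iff.1 h k hk'
    rw [force_eq, ← hk] at h1
    exact allLt_iff.1 h1 s hs
  rcases Nat.lt_or_ge r 18 with h0 | h0
  · exact key 0 r rfl h0 E6AdCheck0.pairs
  rcases Nat.lt_or_ge r 36 with h1 | h1
  · exact key 18 (r - 18) (Nat.sub_add_cancel h0).symm (by omega) E6AdCheck1.pairs
  rcases Nat.lt_or_ge r 54 with h2 | h2
  · exact key 36 (r - 36) (Nat.sub_add_cancel h1).symm (by omega) E6AdCheck2.pairs
  · exact key 54 (r - 54) (Nat.sub_add_cancel h2).symm (by omega) E6AdCheck3.pairs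

theorem rootOK_all {r : ℕ} (hr : r < 72) : rootOK r = true := by
  have key : ∀ (j k : ℕ), r = Nat.add k j → k < 18 →
      allLt 18 (fun k => force (Nat.add k j) fun r => rootOK r) = true → rootOK r = true := by
    intro j k hk hk' h
    have h1 := allLt_iff.1 h k hk'
    rw [force_eq, ← hk] at h1
    exact h1
  rcases Nat.lt_or_ge r 18 with h0 | h0
  · exact key 0 r rfl h0 E6AdCheck0.roots
  rcases Nat.lt_or_ge r 36 with h1 | h1
  · exact key 18 (r - 18) (Nat.sub_add_cancel h0).symm (by omega) E6AdCheck1.roots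
  rcases Nat.lt_or_ge r 54 with h2 | h2
  · exact key 36 (r - 36) (Nat.sub_add_cancel h1).symm (by omega) E6AdCheck2.roots
  · exact key 54 (r - 54) (Nat.sub_add_cancel h2).symm (by omega) E6AdCheck3.roots

/-! ### Numbering of the coordinates -/

/-- The number of a coordinate. -/
def num (a : I27) : ℕ := 9 * a.1.val + 3 * a.2.1.val + a.2.2.val

theorem num_lt (a : I27) : num a < 27 := by
  obtain ⟨i, j, k⟩ := a
  simp only [num]; omega

theorem num_inj {a b : I27} (h : num a = num b) : a = b := by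
  obtain ⟨i, j, k⟩ := a
  obtain ⟨i', j', k'⟩ := b
  simp only [num] at h
  have h1 : i = i' := Fin.ext (by omega)
  have h2 : j = j' := Fin.ext (by omega)
  have h3 : k = k' := Fin.ext (by omega)
  rw [h1, h2, h3]

theorem exists_num {k : ℕ} (hk : k < 27) : ∃ a : I27, num a = k :=
  ⟨(⟨k / 9, by omega⟩, ⟨k / 3 % 3, by omega⟩, ⟨k % 3, by omega⟩), by simp only [num]; omega⟩

/-! ### States -/

section
variable (F : Type u) [Field F]

/-- The vector with state `v`. -/
def dec (v : ℕ) : I27 → F := fun a => if v / 2 = num a + 1 then (if v % 2 = 0 then 1 else -1) else 0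

variable {F}

theorem dec_le_one {v : ℕ} (h : v ≤ 1) : dec F v = 0 := by
  funext a
  rw [dec, if_neg (by omega)]; rfl

theorem dec_ge {v : ℕ} (h : 56 ≤ v) : dec F v = 0 := by
  funext a
  have := num_lt a
  rw [dec, if_neg (by omega)]; rfl

theorem dec_st (b : I27) : dec F (st (num b)) = Pi.single b 1 := by
  funext a
  have h1 : st (num b) = 2 * (num b + 1) := rfl
  rw [dec, h1]
  by_cases h : a = b
  · rw [h, if_pos (by omega), if_pos (by omega), Pi.single_eq_same]
  · rw [if_neg, Pi.single_eq_of_ne h]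
    intro h2
    exact h (num_inj (by omega))

theorem dec_xor (w : ℕ) : dec F (Nat.xor w 1) = - dec F w := by
  funext a
  have h1 : Nat.xor w 1 / 2 = w / 2 := by
    exact (Nat.xor_div_two (a := w) (b := 1)).trans (by simp)
  have h2 : Nat.xor w 1 % 2 = (w + 1) % 2 := by
    exact Nat.xor_mod_two_eq (m := w) (n := 1)
  rw [Pi.neg_apply, dec, dec, h1, h2]
  by_cases h : w / 2 = num a + 1
  · rw [if_pos h, if_pos h]
    by_cases h' : w % 2 = 0
    · rw [if_neg (by omega), if_pos h']
    · rw [if_pos (by omega), if_neg h', neg_neg]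
  · rw [if_neg h, if_neg h, neg_zero]

theorem dec_xor_zero (w : ℕ) : dec F (Nat.xor w 0) = dec F w := by
  have : Nat.xor w 0 = w := Nat.xor_zero w
  rw [this]

theorem eqS_sound {x y : ℕ} (h : eqS x y = true) : dec F x = dec F y := by
  simp only [eqS, Bool.or_eq_true, Bool.and_eq_true, Nat.ble_eq, Nat.beq_eq] at h
  rcases h with h | ⟨h1, h2⟩
  · rw [h]
  · rw [dec_le_one h1, dec_le_one h2]

theorem addS_sound {a b d : ℕ} (h : addS a b d = true) : dec F a = dec F b + dec F d := by
  simp only [addS, Bool.or_eq_true, Bool.and_eq_true, Nat.ble_eq] at h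
  rcases h with ⟨h1, h2⟩ | ⟨h1, h2⟩ | ⟨h1, h2⟩
  · rw [dec_le_one h1, eqS_sound h2, zero_add]
  · rw [dec_le_one h1, eqS_sound h2, add_zero]
  · rw [dec_le_one h1, eqS_sound h2, dec_xor, neg_add_cancel]

/-- A vector given by a state at least 2 and less than 56 is plus or minus a basis vector. -/
theorem exists_dec {v : ℕ} (h2 : 2 ≤ v) (h56 : v < 56) : ∃ b : I27, v / 2 = num b + 1 ∧
    ((v % 2 = 0 ∧ v = st (num b) ∧ dec F v = Pi.single b 1) ∨
      (v % 2 = 1 ∧ v = Nat.xor (st (num b)) 1 ∧ dec F v = -Pi.single b 1)) := by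
  obtain ⟨b, hb⟩ := exists_num (k := v / 2 - 1) (by omega)
  refine ⟨b, by omega, ?_⟩
  have hst : st (num b) = 2 * (num b + 1) := rfl
  rcases Nat.mod_two_eq_zero_or_one v with h | h
  · left
    have hv : v = st (num b) := by rw [hst]; omega
    exact ⟨h, hv, by rw [hv, dec_st]⟩
  · right
    have hx : Nat.xor (st (num b)) 1 = 2 * (num b + 1) + 1 := by
      have h1 : Nat.xor (st (num b)) 1 / 2 = num b + 1 := by
        have := Nat.xor_div_two (a := st (num b)) (b := 1)
        rw [hst] at this ⊢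
        simp only [Nat.reduceDiv, Nat.xor_zero] at this
        have h3 : Nat.xor (2 * (num b + 1)) 1 = (2 * (num b + 1)) ^^^ 1 := rfl
        rw [h3, this]; omega
      have h2 : Nat.xor (st (num b)) 1 % 2 = 1 := by
        have := Nat.xor_mod_two_eq (m := st (num b)) (n := 1)
        rw [hst] at this ⊢
        have h3 : Nat.xor (2 * (num b + 1)) 1 = (2 * (num b + 1)) ^^^ 1 := rfl
        rw [h3, this]; omega
      omega
    have hv : v = Nat.xor (st (num b)) 1 := by rw [hx]; omega
    refine ⟨h, hv, ?_⟩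
    rw [hv, dec_xor, dec_st]

end

/-! ### The matrices -/

variable (F : Type u) [Field F]

/-- The matrix of the root vector of `r`. -/
def N (r : ℕ) : Matrix I27 I27 F := Matrix.of fun a b => dec F (lk (P r) (st (num b))) a

/-- The matrix of the `i`-th fundamental coroot. -/
def Hm (i : ℕ) : Matrix I27 I27 F := Matrix.diagonal fun a => ((hv i (num a) : ℤ) : F)

/-- The matrix of the coroot of `r`. -/
def Cm (r : ℕ) : Matrix I27 I27 F := Matrix.diagonal fun a => ((cv r (num a) : ℤ) : F)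

variable {F}

theorem N_mulVec_single (r : ℕ) (b : I27) : N F r *ᵥ Pi.single b 1 = dec F (lk (P r) (st (num b))) := by
  rw [Matrix.mulVec_single_one]
  rfl

/-- The facts in `rootOK`. -/
theorem root_facts {r : ℕ} (hr : r < 72) : chevE6.neg r < 72 ∧ chevE6.neg r ≠ r ∧ chevE6.neg (chevE6.neg r) = r ∧
    P r % 64 = 0 ∧ P r < 2 ^ 168 ∧ ∀ k < 27, corOK (P r) (P (chevE6.neg r)) r k = true := by
  have h := rootOK_all hr
  simp only [rootOK, Bool.and_eq_true, Nat.ble_eq, Nat.beq_eq, Bool.not_eq_true', force_eq, allLt_iff] at h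
  obtain ⟨h1, h2, h3, h4, h5, h6⟩ := h
  refine ⟨by omega, ?_, h3, ?_, ?_, h6⟩
  · intro h'
    rw [h'] at h2
    have : Nat.beq r r = true := Nat.beq_refl r
    rw [this] at h2
    exact absurd h2 (by decide)
  · have : P r &&& 63 = P r % 2 ^ 6 := Nat.and_two_pow_sub_one_eq_mod (P r) 6
    have h4' : P r &&& 63 = 0 := h4
    omega
  · have h5' : P r ≤ 2 ^ 168 - 1 := h5
    have : 0 < 2 ^ 168 := by positivity
    omega

theorem lk_eq (p v : ℕ) : lk p v = p / 2 ^ (6 * (v / 2)) % 64 := by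
  have h1 : lk p v = (p >>> (6 * (v / 2))) &&& 63 := rfl
  rw [h1, Nat.shiftRight_eq_div_pow]
  exact Nat.and_two_pow_sub_one_eq_mod _ 6

theorem lks_eq_of_even (p : ℕ) {v : ℕ} (h : v % 2 = 0) : lks p v = lk p v := by
  have h1 : lks p v = lk p v ^^^ (v % 2) := rfl
  rw [h1, h, Nat.xor_zero]

theorem lks_eq_of_odd (p : ℕ) {v : ℕ} (h : v % 2 = 1) : lks p v = Nat.xor (lk p v) 1 := by
  have h1 : lks p v = Nat.xor (lk p v) (v % 2) := rfl
  rw [h1, h]

theorem lk_of_div {p v w : ℕ} (h : v / 2 = w / 2) : lk p v = lk p w := by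
  rw [lk_eq, lk_eq, h]

theorem mulVec_dec {r : ℕ} (hr : r < 72) (v : ℕ) : N F r *ᵥ dec F v = dec F (lks (P r) v) := by
  obtain ⟨-, -, -, h0, h1, -⟩ := root_facts hr
  rcases Nat.lt_or_ge v 2 with hv | hv
  · rw [dec_le_one (by omega), Matrix.mulVec_zero]
    have hk : lk (P r) v = 0 := by
      rw [lk_eq]
      have : v / 2 = 0 := by omega
      rw [this]; simpa using h0
    rcases Nat.mod_two_eq_zero_or_one v with h | h
    · rw [lks_eq_of_even _ h, hk, dec_le_one (by omega)]
    · rw [lks_eq_of_odd _ h, hk, dec_xor, dec_le_one (by omega), neg_zero]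
  rcases Nat.lt_or_ge v 56 with hv' | hv'
  · obtain ⟨b, hb, ⟨h, -, h'⟩ | ⟨h, -, h'⟩⟩ := exists_dec (F := F) hv hv'
    · rw [lks_eq_of_even _ h, h', N_mulVec_single, lk_of_div (v := v) (w := st (num b))]
      have : st (num b) = 2 * (num b + 1) := rfl
      omega
    · rw [lks_eq_of_odd _ h, h', dec_xor, Matrix.mulVec_neg, N_mulVec_single,
        lk_of_div (v := v) (w := st (num b))]
      have : st (num b) = 2 * (num b + 1) := rfl
      omega
  · rw [dec_ge hv', Matrix.mulVec_zero]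
    have hk : lk (P r) v = 0 := by
      rw [lk_eq, Nat.div_eq_of_lt]
      refine lt_of_lt_of_le h1 (Nat.pow_le_pow_right (by norm_num) ?_)
      omega
    rcases Nat.mod_two_eq_zero_or_one v with h | h
    · rw [lks_eq_of_even _ h, hk, dec_le_one (by omega)]
    · rw [lks_eq_of_odd _ h, hk, dec_xor, dec_le_one (by omega), neg_zero]

theorem ext_single {A B : Matrix I27 I27 F} (h : ∀ b : I27, A *ᵥ Pi.single b 1 = B *ᵥ Pi.single b 1) : A = B := by
  ext a b
  have := congrFun (h b) a
  rwa [Matrix.mulVec_single_one, Matrix.mulVec_single_one] at this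

theorem NN_single {r s : ℕ} (hr : r < 72) (b : I27) :
    (N F r * N F s) *ᵥ Pi.single b 1 = dec F (lks (P r) (lk (P s) (st (num b)))) := by
  rw [← Matrix.mulVec_mulVec, N_mulVec_single, mulVec_dec hr]

theorem ble_one {v : ℕ} (h : Nat.ble v 1 = true) : dec F v = 0 := dec_le_one (Nat.le_of_ble_eq_true h)

/-- The relations between `N r` and `N s`, `s ≠ ±r`. -/
theorem N_pair {r s : ℕ} (hr : r < 72) (hs : s < 72) (h1 : s ≠ r) (h2 : s ≠ chevE6.neg r) :
    (chevE6.chainEntry r s = [] ∧ N F r * N F s = N F s * N F r) ∨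
    ∃ (u : ℕ) (c : ℤ), chevE6.chainEntry r s = [(u, c)] ∧ u < 72 ∧
      N F r * N F s = N F s * N F r + (c : F) • N F u ∧ N F u * N F r = 0 := by
  have h := pairOK_all hr hs
  have e1 : Nat.beq s r = false := by
    rw [Bool.eq_false_iff]; intro h'; exact h1 (Nat.eq_of_beq_eq_true h')
  have e2 : Nat.beq s (chevE6.neg r) = false := by
    rw [Bool.eq_false_iff]; intro h'; exact h2 (Nat.eq_of_beq_eq_true h')
  rw [pairOK, e1, e2, Bool.false_or, Bool.false_or] at h
  split at h
  · rename_i h3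
    left
    refine ⟨h3, ext_single fun b => ?_⟩
    rw [NN_single hr, NN_single hs]
    simp only [force_eq, comOK, allLt_iff] at h
    exact eqS_sound (h (num b) (num_lt b))
  · rename_i u h3
    right
    simp only [force_eq, Bool.and_eq_true, Nat.ble_eq] at h
    obtain ⟨hu, h⟩ := h
    simp only [force_eq, braOK, allLt_iff, Bool.and_eq_true] at h
    refine ⟨u, 1, h3, by omega, ext_single fun b => ?_, ext_single fun b => ?_⟩
    · rw [Matrix.add_mulVec, Matrix.smul_mulVec, NN_single hr, NN_single hs, N_mulVec_single,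
        Int.cast_one, one_smul, addS_sound (h (num b) (num_lt b)).1, dec_xor_zero]
    · rw [NN_single (by omega), Matrix.zero_mulVec]
      exact ble_one (h (num b) (num_lt b)).2
  · rename_i u h3
    right
    simp only [force_eq, Bool.and_eq_true, Nat.ble_eq] at h
    obtain ⟨hu, h⟩ := h
    simp only [force_eq, braOK, allLt_iff, Bool.and_eq_true] at h
    refine ⟨u, -1, by rw [h3]; rfl, by omega, ext_single fun b => ?_, ext_single fun b => ?_⟩
    · rw [Matrix.add_mulVec, Matrix.smul_mulVec, NN_single hr, NN_single hs, N_mulVec_single,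
        Int.cast_neg, Int.cast_one, neg_smul, one_smul, addS_sound (h (num b) (num_lt b)).1, dec_xor]
    · rw [NN_single (by omega), Matrix.zero_mulVec]
      exact ble_one (h (num b) (num_lt b)).2
  · exact absurd h (by decide)

/-- The facts in `corOK` in terms of states. -/
theorem cor_facts {r : ℕ} (hr : r < 72) {k : ℕ} (hk : k < 27) :
    lk (P r) (st k) < 56 ∧ lks (P r) (lk (P r) (st k)) ≤ 1 ∧
    (lk (P r) (st k) ≤ 1 ∨ lks (P (chevE6.neg r)) (lk (P r) (st k)) = st k) ∧
    ((lks (P r) (lk (P (chevE6.neg r)) (st k)) = st k ∧ lks (P (chevE6.neg r)) (lk (P r) (st k)) ≤ 1 ∧ cv r k = 1) ∨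
      (lks (P r) (lk (P (chevE6.neg r)) (st k)) ≤ 1 ∧ lks (P (chevE6.neg r)) (lk (P r) (st k)) = st k ∧ cv r k = -1) ∨
      (lks (P r) (lk (P (chevE6.neg r)) (st k)) ≤ 1 ∧ lks (P (chevE6.neg r)) (lk (P r) (st k)) ≤ 1 ∧ cv r k = 0)) ∧
    (lk (P r) (st k) ≤ 1 ∨ (cv r (lk (P r) (st k) / 2 - 1) = 1 ∧
      ∀ i < 6, hv i (lk (P r) (st k) / 2 - 1) - hv i k = chevE6.cartan i r)) := by
  obtain ⟨-, -, -, -, -, h⟩ := root_facts hr
  have h := h k hk
  simp only [corOK, force_eq, Bool.and_eq_true, Bool.or_eq_true, Nat.ble_eq, Nat.beq_eq, decide_eq_true_eq,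
    List.all_eq_true, List.mem_range] at h
  obtain ⟨h1, h2, h3, h4, h5⟩ := h
  refine ⟨by omega, h2, h3, ?_, h5⟩
  rcases h4 with ⟨⟨a, b⟩, c⟩ | ⟨⟨a, b⟩, c⟩ | ⟨⟨a, b⟩, c⟩
  · exact Or.inl ⟨a, b, c⟩
  · exact Or.inr (Or.inl ⟨a, b, c⟩)
  · exact Or.inr (Or.inr ⟨a, b, c⟩)

theorem N_sq {r : ℕ} (hr : r < 72) : N F r * N F r = 0 := by
  refine ext_single fun b => ?_
  rw [NN_single hr, Matrix.zero_mulVec]
  exact dec_le_one (cor_facts hr (num_lt b)).2.1

theorem diagonal_mulVec_single (d : I27 → F) (b : I27) :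
    Matrix.diagonal d *ᵥ Pi.single b 1 = d b • (Pi.single b 1 : I27 → F) := by
  funext a
  rw [Matrix.mulVec_diagonal, Pi.smul_apply, smul_eq_mul]
  by_cases h : a = b
  · rw [h]
  · rw [Pi.single_eq_of_ne h, mul_zero, mul_zero]

theorem N_neg {r : ℕ} (hr : r < 72) :
    N F r * N F (chevE6.neg r) = N F (chevE6.neg r) * N F r + Cm F r := by
  have hn := (root_facts hr).1
  refine ext_single fun b => ?_
  rw [Matrix.add_mulVec, NN_single hr, NN_single hn, Cm, diagonal_mulVec_single, ← dec_st]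
  rcases (cor_facts hr (num_lt b)).2.2.2.1 with ⟨h1, h2, h3⟩ | ⟨h1, h2, h3⟩ | ⟨h1, h2, h3⟩
  · rw [h1, dec_le_one h2, h3, Int.cast_one, one_smul, zero_add]
  · rw [dec_le_one h1, h2, h3, Int.cast_neg, Int.cast_one, neg_smul, one_smul, add_neg_cancel]
  · rw [dec_le_one h1, dec_le_one h2, h3, Int.cast_zero, zero_smul, add_zero]

theorem Cm_N {r : ℕ} (hr : r < 72) : Cm F r * N F r = N F r := by
  refine ext_single fun b => ?_
  rw [← Matrix.mulVec_mulVec, N_mulVec_single]
  obtain ⟨h1, -, -, -, h2⟩ := cor_facts hr (num_lt b)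
  rcases Nat.lt_or_ge (lk (P r) (st (num b))) 2 with h3 | h3
  · rw [dec_le_one (by omega), Matrix.mulVec_zero]
  · obtain ⟨c, hc, hd⟩ := exists_dec (F := F) h3 h1
    have h4 : cv r (num c) = 1 := by
      rcases h2 with h2 | h2
      · omega
      · rw [hc] at h2; exact h2.1
    have h5 : Cm F r *ᵥ Pi.single c 1 = Pi.single c 1 := by
      rw [Cm, diagonal_mulVec_single, h4, Int.cast_one, one_smul]
    rcases hd with ⟨-, -, hd⟩ | ⟨-, -, hd⟩
    · rw [hd, h5]
    · rw [hd, Matrix.mulVec_neg, h5]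

theorem N_H {r : ℕ} (hr : r < 72) {i : ℕ} (hi : i < 6) :
    N F r * Hm F i = Hm F i * N F r - (chevE6.cartan i r : F) • N F r := by
  refine ext_single fun b => ?_
  rw [Matrix.sub_mulVec, ← Matrix.mulVec_mulVec, ← Matrix.mulVec_mulVec, Matrix.smul_mulVec, N_mulVec_single,
    Hm, diagonal_mulVec_single, Matrix.mulVec_smul, N_mulVec_single]
  obtain ⟨h1, -, -, -, h2⟩ := cor_facts hr (num_lt b)
  rcases Nat.lt_or_ge (lk (P r) (st (num b))) 2 with h3 | h3
  · rw [dec_le_one (by omega), Matrix.mulVec_zero, smul_zero, smul_zero, sub_zero]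
  · obtain ⟨c, hc, hd⟩ := exists_dec (F := F) h3 h1
    have h4 : hv i (num c) - hv i (num b) = chevE6.cartan i r := by
      rcases h2 with h2 | h2
      · omega
      · rw [hc] at h2; exact h2.2 i hi
    have h5 : ((hv i (num b) : ℤ) : F) = ((hv i (num c) : ℤ) : F) - (chevE6.cartan i r : F) := by
      rw [← h4]; push_cast; ring
    rcases hd with ⟨-, -, hd⟩ | ⟨-, -, hd⟩
    · rw [hd, diagonal_mulVec_single, h5, sub_smul]
    · rw [hd, Matrix.mulVec_neg, diagonal_mulVec_single, h5, sub_smul, smul_neg, smul_neg, sub_neg_eq_add]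

end Cfsg.Agent.ChevalleyStructure.E6AdMat
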