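import Cfsg.Agent.ChevalleyStructure.E6AdMat
import Cfsg.Agent.ChevalleyStructure.XColumns
import Cfsg.Agent.ChevalleyStructure.Elts

/-!
# The adjoint module of type `E₆` inside the matrices of the 27-dimensional module

`phi` sends the basis vectors `e_s`, `h_i` of the adjoint module to the matrices `N s`, `Hm i`. It is injective, and
`(1 + t N_r) phi(v) = phi(x_r(t) v) (1 + t N_r)` (`rel_Z`).
-/

set_option autoImplicit false

namespace Cfsg.Agent.ChevalleyStructure.E6AdPhi

open Cfsg.Lie
open Cfsg.Agent.ChevalleyStructure.E6AdTab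
open Cfsg.Agent.ChevalleyStructure.E6AdMat
open Cfsg.Agent.ChevalleyStructure.XColumns
open scoped Matrix

universe u

/-! ### More checks -/

set_option maxRecDepth 100000 in
theorem nodup_all : (List.range 72).all (fun r => decide ((row chevE6 r).map Prod.fst).Nodup) = true := by
  decide +kernel

theorem nodup_row {r : ℕ} (hr : r < 72) : ((row chevE6 r).map Prod.fst).Nodup := by
  have := List.all_eq_true.1 nodup_all r (List.mem_range.2 hr)
  exact of_decide_eq_true this

/-- The first entry `(row, column, sign)` of `N r`. -/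
def fe (r : ℕ) : ℕ × ℕ :=
  match (List.range 27).find? (fun k => Nat.ble 2 (lk (P r) (st k))) with
  | some k => (k, lk (P r) (st k))
  | none => (0, 0)

set_option maxRecDepth 100000 in
theorem fe_all : (List.range 72).all (fun r => decide ((fe r).1 < 27) && Nat.ble 2 (fe r).2 && Nat.ble (fe r).2 55 &&
    !(Nat.beq ((fe r).2 / 2) ((fe r).1 + 1)) &&
    (List.range 72).all fun s => Nat.beq r s || !(Nat.beq (lk (P s) (st (fe r).1) / 2) ((fe r).2 / 2))) = true := by
  decide +kernel

theorem fe_self (r : ℕ) : (fe r).2 = lk (P r) (st (fe r).1) ∨ (fe r) = (0, 0) := by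
  unfold fe
  split
  · left; rfl
  · right; rfl

theorem wTab_all : (List.range 6).all (fun i => (wTab.getD i []).all (fun p => decide (p.1 < 27)) &&
    (List.range 6).all fun j => decide (((wTab.getD i []).map fun p => p.2 * E6AdTab.hv j p.1).sum =
      if i = j then 1 else 0)) = true := by decide +kernel

/-- The root whose coroot is the `i`-th fundamental one. -/
def sr (i : ℕ) : ℕ := chevE6.simple i

theorem sr_all : (List.range 6).all (fun i => decide (sr i < 72) &&
    (List.range 6).all fun j => decide ((chevE6.coroot.getD (sr i) #[]).getD j 0 = if j = i then 1 else 0)) = true := by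
  decide +kernel

/-! ### The map -/

variable (F : Type u) [Field F]

/-- The adjoint module as matrices on the 27-dimensional module. -/
def phi : (chevE6.Idx → F) →ₗ[F] Matrix I27 I27 F where
  toFun v := (∑ i : Fin chevE6.rank, v (Sum.inl i) • Hm F i.val) +
    ∑ s : Fin chevE6.nroots, v (Sum.inr s) • N F s.val
  map_add' v w := by
    simp only [Pi.add_apply, add_smul, Finset.sum_add_distrib]
    abel
  map_smul' c v := by
    simp only [Pi.smul_apply, smul_eq_mul, mul_smul, RingHom.id_apply, smul_add, Finset.smul_sum]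

variable {F}

theorem phi_apply (v : chevE6.Idx → F) : phi F v = (∑ i : Fin chevE6.rank, v (Sum.inl i) • Hm F i.val) +
    ∑ s : Fin chevE6.nroots, v (Sum.inr s) • N F s.val := rfl

theorem phi_ev {s : ℕ} (hs : s < 72) : phi F (ev chevE6 F s) = N F s := by
  rw [phi_apply]
  have h1 : ∑ i : Fin chevE6.rank, ev chevE6 F s (Sum.inl i) • Hm F i.val = 0 :=
    Finset.sum_eq_zero fun i _ => by rw [ev_inl, zero_smul]
  rw [h1, zero_add, Finset.sum_eq_single (⟨s, hs⟩ : Fin chevE6.nroots)]
  · rw [ev_inr, if_pos rfl, one_smul]
  · intro b _ hb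
    rw [ev_inr, if_neg, zero_smul]
    intro h
    exact hb (Fin.ext h)
  · intro h; exact absurd (Finset.mem_univ _) h

theorem phi_hv {i : ℕ} (hi : i < 6) : phi F (XColumns.hv chevE6 F i) = Hm F i := by
  rw [phi_apply]
  have h1 : ∑ s : Fin chevE6.nroots, XColumns.hv chevE6 F i (Sum.inr s) • N F s.val = 0 :=
    Finset.sum_eq_zero fun s _ => by rw [hv_inr, zero_smul]
  rw [h1, add_zero, Finset.sum_eq_single (⟨i, hi⟩ : Fin chevE6.rank)]
  · rw [hv_inl, if_pos rfl, one_smul]
  · intro b _ hb
    rw [hv_inl, if_neg, zero_smul]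
    intro h
    exact hb (Fin.ext h)
  · intro h; exact absurd (Finset.mem_univ _) h

theorem cv_eq (r l : ℕ) : cv r l = ∑ i : Fin 6, (chevE6.coroot.getD r #[]).getD i.val 0 * E6AdTab.hv i.val l := by
  rw [cv, Fin.sum_univ_def]
  rfl

theorem phi_corv (r : ℕ) : phi F (corv chevE6 F r) = Cm F r := by
  rw [phi_apply]
  have h1 : ∑ s : Fin chevE6.nroots, corv chevE6 F r (Sum.inr s) • N F s.val = 0 :=
    Finset.sum_eq_zero fun s _ => by rw [corv_inr, zero_smul]
  rw [h1, add_zero]
  ext a b
  rw [Matrix.sum_apply]
  by_cases h : a = b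
  · subst h
    simp only [corv_inl, Matrix.smul_apply, Hm, Cm, Matrix.diagonal_apply_eq, smul_eq_mul]
    rw [cv_eq, Int.cast_sum]
    exact Finset.sum_congr rfl fun i _ => by push_cast; rfl
  · simp only [Matrix.smul_apply, Hm, Cm, Matrix.diagonal_apply_ne _ h, smul_zero, Finset.sum_const_zero]

/-! ### Injectivity -/

theorem diag_zero_of_N (s : ℕ) (hs : s < 72) (a : I27) : N F s a a = 0 := by
  by_contra h
  have h1 : (N F s * N F s) a a = N F s a a * N F s a a := by
    rw [Matrix.mul_apply, Finset.sum_eq_single a]
    · intro b _ hb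
      -- column `a` of `N s` has only one non-zero entry
      have h2 : N F s b a = 0 := by
        by_contra h3
        simp only [N, Matrix.of_apply, dec] at h h3
        by_cases h4 : lk (P s) (st (num a)) / 2 = num a + 1
        · by_cases h5 : lk (P s) (st (num a)) / 2 = num b + 1
          · exact hb (num_inj (by omega))
          · rw [if_neg h5] at h3; exact h3 rfl
        · rw [if_neg h4] at h; exact h rfl
      rw [h2, mul_zero]
    · intro h; exact absurd (Finset.mem_univ _) h
  rw [N_sq hs] at h1
  exact h ((mul_self_eq_zero).1 (h1.symm.trans rfl) )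

theorem phi_injective : Function.Injective (phi F) := by
  rw [injective_iff_map_eq_zero]
  intro v hv
  rw [phi_apply] at hv
  -- the coefficients of the root vectors
  have hs : ∀ s : Fin chevE6.nroots, v (Sum.inr s) = 0 := by
    intro s
    have h := List.all_eq_true.1 fe_all s.val (List.mem_range.2 s.isLt)
    simp only [Bool.and_eq_true, decide_eq_true_eq, Nat.ble_eq, Bool.not_eq_true', List.all_eq_true,
      List.mem_range, Bool.or_eq_true] at h
    obtain ⟨⟨⟨⟨h1, h2⟩, h3⟩, h4⟩, h5⟩ := h
    have h6 : (fe s.val).2 = lk (P s.val) (st (fe s.val).1) := by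
      rcases fe_self s.val with h6 | h6
      · exact h6
      · rw [h6] at h2; simp at h2
    obtain ⟨b, hb⟩ := exists_num h1
    obtain ⟨a, ha⟩ := exists_num (k := (fe s.val).2 / 2 - 1) (by omega)
    have hab : (fe s.val).2 / 2 = num a + 1 := by omega
    have hne : a ≠ b := by
      rintro rfl
      rw [hab, ← hb] at h4
      have : Nat.beq (num a + 1) (num a + 1) = true := Nat.beq_refl _
      rw [this] at h4
      exact absurd h4 (by decide)
    have hv' := congrFun (congrFun hv a) b
    rw [Matrix.add_apply, Matrix.sum_apply, Matrix.sum_apply, Matrix.zero_apply] at hv'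
    have e1 : ∑ c : Fin chevE6.rank, (v (Sum.inl c) • Hm F c.val) a b = 0 :=
      Finset.sum_eq_zero fun c _ => by
        rw [Matrix.smul_apply, Hm, Matrix.diagonal_apply_ne _ hne, smul_zero]
    rw [e1, zero_add, Finset.sum_eq_single s] at hv'
    · rw [Matrix.smul_apply, N, Matrix.of_apply, hb, ← h6, dec, if_pos hab, smul_eq_mul, mul_eq_zero] at hv'
      rcases hv' with h | h
      · exact h
      · exfalso
        split at h
        · exact one_ne_zero h
        · exact one_ne_zero (neg_eq_zero.1 h)
    · intro t _ ht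
      have h7 := h5 t.val t.isLt
      rw [Matrix.smul_apply, N, Matrix.of_apply, hb, dec, if_neg, smul_zero]
      intro h8
      rcases h7 with h7 | h7
      · exact ht (Fin.ext (Nat.eq_of_beq_eq_true h7).symm)
      · rw [h8, hab] at h7
        have : Nat.beq (num a + 1) (num a + 1) = true := Nat.beq_refl _
        rw [this] at h7
        exact absurd h7 (by decide)
    · intro h; exact absurd (Finset.mem_univ _) h
  -- the coefficients of the coroots
  have hdiag : ∀ l < 27, ∑ j : Fin chevE6.rank, v (Sum.inl j) * ((E6AdTab.hv j.val l : ℤ) : F) = 0 := by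
    intro l hl
    obtain ⟨a, ha⟩ := exists_num hl
    have hv' := congrFun (congrFun hv a) a
    rw [Matrix.add_apply, Matrix.sum_apply, Matrix.sum_apply, Matrix.zero_apply] at hv'
    have e1 : ∑ c : Fin chevE6.nroots, (v (Sum.inr c) • N F c.val) a a = 0 :=
      Finset.sum_eq_zero fun c _ => by rw [hs c, zero_smul]; rfl
    rw [e1, add_zero] at hv'
    rw [← hv']
    refine Finset.sum_congr rfl fun j _ => ?_
    rw [Matrix.smul_apply, Hm, Matrix.diagonal_apply_eq, ha, smul_eq_mul]
  have hi : ∀ i : Fin chevE6.rank, v (Sum.inl i) = 0 := by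
    intro i
    have h := List.all_eq_true.1 wTab_all i.val (List.mem_range.2 i.isLt)
    simp only [Bool.and_eq_true, List.all_eq_true, decide_eq_true_eq, List.mem_range] at h
    obtain ⟨h1, h2⟩ := h
    have key : ∀ W : List (ℕ × ℤ), (∀ p ∈ W, p.1 < 27) →
        ∑ j : Fin chevE6.rank, v (Sum.inl j) * (((W.map fun p => p.2 * E6AdTab.hv j.val p.1).sum : ℤ) : F) = 0 := by
      intro W hW
      induction W with
      | nil => simp
      | cons p W ih =>
        have h3 := ih fun q hq => hW q (List.mem_cons_of_mem _ hq)
        have h4 := hdiag p.1 (hW p List.mem_cons_self)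
        have : ∀ j : Fin chevE6.rank,
            v (Sum.inl j) * ((((p :: W).map fun p => p.2 * E6AdTab.hv j.val p.1).sum : ℤ) : F) =
            (p.2 : F) * (v (Sum.inl j) * ((E6AdTab.hv j.val p.1 : ℤ) : F)) +
            v (Sum.inl j) * (((W.map fun p => p.2 * E6AdTab.hv j.val p.1).sum : ℤ) : F) := by
          intro j
          rw [List.map_cons, List.sum_cons]
          push_cast
          ring
        rw [Finset.sum_congr rfl fun j _ => this j, Finset.sum_add_distrib, h3, ← Finset.mul_sum, h4, mul_zero,
          add_zero]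
    have h3 := key _ h1
    rw [Finset.sum_eq_single i] at h3
    · rw [h2 i.val i.isLt, if_pos rfl, Int.cast_one, mul_one] at h3
      exact h3
    · intro j _ hj
      rw [h2 j.val j.isLt, if_neg, Int.cast_zero, mul_zero]
      intro h; exact hj (Fin.ext h).symm
    · intro h; exact absurd (Finset.mem_univ _) h
  funext a
  rcases a with i | s
  · exact hi i
  · exact hs s

/-! ### The intertwining relation -/

/-- `g phi(v) = phi(k v) g` for all `v`. -/
def Rel (g : Matrix I27 I27 F) (k : Matrix chevE6.Idx chevE6.Idx F) : Prop :=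
  ∀ v : chevE6.Idx → F, g * phi F v = phi F (k *ᵥ v) * g

theorem rel_of_basis {g : Matrix I27 I27 F} {k : Matrix chevE6.Idx chevE6.Idx F}
    (h1 : ∀ i < 6, g * Hm F i = phi F (k *ᵥ XColumns.hv chevE6 F i) * g)
    (h2 : ∀ s < 72, g * N F s = phi F (k *ᵥ ev chevE6 F s) * g) : Rel g k := by
  have key : (LinearMap.mulLeft F g) ∘ₗ phi F = (LinearMap.mulRight F g) ∘ₗ phi F ∘ₗ k.mulVecLin := by
    refine LinearMap.pi_ext' fun a => LinearMap.ext_ring ?_
    show g * phi F (Pi.single a 1) = phi F (k *ᵥ Pi.single a 1) * g
    rcases a with i | s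
    · have := hv_eq_single (D := chevE6) (F := F) i.isLt
      rw [Fin.eta] at this
      rw [← this, phi_hv i.isLt]
      exact h1 i.val i.isLt
    · have := ev_eq_single (D := chevE6) (F := F) s.isLt
      rw [Fin.eta] at this
      rw [← this, phi_ev s.isLt]
      exact h2 s.val s.isLt
  intro v
  exact LinearMap.congr_fun key v

/-- The relation between the root elements of the two modules. -/
theorem rel_Z {r : ℕ} (hr : r < 72) (t : F) : Rel (1 + t • N F r) (chevE6.x F r t) := by
  have hr' : r < chevE6.nroots := hr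
  have hnr : chevE6.neg r < chevE6.nroots := (root_facts hr).1
  refine rel_of_basis ?_ ?_
  · intro i hi
    rw [x_mulVec_hv hr' hi, map_sub, map_smul, phi_ev hr, phi_hv hi]
    have h := N_H (F := F) hr hi
    simp only [add_mul, sub_mul, mul_add, one_mul, mul_one, smul_mul_assoc, mul_smul_comm, N_sq hr, smul_zero, h,
      smul_sub, smul_smul]
    rw [mul_comm t]
    abel
  · intro s hs
    have hs' : s < chevE6.nroots := hs
    by_cases h1 : s = r
    · subst h1
      rw [x_mulVec_ev_self hr', phi_ev hr]
      simp only [add_mul, mul_add, one_mul, mul_one, smul_mul_assoc, mul_smul_comm]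
    by_cases h2 : s = chevE6.neg r
    · subst h2
      rw [x_mulVec_ev_neg hr' hnr (root_facts hr).2.1, map_sub, map_add, map_smul, map_smul, phi_ev hr,
        phi_ev (root_facts hr).1, phi_corv]
      simp only [add_mul, sub_mul, mul_add, one_mul, mul_one, smul_mul_assoc, mul_smul_comm, N_sq hr, smul_zero,
        sub_zero, Cm_N hr, N_neg hr, smul_add, pow_two, mul_smul]
      abel
    · rw [x_mulVec_ev hr' hs' h1 h2 (nodup_row hr)]
      rcases N_pair (F := F) hr hs h1 h2 with ⟨h3, h4⟩ | ⟨u, c, h3, hu, h4, h5⟩
      · rw [h3]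
        simp only [List.zipIdx_nil, List.map_nil, List.sum_nil, add_zero, phi_ev hs, add_mul, mul_add, one_mul, mul_one,
          smul_mul_assoc, mul_smul_comm, h4]
      · rw [h3]
        simp only [List.zipIdx_cons, List.zipIdx_nil, List.map_cons, List.map_nil, List.sum_cons, List.sum_nil,
          add_zero, zero_add, pow_one, map_add, map_smul, phi_ev hs, phi_ev hu, add_mul, mul_add, one_mul, mul_one,
          smul_mul_assoc, mul_smul_comm, h4, h5, smul_zero, smul_add, smul_smul]
        rw [mul_comm t]
        abel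

end Cfsg.Agent.ChevalleyStructure.E6AdPhi
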