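import Cfsg.Prelude.Def_ChevStructure

/-!
Kernel-fast packed copies of the tables of a `ChevalleyDatum`, with soundness theorems for the checks.
-/

set_option autoImplicit false

namespace Cfsg.Agent.ChevalleyStructure.FastBase

open Cfsg.Lie

/-- Binary tree of naturals, for random access in the kernel. -/
inductive Tree : Type
  | nil : Tree
  | node (v : ℕ) (l r : Tree) : Tree

/-- Index 0 is the root, odd indices go left, positive even ones go right. -/
def Tree.get : Tree → ℕ → ℕ
  | .nil, _ => 0
  | .node v l r, i =>
    cond (Nat.beq i 0) v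
      (cond (Nat.beq (Nat.mod i 2) 1) (l.get (Nat.div i 2)) (r.get (Nat.sub (Nat.div i 2) 1)))

/-- Bounded quantifier evaluated by `Nat.rec`. -/
def allLt (n : ℕ) (p : ℕ → Bool) : Bool := Nat.rec true (fun k ih => and (p k) ih) n

theorem allLt_iff {n : ℕ} {p : ℕ → Bool} : allLt n p = true ↔ ∀ k < n, p k = true := by
  induction n with
  | zero => simp [allLt]
  | succ n ih =>
    have h : allLt (n + 1) p = and (p n) (allLt n p) := rfl
    rw [h, Bool.and_eq_true, ih]
    constructor
    · rintro ⟨h1, h2⟩ k hk
      rcases Nat.lt_succ_iff_lt_or_eq.1 hk with h | rfl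
      · exact h2 k h
      · exact h1
    · intro h
      exact ⟨h n (Nat.lt_succ_self n), fun k hk => h k (Nat.lt_succ_of_lt hk)⟩

/-- Evaluate the natural number before passing it on. -/
def force {α : Sort*} (n : ℕ) (f : ℕ → α) : α := Nat.rec (f 0) (fun k _ => f (Nat.succ k)) n

theorem force_eq {α : Sort*} (n : ℕ) (f : ℕ → α) : force n f = f n := by
  cases n <;> rfl

/-- The `s`-th 33-bit field of `R`. -/
def fld (R s : ℕ) : ℕ := Nat.land (Nat.shiftRight R (Nat.mul 33 s)) 8589934591

/-- One 11-bit code: index of the root in the low 8 bits, the integer plus 4 above. -/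
def dec1 (c : ℕ) : ℕ × ℤ := (Nat.mod c 256, Int.subNatNat (Nat.div (Nat.mod c 2048) 256) 4)

/-- Decoding of a list of at most `f` codes. -/
def dec : ℕ → ℕ → List (ℕ × ℤ)
  | 0, _ => []
  | f + 1, c => cond (Nat.beq c 0) [] (dec1 c :: dec f (Nat.div c 2048))

/-- The chain entry stored in the packed table. -/
def ce (T : Tree) (r s : ℕ) : List (ℕ × ℤ) := dec 3 (fld (T.get r) s)

/-- Compare an integer with `m - 4`. -/
def intEq (x : ℤ) (m : ℕ) : Bool :=
  match x with
  | Int.ofNat a => Nat.beq (Nat.add a 4) m
  | Int.negSucc a => Nat.beq (Nat.add (Nat.succ a) m) 4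

theorem intEq_sound {x : ℤ} {m : ℕ} (h : intEq x m = true) : x = Int.subNatNat m 4 := by
  cases x with
  | ofNat a =>
    have := Nat.eq_of_beq_eq_true h
    have h2 : a + 4 = m := this
    rw [Int.subNatNat_eq_coe]
    simp only [Int.ofNat_eq_natCast]
    omega
  | negSucc a =>
    have := Nat.eq_of_beq_eq_true h
    have h2 : a + 1 + m = 4 := this
    rw [Int.subNatNat_eq_coe]
    omega

/-- Compare a list with a coded list. -/
def cmp (f : ℕ) : List (ℕ × ℤ) → ℕ → Bool :=
  Nat.rec (fun L _ => L.isEmpty)
    (fun _ ih L c =>
      match L with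
      | [] => Nat.beq c 0
      | (k, M) :: L' =>
        cond (Nat.beq c 0) false
          (and (Nat.beq k (Nat.mod c 256)) (and (intEq M (Nat.div (Nat.mod c 2048) 256)) (ih L' (Nat.div c 2048))))) f

theorem cmp_sound : ∀ (f : ℕ) (L : List (ℕ × ℤ)) (c : ℕ), cmp f L c = true → L = dec f c := by
  intro f
  induction f with
  | zero =>
    intro L c h
    have h' : L.isEmpty = true := h
    rw [List.isEmpty_iff] at h'
    rw [h']
    rfl
  | succ f ih =>
    intro L c h
    match L, h with
    | [], h =>
      have h' : Nat.beq c 0 = true := h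
      rw [Nat.eq_of_beq_eq_true h']
      rfl
    | (k, M) :: L', h =>
      have h' : cond (Nat.beq c 0) false
          (and (Nat.beq k (Nat.mod c 256)) (and (intEq M (Nat.div (Nat.mod c 2048) 256)) (cmp f L' (Nat.div c 2048)))) = true := h
      have h2 : dec (f + 1) c = cond (Nat.beq c 0) [] (dec1 c :: dec f (Nat.div c 2048)) := rfl
      rw [h2]
      cases hc : Nat.beq c 0 with
      | true => rw [hc] at h'; simp at h'
      | false =>
        rw [hc, cond_false, Bool.and_eq_true, Bool.and_eq_true] at h'
        obtain ⟨h3, h4, h5⟩ := h'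
        rw [cond_false, ← ih _ _ h5, dec1, ← intEq_sound h4, ← Nat.eq_of_beq_eq_true h3]

/-! ### The packed chain table agrees with the given one -/

/-- Walk through a row of the chain table and through the fields of `R` simultaneously. -/
def walk (R n : ℕ) (k : ℕ) : List (ℕ × Array (ℕ × ℤ)) → Bool :=
  Nat.rec (fun L => L.isEmpty)
    (fun k ih L =>
      match L with
      | [] => and (Nat.beq (fld R (Nat.sub n (Nat.succ k))) 0) (ih [])
      | e :: L' =>
        cond (Nat.beq e.1 (Nat.sub n (Nat.succ k)))
          (and (cmp 3 e.2.toList (fld R (Nat.sub n (Nat.succ k)))) (ih L'))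
          (and (Nat.beq (fld R (Nat.sub n (Nat.succ k))) 0) (ih (e :: L')))) k

/-- What `chainEntry` reads from a row. -/
def rowEntry (L : List (ℕ × Array (ℕ × ℤ))) (s : ℕ) : List (ℕ × ℤ) :=
  match L.find? (fun e => e.1 = s) with
  | none => []
  | some e => e.2.toList

theorem rowEntry_nil (s : ℕ) : rowEntry [] s = [] := rfl

theorem rowEntry_cons (e : ℕ × Array (ℕ × ℤ)) (L : List (ℕ × Array (ℕ × ℤ))) (s : ℕ) :
    rowEntry (e :: L) s = if e.1 = s then e.2.toList else rowEntry L s := by
  unfold rowEntry
  rw [List.find?_cons]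
  by_cases h : e.1 = s <;> simp [h]

theorem walk_sound (R n : ℕ) : ∀ (k : ℕ) (L : List (ℕ × Array (ℕ × ℤ))), k ≤ n → walk R n k L = true →
    (∀ e ∈ L, n - k ≤ e.1) ∧ ∀ s, n - k ≤ s → s < n → rowEntry L s = dec 3 (fld R s) := by
  intro k
  induction k with
  | zero =>
    intro L hk h
    have h' : L.isEmpty = true := h
    rw [List.isEmpty_iff] at h'
    subst h'
    refine ⟨by simp, fun s h1 h2 => ?_⟩
    omega
  | succ k ih =>
    intro L hk h
    have hs : Nat.sub n (Nat.succ k) = n - (k + 1) := rfl
    match L, h with
    | [], h =>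
      have h' : and (Nat.beq (fld R (Nat.sub n (Nat.succ k))) 0) (walk R n k []) = true := h
      rw [Bool.and_eq_true] at h'
      obtain ⟨h1, h2⟩ := h'
      obtain ⟨-, h3⟩ := ih [] (by omega) h2
      refine ⟨by simp, fun s hs1 hs2 => ?_⟩
      rcases Nat.lt_or_ge s (n - k) with h | h
      · have : s = n - (k + 1) := by omega
        rw [this, rowEntry_nil]
        rw [hs] at h1
        rw [Nat.eq_of_beq_eq_true h1]
        rfl
      · exact h3 s h hs2
    | e :: L', h =>
      have h' : cond (Nat.beq e.1 (Nat.sub n (Nat.succ k)))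
          (and (cmp 3 e.2.toList (fld R (Nat.sub n (Nat.succ k)))) (walk R n k L'))
          (and (Nat.beq (fld R (Nat.sub n (Nat.succ k))) 0) (walk R n k (e :: L'))) = true := h
      rw [hs] at h'
      by_cases he : Nat.beq e.1 (n - (k + 1)) = true
      · rw [he, cond_true, Bool.and_eq_true] at h'
        obtain ⟨h1, h2⟩ := h'
        replace h1 := cmp_sound _ _ _ h1
        have he' := Nat.eq_of_beq_eq_true he
        obtain ⟨h3, h4⟩ := ih L' (by omega) h2
        refine ⟨?_, fun s hs1 hs2 => ?_⟩
        · intro x hx
          rcases List.mem_cons.1 hx with rfl | hx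
          · omega
          · have := h3 x hx
            omega
        · rw [rowEntry_cons]
          by_cases hes : e.1 = s
          · rw [if_pos hes, h1, ← he', hes]
          · rw [if_neg hes]
            exact h4 s (by omega) hs2
      · rw [Bool.not_eq_true] at he
        rw [he, cond_false, Bool.and_eq_true] at h'
        obtain ⟨h1, h2⟩ := h'
        have he' : e.1 ≠ n - (k + 1) := Nat.ne_of_beq_eq_false he
        obtain ⟨h3, h4⟩ := ih (e :: L') (by omega) h2
        refine ⟨?_, fun s hs1 hs2 => ?_⟩
        · intro x hx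
          have := h3 x hx
          omega
        · rcases Nat.lt_or_ge s (n - k) with h | h
          · have hsk : s = n - (k + 1) := by omega
            have : rowEntry (e :: L') s = [] := by
              unfold rowEntry
              rw [List.find?_eq_none.2]
              intro x hx
              have := h3 x hx
              simp only [decide_eq_true_eq]
              omega
            rw [this, hsk, Nat.eq_of_beq_eq_true h1]
            rfl
          · exact h4 s h hs2

/-- Check all rows. -/
def rowsCheck (T : Tree) (n : ℕ) (L : List (Array (ℕ × Array (ℕ × ℤ)))) : ℕ → Bool :=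
  List.rec (fun r => Nat.beq r n) (fun a _ ih r => and (force (T.get r) fun R => walk R n n a.toList) (ih (Nat.succ r))) L

theorem rowsCheck_sound (T : Tree) (n : ℕ) : ∀ (L : List (Array (ℕ × Array (ℕ × ℤ)))) (r : ℕ),
    rowsCheck T n L r = true → ∀ (j : ℕ) (a : Array (ℕ × Array (ℕ × ℤ))), L[j]? = some a →
      ∀ s < n, rowEntry a.toList s = ce T (r + j) s := by
  intro L
  induction L with
  | nil => intro r _ j a h; simp at h
  | cons b L ih =>
    intro r h j a hj s hs
    have h' : and (force (T.get r) fun R => walk R n n b.toList) (rowsCheck T n L (r + 1)) = true := h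
    rw [Bool.and_eq_true, force_eq] at h'
    obtain ⟨h1, h2⟩ := h'
    cases j with
    | zero =>
      simp only [List.getElem?_cons_zero, Option.some.injEq] at hj
      subst hj
      exact (walk_sound _ n n b.toList le_rfl h1).2 s (by omega) hs
    | succ j =>
      rw [List.getElem?_cons_succ] at hj
      have := ih (r + 1) h2 j a hj s hs
      rw [this]
      congr 1
      omega

theorem rowsCheck_length (T : Tree) (n : ℕ) : ∀ (L : List (Array (ℕ × Array (ℕ × ℤ)))) (r : ℕ),
    rowsCheck T n L r = true → r + L.length = n := by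
  intro L
  induction L with
  | nil => intro r h; exact Nat.eq_of_beq_eq_true h
  | cons b L ih =>
    intro r h
    have h' : and (force (T.get r) fun R => walk R n n b.toList) (rowsCheck T n L (r + 1)) = true := h
    rw [Bool.and_eq_true] at h'
    have := ih (r + 1) h'.2
    rw [List.length_cons]
    omega

theorem chainEntry_eq_rowEntry (D : ChevalleyDatum) (r s : ℕ) :
    D.chainEntry r s = rowEntry (D.chain.getD r #[]).toList s := rfl

theorem chainEntry_eq (D : ChevalleyDatum) (T : Tree) (h : rowsCheck T D.nroots D.chain.toList 0 = true)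
    {r s : ℕ} (hr : r < D.nroots) (hs : s < D.nroots) : D.chainEntry r s = ce T r s := by
  have hl := rowsCheck_length T D.nroots D.chain.toList 0 h
  rw [chainEntry_eq_rowEntry]
  have hr' : r < D.chain.size := by rw [← Array.length_toList]; omega
  have : D.chain.getD r #[] = D.chain[r] := by
    simp [Array.getD, hr']
  rw [this]
  have := rowsCheck_sound T D.nroots D.chain.toList 0 h r (D.chain[r]) (by simp [hr']) s hs
  rw [this, Nat.zero_add]

end Cfsg.Agent.ChevalleyStructure.FastBase
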