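import Cfsg.Prelude.Def_E6
import Cfsg.Prelude.Def_ChevStructure
import Cfsg.Prelude.Def_ChevE6
import Cfsg.Agent.ChevalleyStructure.FastBase

/-!
# The 27-dimensional representation of the root vectors of type `E₆`: tables and kernel checks

The coordinate `(k, i, j)` has number `9k + 3i + j`. A *state* is a natural number `v`: the states `0`, `1` stand for
the zero vector, the state `2(λ+1)` for the basis vector `e_λ`, the state `2(λ+1)+1` for `-e_λ` (`λ < 27`). The matrix
of the root vector of the root `r` (numbering and signs of `chevE6`) is packed in the number `P r`: its field number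
`λ+1` (6 bits each) is the state of the image of `e_λ`. `hv i λ` is the eigenvalue of the `i`-th fundamental coroot on
`e_λ`; `wTab` is a left inverse of the matrix `hv`.
-/

set_option autoImplicit false

namespace Cfsg.Agent.ChevalleyStructure.E6AdTab

open Cfsg.Lie
open Cfsg.Agent.ChevalleyStructure.FastBase

/-- The packed matrices of the 72 root vectors. -/
def pk : List ℕ := [
  0x100440000000000000029b80000000018025000000, 0x96384000040000a000100000,
  0x65754000000040000a000100, 0x100440000bf4000000000014021000000,
  0x5010000000000a40d00000000017022000000, 0x42c000000000000002ac40000640900000000000,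
  0x800000000940000003000100bc0030000000000, 0x8c00240000000000000c0004a4002a000000000,
  0x500000000640140006000000000bc0030000000, 0x5c0018000000005000180000000a4002a000000,
  0xd0002e000a00000000000000000007143000000, 0x42c0000c37000000540800000000000,
  0x14a000000000a80dc00005808c0000000000, 0x210008800000c0004000d40036000000000,
  0x15000585000180000000000d40036000000, 0xdc0031000ac0000000000000184080000000000,
  0x2d0000000000000000027b00000000000000600940, 0x80000000094000000000f00040000002d000b80000,
  0x8c00240000000000000003c0010000027000a00000, 0x50000000064000044001200000000000002d000b80,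
  0x5c0018000000000011000480000000000027000a00, 0xd0002e000a0000000000000000000001344f000000,
  0xc2eb0000000000094001f000640000000000000000, 0xaa89800000000000250007c0019000000000000000,
  0xc0380000000000000000000a2f00001e940000000, 0x1804c0000000000a6e00000000000000065e000000,
  0x2d0000000b72000000000000000500840, 0xa4400000000009c0c800000000000005c0880,
  0x210008800000003c0010000000033000d00000, 0x15000580011000480000000000000033000d00,
  0x20000000025000000009000280b00000000c40000, 0x2300090000000000000024000a980000000ac0000,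
  0x258e1380008000080000, 0x1500000001800028000d000000000b40000000c00,
  0x1600064000000000a0003400000009c0000000a80, 0xc6fb4080001a000500000000000000000,
  0x2ba67000000022000700016000000000000000, 0x803c000000002fd0000001b800000000,
  0x200f00000000000002803500001d880000000, 0x195d500000000000048000c000180,
  0x1c04aed4000000000000000051b000000, 0x701200002903400000000000000059d000000,
  0x2240000000000000000000ab17a5000000000000, 0x6340000000000ab10000000000187c0000000000,
  0x6800000007c00800000001c002f000c00000000, 0x70001f000000003000000006028000ac0000000,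
  0x80002300000020000b000cc0000000d80000, 0x54001600b000300000000000c80000000dc0,
  0xdb4ca10006c0015000000000000000000, 0x36d32000023000740017000000000000000000,
  0x36000c0002a00000000000000034b240000000000, 0x2240000000030dc06a1000000000000,
  0x8900000000000002b036723000000000000, 0x6370dc00000000000146c0000000000,
  0x18d00002b036000000000016740000000000, 0x1a000743000000006000034000dc0000000,
  0xcc002d0009c0000000000000000000000000490380, 0x20f0000000000000000000009ad0000000007a5000,
  0x3130000000000009ad0000000000000000000187c0, 0x6c00000007800003c0000000480000000b0002f000,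
  0x74001e00000000000e0000000130000009c0028000, 0x32000b0002600000000000000000000000034b240,
  0x20f00000000002ccc00000000006a1000, 0x83c0000000000000027032000000000723000,
  0x31302ccc00000000000000000000146c0, 0xc4c0000027032000000000000000000016740,
  0x1b00070000e000000013000000000cc0034000, 0x1a00000001f00020000000034002c000000031000,
  0x1c0007c000000000900000000c02700000002a000, 0x1f75b00e000200002000,
  0x1f75b000000000012000300006000, 0x68001d00900000000c000033000000036000]

/-- The eigenvalues of the fundamental coroots on the basis vectors. -/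
def hTab : List (List ℤ) := [
  [-1, -1, -1, 0, 0, 0, 1, 1, 1, 0, 0, 0, 0, 0, 0, 0, 0, 0, 1, 0, -1, 1, 0, -1, 1, 0, -1],
  [0, 0, -1, 1, 1, 0, 0, 0, -1, 0, 0, -1, 0, 0, -1, 1, 1, 0, 0, -1, 0, 0, -1, 0, 1, 0, 1],
  [1, 0, 0, 1, 0, 0, 0, -1, -1, -1, -1, 0, 0, 0, 1, 0, 0, 1, 0, 0, 1, 0, 0, 1, -1, -1, 0],
  [-1, 0, 1, -1, 0, 1, -1, 0, 1, 1, 1, 1, 0, 0, 0, -1, -1, -1, 0, 0, 0, 0, 0, 0, 0, 0, 0],
  [1, 0, 0, 0, -1, -1, 1, 0, 0, 0, -1, -1, 1, 0, 0, 1, 0, 0, -1, 0, -1, 0, 1, 0, 0, 1, 0],
  [0, 0, 0, 0, 0, 0, 0, 0, 0, -1, 1, 0, -1, 1, 0, -1, 1, 0, 1, 1, 1, -1, -1, -1, 0, 0, 0]]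

/-- A left inverse of `hTab`. -/
def wTab : List (List (ℕ × ℤ)) := [
  [(1, -1)],
  [(0, 1), (1, -1), (3, 1), (9, 1), (10, 1)],
  [(1, -1), (2, 1), (3, 1)],
  [(0, 1), (1, -2), (2, 1), (3, 1), (9, 1), (10, 1)],
  [(0, 2), (1, -2), (9, 1), (10, 1)],
  [(0, 1), (1, -1), (10, 1)]]

/-- The packed matrix of the root vector of `r`. -/
def P (r : ℕ) : ℕ := pk.getD r 0

/-- The eigenvalue of the `i`-th fundamental coroot on `e_l`. -/
def hv (i l : ℕ) : ℤ := (hTab.getD i []).getD l 0

/-- The eigenvalue of the coroot of `r` on `e_l`. -/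
def cv (r l : ℕ) : ℤ := ((List.range 6).map fun i => (chevE6.coroot.getD r #[]).getD i 0 * hv i l).sum

/-- Image of the basis vector with state `2(v/2)`. -/
def lk (P v : ℕ) : ℕ := Nat.land (Nat.shiftRight P (Nat.mul 6 (Nat.div v 2))) 63

/-- Image of a state. -/
def lks (P v : ℕ) : ℕ := Nat.xor (lk P v) (Nat.mod v 2)

/-- Two states stand for the same vector. -/
def eqS (x y : ℕ) : Bool := or (Nat.beq x y) (and (Nat.ble x 1) (Nat.ble y 1))

/-- The vector of `a` is the sum of those of `b` and `d` (sufficient). -/
def addS (a b d : ℕ) : Bool :=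
  or (and (Nat.ble b 1) (eqS a d)) (or (and (Nat.ble d 1) (eqS a b)) (and (Nat.ble a 1) (eqS b (Nat.xor d 1))))

/-- The state of the basis vector `e_k`. -/
def st (k : ℕ) : ℕ := Nat.mul 2 (Nat.add k 1)

/-- `N_r N_s = N_s N_r`. -/
def comOK (Pr Ps : ℕ) : Bool :=
  allLt 27 fun k => force (st k) fun v => force (lks Pr (lk Ps v)) fun a => force (lks Ps (lk Pr v)) fun b => eqS a b

/-- `N_r N_s = N_s N_r + c N_u` (`s = 0` for `c = 1`, `s = 1` for `c = -1`), `N_u N_r = 0`. -/
def braOK (Pr Ps Pu c : ℕ) : Bool :=
  allLt 27 fun k => force (st k) fun v => force (lk Pr v) fun e => force (lks Pr (lk Ps v)) fun a =>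
    force (lks Ps e) fun b => force (Nat.xor (lk Pu v) c) fun d => and (addS a b d) (Nat.ble (lks Pu e) 1)

/-- The check for a pair of roots. -/
def pairOK (r s : ℕ) : Bool :=
  or (Nat.beq s r) (or (Nat.beq s (chevE6.neg r))
  (match chevE6.chainEntry r s with
  | [] => force (P r) fun p => force (P s) fun q => comOK p q
  | [(u, Int.ofNat 1)] => force (P r) fun p => force (P s) fun q => force (P u) fun w =>
      and (Nat.ble u 71) (braOK p q w 0)
  | [(u, Int.negSucc 0)] => force (P r) fun p => force (P s) fun q => force (P u) fun w =>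
      and (Nat.ble u 71) (braOK p q w 1)
  | _ => false))

/-- The check for `N_r`, `N_{-r}` and the coroots, at the basis vector `e_k`. -/
def corOK (p q : ℕ) (r k : ℕ) : Bool :=
  force (st k) fun v => force (lk p v) fun e =>
  force (lks p (lk q v)) fun a => force (lks q e) fun b =>
  -- `N_r² = 0`, `N_{-r}` is the transpose of `N_r`
  and (Nat.ble e 55) <| and (Nat.ble (lks p e) 1) <| and (or (Nat.ble e 1) (Nat.beq b v)) <|
  -- `[N_r, N_{-r}]`
  and (or (and (and (Nat.beq a v) (Nat.ble b 1)) (decide (cv r k = 1)))
    (or (and (and (Nat.ble a 1) (Nat.beq b v)) (decide (cv r k = -1)))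
      (and (and (Nat.ble a 1) (Nat.ble b 1)) (decide (cv r k = 0))))) <|
  -- `h_r N_r = N_r`, `[h_i, N_r] = A_{ir} N_r`
  or (Nat.ble e 1) (and (decide (cv r (e / 2 - 1) = 1))
    ((List.range 6).all fun i => decide (hv i (e / 2 - 1) - hv i k = chevE6.cartan i r)))

/-- The check for a root. -/
def rootOK (r : ℕ) : Bool :=
  and (Nat.ble (chevE6.neg r) 71) <| and (!(Nat.beq (chevE6.neg r) r)) <| and (Nat.beq (chevE6.neg (chevE6.neg r)) r) <|
  and (Nat.beq (Nat.land (P r) 63) 0) <| and (Nat.ble (P r) (Nat.pow 2 168 - 1)) <|
  force (P r) fun p => force (P (chevE6.neg r)) fun q => allLt 27 fun k => corOK p q r k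

end Cfsg.Agent.ChevalleyStructure.E6AdTab
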