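import Cfsg.Agent.ChevalleyStructure.LaurentNH
import Cfsg.Prelude.Def_ChevE6

/-!
Commutation of the root elements of `±p₁`, `±p₆` and of `±p₃`, `±p₅` in type E₆ (kernel computation).
-/

set_option autoImplicit false

namespace Cfsg.Agent.ChevalleyStructure.E6Comm

open Cfsg.Lie
open Cfsg.Agent.ChevalleyStructure.LaurentWord
open Cfsg.Agent.ChevalleyStructure.LaurentNH

theorem colsOK : ColsOK chevE6 (col chevE6) := fun _ _ _ _ => rfl

/-- the pairs (±p₁, ±p₆) and (±p₃, ±p₅) -/
def pairs : List (ℕ × ℕ) :=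
  [(56, 36), (56, 35), (15, 36), (15, 35), (42, 37), (42, 34), (29, 37), (29, 34)]

theorem check_comm : (pairs.all fun p =>
      checkEq 78 72 (col chevE6) [(p.1, 1, 1, 0), (p.2, 1, 0, 1)] [(p.2, 1, 0, 1), (p.1, 1, 1, 0)]) = true := by
  decide +kernel

theorem x_comm {F : Type*} [Field F] {r s : ℕ} (h : (r, s) ∈ pairs) (t u : F) :
    chevE6.x F r t * chevE6.x F s u = chevE6.x F s u * chevE6.x F r t :=
  x_comm_of_check chevE6 colsOK (List.all_eq_true.1 check_comm (r, s) h) t u

end Cfsg.Agent.ChevalleyStructure.E6Comm
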