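import Cfsg.Prelude.Def_LieTwisted
import Cfsg.Agent.ChevStructure.FieldMap
import Cfsg.Agent.ChevalleyStructure.GraphSymm
import Cfsg.Agent.ChevalleyStructure.Elts
import Cfsg.Agent.ChevalleyStructure.E6Comm
import Cfsg.Agent.ChevalleyStructure.D4H1

/-!
The twisted group ²E₆(q): every element is fixed by `σ` = conjugation with the signed permutation matrix of the
graph automorphism after the entrywise `q`-Frobenius map; the elements `n`, `h` of the relative rank one subgroups.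
-/

set_option autoImplicit false

namespace Cfsg.Agent.ChevalleyStructure.E6Fixed

open Cfsg.Lie
open Cfsg.Agent.ChevalleyStructure.SignedSymm
open Cfsg.Agent.ChevalleyStructure.GraphSymm
open Cfsg.Agent.ChevalleyStructure.Elts
open scoped Matrix

theorem hE6 : InList chevE6 := by simp

section Sigma
variable {K : Type*} [Field K] (φ : K →+* K)

/-- `σ`: entrywise `φ`, then conjugation with the matrix of the graph automorphism. -/
noncomputable def sig : GL chevE6.Idx K →* GL chevE6.Idx K :=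
  (MulAut.conj (symmE6.P K)).toMonoidHom.comp
    (Units.map (RingHom.mapMatrix φ : Matrix chevE6.Idx chevE6.Idx K →+* Matrix chevE6.Idx chevE6.Idx K).toMonoidHom)

theorem coe_sig (g : GL chevE6.Idx K) :
    ((sig φ g : GL chevE6.Idx K) : Matrix chevE6.Idx chevE6.Idx K) =
      symmE6.mat K * (g : Matrix chevE6.Idx chevE6.Idx K).map φ * symmE6.matInv K := rfl

theorem sig_xG {r s : ℕ} (hr : r < 72) (hs : (symmE6.σ ⟨r, hr⟩).val = s) (he : symmE6.ε ⟨r, hr⟩ = 1) (t : K) :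
    sig φ (xG hE6 r t) = xG hE6 s (φ t) := by
  apply Units.ext
  rw [coe_sig]
  show _ * (chevE6.x K r t).map φ * _ = chevE6.x K s (φ t)
  rw [Cfsg.Agent.ChevStructure.FieldMap.x_map]
  have := symmE6.mat_conj_x K ⟨r, hr⟩ (φ t)
  rw [he, hs] at this
  simpa using this

theorem sig_56 (t : K) : sig φ (xG hE6 56 t) = xG hE6 36 (φ t) := sig_xG φ (by norm_num) rfl rfl t
theorem sig_36 (t : K) : sig φ (xG hE6 36 t) = xG hE6 56 (φ t) := sig_xG φ (by norm_num) rfl rfl t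
theorem sig_15 (t : K) : sig φ (xG hE6 15 t) = xG hE6 35 (φ t) := sig_xG φ (by norm_num) rfl rfl t
theorem sig_35 (t : K) : sig φ (xG hE6 35 t) = xG hE6 15 (φ t) := sig_xG φ (by norm_num) rfl rfl t
theorem sig_42 (t : K) : sig φ (xG hE6 42 t) = xG hE6 37 (φ t) := sig_xG φ (by norm_num) rfl rfl t
theorem sig_37 (t : K) : sig φ (xG hE6 37 t) = xG hE6 42 (φ t) := sig_xG φ (by norm_num) rfl rfl t
theorem sig_29 (t : K) : sig φ (xG hE6 29 t) = xG hE6 34 (φ t) := sig_xG φ (by norm_num) rfl rfl t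
theorem sig_34 (t : K) : sig φ (xG hE6 34 t) = xG hE6 29 (φ t) := sig_xG φ (by norm_num) rfl rfl t
theorem sig_46 (t : K) : sig φ (xG hE6 46 t) = xG hE6 46 (φ t) := sig_xG φ (by norm_num) rfl rfl t
theorem sig_25 (t : K) : sig φ (xG hE6 25 t) = xG hE6 25 (φ t) := sig_xG φ (by norm_num) rfl rfl t
theorem sig_39 (t : K) : sig φ (xG hE6 39 t) = xG hE6 39 (φ t) := sig_xG φ (by norm_num) rfl rfl t
theorem sig_32 (t : K) : sig φ (xG hE6 32 t) = xG hE6 32 (φ t) := sig_xG φ (by norm_num) rfl rfl t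

/-- the subgroup of `σ`-fixed elements -/
noncomputable def fix : Subgroup (GL chevE6.Idx K) := (sig φ).eqLocus (MonoidHom.id _)

theorem mem_fix (g : GL chevE6.Idx K) : g ∈ fix φ ↔ sig φ g = g := Iff.rfl

/-- the product `x_r(t) x_s(t^φ)` -/
noncomputable def Z (r s : ℕ) (t : K) : GL chevE6.Idx K := xG hE6 r t * xG hE6 s (φ t)

theorem comm {r s : ℕ} (h : (r, s) ∈ E6Comm.pairs) (t u : K) : Commute (xG hE6 r t) (xG hE6 s u) :=
  Units.ext (E6Comm.x_comm h t u)

theorem fix_Z {r s : ℕ} (h : (r, s) ∈ E6Comm.pairs) (h1 : ∀ t, sig φ (xG hE6 r t) = xG hE6 s (φ t))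
    (h2 : ∀ t, sig φ (xG hE6 s t) = xG hE6 r (φ t)) {t : K} (ht : φ (φ t) = t) : Z φ r s t ∈ fix φ := by
  rw [mem_fix]
  unfold Z
  rw [map_mul, h1, h2, ht, (comm h _ _).eq]

end Sigma

section Twisted
variable {K : Type*} [Field K] {q : ℕ}

theorem mem_twisted_of_word {w : List (ℕ × K)} (hw : w ∈ e6Words K q) : wordG hE6 w ∈ twistedE6 K q :=
  Subgroup.subset_closure ⟨w, hw, coe_wordG hE6 w⟩

theorem twisted_eq_closure : twistedE6 K q = Subgroup.closure {g | ∃ w ∈ e6Words K q, g = wordG hE6 w} := by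
  show Subgroup.closure _ = _
  congr 1
  ext g
  constructor
  · rintro ⟨w, hw, hg⟩
    exact ⟨w, hw, Units.ext (hg.trans (coe_wordG hE6 w).symm)⟩
  · rintro ⟨w, hw, rfl⟩
    exact ⟨w, hw, coe_wordG hE6 w⟩

theorem wordG_single (r : ℕ) (t : K) : wordG hE6 [(r, t)] = xG hE6 r t := by
  rw [wordG_cons, wordG_nil, mul_one]

theorem wordG_pair (r s : ℕ) (t u : K) : wordG hE6 [(r, t), (s, u)] = xG hE6 r t * xG hE6 s u := by
  rw [wordG_cons, wordG_single]

variable {φ : K →+* K}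

theorem Z_eq (hφ : ∀ x, φ x = x ^ q) (r s : ℕ) (t : K) : wordG hE6 [(r, t), (s, t ^ q)] = Z φ r s t := by
  rw [wordG_pair, ← hφ]
  rfl

/-- the pairs of roots in the definition of ²E₆ -/
def prs : List (ℕ × ℕ) := [(56, 36), (15, 35), (42, 37), (29, 34)]

theorem Z_mem (hφ : ∀ x, φ x = x ^ q) {r s : ℕ} (h : (r, s) ∈ prs) (t : K) : Z φ r s t ∈ twistedE6 K q := by
  rw [← Z_eq hφ]
  exact mem_twisted_of_word (Or.inr ⟨t, (r, s), h, rfl⟩)

theorem x_mem {r : ℕ} (h : r ∈ [46, 25, 39, 32]) {t : K} (ht : t ^ q = t) : xG hE6 r t ∈ twistedE6 K q := by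
  rw [← wordG_single]
  exact mem_twisted_of_word (Or.inl ⟨t, ht, r, h, rfl⟩)

/-- the generators of ²E₆ -/
theorem twisted_induction (hφ : ∀ x, φ x = x ^ q) {S : Subgroup (GL chevE6.Idx K)}
    (h1 : ∀ r ∈ [46, 25, 39, 32], ∀ t, φ t = t → xG hE6 r t ∈ S)
    (h2 : ∀ p ∈ prs, ∀ t, Z φ p.1 p.2 t ∈ S) : twistedE6 K q ≤ S := by
  rw [twisted_eq_closure, Subgroup.closure_le]
  rintro g ⟨w, hw, rfl⟩
  rcases hw with ⟨t, ht, r, hr, rfl⟩ | ⟨t, rs, hrs, rfl⟩
  · rw [wordG_single]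
    exact h1 r hr t ((hφ t).trans ht)
  · rw [Z_eq hφ]
    exact h2 rs hrs t

/-- Every element of ²E₆(q) is fixed by `σ`. -/
theorem twisted_le_fix [Fintype K] (hK : Fintype.card K = q ^ 2) (hφ : ∀ x, φ x = x ^ q) :
    twistedE6 K q ≤ fix φ := by
  have h3 : ∀ t : K, φ (φ t) = t := by
    intro t
    rw [hφ, hφ, ← pow_mul, ← sq, ← hK]
    exact FiniteField.pow_card t
  refine twisted_induction hφ ?_ ?_
  · intro r hr t ht
    simp only [List.mem_cons, List.not_mem_nil, or_false] at hr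
    rw [mem_fix]
    rcases hr with rfl | rfl | rfl | rfl
    · rw [sig_46, ht]
    · rw [sig_25, ht]
    · rw [sig_39, ht]
    · rw [sig_32, ht]
  · intro p hp t
    simp only [prs, List.mem_cons, List.not_mem_nil, or_false] at hp
    rcases hp with rfl | rfl | rfl | rfl
    · exact fix_Z φ (by decide) (sig_56 φ) (sig_36 φ) (h3 t)
    · exact fix_Z φ (by decide) (sig_15 φ) (sig_35 φ) (h3 t)
    · exact fix_Z φ (by decide) (sig_42 φ) (sig_37 φ) (h3 t)
    · exact fix_Z φ (by decide) (sig_29 φ) (sig_34 φ) (h3 t)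

end Twisted

/-! ### The elements `n` and `h` -/

section NH

theorem prod2 {M ι : Type*} [Monoid M] (f g : ι → M) (w : List ι) (h1 : ∀ i j, Commute (g i) (f j)) :
    (w.map fun i => f i * g i).prod = (w.map f).prod * (w.map g).prod := by
  induction w with
  | nil => simp
  | cons i w ih =>
    simp only [List.map_cons, List.prod_cons]
    rw [ih]
    have c1 : Commute (g i) (w.map f).prod := Commute.list_prod_right _ _ (by
      intro x hx
      rw [List.mem_map] at hx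
      obtain ⟨j, _, rfl⟩ := hx
      exact h1 i j)
    calc f i * g i * ((w.map f).prod * (w.map g).prod)
        = f i * (g i * (w.map f).prod) * (w.map g).prod := by simp only [mul_assoc]
      _ = f i * ((w.map f).prod * g i) * (w.map g).prod := by rw [c1.eq]
      _ = f i * (w.map f).prod * (g i * (w.map g).prod) := by simp only [mul_assoc]

variable {K : Type*} [Field K] (φ : K →+* K)

/-- first component of a letter: `(true, t)` stands for `x_r(t) x_s(t^φ)`, `(false, t)` for the negative roots -/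
noncomputable def f1 (r r' : ℕ) (l : Bool × K) : GL chevE6.Idx K := if l.1 then xG hE6 r l.2 else xG hE6 r' l.2
/-- second component -/
noncomputable def f2 (s s' : ℕ) (l : Bool × K) : GL chevE6.Idx K :=
  if l.1 then xG hE6 s (φ l.2) else xG hE6 s' (φ l.2)

/-- letters -/
noncomputable def ZZ (r s r' s' : ℕ) (l : Bool × K) : GL chevE6.Idx K :=
  if l.1 then Z φ r s l.2 else Z φ r' s' l.2

theorem ZZ_prod {r s r' s' : ℕ} (h1 : (r, s) ∈ E6Comm.pairs) (h2 : (r, s') ∈ E6Comm.pairs)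
    (h3 : (r', s) ∈ E6Comm.pairs) (h4 : (r', s') ∈ E6Comm.pairs) (w : List (Bool × K)) :
    (w.map (ZZ φ r s r' s')).prod = (w.map (f1 r r')).prod * (w.map (f2 φ s s')).prod := by
  rw [← prod2 (f1 r r') (f2 φ s s')]
  · congr 1
    apply List.map_congr_left
    rintro ⟨_ | _, t⟩ _
    · rfl
    · rfl
  · rintro ⟨_ | _, t⟩ ⟨_ | _, u⟩
    · exact (comm h4 _ _).symm
    · exact (comm h2 _ _).symm
    · exact (comm h3 _ _).symm
    · exact (comm h1 _ _).symm

/-- the word for `n(t)` -/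
def nw (t : K) : List (Bool × K) := [(true, t), (false, -t⁻¹), (true, t)]

theorem f1_nw {r r' : ℕ} (hr : chevE6.neg r = r') (t : K) : ((nw t).map (f1 r r')).prod = nG hE6 r t := by
  subst hr
  rw [nG_def]
  show xG hE6 r t * (xG hE6 (chevE6.neg r) (-t⁻¹) * (xG hE6 r t * 1)) = _
  rw [mul_one]

theorem f2_nw {s s' : ℕ} (hs : chevE6.neg s = s') (t : K) :
    ((nw t).map (f2 φ s s')).prod = nG hE6 s (φ t) := by
  subst hs
  have : φ (-t⁻¹) = -(φ t)⁻¹ := by rw [map_neg, map_inv₀]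
  rw [nG_def, ← this]
  show xG hE6 s (φ t) * (xG hE6 (chevE6.neg s) (φ (-t⁻¹)) * (xG hE6 s (φ t) * 1)) = _
  rw [mul_one]

theorem n_eq {r s r' s' : ℕ} (h1 : (r, s) ∈ E6Comm.pairs) (h2 : (r, s') ∈ E6Comm.pairs)
    (h3 : (r', s) ∈ E6Comm.pairs) (h4 : (r', s') ∈ E6Comm.pairs)
    (hr : chevE6.neg r = r') (hs : chevE6.neg s = s') (t : K) :
    ((nw t).map (ZZ φ r s r' s')).prod = nG hE6 r t * nG hE6 s (φ t) := by
  rw [ZZ_prod φ h1 h2 h3 h4, f1_nw hr, f2_nw φ hs]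

theorem h_eq {r s r' s' : ℕ} (h1 : (r, s) ∈ E6Comm.pairs) (h2 : (r, s') ∈ E6Comm.pairs)
    (h3 : (r', s) ∈ E6Comm.pairs) (h4 : (r', s') ∈ E6Comm.pairs)
    (hr : chevE6.neg r = r') (hs : chevE6.neg s = s') (t : K) :
    ((nw t ++ nw (-1)).map (ZZ φ r s r' s')).prod = hG hE6 r t * hG hE6 s (φ t) := by
  rw [ZZ_prod φ h1 h2 h3 h4, List.map_append, List.map_append, List.prod_append, List.prod_append,
    f1_nw hr, f2_nw φ hs, f1_nw hr, f2_nw φ hs, hG_def, hG_def, map_neg, map_one]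

theorem ZZ_mem {q : ℕ} {φ : K →+* K} (hφ : ∀ x, φ x = x ^ q) {r s r' s' : ℕ} (h1 : (r, s) ∈ prs)
    (h2 : (r', s') ∈ prs) (w : List (Bool × K)) : (w.map (ZZ φ r s r' s')).prod ∈ twistedE6 K q := by
  apply Subgroup.list_prod_mem
  intro x hx
  rw [List.mem_map] at hx
  obtain ⟨⟨_ | _, t⟩, _, rfl⟩ := hx
  · exact Z_mem hφ h2 t
  · exact Z_mem hφ h1 t

/-- `n_{p₁}(t) n_{p₆}(t^φ) ∈ ²E₆` -/
theorem n16_mem {q : ℕ} {φ : K →+* K} (hφ : ∀ x, φ x = x ^ q) (t : K) :
    nG hE6 56 t * nG hE6 36 (φ t) ∈ twistedE6 K q := by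
  rw [← n_eq φ (r' := 15) (s' := 35) (by decide) (by decide) (by decide) (by decide) rfl rfl]
  exact ZZ_mem hφ (by decide) (by decide) _

theorem h16_mem {q : ℕ} {φ : K →+* K} (hφ : ∀ x, φ x = x ^ q) (t : K) :
    hG hE6 56 t * hG hE6 36 (φ t) ∈ twistedE6 K q := by
  rw [← h_eq φ (r' := 15) (s' := 35) (by decide) (by decide) (by decide) (by decide) rfl rfl]
  exact ZZ_mem hφ (by decide) (by decide) _

/-- `n_{p₃}(t) n_{p₅}(t^φ) ∈ ²E₆` -/
theorem n35_mem {q : ℕ} {φ : K →+* K} (hφ : ∀ x, φ x = x ^ q) (t : K) :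
    nG hE6 42 t * nG hE6 37 (φ t) ∈ twistedE6 K q := by
  rw [← n_eq φ (r' := 29) (s' := 34) (by decide) (by decide) (by decide) (by decide) rfl rfl]
  exact ZZ_mem hφ (by decide) (by decide) _

theorem h35_mem {q : ℕ} {φ : K →+* K} (hφ : ∀ x, φ x = x ^ q) (t : K) :
    hG hE6 42 t * hG hE6 37 (φ t) ∈ twistedE6 K q := by
  rw [← h_eq φ (r' := 29) (s' := 34) (by decide) (by decide) (by decide) (by decide) rfl rfl]
  exact ZZ_mem hφ (by decide) (by decide) _

theorem n_single_mem {q : ℕ} {φ : K →+* K} (hφ : ∀ x, φ x = x ^ q) {r : ℕ} (hr : r ∈ [46, 25, 39, 32])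
    (hr' : chevE6.neg r ∈ [46, 25, 39, 32]) {t : K} (ht : φ t = t) : nG hE6 r t ∈ twistedE6 K q := by
  rw [nG_def]
  have h1 : t ^ q = t := (hφ t).symm.trans ht
  have h2 : (-t⁻¹) ^ q = -t⁻¹ := by
    rw [← hφ, map_neg, map_inv₀, ht]
  exact mul_mem (x_mem hr h1) (mul_mem (x_mem hr' h2) (x_mem hr h1))

theorem h_single_mem {q : ℕ} {φ : K →+* K} (hφ : ∀ x, φ x = x ^ q) {r : ℕ} (hr : r ∈ [46, 25, 39, 32])
    (hr' : chevE6.neg r ∈ [46, 25, 39, 32]) {t : K} (ht : φ t = t) : hG hE6 r t ∈ twistedE6 K q := by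
  rw [hG_def]
  exact mul_mem (n_single_mem hφ hr hr' ht) (n_single_mem hφ hr hr' (by rw [map_neg, map_one]))

end NH

end Cfsg.Agent.ChevalleyStructure.E6Fixed
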