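import Mathlib
import Cfsg.Prelude.Def_ChevStructure
import Cfsg.Prelude.Def_LieTypes
import Cfsg.Prelude.Def_ChevB2
import Cfsg.Prelude.Def_LieTwisted
import Cfsg.Prelude.Def_LieExceptional
import Cfsg.Prelude.Def_Steinberg

/-!
This file makes the on-demand equation lemmas (`eq_1`, `eq_def`, splitters) of the definitions used in the
Chevalley block exist once, here. Files of the block that unfold, `simp` with or rewrite by one of these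
definitions should import this file, so that the same lemma is not generated again in several files.
-/

set_option autoImplicit false

namespace Cfsg.Agent.ChevalleyStructure.EqLemmas

theorem force_eqns : True := by
  have := @Cfsg.Lie.ChevalleyDatum.group.eq_1.{0}
  have := @Cfsg.Lie.ChevalleyDatum.group.eq_def.{0}
  have := @Cfsg.Lie.ChevalleyDatum.Idx.eq_1
  have := @Cfsg.Lie.ChevalleyDatum.Idx.eq_def
  have := @Cfsg.Lie.ChevalleyDatum.chainCoeff.eq_1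
  have := @Cfsg.Lie.ChevalleyDatum.chainCoeff.eq_def
  have := @Cfsg.Lie.ChevalleyDatum.xMat.eq_1.{0}
  have := @Cfsg.Lie.ChevalleyDatum.xMat.eq_def.{0}
  have := @Cfsg.Lie.ChevalleyDatum.negWord.eq_1.{0}
  have := @Cfsg.Lie.ChevalleyDatum.negWord.eq_def.{0}
  have := @Cfsg.Lie.ChevalleyDatum.IsGroupOver.eq_1.{0}
  have := @Cfsg.Lie.ChevalleyDatum.IsGroupOver.eq_def.{0}
  have := @Cfsg.Lie.ChevalleyDatum.x.eq_1.{0}
  have := @Cfsg.Lie.ChevalleyDatum.x.eq_def.{0}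
  have := @Cfsg.Lie.ChevalleyDatum.wordMat.eq_1.{0}
  have := @Cfsg.Lie.ChevalleyDatum.wordMat.eq_def.{0}
  have := @Cfsg.Lie.ChevalleyDatum.genSubgroup.eq_1.{0}
  have := @Cfsg.Lie.ChevalleyDatum.genSubgroup.eq_def.{0}
  have := @Cfsg.Lie.coxeterD4.eq_1
  have := @Cfsg.Lie.coxeterD4.eq_def
  have := @Cfsg.Lie.ChevalleyDatum.chainM.eq_1
  have := @Cfsg.Lie.ChevalleyDatum.chainM.eq_def
  have := @Cfsg.Lie.ChevalleyDatum.cartan.eq_1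
  have := @Cfsg.Lie.ChevalleyDatum.cartan.eq_def
  have := @Cfsg.Lie.ChevalleyDatum.InRootSub.eq_1
  have := @Cfsg.Lie.ChevalleyDatum.InRootSub.eq_def
  have := @Cfsg.Lie.ChevalleyDatum.borelSubgroup.eq_1.{0}
  have := @Cfsg.Lie.ChevalleyDatum.borelSubgroup.eq_def.{0}
  have := @Cfsg.Lie.ChevalleyDatum.diagonalSubgroup.eq_1.{0}
  have := @Cfsg.Lie.ChevalleyDatum.diagonalSubgroup.eq_def.{0}
  have := @Cfsg.Lie.ChevalleyDatum.posUnipotent.eq_1.{0}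
  have := @Cfsg.Lie.ChevalleyDatum.posUnipotent.eq_def.{0}
  have := @Cfsg.Lie.ChevalleyDatum.hWord.eq_1.{0}
  have := @Cfsg.Lie.ChevalleyDatum.hWord.eq_def.{0}
  have := @Cfsg.Lie.ChevalleyDatum.monomialSubgroup.eq_1.{0}
  have := @Cfsg.Lie.ChevalleyDatum.monomialSubgroup.eq_def.{0}
  have := @Cfsg.Lie.ChevalleyDatum.nWord.eq_1.{0}
  have := @Cfsg.Lie.ChevalleyDatum.nWord.eq_def.{0}
  have := @Cfsg.Lie.ChevalleyDatum.IsNegRoot.eq_1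
  have := @Cfsg.Lie.ChevalleyDatum.IsNegRoot.eq_def
  have := @Cfsg.Lie.ChevalleyDatum.negRoots.eq_1
  have := @Cfsg.Lie.ChevalleyDatum.negRoots.eq_def
  have := @Cfsg.Lie.ChevalleyDatum.chainEntry.eq_1
  have := @Cfsg.Lie.ChevalleyDatum.chainEntry.eq_def
  have := @Cfsg.Lie.ChevalleyDatum.commWord.eq_1.{0}
  have := @Cfsg.Lie.ChevalleyDatum.commWord.eq_def.{0}
  have := @Cfsg.Lie.ChevalleyDatum.IsPosRoot.eq_1
  have := @Cfsg.Lie.ChevalleyDatum.IsPosRoot.eq_def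
  have := @Cfsg.Lie.ChevalleyDatum.instDecidableIsPosRoot.eq_1
  have := @Cfsg.Lie.ChevalleyDatum.instDecidableIsPosRoot.eq_def
  have := @Cfsg.Lie.ChevalleyDatum.chainRoot.eq_1
  have := @Cfsg.Lie.ChevalleyDatum.chainRoot.eq_def
  have := @Cfsg.Lie.ChevalleyDatum.instDecidableIsNegRoot.eq_1
  have := @Cfsg.Lie.ChevalleyDatum.instDecidableIsNegRoot.eq_def
  have := @Cfsg.Lie.ChevalleyDatum.hMat.eq_1.{0}
  have := @Cfsg.Lie.ChevalleyDatum.hMat.eq_def.{0}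
  have := @Cfsg.Lie.ChevalleyDatum.rootSubgroup.eq_1.{0}
  have := @Cfsg.Lie.ChevalleyDatum.rootSubgroup.eq_def.{0}
  have := @Cfsg.Lie.ChevalleyDatum.leviSubgroup.eq_1.{0}
  have := @Cfsg.Lie.ChevalleyDatum.leviSubgroup.eq_def.{0}
  have := @Cfsg.Lie.ChevalleyDatum.simple.eq_1
  have := @Cfsg.Lie.ChevalleyDatum.simple.eq_def
  have := @Cfsg.Lie.ChevalleyDatum.neg.eq_1
  have := @Cfsg.Lie.ChevalleyDatum.neg.eq_def
  have := @Cfsg.Lie.ChevalleyDatum.negUnipotent.eq_1.{0}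
  have := @Cfsg.Lie.ChevalleyDatum.negUnipotent.eq_def.{0}
  have := @Cfsg.Lie.ChevalleyDatum.parabolicSubgroup.eq_1.{0}
  have := @Cfsg.Lie.ChevalleyDatum.parabolicSubgroup.eq_def.{0}
  have := @Cfsg.Lie.ChevalleyDatum.unipotentRadical.eq_1.{0}
  have := @Cfsg.Lie.ChevalleyDatum.unipotentRadical.eq_def.{0}
  have := @Cfsg.Lie.ChevalleyDatum.nMat.eq_1.{0}
  have := @Cfsg.Lie.ChevalleyDatum.nMat.eq_def.{0}
  have := @Cfsg.Lie.ChevalleyDatum.reflectRoot.eq_1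
  have := @Cfsg.Lie.ChevalleyDatum.reflectRoot.eq_def
  have := @Cfsg.Lie.ChevalleyDatum.posRoots.eq_1
  have := @Cfsg.Lie.ChevalleyDatum.posRoots.eq_def
  have := @Cfsg.Lie.ChevalleyDatum.commTerms.eq_1
  have := @Cfsg.Lie.ChevalleyDatum.commTerms.eq_def
  have := @Cfsg.Lie.IsoE7.eq_1.{0}
  have := @Cfsg.Lie.IsoE7.eq_def.{0}
  have := @Cfsg.Lie.IsoChevE6.eq_1.{0}
  have := @Cfsg.Lie.IsoChevE6.eq_def.{0}
  have := @Cfsg.Lie.IsoF4.eq_1.{0}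
  have := @Cfsg.Lie.IsoF4.eq_def.{0}
  have := @Cfsg.Lie.IsoChevG2.eq_1.{0}
  have := @Cfsg.Lie.IsoChevG2.eq_def.{0}
  have := @Cfsg.Lie.IsoE8.eq_1.{0}
  have := @Cfsg.Lie.IsoE8.eq_def.{0}
  have := @Cfsg.Lie.f4m1.eq_1
  have := @Cfsg.Lie.f4m1.eq_def
  have := @Cfsg.Lie.f4b.eq_1
  have := @Cfsg.Lie.f4b.eq_def
  have := @Cfsg.Lie.e6m3.eq_1
  have := @Cfsg.Lie.e6m3.eq_def
  have := @Cfsg.Lie.IsoRee.eq_1.{0}
  have := @Cfsg.Lie.IsoRee.eq_def.{0}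
  have := @Cfsg.Lie.f4Words.eq_1.{0}
  have := @Cfsg.Lie.f4Words.eq_def.{0}
  have := @Cfsg.Lie.g2maab.eq_1
  have := @Cfsg.Lie.g2maab.eq_def
  have := @Cfsg.Lie.reeWordU.eq_1.{0}
  have := @Cfsg.Lie.reeWordU.eq_def.{0}
  have := @Cfsg.Lie.f4p1.eq_1
  have := @Cfsg.Lie.f4p1.eq_def
  have := @Cfsg.Lie.g2maaab.eq_1
  have := @Cfsg.Lie.g2maaab.eq_def
  have := @Cfsg.Lie.e6m1.eq_1
  have := @Cfsg.Lie.e6m1.eq_def
  have := @Cfsg.Lie.e6m4.eq_1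
  have := @Cfsg.Lie.e6m4.eq_def
  have := @Cfsg.Lie.f4aab.eq_1
  have := @Cfsg.Lie.f4aab.eq_def
  have := @Cfsg.Lie.f4ab.eq_1
  have := @Cfsg.Lie.f4ab.eq_def
  have := @Cfsg.Lie.Iso2F4.eq_1.{0}
  have := @Cfsg.Lie.Iso2F4.eq_def.{0}
  have := @Cfsg.Lie.f4mb.eq_1
  have := @Cfsg.Lie.f4mb.eq_def
  have := @Cfsg.Lie.b2ClassWord.eq_1.{0}
  have := @Cfsg.Lie.b2ClassWord.eq_def.{0}
  have := @Cfsg.Lie.twistedF4.eq_1.{0}
  have := @Cfsg.Lie.twistedF4.eq_def.{0}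
  have := @Cfsg.Lie.f4ma.eq_1
  have := @Cfsg.Lie.f4ma.eq_def
  have := @Cfsg.Lie.g2aaab.eq_1
  have := @Cfsg.Lie.g2aaab.eq_def
  have := @Cfsg.Lie.Iso2E6.eq_1.{0}
  have := @Cfsg.Lie.Iso2E6.eq_def.{0}
  have := @Cfsg.Lie.f4p4.eq_1
  have := @Cfsg.Lie.f4p4.eq_def
  have := @Cfsg.Lie.g2ma.eq_1
  have := @Cfsg.Lie.g2ma.eq_def
  have := @Cfsg.Lie.Iso3D4.eq_1.{0}
  have := @Cfsg.Lie.Iso3D4.eq_def.{0}
  have := @Cfsg.Lie.g2Words.eq_1.{0}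
  have := @Cfsg.Lie.g2Words.eq_def.{0}
  have := @Cfsg.Lie.g2mab.eq_1
  have := @Cfsg.Lie.g2mab.eq_def
  have := @Cfsg.Lie.d4p2.eq_1
  have := @Cfsg.Lie.d4p2.eq_def
  have := @Cfsg.Lie.e6m5.eq_1
  have := @Cfsg.Lie.e6m5.eq_def
  have := @Cfsg.Lie.d4m4.eq_1
  have := @Cfsg.Lie.d4m4.eq_def
  have := @Cfsg.Lie.f4maab.eq_1
  have := @Cfsg.Lie.f4maab.eq_def
  have := @Cfsg.Lie.e6p3.eq_1
  have := @Cfsg.Lie.e6p3.eq_def
  have := @Cfsg.Lie.e6p1.eq_1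
  have := @Cfsg.Lie.e6p1.eq_def
  have := @Cfsg.Lie.d4m2.eq_1
  have := @Cfsg.Lie.d4m2.eq_def
  have := @Cfsg.Lie.f4PairWord.eq_1.{0}
  have := @Cfsg.Lie.f4PairWord.eq_def.{0}
  have := @Cfsg.Lie.g2a.eq_1
  have := @Cfsg.Lie.g2a.eq_def
  have := @Cfsg.Lie.d4m3.eq_1
  have := @Cfsg.Lie.d4m3.eq_def
  have := @Cfsg.Lie.e6p2.eq_1
  have := @Cfsg.Lie.e6p2.eq_def
  have := @Cfsg.Lie.e6p6.eq_1
  have := @Cfsg.Lie.e6p6.eq_def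
  have := @Cfsg.Lie.g2b.eq_1
  have := @Cfsg.Lie.g2b.eq_def
  have := @Cfsg.Lie.TitsGroup.eq_1
  have := @Cfsg.Lie.TitsGroup.eq_def
  have := @Cfsg.Lie.d4p1.eq_1
  have := @Cfsg.Lie.d4p1.eq_def
  have := @Cfsg.Lie.d4p3.eq_1
  have := @Cfsg.Lie.d4p3.eq_def
  have := @Cfsg.Lie.twistedD4.eq_1.{0}
  have := @Cfsg.Lie.twistedD4.eq_def.{0}
  have := @Cfsg.Lie.f4a.eq_1
  have := @Cfsg.Lie.f4a.eq_def
  have := @Cfsg.Lie.g2mb.eq_1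
  have := @Cfsg.Lie.g2mb.eq_def
  have := @Cfsg.Lie.e6m6.eq_1
  have := @Cfsg.Lie.e6m6.eq_def
  have := @Cfsg.Lie.e6Words.eq_1.{0}
  have := @Cfsg.Lie.e6Words.eq_def.{0}
  have := @Cfsg.Lie.e6m2.eq_1
  have := @Cfsg.Lie.e6m2.eq_def
  have := @Cfsg.Lie.twistedE6.eq_1.{0}
  have := @Cfsg.Lie.twistedE6.eq_def.{0}
  have := @Cfsg.Lie.d4m1.eq_1
  have := @Cfsg.Lie.d4m1.eq_def
  have := @Cfsg.Lie.IsoTits.eq_1.{0}
  have := @Cfsg.Lie.IsoTits.eq_def.{0}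
  have := @Cfsg.Lie.g2aab.eq_1
  have := @Cfsg.Lie.g2aab.eq_def
  have := @Cfsg.Lie.twistedG2.eq_1.{0}
  have := @Cfsg.Lie.twistedG2.eq_def.{0}
  have := @Cfsg.Lie.f4mab.eq_1
  have := @Cfsg.Lie.f4mab.eq_def
  have := @Cfsg.Lie.g2aaabb.eq_1
  have := @Cfsg.Lie.g2aaabb.eq_def
  have := @Cfsg.Lie.e6p5.eq_1
  have := @Cfsg.Lie.e6p5.eq_def
  have := @Cfsg.Lie.d4Words.eq_1.{0}
  have := @Cfsg.Lie.d4Words.eq_def.{0}
  have := @Cfsg.Lie.reeWordV.eq_1.{0}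
  have := @Cfsg.Lie.reeWordV.eq_def.{0}
  have := @Cfsg.Lie.g2ab.eq_1
  have := @Cfsg.Lie.g2ab.eq_def
  have := @Cfsg.Lie.e6p4.eq_1
  have := @Cfsg.Lie.e6p4.eq_def
  have := @Cfsg.Lie.f4m4.eq_1
  have := @Cfsg.Lie.f4m4.eq_def
  have := @Cfsg.Lie.d4p4.eq_1
  have := @Cfsg.Lie.d4p4.eq_def
  have := @Cfsg.Lie.g2maaabb.eq_1
  have := @Cfsg.Lie.g2maaabb.eq_def
  have := @Cfsg.suzukiPointInfinity.eq_1.{0}
  have := @Cfsg.suzukiPointInfinity.eq_def.{0}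
  have := @Cfsg.BNPair.Irreducible.eq_1.{0}
  have := @Cfsg.BNPair.Irreducible.eq_def.{0}
  have := @Cfsg.suzukiForm.eq_1.{0}
  have := @Cfsg.suzukiForm.eq_def.{0}
  have := @Cfsg.BNPair.parabolic.eq_1.{0}
  have := @Cfsg.BNPair.parabolic.eq_def.{0}
  have := @Cfsg.Sz.eq_1.{0}
  have := @Cfsg.Sz.eq_def.{0}
  have := @Cfsg.IsCNGroup.eq_1.{0}
  have := @Cfsg.IsCNGroup.eq_def.{0}
  have := @Cfsg.IsZassenhausGroup.eq_1.{0,0}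
  have := @Cfsg.IsZassenhausGroup.eq_def.{0,0}
  have := @Cfsg.suzukiOvoid.eq_1.{0}
  have := @Cfsg.suzukiOvoid.eq_def.{0}
  have := @Cfsg.BNPair.rank.eq_1.{0}
  have := @Cfsg.BNPair.rank.eq_def.{0}
  have := @Cfsg.suzukiPointZero.eq_1.{0}
  have := @Cfsg.suzukiPointZero.eq_def.{0}
  have := @Cfsg.Lie.ChevalleyDatum.stX.eq_1.{0}
  have := @Cfsg.Lie.ChevalleyDatum.stX.eq_def.{0}
  have := @Cfsg.Lie.ChevalleyDatum.stH.eq_1.{0}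
  have := @Cfsg.Lie.ChevalleyDatum.stH.eq_def.{0}
  have := @Cfsg.Lie.ChevalleyDatum.steinbergRels.eq_1.{0}
  have := @Cfsg.Lie.ChevalleyDatum.steinbergRels.eq_def.{0}
  have := @Cfsg.Lie.ChevalleyDatum.stGen.eq_1.{0}
  have := @Cfsg.Lie.ChevalleyDatum.stGen.eq_def.{0}
  have := @Cfsg.Lie.ChevalleyDatum.SteinbergGroup.eq_1.{0}
  have := @Cfsg.Lie.ChevalleyDatum.SteinbergGroup.eq_def.{0}
  have := @Cfsg.Lie.ChevalleyDatum.stN.eq_1.{0}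
  have := @Cfsg.Lie.ChevalleyDatum.stN.eq_def.{0}
  have := @Cfsg.Lie.ChevalleyDatum.stWord.eq_1.{0}
  have := @Cfsg.Lie.ChevalleyDatum.stWord.eq_def.{0}
  have := @Cfsg.Lie.chevG2.eq_1
  have := @Cfsg.Lie.chevG2.eq_def
  have := @Cfsg.Lie.chevB2.eq_1
  have := @Cfsg.Lie.chevB2.eq_def
  have := @Cfsg.Lie.chevD4.eq_1
  have := @Cfsg.Lie.chevD4.eq_def
  have := @Cfsg.Lie.chevF4.eq_1
  have := @Cfsg.Lie.chevF4.eq_def
  have := @Cfsg.Lie.chevE6.eq_1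
  have := @Cfsg.Lie.chevE6.eq_def
  have := @Cfsg.Lie.chevE7.eq_1
  have := @Cfsg.Lie.chevE7.eq_def
  have := @Cfsg.Lie.chevE8.eq_1
  have := @Cfsg.Lie.chevE8.eq_def
  trivial

end Cfsg.Agent.ChevalleyStructure.EqLemmas
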