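import Cfsg.Agent.ChevalleyStructure.F4Tab

/-!
# Root elements of type F₄ in characteristic 2 as bit-mask matrices: `x_r(t) = 1 + t X_r + t² Y_r`
-/

set_option autoImplicit false

namespace Cfsg.Agent.ChevalleyStructure.F4Char2

open Cfsg.Lie Cfsg.Agent.ChevalleyStructure.F4MaskBase Cfsg.Agent.ChevalleyStructure.F4Tab

variable {K : Type*} [Field K] [CharP K 2]

theorem int_cast_eq (M : ℤ) : (M : K) = if M % 2 = 0 then 0 else 1 := by
  rcases Int.emod_two_eq_zero_or_one M with h | h
  · rw [if_pos h]
    obtain ⟨k, hk⟩ := Int.dvd_of_emod_eq_zero h
    rw [hk]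
    push_cast
    rw [CharTwo.two_eq_zero, zero_mul]
  · rw [if_neg (by omega)]
    have hk : M = 2 * (M / 2) + 1 := by omega
    rw [hk]
    push_cast
    rw [CharTwo.two_eq_zero, zero_mul, zero_add]

theorem two_pow_testBit_pos (u : ℕ) (i : chevF4.Idx) :
    b2 K ((2 ^ (4 + u)).testBit (pos i)) = if (∃ s : Fin chevF4.nroots, i = Sum.inr s ∧ s.val = u) then 1 else 0 := by
  rw [Nat.testBit_two_pow]
  rcases i with i | s
  · have h1 : ¬ (4 + u = pos (Sum.inl i)) := by
      rw [pos_inl]
      have := i.2
      have h4 : chevF4.rank = 4 := rfl
      omega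
    simp [b2, h1]
  · rw [pos_inr]
    by_cases h : s.val = u
    · subst h; simp [b2]
    · have : ¬ (4 + u = 4 + s.val) := by omega
      have h' : ¬ (u = s.val) := fun e => h e.symm
      simp [b2, h, h']

theorem x_of_lt {r : ℕ} (h : r < 48) (t : K) : chevF4.x K r t = chevF4.xMat K (⟨r, h⟩ : Fin chevF4.nroots) t := dif_pos h

theorem chk_of_lt {r : ℕ} (h : r < 48) : chk r = true :=
  (List.all_eq_true.1 chk_all) r (List.mem_range.2 h)

/-- The sum of the chain terms at `(r, s)` in row `u`, from the check. -/
theorem chain_sum (r s u cx cy : ℕ) (hu : u < 48) (h : good (fl r s) cx cy = true) (t : K) :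
    ((chevF4.chainCoeff r s u).map fun km => ((km.2 : ℤ) : K) * t ^ km.1).sum =
      t * b2 K (cx.testBit (4 + u)) + t ^ 2 * b2 K (cy.testBit (4 + u)) := by
  have h0 : chevF4.chainCoeff r s u = (fl r s).flatMap fun e =>
    ((e.2.toList.zipIdx).filter (fun q => q.1.1 = u)).map fun q => (q.2 + 1, q.1.2) := rfl
  rw [h0]
  revert h
  generalize fl r s = L
  intro h
  match L, h with
  | [], h =>
    simp only [good, Bool.and_eq_true, beq_iff_eq] at h
    rw [h.1, h.2]
    simp [b2]
  | [(w, a)], h =>
    simp only [good] at h
    simp only [List.flatMap_cons, List.flatMap_nil, List.append_nil]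
    revert h
    generalize a.toList = l
    intro h
    match l, h with
    | [(v, M)], h =>
      simp only [Bool.and_eq_true, beq_iff_eq] at h
      rw [h.1, h.2]
      by_cases hv : v = u
      · subst hv
        by_cases hM : M % 2 = 0
        · simp [b2, int_cast_eq (K := K) M, hM]
        · simp [b2, int_cast_eq (K := K) M, hM, Nat.testBit_two_pow_self]
      · have hv' : ¬ (4 + v = 4 + u) := by omega
        by_cases hM : M % 2 = 0
        · simp [b2, hM, hv]
        · simp [b2, hM, hv, Nat.testBit_two_pow]
    | [(v, M), (v', N)], h =>
      simp only [Bool.and_eq_true, beq_iff_eq] at h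
      rw [h.1, h.2]
      have e1 : t * b2 K (Nat.testBit (if M % 2 = 0 then 0 else 2 ^ (4 + v)) (4 + u)) =
          if v = u then (M : K) * t else 0 := by
        rw [int_cast_eq (K := K) M]
        by_cases hv : v = u
        · subst hv
          by_cases hM : M % 2 = 0
          · simp [b2, hM]
          · simp [b2, hM, Nat.testBit_two_pow_self]
        · by_cases hM : M % 2 = 0
          · simp [b2, hM, hv]
          · simp [b2, hM, hv, Nat.testBit_two_pow]
      have e2 : t ^ 2 * b2 K (Nat.testBit (if N % 2 = 0 then 0 else 2 ^ (4 + v')) (4 + u)) =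
          if v' = u then (N : K) * t ^ 2 else 0 := by
        rw [int_cast_eq (K := K) N]
        by_cases hv : v' = u
        · subst hv
          by_cases hM : N % 2 = 0
          · simp [b2, hM]
          · simp [b2, hM, Nat.testBit_two_pow_self]
        · by_cases hM : N % 2 = 0
          · simp [b2, hM, hv]
          · simp [b2, hM, hv, Nat.testBit_two_pow]
      rw [e1, e2]
      by_cases hv : v = u
      · by_cases hv' : v' = u
        · simp [List.zipIdx, hv, hv']
        · simp [List.zipIdx, hv, hv']
      · by_cases hv' : v' = u
        · simp [List.zipIdx, hv, hv']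
        · simp [List.zipIdx, hv, hv']

theorem xc_eq {r : ℕ} (j : chevF4.Idx) : xc r (pos j) = (XT.getD r []).getD (pos j) 0 := rfl

/-- Entries of a root element of type F₄ in characteristic 2. -/
theorem x_entry {r : ℕ} (hr : r < 48) (t : K) (i j : chevF4.Idx) :
    chevF4.x K r t i j = (if i = j then 1 else 0) + t * b2 K ((xc r (pos j)).testBit (pos i)) +
      t ^ 2 * b2 K ((yc r (pos j)).testBit (pos i)) := by
  have hc := chk_of_lt hr
  unfold chk at hc
  rw [Bool.and_eq_true, List.all_eq_true, List.all_eq_true] at hc
  obtain ⟨hc1, hc2⟩ := hc
  rw [x_of_lt hr]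
  rcases j with j | s
  · -- column of a coroot
    have hj : j.val < 4 := j.2
    have h1 := hc1 j.val (List.mem_range.2 hj)
    simp only [Bool.and_eq_true, beq_iff_eq] at h1
    obtain ⟨h1, h2⟩ := h1
    rw [pos_inl, h1, h2]
    rcases i with i | u
    · show (if i = j then (1 : K) else 0) = _
      rw [pos_inl]
      have hi : i.val < 4 := i.2
      have e : Nat.testBit (if ((chevF4.cartanSR.getD j.val #[]).getD r 0) % 2 = 0 then 0 else 2 ^ (4 + r)) i.val = false := by
        split_ifs
        · exact Nat.zero_testBit _
        · rw [Nat.testBit_two_pow]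
          have : ¬ (4 + r = i.val) := by omega
          simp [this]
      rw [e]
      simp [b2]
    · show (if u = (⟨r, hr⟩ : Fin chevF4.nroots) then - (((chevF4.cartanSR.getD j.val #[]).getD r 0 : ℤ) : K) * t else 0) = _
      rw [pos_inr, int_cast_eq]
      have hne : ¬ ((Sum.inr u : chevF4.Idx) = Sum.inl j) := by simp
      rw [if_neg hne]
      by_cases hur : u = (⟨r, hr⟩ : Fin chevF4.nroots)
      · have huv : u.val = r := by rw [hur]
        rw [if_pos hur, huv]
        split_ifs
        · simp [b2]
        · simp [b2, Nat.testBit_two_pow_self, CharTwo.neg_eq]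
      · rw [if_neg hur]
        have huv : ¬ (r = u.val) := fun e => hur (Fin.ext e.symm)
        split_ifs
        · simp [b2]
        · simp [b2, Nat.testBit_two_pow, huv]
  · have hs : s.val < 48 := s.2
    have h1 := hc2 s.val (List.mem_range.2 hs)
    by_cases hsr : s.val = r
    · rw [if_pos hsr] at h1
      simp only [Bool.and_eq_true, beq_iff_eq] at h1
      obtain ⟨h1, h2⟩ := h1
      rw [pos_inr, h1, h2]
      have hsr' : s = (⟨r, hr⟩ : Fin chevF4.nroots) := Fin.ext hsr
      rcases i with i | u
      · have : chevF4.xMat K (⟨r, hr⟩ : Fin chevF4.nroots) t (Sum.inl i) (Sum.inr s) = 0 := by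
          simp only [ChevalleyDatum.xMat, Matrix.of_apply]
          rw [if_pos hsr']
        rw [this]
        simp [b2]
      · have : chevF4.xMat K (⟨r, hr⟩ : Fin chevF4.nroots) t (Sum.inr u) (Sum.inr s) = if u = (⟨r, hr⟩ : Fin chevF4.nroots) then 1 else 0 := by
          simp only [ChevalleyDatum.xMat, Matrix.of_apply]
          rw [if_pos hsr']
        rw [this]
        rw [← hsr']
        simp [b2]
    · rw [if_neg hsr] at h1
      have hsr' : ¬ (s = (⟨r, hr⟩ : Fin chevF4.nroots)) := fun e => hsr (congrArg Fin.val e)
      by_cases hsn : s.val = chevF4.negIdx.getD r 0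
      · rw [if_pos hsn] at h1
        simp only [Bool.and_eq_true, beq_iff_eq, List.all_eq_true] at h1
        obtain ⟨h1, h2⟩ := h1
        have h1 := h1 (pos i) (List.mem_range.2 (pos_lt i))
        rw [pos_inr, h1, h2]
        rcases i with i | u
        · have : chevF4.xMat K (⟨r, hr⟩ : Fin chevF4.nroots) t (Sum.inl i) (Sum.inr s) =
              (((chevF4.coroot.getD r #[]).getD i.val 0 : ℤ) : K) * t := by
            simp only [ChevalleyDatum.xMat, Matrix.of_apply]
            rw [if_neg hsr', if_pos hsn]
          rw [this, pos_inl, int_cast_eq]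
          have hi : i.val < 4 := i.2
          have e : ¬ (4 + r = i.val) := by omega
          rw [if_pos hi, Nat.testBit_two_pow]
          rw [if_neg (by simp : ¬ ((Sum.inl i : chevF4.Idx) = Sum.inr s)), zero_add]
          by_cases hh : (chevF4.coroot.getD r #[]).getD i.val 0 % 2 = 0
          · rw [if_pos hh, decide_eq_true hh, decide_eq_false e]
            simp [b2]
          · rw [if_neg hh, decide_eq_false hh, decide_eq_false e]
            simp [b2]
        · have : chevF4.xMat K (⟨r, hr⟩ : Fin chevF4.nroots) t (Sum.inr u) (Sum.inr s) =
              if u = s then 1 else if u = (⟨r, hr⟩ : Fin chevF4.nroots) then -(t ^ 2) else 0 := by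
            simp only [ChevalleyDatum.xMat, Matrix.of_apply]
            rw [if_neg hsr', if_pos hsn]
          rw [this, pos_inr]
          have e : ¬ (4 + u.val < 4) := by omega
          by_cases hus : u = s
          · subst hus
            have e' : ¬ (r = u.val) := fun e => hsr e.symm
            simp [b2, Nat.testBit_two_pow, e']
          · by_cases hur : u = (⟨r, hr⟩ : Fin chevF4.nroots)
            · have e' : r = u.val := by rw [hur]
              rw [if_neg hus, if_pos hur]
              simp [b2, Nat.testBit_two_pow, e', hus, CharTwo.neg_eq]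
            · have e' : ¬ (r = u.val) := fun e => hur (Fin.ext e.symm)
              rw [if_neg hus, if_neg hur]
              simp [b2, Nat.testBit_two_pow, e', hus]
      · rw [if_neg hsn] at h1
        rcases i with i | u
        · have : chevF4.xMat K (⟨r, hr⟩ : Fin chevF4.nroots) t (Sum.inl i) (Sum.inr s) = 0 := by
            simp only [ChevalleyDatum.xMat, Matrix.of_apply]
            rw [if_neg hsr', if_neg hsn]
          rw [this, pos_inr, pos_inl]
          have hi : i.val < 4 := i.2
          have key : ∀ u : ℕ, Nat.testBit (2 ^ (4 + u)) i.val = false := by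
            intro u
            rw [Nat.testBit_two_pow]
            have : ¬ (4 + u = i.val) := by omega
            simp [this]
          have hx : (xc r (4 + s.val)).testBit i.val = false ∧ (yc r (4 + s.val)).testBit i.val = false := by
            revert h1
            generalize fl r s.val = L
            intro h
            match L, h with
            | [], h =>
              simp only [good, Bool.and_eq_true, beq_iff_eq] at h
              rw [h.1, h.2]
              exact ⟨Nat.zero_testBit _, Nat.zero_testBit _⟩
            | [(w, a)], h =>
              simp only [good] at h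
              revert h
              generalize a.toList = l
              intro h
              match l, h with
              | [(v, M)], h =>
                simp only [Bool.and_eq_true, beq_iff_eq] at h
                rw [h.1, h.2]
                refine ⟨?_, Nat.zero_testBit _⟩
                split_ifs
                · exact Nat.zero_testBit _
                · exact key _
              | [(v, M), (v', N)], h =>
                simp only [Bool.and_eq_true, beq_iff_eq] at h
                rw [h.1, h.2]
                constructor
                · split_ifs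
                  · exact Nat.zero_testBit _
                  · exact key _
                · split_ifs
                  · exact Nat.zero_testBit _
                  · exact key _
          rw [hx.1, hx.2]
          simp [b2]
        · have : chevF4.xMat K (⟨r, hr⟩ : Fin chevF4.nroots) t (Sum.inr u) (Sum.inr s) =
              (if u = s then 1 else 0) + ((chevF4.chainCoeff r s.val u.val).map fun km => ((km.2 : ℤ) : K) * t ^ km.1).sum := by
            simp only [ChevalleyDatum.xMat, Matrix.of_apply]
            rw [if_neg hsr', if_neg hsn]
          rw [this, chain_sum r s.val u.val _ _ u.2 h1, pos_inr, pos_inr]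
          have : ((Sum.inr u : chevF4.Idx) = Sum.inr s) ↔ u = s := by simp
          simp only [this, add_assoc]

/-- The coefficient matrices of a root element. -/
def Xm (K : Type*) [Field K] (r : ℕ) : Matrix chevF4.Idx chevF4.Idx K := toM K (XT.getD r [])
def Ym (K : Type*) [Field K] (r : ℕ) : Matrix chevF4.Idx chevF4.Idx K := toM K (YT.getD r [])

theorem x_eq {r : ℕ} (hr : r < 48) (t : K) : chevF4.x K r t = 1 + t • Xm K r + t ^ 2 • Ym K r := by
  ext i j
  rw [x_entry hr]
  simp only [Matrix.add_apply, Matrix.smul_apply, Matrix.one_apply, smul_eq_mul]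
  rfl

end Cfsg.Agent.ChevalleyStructure.F4Char2
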