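import Cfsg.Agent.ChevalleyStructure.CharTwoCheck
import Cfsg.Agent.ChevalleyStructure.Grading
import Cfsg.Prelude.Def_ChevF4
import Cfsg.Prelude.Def_ChevStructure

/-!
Root elements of type F₄ in characteristic 2: `x_r(t) = 1 + t E₁(r) + t² E₂(r)` with explicit sparse matrices over
`𝔽₂`, checked against the tables of `Def_ChevF4` by the kernel; word identities by the checker of `CharTwoCheck`;
`x_r(s) x_r(t) = x_r(s + t)`; `h_p(c)` for fundamental `p` is the diagonal matrix with entries `c^{A_{p,s}}`.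
-/

set_option autoImplicit false

namespace Cfsg.Agent.ChevalleyStructure.F4CharTwo

open Cfsg.Lie Cfsg.Agent.ChevalleyStructure.CharTwoCheck Cfsg.Agent.ChevalleyStructure.Grading

/-- The matrices `E₁(r)`, `E₂(r)` of type F₄ modulo 2, as lists of positions (row, column). -/
def tab : List (SMat × SMat) := [
  ([(4, 3), (5, 28), (6, 30), (7, 33), (8, 35), (9, 36), (11, 40), (12, 42), (13, 43), (15, 44), (19, 46), (20, 47), (22, 48), (25, 49), (27, 50), (0, 51), (2, 51)],
   [(4, 51)]),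
  ([(5, 2), (5, 3), (4, 27), (6, 29), (7, 32), (8, 34), (10, 36), (11, 39), (12, 41), (14, 43), (16, 44), (19, 45), (21, 47), (23, 48), (26, 49), (0, 50), (2, 50), (3, 50), (28, 51)],
   [(5, 50)]),
  ([(6, 2), (4, 25), (5, 26), (7, 31), (9, 34), (10, 35), (11, 38), (13, 41), (14, 42), (17, 44), (20, 45), (21, 46), (24, 48), (0, 49), (3, 49), (29, 50), (30, 51)],
   [(6, 49)]),
  ([(7, 0), (11, 37), (12, 38), (13, 39), (14, 40), (15, 41), (16, 42), (17, 43), (18, 44), (22, 45), (23, 46), (24, 47), (1, 48), (31, 49), (32, 50), (33, 51)],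
   [(4, 45), (5, 46), (6, 47), (7, 48), (8, 49), (9, 50), (10, 51)]),
  ([(8, 2), (4, 20), (5, 21), (7, 24), (9, 29), (10, 30), (12, 37), (15, 39), (16, 40), (18, 43), (25, 45), (26, 46), (0, 47), (1, 47), (3, 47), (31, 48), (34, 50), (35, 51)],
   [(8, 47)]),
  ([(9, 2), (9, 3), (4, 19), (6, 21), (7, 23), (8, 26), (10, 28), (13, 37), (15, 38), (17, 40), (18, 42), (27, 45), (0, 46), (1, 46), (2, 46), (3, 46), (29, 47), (32, 48), (34, 49), (36, 51)],
   [(9, 46)]),
  ([(10, 3), (5, 19), (6, 20), (7, 22), (8, 25), (9, 27), (14, 37), (16, 38), (17, 39), (18, 41), (0, 45), (1, 45), (2, 45), (28, 46), (30, 47), (33, 48), (35, 49), (36, 50)],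
   [(10, 45)]),
  ([(11, 0), (11, 1), (7, 18), (12, 31), (13, 32), (14, 33), (15, 34), (16, 35), (17, 36), (22, 41), (23, 42), (24, 43), (0, 44), (1, 44), (37, 48), (38, 49), (39, 50), (40, 51)],
   [(4, 34), (5, 35), (6, 36), (11, 44), (19, 49), (20, 50), (21, 51)]),
  ([(12, 1), (12, 2), (7, 17), (11, 24), (13, 29), (14, 30), (15, 32), (16, 33), (18, 36), (22, 39), (23, 40), (0, 43), (31, 44), (37, 47), (38, 48), (41, 50), (42, 51)],
   [(4, 29), (5, 30), (8, 36), (12, 43), (19, 47), (25, 50), (26, 51)]),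
  ([(13, 1), (13, 2), (13, 3), (7, 16), (11, 23), (12, 26), (14, 28), (15, 31), (17, 33), (18, 35), (22, 38), (24, 40), (0, 42), (32, 44), (37, 46), (39, 48), (41, 49), (43, 51)],
   [(4, 26), (6, 28), (9, 35), (13, 42), (20, 46), (27, 49), (29, 51)]),
  ([(14, 1), (14, 3), (7, 15), (11, 22), (12, 25), (13, 27), (16, 31), (17, 32), (18, 34), (23, 38), (24, 39), (0, 41), (33, 44), (37, 45), (40, 48), (42, 49), (43, 50)],
   [(5, 25), (6, 27), (10, 34), (14, 41), (21, 45), (28, 49), (30, 50)]),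
  ([(15, 0), (15, 1), (15, 3), (7, 14), (11, 21), (12, 23), (13, 24), (16, 28), (17, 30), (18, 33), (22, 37), (0, 40), (1, 40), (31, 42), (32, 43), (38, 46), (39, 47), (41, 48), (44, 51)],
   [(4, 21), (8, 28), (9, 30), (15, 40), (25, 46), (27, 47), (34, 51)]),
  ([(16, 0), (16, 1), (16, 2), (16, 3), (7, 13), (11, 20), (12, 22), (14, 24), (15, 27), (17, 29), (18, 32), (23, 37), (0, 39), (1, 39), (31, 41), (33, 43), (38, 45), (40, 47), (42, 48), (44, 50)],
   [(5, 20), (8, 27), (10, 29), (16, 39), (26, 45), (28, 47), (35, 50)]),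
  ([(17, 0), (17, 1), (17, 2), (7, 12), (11, 19), (13, 22), (14, 23), (15, 25), (16, 26), (18, 31), (24, 37), (0, 38), (1, 38), (32, 41), (33, 42), (39, 45), (40, 46), (43, 48), (44, 49)],
   [(6, 19), (9, 25), (10, 26), (17, 38), (29, 45), (30, 46), (36, 49)]),
  ([(18, 1), (7, 11), (12, 19), (13, 20), (14, 21), (15, 22), (16, 23), (17, 24), (0, 37), (31, 38), (32, 39), (33, 40), (41, 45), (42, 46), (43, 47), (44, 48)],
   [(8, 19), (9, 20), (10, 21), (18, 37), (34, 45), (35, 46), (36, 47)]),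
  ([(19, 2), (4, 9), (5, 10), (11, 17), (12, 18), (20, 29), (21, 30), (22, 32), (23, 33), (25, 34), (26, 35), (1, 36), (3, 36), (37, 43), (38, 44), (45, 50), (46, 51)],
   [(19, 36)]),
  ([(20, 2), (20, 3), (4, 8), (6, 10), (11, 16), (13, 18), (19, 26), (21, 28), (22, 31), (24, 33), (27, 34), (1, 35), (2, 35), (3, 35), (29, 36), (37, 42), (39, 44), (45, 49), (47, 51)],
   [(20, 35)]),
  ([(21, 3), (5, 8), (6, 9), (11, 15), (14, 18), (19, 25), (20, 27), (23, 31), (24, 32), (1, 34), (2, 34), (28, 35), (30, 36), (37, 41), (40, 44), (46, 49), (47, 50)],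
   [(21, 34)]),
  ([(22, 0), (22, 3), (7, 10), (11, 14), (12, 16), (13, 17), (15, 18), (23, 28), (24, 30), (1, 33), (31, 35), (32, 36), (37, 40), (38, 42), (39, 43), (41, 44), (48, 51)],
   [(4, 10), (19, 28), (20, 30), (22, 33), (25, 35), (27, 36), (45, 51)]),
  ([(23, 0), (23, 2), (23, 3), (7, 9), (11, 13), (12, 15), (14, 17), (16, 18), (22, 27), (24, 29), (1, 32), (31, 34), (33, 36), (37, 39), (38, 41), (40, 43), (42, 44), (48, 50)],
   [(5, 9), (19, 27), (21, 29), (23, 32), (26, 34), (28, 36), (46, 50)]),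
  ([(24, 0), (24, 2), (7, 8), (11, 12), (13, 15), (14, 16), (17, 18), (22, 25), (23, 26), (1, 31), (32, 34), (33, 35), (37, 38), (39, 41), (40, 42), (43, 44), (48, 49)],
   [(6, 8), (20, 25), (21, 26), (24, 31), (29, 34), (30, 35), (47, 49)]),
  ([(25, 2), (25, 3), (4, 6), (8, 10), (12, 14), (15, 17), (19, 21), (22, 24), (26, 28), (27, 29), (2, 30), (3, 30), (31, 33), (34, 36), (38, 40), (41, 43), (45, 47), (49, 51)],
   [(25, 30)]),
  ([(26, 3), (5, 6), (8, 9), (12, 13), (16, 17), (19, 20), (23, 24), (25, 27), (2, 29), (28, 30), (31, 32), (35, 36), (38, 39), (42, 43), (46, 47), (49, 50)],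
   [(26, 29)]),
  ([(27, 2), (4, 5), (9, 10), (13, 14), (15, 16), (20, 21), (22, 23), (25, 26), (3, 28), (29, 30), (32, 33), (34, 35), (39, 40), (41, 42), (45, 46), (50, 51)],
   [(27, 28)]),
  ([(28, 2), (5, 4), (10, 9), (14, 13), (16, 15), (21, 20), (23, 22), (26, 25), (3, 27), (30, 29), (33, 32), (35, 34), (40, 39), (42, 41), (46, 45), (51, 50)],
   [(28, 27)]),
  ([(29, 3), (6, 5), (9, 8), (13, 12), (17, 16), (20, 19), (24, 23), (27, 25), (2, 26), (30, 28), (32, 31), (36, 35), (39, 38), (43, 42), (47, 46), (50, 49)],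
   [(29, 26)]),
  ([(30, 2), (30, 3), (6, 4), (10, 8), (14, 12), (17, 15), (21, 19), (24, 22), (2, 25), (3, 25), (28, 26), (29, 27), (33, 31), (36, 34), (40, 38), (43, 41), (47, 45), (51, 49)],
   [(30, 25)]),
  ([(31, 0), (31, 2), (7, 6), (12, 11), (15, 13), (16, 14), (18, 17), (22, 20), (23, 21), (1, 24), (32, 29), (33, 30), (38, 37), (41, 39), (42, 40), (44, 43), (48, 47)],
   [(8, 6), (25, 20), (26, 21), (31, 24), (34, 29), (35, 30), (49, 47)]),
  ([(32, 0), (32, 2), (32, 3), (7, 5), (13, 11), (15, 12), (17, 14), (18, 16), (22, 19), (24, 21), (1, 23), (31, 26), (33, 28), (39, 37), (41, 38), (43, 40), (44, 42), (48, 46)],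
   [(9, 5), (27, 19), (29, 21), (32, 23), (34, 26), (36, 28), (50, 46)]),
  ([(33, 0), (33, 3), (7, 4), (14, 11), (16, 12), (17, 13), (18, 15), (23, 19), (24, 20), (1, 22), (31, 25), (32, 27), (40, 37), (42, 38), (43, 39), (44, 41), (48, 45)],
   [(10, 4), (28, 19), (30, 20), (33, 22), (35, 25), (36, 27), (51, 45)]),
  ([(34, 3), (8, 5), (9, 6), (15, 11), (18, 14), (25, 19), (27, 20), (1, 21), (2, 21), (31, 23), (32, 24), (35, 28), (36, 30), (41, 37), (44, 40), (49, 46), (50, 47)],
   [(34, 21)]),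
  ([(35, 2), (35, 3), (8, 4), (10, 6), (16, 11), (18, 13), (26, 19), (1, 20), (2, 20), (3, 20), (28, 21), (31, 22), (33, 24), (34, 27), (36, 29), (42, 37), (44, 39), (49, 45), (51, 47)],
   [(35, 20)]),
  ([(36, 2), (9, 4), (10, 5), (17, 11), (18, 12), (1, 19), (3, 19), (29, 20), (30, 21), (32, 22), (33, 23), (34, 25), (35, 26), (43, 37), (44, 38), (50, 45), (51, 46)],
   [(36, 19)]),
  ([(37, 1), (11, 7), (12, 8), (13, 9), (14, 10), (22, 15), (23, 16), (24, 17), (0, 18), (38, 31), (39, 32), (40, 33), (41, 34), (42, 35), (43, 36), (48, 44)],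
   [(19, 8), (20, 9), (21, 10), (37, 18), (45, 34), (46, 35), (47, 36)]),
  ([(38, 0), (38, 1), (38, 2), (11, 6), (12, 7), (15, 9), (16, 10), (22, 13), (23, 14), (0, 17), (1, 17), (31, 18), (37, 24), (39, 29), (40, 30), (41, 32), (42, 33), (44, 36), (48, 43)],
   [(19, 6), (25, 9), (26, 10), (38, 17), (45, 29), (46, 30), (49, 36)]),
  ([(39, 0), (39, 1), (39, 2), (39, 3), (11, 5), (13, 7), (15, 8), (17, 10), (22, 12), (24, 14), (0, 16), (1, 16), (32, 18), (37, 23), (38, 26), (40, 28), (41, 31), (43, 33), (44, 35), (48, 42)],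
   [(20, 5), (27, 8), (29, 10), (39, 16), (45, 26), (47, 28), (50, 35)]),
  ([(40, 0), (40, 1), (40, 3), (11, 4), (14, 7), (16, 8), (17, 9), (23, 12), (24, 13), (0, 15), (1, 15), (33, 18), (37, 22), (38, 25), (39, 27), (42, 31), (43, 32), (44, 34), (48, 41)],
   [(21, 4), (28, 8), (30, 9), (40, 15), (46, 25), (47, 27), (51, 34)]),
  ([(41, 1), (41, 3), (12, 5), (13, 6), (15, 7), (18, 10), (22, 11), (0, 14), (31, 16), (32, 17), (37, 21), (38, 23), (39, 24), (42, 28), (43, 30), (44, 33), (48, 40)],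
   [(25, 5), (27, 6), (34, 10), (41, 14), (45, 21), (49, 28), (50, 30)]),
  ([(42, 1), (42, 2), (42, 3), (12, 4), (14, 6), (16, 7), (18, 9), (23, 11), (0, 13), (31, 15), (33, 17), (37, 20), (38, 22), (40, 24), (41, 27), (43, 29), (44, 32), (48, 39)],
   [(26, 4), (28, 6), (35, 9), (42, 13), (46, 20), (49, 27), (51, 29)]),
  ([(43, 1), (43, 2), (13, 4), (14, 5), (17, 7), (18, 8), (24, 11), (0, 12), (32, 15), (33, 16), (37, 19), (39, 22), (40, 23), (41, 25), (42, 26), (44, 31), (48, 38)],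
   [(29, 4), (30, 5), (36, 8), (43, 12), (47, 19), (50, 25), (51, 26)]),
  ([(44, 0), (44, 1), (15, 4), (16, 5), (17, 6), (18, 7), (0, 11), (1, 11), (31, 12), (32, 13), (33, 14), (38, 19), (39, 20), (40, 21), (41, 22), (42, 23), (43, 24), (48, 37)],
   [(34, 4), (35, 5), (36, 6), (44, 11), (49, 19), (50, 20), (51, 21)]),
  ([(45, 3), (19, 5), (20, 6), (22, 7), (25, 8), (27, 9), (0, 10), (1, 10), (2, 10), (37, 14), (38, 16), (39, 17), (41, 18), (46, 28), (47, 30), (48, 33), (49, 35), (50, 36)],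
   [(45, 10)]),
  ([(46, 2), (46, 3), (19, 4), (21, 6), (23, 7), (26, 8), (0, 9), (1, 9), (2, 9), (3, 9), (28, 10), (37, 13), (38, 15), (40, 17), (42, 18), (45, 27), (47, 29), (48, 32), (49, 34), (51, 36)],
   [(46, 9)]),
  ([(47, 2), (20, 4), (21, 5), (24, 7), (0, 8), (1, 8), (3, 8), (29, 9), (30, 10), (37, 12), (39, 15), (40, 16), (43, 18), (45, 25), (46, 26), (48, 31), (50, 34), (51, 35)],
   [(47, 8)]),
  ([(48, 0), (22, 4), (23, 5), (24, 6), (1, 7), (31, 8), (32, 9), (33, 10), (37, 11), (38, 12), (39, 13), (40, 14), (41, 15), (42, 16), (43, 17), (44, 18)],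
   [(45, 4), (46, 5), (47, 6), (48, 7), (49, 8), (50, 9), (51, 10)]),
  ([(49, 2), (25, 4), (26, 5), (0, 6), (3, 6), (31, 7), (34, 9), (35, 10), (38, 11), (41, 13), (42, 14), (44, 17), (45, 20), (46, 21), (48, 24), (50, 29), (51, 30)],
   [(49, 6)]),
  ([(50, 2), (50, 3), (27, 4), (0, 5), (2, 5), (3, 5), (29, 6), (32, 7), (34, 8), (36, 10), (39, 11), (41, 12), (43, 14), (44, 16), (45, 19), (47, 21), (48, 23), (49, 26), (51, 28)],
   [(50, 5)]),
  ([(51, 3), (0, 4), (2, 4), (28, 5), (30, 6), (33, 7), (35, 8), (36, 9), (40, 11), (42, 12), (43, 13), (44, 15), (46, 19), (47, 20), (48, 22), (49, 25), (50, 27)],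
   [(51, 4)])]

/-- Lookup. -/
def E (r : ℕ) : SMat × SMat := tab.getD r ([], [])

set_option maxRecDepth 100000 in
theorem check1 : ((List.range 24).all fun r => checkE chevF4 r (E r).1 (E r).2) = true := by decide +kernel

set_option maxRecDepth 100000 in
theorem check2 : ((List.range 24).all fun r => checkE chevF4 (r + 24) (E (r + 24)).1 (E (r + 24)).2) = true := by
  decide +kernel

theorem check_all (r : ℕ) (hr : r < 48) : checkE chevF4 r (E r).1 (E r).2 = true := by
  by_cases h : r < 24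
  · have := check1
    rw [List.all_eq_true] at this
    exact this r (List.mem_range.mpr h)
  · have := check2
    rw [List.all_eq_true] at this
    have h2 := this (r - 24) (List.mem_range.mpr (by omega))
    have h3 : r - 24 + 24 = r := by omega
    rw [h3] at h2
    exact h2

set_option maxRecDepth 100000 in
theorem bound1 : (tab.all fun e => e.1.all (fun kj => Nat.blt kj.1 52) && e.2.all (fun kj => Nat.blt kj.1 52)) = true := by
  decide +kernel

theorem bound (r : ℕ) : (∀ kj ∈ (E r).1, kj.1 < 52) ∧ (∀ kj ∈ (E r).2, kj.1 < 52) := by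
  by_cases hr : r < tab.length
  · have h1 := bound1
    rw [List.all_eq_true] at h1
    have h2 : E r ∈ tab := by
      show tab.getD r ([], []) ∈ tab
      rw [List.getD_eq_getElem _ _ hr]
      exact List.getElem_mem hr
    have h3 := h1 _ h2
    rw [Bool.and_eq_true, List.all_eq_true, List.all_eq_true] at h3
    exact ⟨fun kj hkj => Nat.blt_eq.mp (h3.1 kj hkj), fun kj hkj => Nat.blt_eq.mp (h3.2 kj hkj)⟩
  · have h2 : E r = ([], []) := by
      show tab.getD r ([], []) = _
      exact List.getD_eq_default _ _ (not_lt.mp hr)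
    rw [h2]
    exact ⟨fun kj hkj => absurd hkj (List.not_mem_nil), fun kj hkj => absurd hkj (List.not_mem_nil)⟩

section field

variable {K : Type*} [Field K] [CharP K 2]

theorem x_eq (r : ℕ) (hr : r < 48) (t : K) :
    chevF4.x K r t = 1 + t • sMat K (pos chevF4) (E r).1 + t ^ 2 • sMat K (pos chevF4) (E r).2 :=
  x_eq_of_checkE chevF4 r hr _ _ (check_all r hr) t

/-- The reflective checker for word identities of type F₄ in characteristic 2 (general evaluation). -/
theorem word_eq (mm : Mono → Mono → Mono) (f : Mono → K) (hf : f (0, 0, 0) = 1)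
    (hmm : ∀ a b, f (mm a b) = f a * f b) (l l' : List (ℕ × Mono)) (hl : ∀ a ∈ l, a.1 < 48)
    (hl' : ∀ a ∈ l', a.1 < 48) (h : check 64 52 mm E l l' = true) :
    chevF4.wordMat K (l.map fun a => (a.1, f a.2)) = chevF4.wordMat K (l'.map fun a => (a.1, f a.2)) :=
  word_eq_of_check chevF4 64 48 (by decide) E x_eq bound mm f hf hmm l l' hl hl' h

/-- Word identities with monomials in three free variables. -/
theorem word_eqN (l l' : List (ℕ × Mono)) (h : check 64 52 mulN E l l' = true) (hl : ∀ a ∈ l, a.1 < 48)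
    (hl' : ∀ a ∈ l', a.1 < 48) (x y z : K) :
    chevF4.wordMat K (l.map fun a => (a.1, mval x y z a.2)) =
      chevF4.wordMat K (l'.map fun a => (a.1, mval x y z a.2)) :=
  word_eq mulN (mval x y z) (mval_zero x y z) (mulN_val x y z) l l' hl hl' h

/-- Word identities with monomials in three variables `x, y, z` with `x y = 1`. -/
theorem word_eqL (l l' : List (ℕ × Mono)) (h : check 64 52 mulL E l l' = true) (hl : ∀ a ∈ l, a.1 < 48)
    (hl' : ∀ a ∈ l', a.1 < 48) (x y z : K) (hxy : x * y = 1) :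
    chevF4.wordMat K (l.map fun a => (a.1, mval x y z a.2)) =
      chevF4.wordMat K (l'.map fun a => (a.1, mval x y z a.2)) :=
  word_eq mulL (mval x y z) (mval_zero x y z) (mulL_val x y z hxy) l l' hl hl' h

set_option maxRecDepth 100000 in
theorem add_check : ((List.range 48).all fun r => checkAdd 64 52 E r) = true := by decide +kernel

/-- Additivity of root elements. -/
theorem x_add (r : ℕ) (hr : r < 48) (s t : K) : chevF4.x K r s * chevF4.x K r t = chevF4.x K r (s + t) := by
  have := add_check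
  rw [List.all_eq_true] at this
  exact x_add_of_check chevF4 64 48 (by decide) E x_eq bound r hr (this r (List.mem_range.mpr hr)) s t

theorem x_zero (r : ℕ) (hr : r < 48) : chevF4.x K r 0 = 1 := by
  rw [x_eq r hr, zero_smul, zero_pow two_ne_zero, zero_smul, add_zero, add_zero]

set_option maxRecDepth 100000 in
theorem h_check : ((List.range 4).all fun i =>
    checkDiag 64 52 E (hl (chevF4.simple i) (chevF4.neg (chevF4.simple i))) (hexp chevF4 (chevF4.cartan i))) = true := by
  decide +kernel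

set_option maxRecDepth 100000 in
theorem simple_lt : ((List.range 4).all fun i => Nat.blt (chevF4.simple i) 48 &&
    Nat.blt (chevF4.neg (chevF4.simple i)) 48) = true := by decide +kernel

/-- `h_p(c)` (p fundamental) is the diagonal matrix with entries `c^{A_{p,s}}`. -/
theorem hMat_eq (i : ℕ) (hi : i < 4) (c : K) (hc : c ≠ 0) :
    chevF4.hMat K (chevF4.simple i) c = gradeMat chevF4 K (chevF4.cartan i) c := by
  have h1 := h_check
  rw [List.all_eq_true] at h1
  have h2 := h1 i (List.mem_range.mpr hi)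
  have h3 := simple_lt
  rw [List.all_eq_true] at h3
  have h4 := h3 i (List.mem_range.mpr hi)
  rw [Bool.and_eq_true, Nat.blt_eq, Nat.blt_eq] at h4
  exact hMat_of_check chevF4 64 48 (by decide) E x_eq bound (chevF4.cartan i) _ h4.1 h4.2 h2 c hc

set_option maxRecDepth 100000 in
theorem grade_check : ((List.range 4).all fun i => (List.range 48).all fun r =>
    gradeCheck chevF4 (chevF4.cartan i) r) = true := by decide +kernel

/-- `h_p(c) x_s(t) = x_s(c^{A_{p,s}} t) h_p(c)` (p fundamental). -/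
theorem hMat_mul_x (i : ℕ) (hi : i < 4) (s : ℕ) (hs : s < 48) (c : K) (hc : c ≠ 0) (t : K) :
    chevF4.hMat K (chevF4.simple i) c * chevF4.x K s t =
      chevF4.x K s (c ^ (chevF4.cartan i s) * t) * chevF4.hMat K (chevF4.simple i) c := by
  rw [hMat_eq i hi c hc]
  have h1 := grade_check
  rw [List.all_eq_true] at h1
  have h2 := h1 i (List.mem_range.mpr hi)
  rw [List.all_eq_true] at h2
  exact gradeMat_mul_x chevF4 (chevF4.cartan i) c hc s hs (h2 s (List.mem_range.mpr hs)) t

end field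

end Cfsg.Agent.ChevalleyStructure.F4CharTwo
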