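import Cfsg.Agent.ChevalleyStructure.SparseWordEq
import Cfsg.Agent.ChevalleyStructure.HDiagF4
import Cfsg.Agent.ChevalleyStructure.Elts
import Cfsg.Agent.ChevalleyStructure.Triangular
import Cfsg.Agent.ChevalleyStructure.CoreTrivial
import Cfsg.Prelude.Def_LieTwisted

/-!
# Tables for the normal core of the Borel subgroup in `²F₄`: the longest element over `F₂`, connectivity

`L0` is the word (constant parameters) of the element `w₀ = (n₁ n₂)⁴` of `²F₄(2)`.
-/

set_option autoImplicit false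

namespace Cfsg.Agent.ChevalleyStructure.F4Core

open Cfsg.Lie Cfsg.Lie.ChevalleyDatum Cfsg.Agent.ChevalleyStructure.Sparse
  Cfsg.Agent.ChevalleyStructure.SparseHDiag Cfsg.Agent.ChevalleyStructure.FixTables
  Cfsg.Agent.ChevalleyStructure.SparseWordEq Cfsg.Agent.ChevalleyStructure.CoreTrivial

noncomputable section

/-- a constant letter -/
abbrev lt (r : ℕ) (c : ℤ) : Letter ℕ := ⟨r, 0, c⟩

def lX1 : List (Letter ℕ) := [lt f4p1 1, lt f4p4 1]
def lY1 : List (Letter ℕ) := [lt f4m1 1, lt f4m4 1]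
/-- `b2ClassWord` for `(t, u) ∈ {0,1}²` in characteristic 2 -/
def lX2 (t u s : ℤ) : List (Letter ℕ) := [lt f4a t, lt f4b t, lt f4ab s, lt f4aab u]
def lY2 (t u s : ℤ) : List (Letter ℕ) := [lt f4ma t, lt f4mb t, lt f4mab s, lt f4maab u]

def lN1 : List (Letter ℕ) := lX1 ++ (lY1 ++ lX1)
def lN2 : List (Letter ℕ) := lX2 0 1 1 ++ (lY2 1 1 0 ++ lX2 1 0 1)
def lN : List (Letter ℕ) := lN1 ++ lN2
def l0 : List (Letter ℕ) := lN ++ (lN ++ (lN ++ lN))

/-- number of the opposite basis vector -/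
def oppN (j : ℕ) : ℕ := bif Nat.blt j 4 then j else Nat.sub 55 j

/-- the list is the single constant term `e_j` -/
def isE (j : ℕ) (l : List (Term ℕ)) : Bool :=
  List.rec false (fun y l _ => List.rec (Nat.beq y.j j && (Nat.beq y.a 0 && ieq y.c 1)) (fun _ _ _ => false) l) l

theorem isE_eq {j : ℕ} {l : List (Term ℕ)} (h : isE j l = true) : l = [⟨j, 0, 1⟩] := by
  rcases l with _ | ⟨y, _ | ⟨z, l⟩⟩
  · simp [isE] at h
  · have h' : (Nat.beq y.j j && (Nat.beq y.a 0 && ieq y.c 1)) = true := h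
    rw [Bool.and_eq_true, Bool.and_eq_true] at h'
    have h1 := Nat.eq_of_beq_eq_true h'.1
    have h2 := Nat.eq_of_beq_eq_true h'.2.1
    have h3 := ieq_eq h'.2.2
    cases y
    simp only at h1 h2 h3
    rw [h1, h2, h3]
  · simp [isE] at h

theorem w0_check : allRange (fun j => isE (oppN j) (actWord chevF4 (opsP 2) l0 [⟨j, 0, 1⟩])) 0 52 = true := by
  decide +kernel

theorem good_letters : goodLetters chevF4 l0 = true := by decide +kernel

/-- the entry `(i, j)` of the word is `1` -/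
def entryOne (w : List (Letter ℕ)) (i j : ℕ) : Bool :=
  isE i (filterMapT (fun n => Nat.beq n i) (fun n => n) (actWord chevF4 (opsP 2) w [⟨j, 0, 1⟩]))

def diagOne (w : List (Letter ℕ)) : Bool := allRange (fun j => entryOne w j j) 0 52

theorem diag_X1 : diagOne lX1 = true := by decide +kernel
theorem diag_Y1 : diagOne lY1 = true := by decide +kernel
theorem diag_X2 : diagOne (lX2 1 0 1) = true := by decide +kernel
theorem diag_X2' : diagOne (lX2 0 1 1) = true := by decide +kernel
theorem diag_Y2 : diagOne (lY2 1 0 1) = true := by decide +kernel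
theorem diag_Y2' : diagOne (lY2 0 1 1) = true := by decide +kernel

/-- links `(word, i, j)` -/
def links : List (List (Letter ℕ) × ℕ × ℕ) :=
  let a := lX1
  let b := lY1
  let c := lX2 1 0 1
  let d := lX2 0 1 1
  let e := lY2 1 0 1
  let f := lY2 0 1 1
  [(c, 31, 0), (c, 32, 0), (e, 23, 0), (e, 24, 0), (a, 37, 1), (b, 18, 1), (a, 28, 2), (b, 27, 2), (c, 29, 3),
   (c, 34, 3), (e, 21, 3), (e, 26, 3), (a, 38, 31), (a, 33, 32), (a, 39, 32), (a, 40, 32), (b, 15, 23), (b, 16, 23),
   (b, 22, 23), (b, 17, 24), (c, 41, 37), (e, 14, 18), (c, 30, 28), (c, 35, 28), (c, 36, 28), (e, 19, 27),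
   (e, 20, 27), (e, 25, 27), (a, 42, 34), (a, 45, 34), (a, 46, 34), (b, 9, 21), (b, 10, 21), (b, 13, 21),
   (c, 43, 40), (c, 44, 40), (e, 11, 15), (e, 12, 15), (a, 47, 36), (b, 8, 19), (c, 49, 46), (c, 50, 46),
   (d, 48, 46), (e, 5, 9), (e, 6, 9), (f, 7, 9), (a, 51, 50), (b, 4, 5)]

def memN (j : ℕ) (l : List ℕ) : Bool := List.rec false (fun k _ ih => bif Nat.beq j k then true else ih) l

theorem memN_spec {j : ℕ} {l : List ℕ} (h : memN j l = true) : j ∈ l := by
  induction l with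
  | nil => exact Bool.noConfusion h
  | cons k l ih =>
    have h' : (bif Nat.beq j k then true else memN j l) = true := h
    cases h1 : Nat.beq j k
    · rw [h1, cond_false] at h'
      exact List.mem_cons_of_mem _ (ih h')
    · rw [Nat.eq_of_beq_eq_true h1]
      exact List.mem_cons_self

/-- all links start in known vertices; every vertex is reached -/
def reachOK : List (List (Letter ℕ) × ℕ × ℕ) → List ℕ → Bool
  | [], known => allRange (fun j => memN j known) 0 52
  | l :: ls, known => bif memN l.2.2 known then bif Nat.blt l.2.1 52 then bif Nat.blt l.2.2 52 then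
      bif entryOne l.1 l.2.1 l.2.2 then reachOK ls (l.2.1 :: known) else false else false else false else false

theorem reach_check : reachOK links [0, 1, 2, 3] = true := by decide +kernel

/-! ### Soundness -/

variable {K : Type*} [Field K]

theorem exists_idx {j : ℕ} (hj : j < 52) : ∃ u : chevF4.Idx, idxNat chevF4 u = j := by
  by_cases h : j < 4
  · exact ⟨Sum.inl ⟨j, h⟩, rfl⟩
  · refine ⟨Sum.inr ⟨j - 4, ?_⟩, ?_⟩
    · show j - 4 < 48
      omega
    · show 4 + (j - 4) = j
      omega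

theorem word_apply (h2 : ((2 : ℤ) : K) = 0) {w : List (Letter ℕ)} (hw : ∀ L ∈ w, goodRow chevF4 L.r)
    (i j : chevF4.Idx) :
    chevF4.wordMat K (toWord (evP h2 (1 : K)) w) i j =
      evalV (evP h2 (1 : K)) (actWord chevF4 (opsP 2) w [⟨idxNat chevF4 j, 0, 1⟩]) (idxNat chevF4 i) := by
  have h := actWord_sound chevF4 (evP h2 (1 : K)) w hw [⟨idxNat chevF4 j, 0, 1⟩]
  rw [vec_single] at h
  have e1 : (((1 : ℤ) : K)) * (evP h2 (1 : K)).ev 0 = 1 := by
    show ((1 : ℤ) : K) * 1 ^ 0 = 1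
    simp
  rw [e1, Matrix.mulVec_single_one] at h
  exact congrFun h i

theorem entryOne_spec (h2 : ((2 : ℤ) : K) = 0) {w : List (Letter ℕ)} (hw : ∀ L ∈ w, goodRow chevF4 L.r)
    {i j : chevF4.Idx} (h : entryOne w (idxNat chevF4 i) (idxNat chevF4 j) = true) :
    chevF4.wordMat K (toWord (evP h2 (1 : K)) w) i j = 1 := by
  rw [word_apply h2 hw]
  have h1 := isE_eq h
  have h3 := filterMapT_sound (evP h2 (1 : K)) (fun n => Nat.beq n (idxNat chevF4 i)) (fun n => n)
    (fun _ _ h => h) (actWord chevF4 (opsP 2) w [⟨idxNat chevF4 j, 0, 1⟩]) (idxNat chevF4 i) (Nat.beq_refl _)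
  rw [h1] at h3
  rw [← h3, evalV_cons, evalV_nil, evalTerm, if_pos rfl]
  show ((1 : ℤ) : K) * 1 ^ 0 + 0 = 1
  simp

theorem diagOne_spec (h2 : ((2 : ℤ) : K) = 0) {w : List (Letter ℕ)} (hw : ∀ L ∈ w, goodRow chevF4 L.r)
    (h : diagOne w = true) (i : chevF4.Idx) :
    chevF4.wordMat K (toWord (evP h2 (1 : K)) w) i i = 1 := by
  apply entryOne_spec h2 hw
  exact allRange_spec h (idxNat chevF4 i) (Nat.zero_le _) (by
    have := idxNat_lt chevF4 i
    show _ < 0 + 52
    have : chevF4.rank + chevF4.nroots = 52 := rfl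
    omega)

theorem good_of_mem {w : List (Letter ℕ)} (h : goodLetters chevF4 w = true) : ∀ L ∈ w, goodRow chevF4 L.r :=
  goodLetters_spec h

end

end Cfsg.Agent.ChevalleyStructure.F4Core
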