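import Cfsg.Agent.ChevalleyStructure.SparseWordEq
import Cfsg.Agent.ChevalleyStructure.Elts
import Cfsg.Prelude.Def_LieTwisted

/-!
# The sigma-fixed condition for `²F₄(2^(2m+1))`

In characteristic 2 the short root vectors together with `h₁`, `h₂` span an ideal `I` (dimension 26) of the Lie
algebra of type F₄. `S : chevF4.Idx → Bool` is its indicator, `bar : chevF4.Idx → chevF4.Idx` the relabelling
(`h₁ ↔ h₄`, `h₂ ↔ h₃`, `e_r ↔ e_{bar r}`). Every `g` of `twistedF4 K (2^m)`, `|K| = 2^(2m+1)`, satisfies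
`g i j = 0` for `i ∉ I`, `j ∈ I`, and `g i j = (g (bar i) (bar j)) ^ (2^m)` for `i, j ∈ I`.
-/

set_option autoImplicit false

namespace Cfsg.Agent.ChevalleyStructure.F4Fixed

open Cfsg.Lie Cfsg.Lie.ChevalleyDatum Cfsg.Agent.ChevalleyStructure.Sparse
  Cfsg.Agent.ChevalleyStructure.SparseHDiag Cfsg.Agent.ChevalleyStructure.IdealFix
  Cfsg.Agent.ChevalleyStructure.FixTables Cfsg.Agent.ChevalleyStructure.SparseWordEq

noncomputable section

/-- relabelling of the numbers of the basis vectors (packed table) -/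
def barF4 (n : ℕ) : ℕ :=
  bif Nat.blt n 52 then Nat.mod (Nat.shiftRight 31844741249842801334193490767427034235753712166042034020880514545392827101565813845903597715997794816233769106544753566089731 (Nat.mul 8 n)) 256 else n

/-- indicator of the ideal (bit mask) -/
def sF4 (n : ℕ) : Bool := Nat.beq (Nat.mod (Nat.shiftRight 316536972114051 n) 2) 1

def T4 : FixData := ⟨chevF4, 2, sF4, barF4⟩

theorem bar_check : allRange (fun n => Nat.beq (barF4 (barF4 n)) n && (Nat.blt (barF4 n) 52 &&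
    (Bool.xor (sF4 (barF4 n)) (sF4 n) && (bif Nat.blt n 4 then Nat.blt (barF4 n) 4 else Nat.ble 4 (barF4 n))))) 0 52
      = true := by decide +kernel

theorem bar_facts {n : ℕ} (hn : n < 52) : barF4 (barF4 n) = n ∧ barF4 n < 52 ∧ sF4 (barF4 n) = !(sF4 n) ∧
    (n < 4 → barF4 n < 4) ∧ (4 ≤ n → 4 ≤ barF4 n) := by
  have h := allRange_spec bar_check n (Nat.zero_le _) (by omega)
  simp only [Bool.and_eq_true] at h
  obtain ⟨h1, h2, h3, h4⟩ := h
  refine ⟨Nat.eq_of_beq_eq_true h1, by simpa using h2, ?_, ?_, ?_⟩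
  · cases h5 : sF4 (barF4 n) <;> cases h6 : sF4 n <;> rw [h5, h6] at h3 <;> first | rfl | exact Bool.noConfusion h3
  · intro h5
    have : Nat.blt n 4 = true := by simpa using h5
    rw [this, cond_true] at h4
    simpa using h4
  · intro h5
    have : Nat.blt n 4 = false := by rw [Bool.eq_false_iff]; simpa using h5
    rw [this, cond_false] at h4
    exact Nat.le_of_ble_eq_true h4

theorem bar_out {n : ℕ} (hn : ¬ n < 52) : barF4 n = n := by
  unfold barF4
  have : Nat.blt n 52 = false := by rw [Bool.eq_false_iff]; simpa using hn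
  rw [this, cond_false]

theorem root_check_a : allRange (fun r => rootCheck T4 r) 0 12 = true := by decide +kernel
theorem root_check_b : allRange (fun r => rootCheck T4 r) 12 12 = true := by decide +kernel
theorem root_check_c : allRange (fun r => rootCheck T4 r) 24 12 = true := by decide +kernel
theorem root_check_d : allRange (fun r => rootCheck T4 r) 36 12 = true := by decide +kernel

theorem root_check {r : ℕ} (hr : r < 48) : rootCheck T4 r = true := by
  rcases lt_or_ge r 12 with h | h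
  · exact allRange_spec root_check_a r (Nat.zero_le _) (by omega)
  rcases lt_or_ge r 24 with h | h
  · exact allRange_spec root_check_b r (by omega) (by omega)
  rcases lt_or_ge r 36 with h | h
  · exact allRange_spec root_check_c r (by omega) (by omega)
  · exact allRange_spec root_check_d r (by omega) (by omega)

theorem ok : Ok T4 where
  barN_barN n := by
    show barF4 (barF4 n) = n
    by_cases hn : n < 52
    · exact (bar_facts hn).1
    · rw [bar_out hn, bar_out hn]
  barN_rank n hn := by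
    have hn' : n < 4 := hn
    exact (bar_facts (by omega)).2.2.2.1 hn'
  barN_roots r hr := by
    have hr' : r < 48 := hr
    have h := bar_facts (n := 4 + r) (by omega)
    exact ⟨h.2.2.2.2 (by omega), h.2.1⟩
  SN_barN n hn := by
    have hn' : n < 4 + 48 := hn
    exact (bar_facts (by omega)).2.2.1
  root r hr := root_check hr

/-- indicator of the ideal `I` spanned by `h₁, h₂` and the short root vectors -/
abbrev S : chevF4.Idx → Bool := FixTables.S T4

/-- the relabelling -/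
abbrev bar : chevF4.Idx → chevF4.Idx := FixTables.bar ok

theorem bar_bar (i : chevF4.Idx) : bar (bar i) = i := FixTables.bar_bar ok i
theorem S_bar (i : chevF4.Idx) : S (bar i) = !(S i) := FixTables.S_bar ok i

/-! ### Word identities -/

def commL (r q : ℕ) : List (Letter (ℕ × ℕ)) := [⟨r, (1, 0), 1⟩, ⟨q, (0, 1), 1⟩]
def commR (r q : ℕ) : List (Letter (ℕ × ℕ)) := [⟨q, (0, 1), 1⟩, ⟨r, (1, 0), 1⟩]
def b2L (a b ab : ℕ) : List (Letter (ℕ × ℕ)) := [⟨a, (1, 0), 1⟩, ⟨b, (0, 1), 1⟩, ⟨ab, (1, 1), 1⟩]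
def b2R (a b aab : ℕ) : List (Letter (ℕ × ℕ)) := [⟨b, (0, 1), 1⟩, ⟨a, (1, 0), 1⟩, ⟨aab, (2, 1), 1⟩]

theorem check_pair : wordEqCheck chevF4 (opsNN 2) (0, 0) (commL f4p1 f4p4) (commR f4p1 f4p4) = true := by
  decide +kernel
theorem check_pair' : wordEqCheck chevF4 (opsNN 2) (0, 0) (commL f4m1 f4m4) (commR f4m1 f4m4) = true := by
  decide +kernel
theorem check_ab : wordEqCheck chevF4 (opsNN 2) (0, 0) (commL f4ab f4aab) (commR f4ab f4aab) = true := by
  decide +kernel
theorem check_ab' : wordEqCheck chevF4 (opsNN 2) (0, 0) (commL f4mab f4maab) (commR f4mab f4maab) = true := by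
  decide +kernel
theorem check_b2 : wordEqCheck chevF4 (opsNN 2) (0, 0) (b2L f4a f4b f4ab) (b2R f4a f4b f4aab) = true := by
  decide +kernel
theorem check_b2' : wordEqCheck chevF4 (opsNN 2) (0, 0) (b2L f4ma f4mb f4mab) (b2R f4ma f4mb f4maab) = true := by
  decide +kernel

variable {K : Type*} [Field K]

theorem comm_of_check {r q : ℕ} (h : wordEqCheck chevF4 (opsNN 2) (0, 0) (commL r q) (commR r q) = true)
    (h2 : ((2 : ℤ) : K) = 0) (s t : K) :
    chevF4.x K r s * chevF4.x K q t = chevF4.x K q t * chevF4.x K r s := by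
  have := wordMat_eq_of_check h (evNN h2 s t) (evNN_zero h2 s t)
  simpa [toWord, commL, commR, evNN, ChevalleyDatum.wordMat] using this

theorem b2_of_check {a b ab aab : ℕ}
    (h : wordEqCheck chevF4 (opsNN 2) (0, 0) (b2L a b ab) (b2R a b aab) = true)
    (h2 : ((2 : ℤ) : K) = 0) (s t : K) :
    chevF4.x K a s * (chevF4.x K b t * chevF4.x K ab (s * t)) =
      chevF4.x K b t * (chevF4.x K a s * chevF4.x K aab (s ^ 2 * t)) := by
  have := wordMat_eq_of_check h (evNN h2 s t) (evNN_zero h2 s t)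
  simpa [toWord, b2L, b2R, evNN, ChevalleyDatum.wordMat] using this

theorem rb_vals : T4.rb f4p1 = f4p4 ∧ T4.rb f4p4 = f4p1 ∧ T4.rb f4m1 = f4m4 ∧ T4.rb f4m4 = f4m1 ∧
    T4.rb f4a = f4b ∧ T4.rb f4b = f4a ∧ T4.rb f4ab = f4aab ∧ T4.rb f4aab = f4ab ∧
    T4.rb f4ma = f4mb ∧ T4.rb f4mb = f4ma ∧ T4.rb f4mab = f4maab ∧ T4.rb f4maab = f4mab := by decide +kernel

theorem mu_vals : T4.mu f4p1 = 1 ∧ T4.mu f4p4 = 2 ∧ T4.mu f4m1 = 1 ∧ T4.mu f4m4 = 2 ∧
    T4.mu f4a = 1 ∧ T4.mu f4b = 2 ∧ T4.mu f4ab = 1 ∧ T4.mu f4aab = 2 ∧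
    T4.mu f4ma = 1 ∧ T4.mu f4mb = 2 ∧ T4.mu f4mab = 1 ∧ T4.mu f4maab = 2 := by decide +kernel

theorem inList : Cfsg.Agent.ChevalleyStructure.Elts.InList chevF4 := by
  simp [Cfsg.Agent.ChevalleyStructure.Elts.InList]

/-! ### The fields -/

section field

variable [Fintype K] {m : ℕ} (hK : Fintype.card K = 2 ^ (2 * m + 1))

include hK

theorem charP_two : CharP K 2 := by
  have h1 : ((Fintype.card K : ℕ) : K) = 0 := FiniteField.cast_card_eq_zero K
  rw [hK] at h1
  push_cast at h1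
  have h2 : (2 : K) = 0 := pow_eq_zero_iff (by omega) |>.1 h1
  exact CharTwo.of_one_ne_zero_of_two_eq_zero one_ne_zero h2

theorem two_eq_zero : ((2 : ℤ) : K) = 0 := by
  have := charP_two hK
  have h : (2 : K) = 0 := CharTwo.two_eq_zero
  push_cast
  exact h

theorem theta_theta (t : K) : ((t ^ 2 ^ m) ^ 2 ^ m) ^ 2 = t := by
  rw [← pow_mul, ← pow_mul]
  have h : 2 ^ m * (2 ^ m * 2) = Fintype.card K := by
    rw [hK]; ring
  rw [h, FiniteField.pow_card]

omit hK in
theorem theta_theta' (hK : Fintype.card K = 2 ^ (2 * m + 1)) (t : K) : (t ^ (2 * 2 ^ m)) ^ 2 ^ m = t := by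
  have h := theta_theta hK t
  rw [← pow_mul] at h ⊢
  rw [← pow_mul] at h
  rw [show 2 * 2 ^ m * 2 ^ m = 2 ^ m * (2 ^ m * 2) by ring]
  exact h

/-- the ring homomorphism `t ↦ t ^ (2 ^ m)` -/
def theta : K →+* K :=
  haveI := charP_two hK
  iterateFrobenius K 2 m

theorem theta_apply (t : K) : theta hK t = t ^ 2 ^ m := by
  have := charP_two hK
  exact iterateFrobenius_def 2 m t

theorem add_pow_theta (s t : K) : (s + t) ^ 2 ^ m = s ^ 2 ^ m + t ^ 2 ^ m := by
  rw [← theta_apply hK, map_add, theta_apply, theta_apply]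

theorem add_sq_two (s t : K) : (s + t) ^ 2 = s ^ 2 + t ^ 2 := by
  have := charP_two hK
  exact CharTwo.add_sq s t

/-- the subgroup of the elements satisfying the sigma-fixed condition -/
def fixF4 : Subgroup (GL chevF4.Idx K) := fixSub S bar bar_bar S_bar (theta hK)

theorem mem_fixF4 {g : GL chevF4.Idx K} : g ∈ fixF4 hK ↔
    (∀ i j, S i = false → S j = true → (g : Matrix chevF4.Idx chevF4.Idx K) i j = 0) ∧
      ∀ i j, S i = true → S j = true → (g : Matrix chevF4.Idx chevF4.Idx K) i j =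
        ((g : Matrix chevF4.Idx chevF4.Idx K) (bar i) (bar j)) ^ 2 ^ m := by
  unfold fixF4
  rw [mem_fixSub]
  simp only [theta_apply]

theorem pair_fixed {r q : ℕ} (h1 : T4.rb r = q) (h2 : T4.rb q = r) (h3 : T4.mu r = 1) (h4 : T4.mu q = 2)
    (hc : wordEqCheck chevF4 (opsNN 2) (0, 0) (commL r q) (commR r q) = true) (t : K) :
    chevF4.wordMat K (sigWord T4 (theta hK) (f4PairWord (2 ^ m) r q t)) =
      chevF4.wordMat K (f4PairWord (2 ^ m) r q t) := by
  have e1 : sigWord T4 (theta hK) (f4PairWord (2 ^ m) r q t) = [(q, t), (r, t ^ 2 ^ m)] := by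
    unfold sigWord f4PairWord
    simp only [List.map_cons, List.map_nil, theta_apply, h1, h2, h3, h4, theta_theta hK, pow_one]
  rw [e1]
  have := comm_of_check hc (two_eq_zero hK) (t ^ 2 ^ m) t
  simpa [ChevalleyDatum.wordMat, f4PairWord] using this.symm

theorem b2_fixed {a b ab aab : ℕ} (h1 : T4.rb a = b) (h2 : T4.rb b = a) (h3 : T4.rb ab = aab)
    (h4 : T4.rb aab = ab) (h5 : T4.mu a = 1) (h6 : T4.mu b = 2) (h7 : T4.mu ab = 1) (h8 : T4.mu aab = 2)
    (hc : wordEqCheck chevF4 (opsNN 2) (0, 0) (commL ab aab) (commR ab aab) = true)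
    (hb : wordEqCheck chevF4 (opsNN 2) (0, 0) (b2L a b ab) (b2R a b aab) = true) (t u : K) :
    chevF4.wordMat K (sigWord T4 (theta hK) (b2ClassWord (2 ^ m) a b ab aab t u)) =
      chevF4.wordMat K (b2ClassWord (2 ^ m) a b ab aab t u) := by
  have e0 : (t ^ (2 ^ m + 1) + u) ^ 2 ^ m = (t ^ 2 ^ m) ^ 2 ^ m * t ^ 2 ^ m + u ^ 2 ^ m := by
    rw [add_pow_theta hK, pow_succ, mul_pow]
  have e1 : sigWord T4 (theta hK) (b2ClassWord (2 ^ m) a b ab aab t u) =
      [(b, t), (a, t ^ 2 ^ m), (aab, (t ^ 2 ^ m) ^ 2 * t + u ^ (2 * 2 ^ m)), (ab, u)] := by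
    unfold sigWord b2ClassWord
    simp only [List.map_cons, List.map_nil, theta_apply, h1, h2, h3, h4, h5, h6, h7, h8, theta_theta hK, pow_one,
      theta_theta' hK, e0]
    rw [add_sq_two hK, mul_pow, theta_theta hK]
    congr 4
    ring
  rw [e1]
  have hc' := comm_of_check (K := K) hc (two_eq_zero hK) u (u ^ (2 * 2 ^ m))
  have hb' := b2_of_check (K := K) hb (two_eq_zero hK) (t ^ 2 ^ m) t
  have a1 := Cfsg.Agent.ChevalleyStructure.Elts.x_add (F := K) inList aab ((t ^ 2 ^ m) ^ 2 * t) (u ^ (2 * 2 ^ m))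
  have a2 := Cfsg.Agent.ChevalleyStructure.Elts.x_add (F := K) inList ab (t ^ 2 ^ m * t) u
  have e2 : t ^ (2 ^ m + 1) = t ^ 2 ^ m * t := pow_succ _ _
  simp only [ChevalleyDatum.wordMat, b2ClassWord, List.map_cons, List.map_nil, List.prod_cons, List.prod_nil,
    mul_one, e2]
  rw [← a1, ← a2]
  calc chevF4.x K b t * (chevF4.x K a (t ^ 2 ^ m) *
        (chevF4.x K aab ((t ^ 2 ^ m) ^ 2 * t) * chevF4.x K aab (u ^ (2 * 2 ^ m)) * chevF4.x K ab u))
      = (chevF4.x K b t * (chevF4.x K a (t ^ 2 ^ m) * chevF4.x K aab ((t ^ 2 ^ m) ^ 2 * t))) *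
        (chevF4.x K aab (u ^ (2 * 2 ^ m)) * chevF4.x K ab u) := by simp only [mul_assoc]
    _ = (chevF4.x K a (t ^ 2 ^ m) * (chevF4.x K b t * chevF4.x K ab (t ^ 2 ^ m * t))) *
        (chevF4.x K ab u * chevF4.x K aab (u ^ (2 * 2 ^ m))) := by rw [← hb', hc']
    _ = _ := by simp only [mul_assoc]

/-- **The sigma-fixed condition.** -/
theorem twistedF4_le_fixF4 : twistedF4 K (2 ^ m) ≤ fixF4 hK := by
  unfold twistedF4
  refine genSubgroup_le_fixSub ok (two_eq_zero hK) (theta hK) (f4Words K (2 ^ m)) ?_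
  have hl : ∀ r ∈ [f4p1, f4p4, f4m1, f4m4, f4a, f4b, f4ab, f4aab, f4ma, f4mb, f4mab, f4maab],
      r < T4.D.nroots := by decide +kernel
  obtain ⟨r1, r2, r3, r4, r5, r6, r7, r8, r9, r10, r11, r12⟩ := rb_vals
  obtain ⟨m1, m2, m3, m4, m5, m6, m7, m8, m9, m10, m11, m12⟩ := mu_vals
  rintro w (⟨t, rfl | rfl⟩ | ⟨t, u, rfl | rfl⟩)
  · refine ⟨?_, pair_fixed hK r1 r2 m1 m2 check_pair t⟩
    intro q hq
    simp only [f4PairWord, List.mem_cons, List.not_mem_nil, or_false] at hq
    rcases hq with rfl | rfl <;> exact hl _ (by simp)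
  · refine ⟨?_, pair_fixed hK r3 r4 m3 m4 check_pair' t⟩
    intro q hq
    simp only [f4PairWord, List.mem_cons, List.not_mem_nil, or_false] at hq
    rcases hq with rfl | rfl <;> exact hl _ (by simp)
  · refine ⟨?_, b2_fixed hK r5 r6 r7 r8 m5 m6 m7 m8 check_ab check_b2 t u⟩
    intro q hq
    simp only [b2ClassWord, List.mem_cons, List.not_mem_nil, or_false] at hq
    rcases hq with rfl | rfl | rfl | rfl <;> exact hl _ (by simp)
  · refine ⟨?_, b2_fixed hK r9 r10 r11 r12 m9 m10 m11 m12 check_ab' check_b2' t u⟩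
    intro q hq
    simp only [b2ClassWord, List.mem_cons, List.not_mem_nil, or_false] at hq
    rcases hq with rfl | rfl | rfl | rfl <;> exact hl _ (by simp)

/-- unfolded form -/
theorem twistedF4_fix {g : GL chevF4.Idx K} (hg : g ∈ twistedF4 K (2 ^ m)) :
    (∀ i j, S i = false → S j = true → (g : Matrix chevF4.Idx chevF4.Idx K) i j = 0) ∧
      ∀ i j, S i = true → S j = true → (g : Matrix chevF4.Idx chevF4.Idx K) i j =
        ((g : Matrix chevF4.Idx chevF4.Idx K) (bar i) (bar j)) ^ 2 ^ m :=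
  (mem_fixF4 hK).1 (twistedF4_le_fixF4 hK hg)

end field

end

end Cfsg.Agent.ChevalleyStructure.F4Fixed
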