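import Mathlib
import Cfsg.Prelude.Def_ChevStructure
import Cfsg.Prelude.Def_ChevF4

/-!
# Bit-mask matrices over a field of characteristic 2, indexed by the coordinates of the F₄ module

A list `L` of (at most 52) natural numbers stands for the 0/1-matrix whose column number `j` has a one in row
`i` exactly when bit `i` of `L[j]` is set. Products of such matrices in characteristic 2 are computed by `mulL`
with the accelerated operations on natural numbers.
-/

set_option autoImplicit false

namespace Cfsg.Agent.ChevalleyStructure.F4MaskBase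

open Cfsg.Lie

/-- The position (0 to 51) of a coordinate. -/
def pos : chevF4.Idx → ℕ := Sum.elim (fun i => i.val) (fun s => 4 + s.val)

theorem pos_inl (i : Fin chevF4.rank) : pos (Sum.inl i) = i.val := rfl
theorem pos_inr (s : Fin chevF4.nroots) : pos (Sum.inr s) = 4 + s.val := rfl

theorem pos_lt (i : chevF4.Idx) : pos i < 52 := by
  rcases i with ⟨i, hi⟩ | ⟨s, hs⟩
  · show i < 52
    have : i < 4 := hi
    omega
  · show 4 + s < 52
    have : s < 48 := hs
    omega

theorem pos_injective : Function.Injective pos := by
  rintro (⟨i, hi⟩ | ⟨i, hi⟩) (⟨j, hj⟩ | ⟨j, hj⟩) h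
  · have : i = j := h
    subst this; rfl
  · have h1 : i = 4 + j := h
    have : i < 4 := hi
    omega
  · have h1 : 4 + i = j := h
    have : j < 4 := hj
    omega
  · have h1 : 4 + i = 4 + j := h
    have : i = j := by omega
    subst this; rfl

theorem pos_eq_iff (i j : chevF4.Idx) : pos i = pos j ↔ i = j := pos_injective.eq_iff

theorem sum_idx {M : Type*} [AddCommMonoid M] (f : ℕ → M) :
    ∑ i : chevF4.Idx, f (pos i) = ∑ n ∈ Finset.range 52, f n := by
  rw [Fintype.sum_sum_type]
  show (∑ i : Fin 4, f i.val) + (∑ s : Fin 48, f (4 + s.val)) = _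
  rw [Fin.sum_univ_eq_sum_range (fun n => f n) 4, Fin.sum_univ_eq_sum_range (fun n => f (4 + n)) 48]
  rw [show (52 : ℕ) = 4 + 48 from rfl, Finset.sum_range_add]

/-- A boolean as an element of a field. -/
def b2 (K : Type*) [Field K] (b : Bool) : K := if b = true then 1 else 0

theorem b2_true (K : Type*) [Field K] : b2 K true = 1 := rfl
theorem b2_false (K : Type*) [Field K] : b2 K false = 0 := by
  simp [b2]

theorem b2_xor (K : Type*) [Field K] [CharP K 2] (a b : Bool) : b2 K (a ^^ b) = b2 K a + b2 K b := by
  cases a <;> cases b <;> simp [b2, CharTwo.add_self_eq_zero]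

theorem b2_and (K : Type*) [Field K] (a b : Bool) : b2 K (a && b) = b2 K a * b2 K b := by
  cases a <;> cases b <;> simp [b2]

theorem b2_inj (K : Type*) [Field K] {a b : Bool} (h : b2 K a = b2 K b) : a = b := by
  cases a <;> cases b <;> simp_all [b2]

/-- XOR of the entries of a list selected by the bits of `m`. -/
def sel : List ℕ → ℕ → ℕ
  | [], _ => 0
  | a :: l, m => ((m % 2) * a) ^^^ sel l (m / 2)

theorem sel_nil (m : ℕ) : sel [] m = 0 := rfl
theorem sel_cons (a : ℕ) (l : List ℕ) (m : ℕ) : sel (a :: l) m = ((m % 2) * a) ^^^ sel l (m / 2) := rfl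

theorem sel_zero (l : List ℕ) : sel l 0 = 0 := by
  induction l with
  | nil => rfl
  | cons a l ih => rw [sel_cons]; simp [ih]

theorem testBit_sel (K : Type*) [Field K] [CharP K 2] (l : List ℕ) (m j : ℕ) :
    b2 K ((sel l m).testBit j) =
      ∑ k ∈ Finset.range l.length, b2 K ((l.getD k 0).testBit j) * b2 K (m.testBit k) := by
  induction l generalizing m with
  | nil => rw [sel_nil]; simp [b2]
  | cons a l ih =>
    rw [sel_cons, Nat.testBit_xor, b2_xor, ih, List.length_cons, Finset.sum_range_succ']
    rw [add_comm]
    congr 1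
    · refine Finset.sum_congr rfl fun k _ => ?_
      rw [List.getD_cons_succ, Nat.testBit_succ]
    · rw [List.getD_cons_zero, Nat.testBit_zero]
      rcases Nat.mod_two_eq_zero_or_one m with h | h
      · rw [h]; simp [b2]
      · rw [h]; simp [b2]

/-- The 0/1 matrix given by a list of column masks. -/
def toM (K : Type*) [Field K] (L : List ℕ) : Matrix chevF4.Idx chevF4.Idx K :=
  Matrix.of fun i j => b2 K ((L.getD (pos j) 0).testBit (pos i))

theorem toM_apply (K : Type*) [Field K] (L : List ℕ) (i j : chevF4.Idx) :
    toM K L i j = b2 K ((L.getD (pos j) 0).testBit (pos i)) := rfl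

/-- The product of two matrices given by column masks. -/
def mulL (A B : List ℕ) : List ℕ := B.map (sel A)

theorem toM_mul (K : Type*) [Field K] [CharP K 2] (A B : List ℕ) (hA : A.length ≤ 52) :
    toM K (mulL A B) = toM K A * toM K B := by
  ext i j
  rw [Matrix.mul_apply, toM_apply]
  simp only [toM_apply]
  rw [sum_idx (fun n => b2 K ((A.getD n 0).testBit (pos i)) * b2 K ((B.getD (pos j) 0).testBit n))]
  have h1 : (mulL A B).getD (pos j) 0 = sel A (B.getD (pos j) 0) := by
    unfold mulL
    rw [← sel_zero A, List.getD_map, sel_zero]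
  rw [h1, testBit_sel]
  refine Finset.sum_subset (Finset.range_mono hA) fun n _ hn => ?_
  rw [Finset.mem_range, not_lt] at hn
  rw [List.getD_eq_default _ _ hn]
  simp [b2]

/-- Pointwise XOR of two lists of masks of the same length. -/
def addL (A B : List ℕ) : List ℕ := List.zipWith (· ^^^ ·) A B

theorem toM_add (K : Type*) [Field K] [CharP K 2] (A B : List ℕ) (h : A.length = B.length) :
    toM K (addL A B) = toM K A + toM K B := by
  ext i j
  rw [Matrix.add_apply, toM_apply, toM_apply, toM_apply, ← b2_xor, ← Nat.testBit_xor]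
  congr 2
  unfold addL
  rcases lt_or_ge (pos j) A.length with hj | hj
  · have hj' : pos j < B.length := h ▸ hj
    rw [List.getD_eq_getElem _ _ (by rw [List.length_zipWith]; omega), List.getElem_zipWith,
      List.getD_eq_getElem _ _ hj, List.getD_eq_getElem _ _ hj']
  · have hj' : B.length ≤ pos j := h ▸ hj
    rw [List.getD_eq_default _ _ (by rw [List.length_zipWith]; omega), List.getD_eq_default _ _ hj,
      List.getD_eq_default _ _ hj']
    rfl

/-- The identity matrix as a list of column masks. -/
def oneL : List ℕ := (List.range 52).map fun i => 2 ^ i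

theorem toM_one (K : Type*) [Field K] : toM K oneL = 1 := by
  ext i j
  rw [toM_apply, Matrix.one_apply]
  have h1 : oneL.getD (pos j) 0 = 2 ^ (pos j) := by
    unfold oneL
    rw [List.getD_eq_getElem _ _ (by simpa using pos_lt j)]
    simp
  rw [h1, Nat.testBit_two_pow]
  by_cases h : i = j
  · subst h; simp [b2]
  · have : ¬ pos j = pos i := fun e => h (pos_injective e).symm
    simp [b2, h, this]

end Cfsg.Agent.ChevalleyStructure.F4MaskBase
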