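import Cfsg.Agent.ChevalleyStructure.TwF4.Rel
import Cfsg.Agent.ChevalleyStructure.Unitriangular
import Cfsg.Prelude.Def_ChevStructure
import Cfsg.Prelude.Def_LieTwisted

/-!
The unipotent group of the large Ree groups, characteristic 2, type F₄ (everything unconditional).

* `exists_word`, `word_unique`: every element of `U` is uniquely `∏ x_r(t_r)` (increasing index order).
* `card_le`: a subgroup `A ≤ U` whose graded elements are trivial "on the long rows" has order at most `q ^ 12`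
  (it meets the group of the long positive root elements trivially).
* `n1_mem`, `n2_mem`: `n₁, n₂ ∈ G¹`.
* `card_ge`: `q ^ 12 ≤ |U ∩ G¹|`, from the 8 relative root groups `a₁ · n₁ a₂ n₁⁻¹ · n₁ n₂ a₃ n₂⁻¹ n₁⁻¹ ⋯`.
-/

set_option autoImplicit false

namespace Cfsg.Agent.ChevalleyStructure.F4TwU

open Cfsg.Lie Cfsg.Agent.ChevalleyStructure.Unitriangular
open Cfsg.Agent.ChevalleyStructure.TwF4.Rel Cfsg.Agent.ChevalleyStructure.TwF4.Tables

universe u

variable {K : Type u} [Field K]

theorem inListF4 : chevF4 ∈ [chevG2, chevB2, chevD4, chevF4, chevE6, chevE7, chevE8] := by simp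

theorem okF4 : orderCheck chevF4 = true := orderCheck_of_mem inListF4

theorem isPos_iff {r : ℕ} : chevF4.IsPosRoot r ↔ 24 ≤ r ∧ r < 48 := by
  rw [isPosRoot_iff okF4]
  show (r < 48 ∧ 48 ≤ 2 * r) ↔ _
  omega

theorem isNeg_of_lt {r : ℕ} (h : r < 24) : chevF4.IsNegRoot r := by
  rw [isNegRoot_iff okF4]
  show 2 * r < 48
  omega

theorem neg_eq {r : ℕ} (hr : r < 48) : chevF4.neg r = 47 - r := by
  have h : chevF4.neg r + r + 1 = 48 := neg_add okF4 hr
  omega

/-! ### Rows of the coroot coordinates -/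

/-- Multiplying by a root element from the left: the rows of the coroot coordinates. -/
theorem x_mul_inl {r : ℕ} (hr : 24 ≤ r ∧ r < 48) (t : K) (M : Matrix chevF4.Idx chevF4.Idx K) (i : Fin chevF4.rank)
    (hn : 47 - r < chevF4.nroots) (col : chevF4.Idx) :
    (chevF4.x K r t * M) (Sum.inl i) col =
      M (Sum.inl i) col + (((chevF4.coroot.getD r #[]).getD i.val 0 : ℤ) : K) * t * M (Sum.inr ⟨47 - r, hn⟩) col := by
  have hr' : r < chevF4.nroots := hr.2
  have hx : chevF4.x K r t = chevF4.xMat K ⟨r, hr'⟩ t := dif_pos hr'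
  have hneg : chevF4.negIdx.getD r 0 = 47 - r := neg_eq hr.2
  rw [hx, Matrix.mul_apply, Fintype.sum_sum_type]
  congr 1
  · rw [Finset.sum_eq_single i]
    · have : chevF4.xMat K ⟨r, hr'⟩ t (Sum.inl i) (Sum.inl i) = 1 := by
        show (if i = i then (1 : K) else 0) = 1
        simp
      rw [this, one_mul]
    · intro b _ hb
      have : chevF4.xMat K ⟨r, hr'⟩ t (Sum.inl i) (Sum.inl b) = 0 := by
        show (if i = b then (1 : K) else 0) = 0
        rw [if_neg (Ne.symm hb)]
      rw [this, zero_mul]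
    · intro h
      exact absurd (Finset.mem_univ i) h
  · rw [Finset.sum_eq_single (⟨47 - r, hn⟩ : Fin chevF4.nroots)]
    · have : chevF4.xMat K ⟨r, hr'⟩ t (Sum.inl i) (Sum.inr ⟨47 - r, hn⟩) =
          (((chevF4.coroot.getD r #[]).getD i.val 0 : ℤ) : K) * t := by
        unfold ChevalleyDatum.xMat
        simp only [Matrix.of_apply]
        rw [if_neg (by rw [Fin.mk.injEq]; omega), if_pos hneg.symm]
      rw [this]
    · intro b _ hb
      have : chevF4.xMat K ⟨r, hr'⟩ t (Sum.inl i) (Sum.inr b) = 0 := by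
        unfold ChevalleyDatum.xMat
        simp only [Matrix.of_apply]
        split_ifs with h1 h2
        · rfl
        · exfalso
          apply hb
          apply Fin.ext
          exact h2.trans hneg
        · rfl
      rw [this, zero_mul]
    · intro h
      exact absurd (Finset.mem_univ _) h

theorem wordMat_nil : chevF4.wordMat K [] = 1 := rfl

theorem wordMat_cons (p : ℕ × K) (w : List (ℕ × K)) :
    chevF4.wordMat K (p :: w) = chevF4.x K p.1 p.2 * chevF4.wordMat K w := by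
  show (List.map _ (p :: w)).prod = _
  rw [List.map_cons, List.prod_cons]
  rfl

theorem lower_wordMat (t : ℕ → K) (l : List ℕ) (hl : ∀ r ∈ l, 24 ≤ r ∧ r < 48) :
    Lower chevF4 (chevF4.wordMat K (l.map fun r => (r, t r))) := by
  induction l with
  | nil => exact lower_one
  | cons r l ih =>
    rw [List.map_cons, wordMat_cons]
    exact lower_mul (x_lower okF4 (isPos_iff.2 (hl r List.mem_cons_self)) _)
      (ih fun s hs => hl s (List.mem_cons_of_mem _ hs))

/-- For a word in positive root elements with indices above `r₀`, the `(h_i, e_{-r₀})` entry vanishes. -/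
theorem wordMat_inl_zero (t : ℕ → K) {r₀ : ℕ} (h₀ : 24 ≤ r₀ ∧ r₀ < 48) (hn : 47 - r₀ < chevF4.nroots)
    (i : Fin chevF4.rank) (l : List ℕ) (hl : ∀ r ∈ l, (24 ≤ r ∧ r < 48) ∧ r₀ < r) :
    chevF4.wordMat K (l.map fun r => (r, t r)) (Sum.inl i) (Sum.inr ⟨47 - r₀, hn⟩) = 0 := by
  induction l with
  | nil =>
    rw [List.map_nil, wordMat_nil]
    exact Matrix.one_apply_ne (by simp)
  | cons r l ih =>
    have hr := hl r List.mem_cons_self
    have hn' : 47 - r < chevF4.nroots := by show 47 - r < 48; omega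
    rw [List.map_cons, wordMat_cons]
    dsimp only
    rw [x_mul_inl hr.1 _ _ _ hn', ih fun s hs => hl s (List.mem_cons_of_mem _ hs),
      lower_wordMat t l (fun s hs => (hl s (List.mem_cons_of_mem _ hs)).1)]
    · rw [if_neg, mul_zero, zero_add]
      rw [Sum.inr.injEq, Fin.mk.injEq]
      omega
    · show (if 2 * (47 - r) < 48 then 47 - r else 47 - r + 48 + 1) ≤
        (if 2 * (47 - r₀) < 48 then 47 - r₀ else 47 - r₀ + 48 + 1)
      rw [if_pos (by omega), if_pos (by omega)]
      omega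

/-- The `(h_i, e_{-r₀})` entry of a word in positive root elements whose least index is `r₀`. -/
theorem wordMat_inl_head (t : ℕ → K) {r₀ : ℕ} (h₀ : 24 ≤ r₀ ∧ r₀ < 48) (hn : 47 - r₀ < chevF4.nroots)
    (i : Fin chevF4.rank) (l : List ℕ) (hl : ∀ r ∈ l, (24 ≤ r ∧ r < 48) ∧ r₀ < r) :
    chevF4.wordMat K ((r₀ :: l).map fun r => (r, t r)) (Sum.inl i) (Sum.inr ⟨47 - r₀, hn⟩) =
      (((chevF4.coroot.getD r₀ #[]).getD i.val 0 : ℤ) : K) * t r₀ := by
  rw [List.map_cons, wordMat_cons]
  dsimp only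
  rw [x_mul_inl h₀ _ _ _ hn, wordMat_inl_zero t h₀ hn i l hl,
    lower_wordMat t l (fun s hs => (hl s hs).1) _ _ le_rfl, if_pos rfl, mul_one, zero_add]

/-- The coroot coefficient is odd. -/
def Odd' (r : ℕ) (i : ℕ) : Prop := (chevF4.coroot.getD r #[]).getD i 0 % 2 = 1

instance instDecOdd' (r i : ℕ) : Decidable (Odd' r i) := inferInstanceAs (Decidable (_ = _))

theorem exists_odd : ∀ r, 24 ≤ r → r < 48 → ∃ i : Fin 4, Odd' r i.val := by
  have : ∀ r < 48, 24 ≤ r → ∃ i : Fin 4, Odd' r i.val := by decide +kernel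
  intro r h1 h2
  exact this r h2 h1

/-- The positive roots in increasing order. -/
def posList (k : ℕ) : List ℕ := List.range' k (48 - k)

theorem mem_posList {k r : ℕ} : r ∈ posList k ↔ k ≤ r ∧ r < 48 := by
  unfold posList
  rw [List.mem_range'_1]
  omega

theorem posList_cons {k : ℕ} (hk : k < 48) : posList k = k :: posList (k + 1) := by
  unfold posList
  have h : 48 - k = (48 - (k + 1)) + 1 := by omega
  rw [h, List.range'_succ]

theorem posList_48 : posList 48 = [] := rfl

section char2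

variable [CharP K 2]

theorem cast_odd {r i : ℕ} (h : Odd' r i) : (((chevF4.coroot.getD r #[]).getD i 0 : ℤ) : K) = 1 := by
  rw [cast_mod_two]
  rw [if_pos]
  rw [show (chevF4.coroot.getD r #[]).getD i 0 % 2 = 1 from h]
  norm_num

/-- The word attached to a coefficient family. -/
def wrd (l : List ℕ) (t : ℕ → K) : GL chevF4.Idx K := W (l.map fun r => (r, t r))

theorem wrd_nil (t : ℕ → K) : wrd [] t = 1 := rfl

theorem wrd_cons (r : ℕ) (l : List ℕ) (t : ℕ → K) : wrd (r :: l) t = X r (t r) * wrd l t := by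
  unfold wrd
  rw [List.map_cons, W_cons]

theorem coe_wrd (l : List ℕ) (t : ℕ → K) :
    ((wrd l t : GL chevF4.Idx K) : Matrix chevF4.Idx chevF4.Idx K) = chevF4.wordMat K (l.map fun r => (r, t r)) :=
  coe_W _

theorem wrd_head {r₀ : ℕ} (h₀ : 24 ≤ r₀ ∧ r₀ < 48) (hn : 47 - r₀ < chevF4.nroots) (t : ℕ → K) (i : Fin chevF4.rank)
    (hi : Odd' r₀ i.val) (l : List ℕ) (hl : ∀ r ∈ l, (24 ≤ r ∧ r < 48) ∧ r₀ < r) :
    ((wrd (r₀ :: l) t : GL chevF4.Idx K) : Matrix chevF4.Idx chevF4.Idx K) (Sum.inl i) (Sum.inr ⟨47 - r₀, hn⟩)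
      = t r₀ := by
  rw [coe_wrd, wordMat_inl_head t h₀ hn i l hl, cast_odd hi, one_mul]

/-- Uniqueness of the coefficients of an increasing word. -/
theorem word_unique (t t' : ℕ → K) : ∀ (l : List ℕ), (∀ r ∈ l, 24 ≤ r ∧ r < 48) → l.Pairwise (· < ·) →
    wrd l t = wrd l t' → ∀ r ∈ l, t r = t' r
  | [], _, _, _ => by intro r hr; simp at hr
  | r₀ :: l, hpos, hs, h => by
    rw [List.pairwise_cons] at hs
    have hl : ∀ r ∈ l, (24 ≤ r ∧ r < 48) ∧ r₀ < r := fun r hr => ⟨hpos r (List.mem_cons_of_mem _ hr), hs.1 r hr⟩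
    have h0 := hpos r₀ List.mem_cons_self
    have hn : 47 - r₀ < chevF4.nroots := by show 47 - r₀ < 48; omega
    obtain ⟨i, hi⟩ := exists_odd r₀ h0.1 h0.2
    have e : t r₀ = t' r₀ := by
      rw [← wrd_head h0 hn t i hi l hl, h, wrd_head h0 hn t' i hi l hl]
    rw [wrd_cons, wrd_cons, e] at h
    have ih := word_unique t t' l (fun r hr => hpos r (List.mem_cons_of_mem _ hr)) hs.2 (mul_left_cancel h)
    intro r hr
    rcases List.mem_cons.1 hr with rfl | hr
    · exact e
    · exact ih r hr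

/-- An increasing word is trivial as soon as, for each root `r` in it, one entry `(h_i, e_{-r})` with `c_i(r)`
odd vanishes. -/
theorem wrd_eq_one (t : ℕ → K) : ∀ (l : List ℕ), (∀ r ∈ l, 24 ≤ r ∧ r < 48) → l.Pairwise (· < ·) →
    (∀ r ∈ l, ∀ hn : 47 - r < chevF4.nroots, ∃ i : Fin 4, Odd' r i.val ∧
      ((wrd l t : GL chevF4.Idx K) : Matrix chevF4.Idx chevF4.Idx K) (Sum.inl i) (Sum.inr ⟨47 - r, hn⟩) = 0) →
    wrd l t = 1
  | [], _, _, _ => rfl
  | r₀ :: l, hpos, hs, h => by
    rw [List.pairwise_cons] at hs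
    have hl : ∀ r ∈ l, (24 ≤ r ∧ r < 48) ∧ r₀ < r := fun r hr => ⟨hpos r (List.mem_cons_of_mem _ hr), hs.1 r hr⟩
    have h0 := hpos r₀ List.mem_cons_self
    have hn : 47 - r₀ < chevF4.nroots := by show 47 - r₀ < 48; omega
    obtain ⟨i, hi, he⟩ := h r₀ List.mem_cons_self hn
    have e : t r₀ = 0 := by rw [← wrd_head h0 hn t i hi l hl]; exact he
    have e2 : wrd (r₀ :: l) t = wrd l t := by rw [wrd_cons, e, X_zero, one_mul]
    rw [e2] at h ⊢
    exact wrd_eq_one t l (fun r hr => hpos r (List.mem_cons_of_mem _ hr)) hs.2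
      (fun r hr => h r (List.mem_cons_of_mem _ hr))

/-! ### Every element of `U` is an increasing word -/

/-- The group generated by the root elements with index at least `k`. -/
def Uk (K : Type u) [Field K] [CharP K 2] (k : ℕ) : Subgroup (GL chevF4.Idx K) :=
  Subgroup.closure {g | ∃ r, k ≤ r ∧ r < 48 ∧ ∃ t : K, g = X r t}

theorem X_mem_Uk {k r : ℕ} (h : k ≤ r) (h' : r < 48) (t : K) : X r t ∈ Uk K k :=
  Subgroup.subset_closure ⟨r, h, h', t, rfl⟩

theorem cm_gt_tab : ((List.range 48).all fun r => (List.range 48).all fun s =>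
    !(decide (24 ≤ r) && decide (r < s)) || (cm r s).all fun p => decide (r < p.1) && decide (p.1 < 48)) = true := by
  decide +kernel

theorem cm_gt (r : ℕ) (hr' : r < 48) (s : ℕ) (hs' : s < 48) (hr : 24 ≤ r) (hrs : r < s) :
    ∀ p ∈ cm r s, r < p.1 ∧ p.1 < 48 := by
  have h := cm_gt_tab
  rw [List.all_eq_true] at h
  have h1 := h r (List.mem_range.2 hr')
  rw [List.all_eq_true] at h1
  have h2 := h1 s (List.mem_range.2 hs')
  rw [decide_eq_true hr, decide_eq_true hrs] at h2
  simp only [Bool.and_self, Bool.not_true, Bool.false_or, List.all_eq_true, Bool.and_eq_true, decide_eq_true_eq] at h2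
  exact h2

theorem W_mem {H : Subgroup (GL chevF4.Idx K)} {w : List (ℕ × K)} (h : ∀ p ∈ w, X p.1 p.2 ∈ H) : W w ∈ H := by
  induction w with
  | nil => exact H.one_mem
  | cons p w ih =>
    rw [W_cons]
    exact H.mul_mem (h p List.mem_cons_self) (ih fun q hq => h q (List.mem_cons_of_mem _ hq))

theorem conj_mem_Uk {k s : ℕ} (hk : 24 ≤ k) (hs : k < s) (hs' : s < 48) (t v : K) :
    X k t * X s v * X k t ∈ Uk K (k + 1) := by
  have h := comm_rel k s hk (by omega) (by omega) hs' (by omega) t v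
  have h1 : X k t * X s v * X k t = X s v * W (wordK t v (cm k s)) := by
    rw [h, mul_assoc, X_mul_self, mul_one]
  rw [h1]
  refine Subgroup.mul_mem _ (X_mem_Uk (by omega) hs' v) (W_mem fun p hp => ?_)
  obtain ⟨q, hq, rfl⟩ := List.mem_map.1 hp
  have h2 := cm_gt k (by omega) s hs' hk hs q hq
  exact X_mem_Uk h2.1 h2.2 _

theorem conj_Uk {k : ℕ} (hk : 24 ≤ k) (t : K) {g : GL chevF4.Idx K} (hg : g ∈ Uk K (k + 1)) :
    X k t * g * X k t ∈ Uk K (k + 1) := by
  refine Subgroup.closure_induction (p := fun (g : GL chevF4.Idx K) _ => X k t * g * X k t ∈ Uk K (k + 1))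
    ?_ ?_ ?_ ?_ hg
  · rintro g ⟨r, hr, hr', v, rfl⟩
    exact conj_mem_Uk hk (by omega) hr' t v
  · rw [mul_one, X_mul_self]
    exact Subgroup.one_mem _
  · intro a b _ _ ha hb
    have : X k t * (a * b) * X k t = (X k t * a * X k t) * (X k t * b * X k t) := by
      have e : X k t * a * X k t * (X k t * b * X k t) = X k t * a * (X k t * X k t) * b * X k t := by
        simp only [mul_assoc]
      rw [e, X_mul_self, mul_one]
      simp only [mul_assoc]
    rw [this]
    exact Subgroup.mul_mem _ ha hb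
  · intro a _ ha
    have : X k t * a⁻¹ * X k t = (X k t * a * X k t)⁻¹ := by
      rw [mul_inv_rev, mul_inv_rev, X_inv, mul_assoc]
    rw [this]
    exact Subgroup.inv_mem _ ha

theorem exists_split {k : ℕ} (hk : 24 ≤ k) (hk' : k < 48) {g : GL chevF4.Idx K} (hg : g ∈ Uk K k) :
    ∃ t : K, ∃ h ∈ Uk K (k + 1), g = X k t * h := by
  have step : ∀ x : GL chevF4.Idx K, (∃ r, k ≤ r ∧ r < 48 ∧ ∃ t : K, x = X r t) → ∀ y : GL chevF4.Idx K,
      (∃ t : K, ∃ h ∈ Uk K (k + 1), y = X k t * h) → ∃ t : K, ∃ h ∈ Uk K (k + 1), x * y = X k t * h := by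
    rintro x ⟨r, hr, hr', v, rfl⟩ y ⟨t, h, hh, rfl⟩
    by_cases e : r = k
    · subst e
      exact ⟨v + t, h, hh, by rw [← mul_assoc, X_add]⟩
    · refine ⟨t, X k t * X r v * X k t * h, Subgroup.mul_mem _ (conj_mem_Uk hk (by omega) hr' t v) hh, ?_⟩
      have e2 : X k t * (X k t * X r v * X k t * h) = (X k t * X k t) * (X r v * (X k t * h)) := by
        simp only [mul_assoc]
      rw [e2, X_mul_self, one_mul]
  unfold Uk at hg
  refine Subgroup.closure_induction_left
    (p := fun (g : GL chevF4.Idx K) _ => ∃ t : K, ∃ h ∈ Uk K (k + 1), g = X k t * h) ?_ ?_ ?_ hg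
  · exact ⟨0, 1, Subgroup.one_mem _, by rw [X_zero, one_mul]⟩
  · intro x hx y _ hy
    exact step x hx y hy
  · intro x hx y _ hy
    apply step _ _ y hy
    obtain ⟨r, hr, hr', v, rfl⟩ := hx
    exact ⟨r, hr, hr', v, X_inv r v⟩

theorem Uk_48 : Uk K 48 = ⊥ := by
  unfold Uk
  have : {g : GL chevF4.Idx K | ∃ r, 48 ≤ r ∧ r < 48 ∧ ∃ t : K, g = X r t} = ∅ := by
    ext g
    simp only [Set.mem_ofPred_eq, Set.mem_empty_iff_false, iff_false]
    rintro ⟨r, h1, h2, _⟩
    omega
  rw [this, Subgroup.closure_empty]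

theorem exists_word_k : ∀ (n k : ℕ), 24 ≤ k → k + n = 48 → ∀ g ∈ Uk K k, ∃ t : ℕ → K, g = wrd (posList k) t
  | 0, k, _, hk, g, hg => by
    have : k = 48 := by omega
    subst this
    rw [Uk_48, Subgroup.mem_bot] at hg
    exact ⟨0, by rw [hg]; rfl⟩
  | n + 1, k, h, hk, g, hg => by
    obtain ⟨t₀, g', hg', rfl⟩ := exists_split h (by omega) hg
    obtain ⟨t, rfl⟩ := exists_word_k n (k + 1) (by omega) (by omega) g' hg'
    refine ⟨fun r => if r = k then t₀ else t r, ?_⟩
    rw [posList_cons (k := k) (by omega), wrd_cons, if_pos rfl]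
    congr 1
    unfold wrd
    congr 1
    apply List.map_congr_left
    intro r hr
    rw [mem_posList] at hr
    dsimp only
    rw [if_neg (by omega)]

theorem posUnipotent_le : chevF4.posUnipotent K ≤ Uk K 24 := by
  refine (Subgroup.closure_le _).2 ?_
  rintro g ⟨r, t, hr, hg⟩
  rw [(eq_X_iff g r t).2 hg]
  exact X_mem_Uk (isPos_iff.1 hr).1 (isPos_iff.1 hr).2 t

theorem X_mem_pos {r : ℕ} (hr : 24 ≤ r ∧ r < 48) (t : K) : X r t ∈ chevF4.posUnipotent K :=
  Subgroup.subset_closure ⟨r, t, isPos_iff.2 hr, rfl⟩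

theorem X_mem_neg {r : ℕ} (hr : r < 24) (t : K) : X r t ∈ chevF4.negUnipotent K :=
  Subgroup.subset_closure ⟨r, t, isNeg_of_lt hr, rfl⟩

/-- Every element of `U` is an increasing word. -/
theorem exists_word {g : GL chevF4.Idx K} (hg : g ∈ chevF4.posUnipotent K) : ∃ t : ℕ → K, g = wrd (posList 24) t :=
  exists_word_k 24 24 le_rfl rfl g (posUnipotent_le hg)

theorem wrd_mem {l : List ℕ} {t : ℕ → K} {H : Subgroup (GL chevF4.Idx K)} (h : ∀ r ∈ l, X r (t r) ∈ H) :
    wrd l t ∈ H := by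
  refine W_mem fun p hp => ?_
  obtain ⟨r, hr, rfl⟩ := List.mem_map.1 hp
  exact h r hr

theorem pairwise_posList (k : ℕ) : (posList k).Pairwise (· < ·) := List.pairwise_lt_range'

theorem card_pos_le [Fintype K] : Nat.card (chevF4.posUnipotent K) ≤ Fintype.card K ^ 24 := by
  classical
  let f : (Fin 24 → K) → chevF4.posUnipotent K := fun t =>
    ⟨wrd (posList 24) (fun r => if h : r - 24 < 24 then t ⟨r - 24, h⟩ else 0),
      wrd_mem fun r hr => X_mem_pos (mem_posList.1 hr) _⟩
  have hf : Function.Surjective f := by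
    rintro ⟨g, hg⟩
    obtain ⟨t, rfl⟩ := exists_word hg
    refine ⟨fun i => t (i.val + 24), ?_⟩
    apply Subtype.ext
    show wrd _ _ = wrd _ _
    unfold wrd
    refine congrArg W (List.map_congr_left ?_)
    intro r hr
    rw [mem_posList] at hr
    dsimp only
    rw [dif_pos (show r - 24 < 24 by omega), Nat.sub_add_cancel hr.1]
  have h := Nat.card_le_card_of_surjective f hf
  rwa [Nat.card_eq_fintype_card (α := Fin 24 → K), Fintype.card_fun, Fintype.card_fin] at h

end char2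

end Cfsg.Agent.ChevalleyStructure.F4TwU
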