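import Cfsg.Agent.ChevalleyStructure.F4TwU

/-!
The order of `U ∩ G¹` for the large Ree groups: upper bound `card_le`, lower bound `card_ge`.
-/

set_option autoImplicit false

namespace Cfsg.Agent.ChevalleyStructure.F4TwUCard

open Cfsg.Lie Cfsg.Agent.ChevalleyStructure.Unitriangular
open Cfsg.Agent.ChevalleyStructure.TwF4.Rel Cfsg.Agent.ChevalleyStructure.TwF4.Tables
open Cfsg.Agent.ChevalleyStructure.F4TwU

universe u

/-! ### The classes modulo the long roots -/

/-- The class of a root of F₄ modulo twice the weight lattice of the long roots (0 for the long roots). -/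
def grd (s : ℕ) : ℕ :=
  [0, 0, 0, 2, 0, 0, 0, 3, 1, 1, 1, 3, 3, 3, 1, 0, 0, 0, 2, 2, 2, 0, 0, 0, 0, 0, 0, 2, 2, 2, 0, 0, 0, 1, 3, 3, 3, 1,
    1, 1, 3, 0, 0, 0, 2, 0, 0, 0].getD s 0

/-- The class of a coordinate. -/
def grI : chevF4.Idx → ℕ
  | Sum.inl _ => 0
  | Sum.inr s => grd s.val

variable {F : Type u} [Field F]

/-- Block diagonal matrices for the classes. -/
def Graded (M : Matrix chevF4.Idx chevF4.Idx F) : Prop := ∀ i j, grI i ≠ grI j → M i j = 0

theorem graded_one : Graded (1 : Matrix chevF4.Idx chevF4.Idx F) := fun i j h =>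
  Matrix.one_apply_ne (fun e => h (by rw [e]))

theorem graded_mul {M N : Matrix chevF4.Idx chevF4.Idx F} (hM : Graded M) (hN : Graded N) : Graded (M * N) := by
  intro i j h
  rw [Matrix.mul_apply]
  refine Finset.sum_eq_zero fun k _ => ?_
  by_cases hk : grI i = grI k
  · rw [hN k j (fun e => h (hk.trans e)), mul_zero]
  · rw [hM i k hk, zero_mul]

theorem graded_inv {M N : Matrix chevF4.Idx chevF4.Idx F} (hM : Graded M) (h : M * N = 1) (h' : N * M = 1) :
    Graded N := by
  let N' : Matrix chevF4.Idx chevF4.Idx F := Matrix.of fun i j => if grI i = grI j then N i j else 0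
  have h1 : M * N' = 1 := by
    rw [← h]
    ext i j
    rw [Matrix.mul_apply, Matrix.mul_apply]
    by_cases hij : grI i = grI j
    · refine Finset.sum_congr rfl fun k _ => ?_
      by_cases hk : grI i = grI k
      · show M i k * (if grI k = grI j then N k j else 0) = _
        rw [if_pos (hk.symm.trans hij)]
      · rw [hM i k hk, zero_mul, zero_mul]
    · have e1 : ∑ k, M i k * N k j = 0 := by
        rw [← Matrix.mul_apply, h]
        exact graded_one i j hij
      rw [e1]
      refine Finset.sum_eq_zero fun k _ => ?_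
      by_cases hk : grI i = grI k
      · show M i k * (if grI k = grI j then N k j else 0) = 0
        rw [if_neg (fun e => hij (hk.trans e)), mul_zero]
      · rw [hM i k hk, zero_mul]
  have h2 : N = N' := by
    calc N = N * (M * N') := by rw [h1, mul_one]
      _ = N' := by rw [← mul_assoc, h', one_mul]
  intro i j hij
  rw [h2]
  exact if_neg hij

/-- The long roots among the positive ones. -/
def longPos : List ℕ := [24, 25, 26, 30, 31, 32, 41, 42, 43, 45, 46, 47]

/-- The chain table of the long positive roots respects the classes. -/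
theorem chain_graded : ∀ r ∈ longPos, grd r = 0 ∧ grd (chevF4.negIdx.getD r 0) = 0 ∧
    ∀ e ∈ (chevF4.chain.getD r #[]).toList, ∀ q ∈ e.2.toList, grd q.1 = grd e.1 := by
  decide +kernel

theorem xMat_graded (r : Fin chevF4.nroots) (hr : r.val ∈ longPos) (t : F) : Graded (chevF4.xMat F r t) := by
  obtain ⟨h0, h1, h2⟩ := chain_graded r.val hr
  intro i j hij
  unfold ChevalleyDatum.xMat
  simp only [Matrix.of_apply]
  rcases j with j | s
  · rcases i with i | u
    · exact absurd rfl hij
    · show (if u = r then _ else 0) = 0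
      rw [if_neg]
      rintro rfl
      exact hij h0
  · show (if s = r then _ else _) = (0 : F)
    by_cases hs : s = r
    · rw [if_pos hs]
      rcases i with i | u
      · rfl
      · show (if u = r then (1 : F) else 0) = 0
        rw [if_neg]
        rintro rfl
        exact hij (by rw [hs])
    · rw [if_neg hs]
      by_cases hs' : s.val = chevF4.negIdx.getD r.val 0
      · have g0 : grd s.val = 0 := by rw [hs']; exact h1
        rw [if_pos hs']
        rcases i with i | u
        · exact absurd g0.symm hij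
        · show (if u = s then (1 : F) else if u = r then _ else 0) = 0
          rw [if_neg, if_neg]
          · rintro rfl
            exact hij (h0.trans g0.symm)
          · rintro rfl
            exact hij rfl
      · rw [if_neg hs']
        rcases i with i | u
        · rfl
        · show (if u = s then (1 : F) else 0) + _ = 0
          rw [if_neg, zero_add]
          · have : chevF4.chainCoeff r.val s.val u.val = [] := by
              rw [List.eq_nil_iff_forall_not_mem]
              intro km hkm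
              obtain ⟨e, he, hes, q, hq, hqu⟩ := mem_of_chainCoeff hkm
              have h3 := h2 e he q hq
              rw [hqu, hes] at h3
              exact hij h3
            rw [this]
            rfl
          · rintro rfl
            exact hij rfl


theorem x_graded {r : ℕ} (hr : r ∈ longPos) (t : F) : Graded (chevF4.x F r t) := by
  have h : r < chevF4.nroots := by
    have : ∀ r ∈ longPos, r < 48 := by decide
    exact this r hr
  have hx : chevF4.x F r t = chevF4.xMat F ⟨r, h⟩ t := dif_pos h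
  rw [hx]
  exact xMat_graded ⟨r, h⟩ hr t

/-! ### The upper bound -/

section char2

variable {K : Type u} [Field K] [CharP K 2]

/-- The group generated by the long positive root elements. -/
def longGroup (K : Type u) [Field K] [CharP K 2] : Subgroup (GL chevF4.Idx K) :=
  Subgroup.closure {g | ∃ r ∈ longPos, ∃ t : K, g = X r t}

theorem ge_of_long : ∀ r ∈ longPos, 24 ≤ r ∧ r < 48 := by decide

theorem longGroup_le : longGroup K ≤ chevF4.posUnipotent K := by
  refine (Subgroup.closure_le _).2 ?_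
  rintro g ⟨r, hr, t, rfl⟩
  exact X_mem_pos (ge_of_long r hr) t

theorem graded_of_mem {g : GL chevF4.Idx K} (hg : g ∈ longGroup K) : Graded (g : Matrix chevF4.Idx chevF4.Idx K) := by
  unfold longGroup at hg
  refine Subgroup.closure_induction (p := fun (g : GL chevF4.Idx K) _ => Graded (g : Matrix chevF4.Idx chevF4.Idx K))
    ?_ ?_ ?_ ?_ hg
  · rintro g ⟨r, hr, t, rfl⟩
    exact x_graded hr t
  · exact graded_one
  · intro a b _ _ ha hb
    rw [Units.val_mul]
    exact graded_mul ha hb
  · intro a _ ha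
    exact graded_inv ha (Units.mul_inv a) (Units.inv_mul a)

theorem short_facts : ∀ r < 48, 24 ≤ r → r ∉ longPos → grd (47 - r) ≠ 0 ∧ ∃ i : Fin 4, Odd' r i.val := by
  decide +kernel

theorem eq_one_of_long {g : GL chevF4.Idx K} (hg : g ∈ longGroup K)
    (h : ∀ r ∈ longPos, ∀ hr : 47 - r < chevF4.nroots, ∃ i : Fin 4, Odd' r i.val ∧
      (g : Matrix chevF4.Idx chevF4.Idx K) (Sum.inl i) (Sum.inr ⟨47 - r, hr⟩) = 0) : g = 1 := by
  obtain ⟨t, rfl⟩ := exists_word (longGroup_le hg)
  refine wrd_eq_one t _ (fun r hr => mem_posList.1 hr) (pairwise_posList 24) fun r hr hn => ?_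
  rw [mem_posList] at hr
  by_cases hl : r ∈ longPos
  · exact h r hl hn
  · obtain ⟨h1, i, hi⟩ := short_facts r hr.2 hr.1 hl
    exact ⟨i, hi, graded_of_mem hg _ _ (fun e => h1 e.symm)⟩

theorem length_longPos : longPos.toFinset.card = 12 := by decide

theorem card_longGroup [Fintype K] : Fintype.card K ^ 12 ≤ Nat.card (longGroup K) := by
  classical
  let ext : ({r // r ∈ longPos.toFinset} → K) → ℕ → K := fun f r => if h : r ∈ longPos.toFinset then f ⟨r, h⟩ else 0
  have hw : ∀ f, wrd (posList 24) (ext f) ∈ longGroup K := by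
    intro f
    refine wrd_mem fun r _ => ?_
    dsimp only [ext]
    split_ifs with hl
    · exact Subgroup.subset_closure ⟨r, List.mem_toFinset.1 hl, _, rfl⟩
    · rw [X_zero]
      exact Subgroup.one_mem _
  have hinj : Function.Injective fun f => (⟨wrd (posList 24) (ext f), hw f⟩ : longGroup K) := by
    intro f f' hff
    have e := word_unique _ _ _ (fun r hr => mem_posList.1 hr) (pairwise_posList 24) (congrArg Subtype.val hff)
    funext ⟨r, hr⟩
    have e3 := e r (mem_posList.2 (ge_of_long r (List.mem_toFinset.1 hr)))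
    dsimp only [ext] at e3
    rwa [dif_pos hr, dif_pos hr] at e3
  have h1 := Nat.card_le_card_of_injective _ hinj
  rw [Nat.card_eq_fintype_card, Fintype.card_fun, Fintype.card_coe, length_longPos] at h1
  exact h1

/-- The upper bound. -/
theorem card_le [Fintype K] (A : Subgroup (GL chevF4.Idx K)) (hA : A ≤ chevF4.posUnipotent K)
    (h : ∀ g ∈ A, Graded (g : Matrix chevF4.Idx chevF4.Idx K) → ∀ r ∈ longPos, ∀ hr : 47 - r < chevF4.nroots,
      ∃ i : Fin 4, Odd' r i.val ∧
      (g : Matrix chevF4.Idx chevF4.Idx K) (Sum.inl i) (Sum.inr ⟨47 - r, hr⟩) = 0) :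
    Nat.card A ≤ Fintype.card K ^ 12 := by
  classical
  have hinj : Function.Injective fun p : A × longGroup K =>
      (⟨p.1.1 * p.2.1, Subgroup.mul_mem _ (hA p.1.2) (longGroup_le p.2.2)⟩ : chevF4.posUnipotent K) := by
    rintro ⟨⟨a, ha⟩, ⟨b, hb⟩⟩ ⟨⟨a', ha'⟩, ⟨b', hb'⟩⟩ hab
    have e : a * b = a' * b' := congrArg Subtype.val hab
    have e' : a'⁻¹ * a = b' * b⁻¹ := by
      rw [inv_mul_eq_iff_eq_mul, ← mul_assoc, ← e, mul_assoc, mul_inv_cancel, mul_one]
    have hm : a'⁻¹ * a ∈ longGroup K := by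
      rw [e']
      exact Subgroup.mul_mem _ hb' (Subgroup.inv_mem _ hb)
    have hA1 : a'⁻¹ * a ∈ A := Subgroup.mul_mem _ (Subgroup.inv_mem _ ha') ha
    have h1 : a'⁻¹ * a = 1 := eq_one_of_long hm (h _ hA1 (graded_of_mem hm))
    have h3 : a = a' := by rw [inv_mul_eq_one] at h1; exact h1.symm
    subst h3
    have h4 : b = b' := mul_left_cancel e
    subst h4
    rfl
  have h3 := Nat.card_le_card_of_injective _ hinj
  rw [Nat.card_prod] at h3
  have h4 := card_longGroup (K := K)
  have hq : 0 < Fintype.card K ^ 12 := pow_pos Fintype.card_pos _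
  have h5 : Nat.card A * Fintype.card K ^ 12 ≤ Fintype.card K ^ 12 * Fintype.card K ^ 12 := by
    calc Nat.card A * Fintype.card K ^ 12 ≤ Nat.card A * Nat.card (longGroup K) := Nat.mul_le_mul_left _ h4
      _ ≤ Nat.card (chevF4.posUnipotent K) := h3
      _ ≤ Fintype.card K ^ 24 := card_pos_le
      _ = Fintype.card K ^ 12 * Fintype.card K ^ 12 := by rw [← pow_add]
  exact Nat.le_of_mul_le_mul_right h5 hq

/-! ### Words in relative root elements -/

/-- Conjugating a word by an element realising `w` on the root elements. -/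
theorem wordG_map {n : GL chevF4.Idx K} {w : ℕ → ℕ}
    (h : ∀ s < 48, ∀ t : K, n * X s t = X (w s) t * n) (l : List (ℕ × K))
    (hl : ∀ p ∈ l, p.1 < 48) : W (l.map fun p => (w p.1, p.2)) = n * W l * n⁻¹ := by
  induction l with
  | nil => simp [W_nil]
  | cons p l ih =>
    rw [List.map_cons, W_cons, W_cons, ih fun q hq => hl q (List.mem_cons_of_mem _ hq)]
    dsimp only
    have h1 := h p.1 (hl p List.mem_cons_self) p.2
    have h3 : X (w p.1) p.2 = n * X p.1 p.2 * n⁻¹ := by
      rw [h1, mul_assoc, mul_inv_cancel, mul_one]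
    rw [h3]
    simp only [mul_assoc, inv_mul_cancel_left]

/-- Parameters of a product of classes. -/
def Param (K : Type u) : List Bool → Type u
  | [] => PUnit.{u + 1}
  | true :: l => K × Param K l
  | false :: l => (K × K) × Param K l

/-- The word of a product of classes. -/
def wd (e : ℕ) : (l : List Bool) → Param K l → List (ℕ × K)
  | [], _ => []
  | true :: l, p => f4PairWord e f4p1 f4p4 p.1 ++ (wd e l p.2).map fun q => (w1 q.1, q.2)
  | false :: l, p => b2ClassWord e f4a f4b f4ab f4aab p.1.1 p.1.2 ++ (wd e l p.2).map fun q => (w2 q.1, q.2)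

/-- The roots occurring in `wd`. -/
def rts : List Bool → List ℕ
  | [] => []
  | true :: l => [33, 24] ++ (rts l).map w1
  | false :: l => [27, 25, 28, 30] ++ (rts l).map w2

theorem wd_fst (e : ℕ) : ∀ (l : List Bool) (p : Param K l), (wd e l p).map Prod.fst = rts l
  | [], _ => rfl
  | true :: l, p => by
    show (f4PairWord e f4p1 f4p4 p.1 ++ (wd e l p.2).map fun q => (w1 q.1, q.2)).map Prod.fst = _
    rw [List.map_append, List.map_map]
    show [33, 24] ++ _ = [33, 24] ++ (rts l).map w1
    rw [← wd_fst e l p.2, List.map_map]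
    rfl
  | false :: l, p => by
    show (b2ClassWord e f4a f4b f4ab f4aab p.1.1 p.1.2 ++ (wd e l p.2).map fun q => (w2 q.1, q.2)).map Prod.fst = _
    rw [List.map_append, List.map_map]
    show [27, 25, 28, 30] ++ _ = [27, 25, 28, 30] ++ (rts l).map w2
    rw [← wd_fst e l p.2, List.map_map]
    rfl

/-- All suffixes of the word of classes give positive roots. -/
def AllPos : List Bool → Prop
  | [] => True
  | b :: l => (∀ r ∈ rts (b :: l), 24 ≤ r ∧ r < 48) ∧ AllPos l

theorem AllPos.head {l : List Bool} (h : AllPos l) : ∀ r ∈ rts l, 24 ≤ r ∧ r < 48 := by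
  cases l with
  | nil => intro r hr; simp [rts] at hr
  | cons b l => exact h.1

theorem wd_lt {e : ℕ} {l : List Bool} (h : AllPos l) (p : Param K l) : ∀ q ∈ wd e l p, 24 ≤ q.1 ∧ q.1 < 48 := by
  intro q hq
  apply h.head
  rw [← wd_fst e l p]
  exact List.mem_map_of_mem hq

theorem wd_mem_U {e : ℕ} {l : List Bool} (h : AllPos l) (p : Param K l) :
    W (wd e l p) ∈ chevF4.posUnipotent K :=
  W_mem fun q hq => X_mem_pos (wd_lt h p q hq) _

theorem wordG_true {e : ℕ} {l : List Bool} (h : AllPos (true :: l)) (p : Param K (true :: l)) :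
    W (wd e (true :: l) p) =
      W (f4PairWord e f4p1 f4p4 p.1) * (n1 K * W (wd e l p.2) * (n1 K)⁻¹) := by
  show W (f4PairWord e f4p1 f4p4 p.1 ++ (wd e l p.2).map fun q => (w1 q.1, q.2)) = _
  rw [W_append, wordG_map (fun s hs t => n1_mul_X s hs t) _ fun q hq => (wd_lt h.2 p.2 q hq).2]

theorem wordG_false {e : ℕ} {l : List Bool} (h : AllPos (false :: l)) (p : Param K (false :: l)) :
    W (wd e (false :: l) p) =
      W (b2ClassWord e f4a f4b f4ab f4aab p.1.1 p.1.2) *
        (n2 K * W (wd e l p.2) * (n2 K)⁻¹) := by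
  show W (b2ClassWord e f4a f4b f4ab f4aab p.1.1 p.1.2 ++
    (wd e l p.2).map fun q => (w2 q.1, q.2)) = _
  rw [W_append, wordG_map (fun s hs t => n2_mul_X s hs t) _ fun q hq => (wd_lt h.2 p.2 q hq).2]

/-- Words of `G¹`. -/
theorem pair_mem {e : ℕ} (t : K) : W (f4PairWord e f4p1 f4p4 t) ∈ twistedF4 K e :=
  Subgroup.subset_closure ⟨_, Or.inl ⟨t, Or.inl rfl⟩, coe_W _⟩

theorem b2_mem {e : ℕ} (t u : K) : W (b2ClassWord e f4a f4b f4ab f4aab t u) ∈ twistedF4 K e :=
  Subgroup.subset_closure ⟨_, Or.inr ⟨t, u, Or.inl rfl⟩, coe_W _⟩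

theorem wd_mem_G {e : ℕ} (hn1 : n1 K ∈ twistedF4 K e) (hn2 : n2 K ∈ twistedF4 K e) :
    ∀ (l : List Bool) (_ : AllPos l) (p : Param K l), W (wd e l p) ∈ twistedF4 K e
  | [], _, _ => Subgroup.one_mem _
  | true :: l, h, p => by
    rw [wordG_true h]
    exact Subgroup.mul_mem _ (pair_mem _) (Subgroup.mul_mem _ (Subgroup.mul_mem _ hn1
      (wd_mem_G hn1 hn2 l h.2 p.2)) (Subgroup.inv_mem _ hn1))
  | false :: l, h, p => by
    rw [wordG_false h]
    exact Subgroup.mul_mem _ (b2_mem _ _) (Subgroup.mul_mem _ (Subgroup.mul_mem _ hn2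
      (wd_mem_G hn1 hn2 l h.2 p.2)) (Subgroup.inv_mem _ hn2))

/-! ### Injectivity -/

theorem conj_neg {n : GL chevF4.Idx K} {w : ℕ → ℕ}
    (h : ∀ s < 48, ∀ t : K, n * X s t = X (w s) t * n) (l : List (ℕ × K))
    (hl : ∀ p ∈ l, ∃ s < 24, w s = p.1) : n⁻¹ * W l * n ∈ chevF4.negUnipotent K := by
  induction l with
  | nil =>
    rw [W_nil, mul_one, inv_mul_cancel]
    exact Subgroup.one_mem _
  | cons p l ih =>
    obtain ⟨s, hs, hsp⟩ := hl p List.mem_cons_self
    have h1 : n⁻¹ * X p.1 p.2 * n = X s p.2 := by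
      rw [← hsp, mul_assoc, ← h s (by omega), inv_mul_cancel_left]
    have h3 : n⁻¹ * W (p :: l) * n =
        (n⁻¹ * X p.1 p.2 * n) * (n⁻¹ * W l * n) := by
      rw [W_cons]
      simp only [mul_assoc, mul_inv_cancel_left]
    rw [h3, h1]
    exact Subgroup.mul_mem _ (X_mem_neg hs _)
      (ih fun q hq => hl q (List.mem_cons_of_mem _ hq))

theorem w1_facts : w1 14 = 33 ∧ w1 23 = 24 := by decide +kernel
theorem w2_facts : w2 20 = 27 ∧ w2 22 = 25 ∧ w2 19 = 28 ∧ w2 17 = 30 := by decide +kernel

theorem pair_neg (e : ℕ) (t : K) :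
    (n1 K)⁻¹ * W (f4PairWord e f4p1 f4p4 t) * n1 K ∈ chevF4.negUnipotent K := by
  refine conj_neg (fun s hs t => n1_mul_X s hs t) _ ?_
  intro p hp
  simp only [f4PairWord, List.mem_cons, List.not_mem_nil, or_false] at hp
  rcases hp with rfl | rfl
  · exact ⟨14, by norm_num, w1_facts.1⟩
  · exact ⟨23, by norm_num, w1_facts.2⟩

theorem b2_neg (e : ℕ) (t u : K) :
    (n2 K)⁻¹ * W (b2ClassWord e f4a f4b f4ab f4aab t u) * n2 K ∈ chevF4.negUnipotent K := by
  refine conj_neg (fun s hs t => n2_mul_X s hs t) _ ?_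
  intro p hp
  simp only [b2ClassWord, List.mem_cons, List.not_mem_nil, or_false] at hp
  rcases hp with rfl | rfl | rfl | rfl
  · exact ⟨20, by norm_num, w2_facts.1⟩
  · exact ⟨22, by norm_num, w2_facts.2.1⟩
  · exact ⟨19, by norm_num, w2_facts.2.2.1⟩
  · exact ⟨17, by norm_num, w2_facts.2.2.2⟩

/-- Splitting off the first class. -/
theorem split_eq {a a' n z z' : GL chevF4.Idx K} (ha : n⁻¹ * a * n ∈ chevF4.negUnipotent K)
    (ha' : n⁻¹ * a' * n ∈ chevF4.negUnipotent K) (hz : z ∈ chevF4.posUnipotent K) (hz' : z' ∈ chevF4.posUnipotent K)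
    (h : a * (n * z * n⁻¹) = a' * (n * z' * n⁻¹)) : a = a' ∧ z = z' := by
  have h1 : n⁻¹ * (a'⁻¹ * a) * n = z' * z⁻¹ := by
    have : a'⁻¹ * a = (n * z' * n⁻¹) * (n * z * n⁻¹)⁻¹ := by
      rw [eq_mul_inv_iff_mul_eq, mul_assoc, h, inv_mul_cancel_left]
    rw [this]
    simp only [mul_inv_rev, inv_inv, mul_assoc, inv_mul_cancel_left, inv_mul_cancel, mul_one]
  have h3 : n⁻¹ * (a'⁻¹ * a) * n = (n⁻¹ * a' * n)⁻¹ * (n⁻¹ * a * n) := by
    simp only [mul_inv_rev, inv_inv, mul_assoc, mul_inv_cancel_left]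
  have h4 : n⁻¹ * (a'⁻¹ * a) * n ∈ chevF4.posUnipotent K ⊓ chevF4.negUnipotent K := by
    refine ⟨?_, ?_⟩
    · rw [h1]
      exact Subgroup.mul_mem _ hz' (Subgroup.inv_mem _ hz)
    · rw [h3]
      exact Subgroup.mul_mem _ (Subgroup.inv_mem _ ha') ha
  rw [posUnipotent_inf_negUnipotent inListF4, Subgroup.mem_bot] at h4
  constructor
  · have h5 : a'⁻¹ * a = 1 := by
      have := congrArg (fun x => n * x * n⁻¹) h4
      simpa [mul_assoc] using this
    exact (inv_mul_eq_one.1 h5).symm
  · rw [h1] at h4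
    exact (mul_inv_eq_one.1 h4).symm

/-! ### Reading off the parameters of a class -/

/-- Dropping a first letter whose coroot has no `h_i` component. -/
theorem drop_letter {r : ℕ} (hr : 24 ≤ r ∧ r < 48) (hn : 47 - r < chevF4.nroots) (a : K) (i : Fin chevF4.rank)
    (hi : (chevF4.coroot.getD r #[]).getD i.val 0 = 0) (l : List (ℕ × K)) (col : chevF4.Idx) :
    chevF4.wordMat K ((r, a) :: l) (Sum.inl i) col = chevF4.wordMat K l (Sum.inl i) col := by
  rw [F4TwU.wordMat_cons]
  dsimp only
  rw [x_mul_inl hr _ _ _ hn, hi]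
  simp

theorem coroot_facts : Odd' 24 3 ∧ (chevF4.coroot.getD 33 #[]).getD 3 0 = 0 ∧
    Odd' 25 2 ∧ (chevF4.coroot.getD 27 #[]).getD 2 0 = 0 ∧ Odd' 28 1 := by decide +kernel

theorem pair_inj (e : ℕ) (t t' : K) (h : W (f4PairWord e f4p1 f4p4 t) = W (f4PairWord e f4p1 f4p4 t')) :
    t = t' := by
  have key : ∀ t : K, ((W (f4PairWord e f4p1 f4p4 t) : GL chevF4.Idx K) :
      Matrix chevF4.Idx chevF4.Idx K) (Sum.inl ⟨3, by decide⟩) (Sum.inr ⟨47 - 24, by decide⟩) = t := by
    intro t
    rw [coe_W]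
    show chevF4.wordMat K ([(33, t ^ e), (24, t)]) _ _ = t
    rw [drop_letter (by norm_num) (by decide) _ _ coroot_facts.2.1]
    have := wrd_head (K := K) (r₀ := 24) (by norm_num) (by decide) (fun _ => t) ⟨3, by decide⟩ coroot_facts.1 []
      (by simp)
    rw [coe_wrd] at this
    exact this
  rw [← key t, h, key t']

theorem b2_inj (e : ℕ) (t t' u u' : K)
    (h : W (b2ClassWord e f4a f4b f4ab f4aab t u) = W (b2ClassWord e f4a f4b f4ab f4aab t' u')) :
    t = t' ∧ u = u' := by
  have key : ∀ t u : K, ((W (b2ClassWord e f4a f4b f4ab f4aab t u) : GL chevF4.Idx K) :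
      Matrix chevF4.Idx chevF4.Idx K) (Sum.inl ⟨2, by decide⟩) (Sum.inr ⟨47 - 25, by decide⟩) = t := by
    intro t u
    rw [coe_W]
    show chevF4.wordMat K ([(27, t ^ e), (25, t), (28, t ^ (e + 1) + u), (30, u ^ (2 * e))]) _ _ = t
    rw [drop_letter (by norm_num) (by decide) _ _ coroot_facts.2.2.2.1]
    have := wrd_head (K := K) (r₀ := 25) (by norm_num) (by decide)
      (fun r => if r = 25 then t else if r = 28 then t ^ (e + 1) + u else u ^ (2 * e))
      ⟨2, by decide⟩ coroot_facts.2.2.1 [28, 30] (by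
        intro r hr
        simp only [List.mem_cons, List.not_mem_nil, or_false] at hr
        rcases hr with rfl | rfl <;> norm_num)
    rw [coe_wrd] at this
    exact this
  have ht : t = t' := by rw [← key t u, h, key t' u']
  subst ht
  refine ⟨rfl, ?_⟩
  have h1 : ∀ u : K, W (b2ClassWord e f4a f4b f4ab f4aab t u) =
      X 27 (t ^ e) * (X 25 t * W [(28, t ^ (e + 1) + u), (30, u ^ (2 * e))]) := by
    intro u
    show W ([(27, t ^ e), (25, t), (28, t ^ (e + 1) + u), (30, u ^ (2 * e))]) = _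
    rw [W_cons, W_cons]
  rw [h1, h1] at h
  have h3 := mul_left_cancel (mul_left_cancel h)
  have key2 : ∀ u : K, ((W [(28, t ^ (e + 1) + u), (30, u ^ (2 * e))] : GL chevF4.Idx K) :
      Matrix chevF4.Idx chevF4.Idx K) (Sum.inl ⟨1, by decide⟩) (Sum.inr ⟨47 - 28, by decide⟩)
      = t ^ (e + 1) + u := by
    intro u
    have := wrd_head (K := K) (r₀ := 28) (by norm_num) (by decide)
      (fun r => if r = 28 then t ^ (e + 1) + u else u ^ (2 * e))
      ⟨1, by decide⟩ coroot_facts.2.2.2.2 [30] (by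
        intro r hr
        simp only [List.mem_cons, List.not_mem_nil, or_false] at hr
        rcases hr with rfl
        norm_num)
    exact this
  have h4 : t ^ (e + 1) + u = t ^ (e + 1) + u' := by rw [← key2 u, h3, key2 u']
  exact add_left_cancel h4

theorem wd_inj {e : ℕ} : ∀ (l : List Bool) (_ : AllPos l) (p p' : Param K l),
    W (wd e l p) = W (wd e l p') → p = p'
  | [], _, _, _, _ => rfl
  | true :: l, h, p, p', hp => by
    rw [wordG_true h, wordG_true h] at hp
    obtain ⟨h1, h3⟩ := split_eq (pair_neg e _) (pair_neg e _) (wd_mem_U h.2 _) (wd_mem_U h.2 _) hp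
    exact Prod.ext (pair_inj e _ _ h1) (wd_inj l h.2 _ _ h3)
  | false :: l, h, p, p', hp => by
    rw [wordG_false h, wordG_false h] at hp
    obtain ⟨h1, h3⟩ := split_eq (b2_neg e _ _) (b2_neg e _ _) (wd_mem_U h.2 _) (wd_mem_U h.2 _) hp
    obtain ⟨h4, h5⟩ := b2_inj e _ _ _ _ h1
    exact Prod.ext (Prod.ext h4 h5) (wd_inj l h.2 _ _ h3)

omit [Field K] in
/-- The number of parameters. -/
theorem card_param [Fintype K] : ∀ l : List Bool, Nat.card (Param K l) =
    Fintype.card K ^ ((l.map fun b => if b then 1 else 2).sum)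
  | [] => by
    show Nat.card PUnit.{u + 1} = _
    simp
  | true :: l => by
    show Nat.card (K × Param K l) = _
    rw [Nat.card_prod, card_param l, Nat.card_eq_fintype_card]
    simp only [List.map_cons, List.sum_cons, if_true]
    rw [pow_add, pow_one]
  | false :: l => by
    show Nat.card ((K × K) × Param K l) = _
    rw [Nat.card_prod, Nat.card_prod, card_param l, Nat.card_eq_fintype_card]
    simp only [List.map_cons, List.sum_cons]
    rw [pow_add]
    simp only [Bool.false_eq_true, if_false]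
    rw [pow_two]

/-- The word of the longest element. -/
def long : List Bool := [true, false, true, false, true, false, true, false]

theorem allPos_long : AllPos long := by
  refine ⟨?_, ?_, ?_, ?_, ?_, ?_, ?_, ?_, trivial⟩ <;> decide +kernel

/-- The lower bound. -/
theorem card_ge [Fintype K] {e : ℕ} (hn1 : n1 K ∈ twistedF4 K e) (hn2 : n2 K ∈ twistedF4 K e) :
    Fintype.card K ^ 12 ≤ Nat.card ↥(chevF4.posUnipotent K ⊓ twistedF4 K e) := by
  classical
  have h1 := card_param (K := K) long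
  have h3 : ((long.map fun b => if b then 1 else 2).sum) = 12 := by decide
  rw [h3] at h1
  rw [← h1]
  refine Nat.card_le_card_of_injective
    (fun p : Param K long => (⟨W (wd e long p), wd_mem_U allPos_long p,
      wd_mem_G hn1 hn2 long allPos_long p⟩ : ↥(chevF4.posUnipotent K ⊓ twistedF4 K e))) ?_
  intro p p' hpp
  exact wd_inj long allPos_long p p' (congrArg Subtype.val hpp)

/-! ### `n₁` and `n₂` lie in `G¹` -/

theorem chk_n1 : chkWord (nL 33 ++ nL 24) [(33, 0, 0), (24, 0, 0), (14, 0, 0), (23, 0, 0), (33, 0, 0), (24, 0, 0)] = true := by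
  decide +kernel

theorem chk_n2 : chkWord (nL 27 ++ nL 25 ++ nL 27 ++ nL 25)
    [(28, 0, 0), (30, 0, 0), (20, 0, 0), (22, 0, 0), (17, 0, 0), (27, 0, 0), (25, 0, 0), (28, 0, 0)] = true := by
  decide +kernel

theorem pair_mem' {e : ℕ} (t : K) : W (f4PairWord e f4m1 f4m4 t) ∈ twistedF4 K e :=
  Subgroup.subset_closure ⟨_, Or.inl ⟨t, Or.inr rfl⟩, coe_W _⟩

theorem b2_mem' {e : ℕ} (t u : K) : W (b2ClassWord e f4ma f4mb f4mab f4maab t u) ∈ twistedF4 K e :=
  Subgroup.subset_closure ⟨_, Or.inr ⟨t, u, Or.inr rfl⟩, coe_W _⟩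

theorem n1_mem (e : ℕ) : n1 K ∈ twistedF4 K e := by
  have h := W_eq_of_chkWord _ _ chk_n1 (1 : K) 1
  rw [wordK_append, W_append, W_nL, W_nL] at h
  have h1 : n1 K = W (f4PairWord e f4p1 f4p4 (1 : K)) * W (f4PairWord e f4m1 f4m4 (1 : K)) *
      W (f4PairWord e f4p1 f4p4 (1 : K)) := by
    unfold n1
    rw [h, ← W_append, ← W_append]
    simp [wordK, f4PairWord, f4p1, f4p4, f4m1, f4m4]
  rw [h1]
  exact Subgroup.mul_mem _ (Subgroup.mul_mem _ (pair_mem _) (pair_mem' _)) (pair_mem _)

theorem n2_mem {e : ℕ} (he : e ≠ 0) : n2 K ∈ twistedF4 K e := by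
  have h := W_eq_of_chkWord _ _ chk_n2 (1 : K) 1
  simp only [wordK_append, W_append, W_nL] at h
  have e11 : (1 : K) + 1 = 0 := CharTwo.add_self_eq_zero 1
  have h1 : n2 K = W (b2ClassWord e f4a f4b f4ab f4aab (0 : K) 1) *
      W (b2ClassWord e f4ma f4mb f4mab f4maab (1 : K) 1) * W (b2ClassWord e f4a f4b f4ab f4aab (1 : K) 0) := by
    unfold n2
    rw [h]
    simp [wordK, b2ClassWord, f4a, f4b, f4ab, f4aab, f4ma, f4mb, f4mab, f4maab, W_cons, X_zero, he, e11, mul_assoc]
  rw [h1]
  exact Subgroup.mul_mem _ (Subgroup.mul_mem _ (b2_mem _ _) (b2_mem' _ _)) (b2_mem _ _)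

end char2

end Cfsg.Agent.ChevalleyStructure.F4TwUCard
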