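import Cfsg.Agent.ChevalleyStructure.FastBase
import Cfsg.Prelude.Def_ChevG2

/-! Packed copy of the chain table of type G2. -/
set_option autoImplicit false
set_option maxRecDepth 100000

namespace Cfsg.Agent.ChevalleyStructure.FastDataG2
open Cfsg.Agent.ChevalleyStructure.FastBase

/-- the packed rows -/
def rows : Tree := (.node 0xc140000060600000502000000000000014040000000000000000000000000000000000000000000000000 (.node 0x18300000000000000608000000000000028100000000000000a0000000000000000000000000000000000000000000 (.node 0x60b41e8480000000000105c0e0000000000000082d006054100000000000380202000000000000004000000000000000000 (.node 0xe14000852090000000050aa12c20000000000000000000000382800e0b80d82b0360400000000 .nil .nil) (.node 0x614000000000000018480000142000000a0c00000000 .nil .nil)) (.node 0x2850000000000000000000000507000000000000000000000000000000303000000000000000000000060000000000 (.node 0x10b000000850000000000000000000085e08001c290380000000185d08a0942983d03 .nil .nil) .nil)) (.node 0x602c1184500a06c1c0000000000380e04000401018000000000000000000000701000003800000000000000000000000000 (.node 0x50661142400706410000001060000000000000000180d02a0600000000000407010000004040000000000000000 (.node 0xe1600000000001c2f0480000000185b0960e000007060000000000020c8100000000141a82302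 .nil .nil) .nil) (.node 0x142c0000000000000000000002840000000000000000000000000000001820000000000000000000000301 (.node 0xc2c00000000000003090000000000000141c0000000000000505 .nil .nil) .nil)))

theorem rows_check : rowsCheck rows Cfsg.Lie.chevG2.nroots Cfsg.Lie.chevG2.chain.toList 0 = true := by decide +kernel

end Cfsg.Agent.ChevalleyStructure.FastDataG2
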