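import Cfsg.Agent.ChevalleyStructure.FastRefl
import Cfsg.Agent.ChevalleyStructure.NSimple

/-!
Kernel-fast check that packed tables agree with `reflectRoot` and with the signs `NSimple.eta`.
-/

set_option autoImplicit false

namespace Cfsg.Agent.ChevalleyStructure.FastEta

open Cfsg.Lie
open Cfsg.Agent.ChevalleyStructure.FastBase (allLt allLt_iff)
open Cfsg.Agent.ChevalleyStructure.FastRefl
open Cfsg.Agent.ChevalleyStructure.NSimple

/-- The check that `W` tabulates the reflection `w_i` and `E` the signs `η_i`. -/
noncomputable def etaCheck (D : ChevalleyDatum) (i W E : ℕ) : Bool :=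
  FastBase.force (D.simple i) fun p => FastBase.force (D.neg p) fun m =>
  FastBase.force (pack 3 (cartRow D i)) fun CT =>
  allLt D.nroots fun s => FastBase.force (unpack 3 CT s) fun a =>
    and (Nat.beq (reflF (D.chain.getD p #[]).toList (D.chain.getD m #[]).toList p m a s) (byte W s))
      (decide (etaF (D.chain.getD p #[]).toList (D.chain.getD m #[]).toList p m a s = sg (bit1 E s)))

theorem etaCheck_sound {D : ChevalleyDatum} {i W E : ℕ} (hc : check D i = true) (h : etaCheck D i W E = true)
    {s : ℕ} (hs : s < D.nroots) : D.reflectRoot i s = byte W s ∧ eta D i s = sg (bit1 E s) := by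
  have hT : checkTab D i = true := by
    unfold check at hc
    rw [Bool.and_eq_true] at hc
    exact hc.1
  unfold etaCheck at h
  simp only [FastBase.force_eq] at h
  have := allLt_iff.1 h s hs
  rw [Bool.and_eq_true, reflF_eq D i _ s (unpack_cartan D i hT s hs),
    etaF_eq D i _ s (unpack_cartan D i hT s hs), decide_eq_true_eq] at this
  exact ⟨Nat.eq_of_beq_eq_true this.1, this.2⟩

end Cfsg.Agent.ChevalleyStructure.FastEta
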