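import Cfsg.Agent.ChevalleyStructure.FastEta

/-!
From the kernel checks to the compatibility of the chain table with the simple reflections.
-/

set_option autoImplicit false

namespace Cfsg.Agent.ChevalleyStructure.FastFinal

open Cfsg.Lie
open Cfsg.Agent.ChevalleyStructure.FastBase (Tree rowsCheck)
open Cfsg.Agent.ChevalleyStructure.FastRefl
open Cfsg.Agent.ChevalleyStructure.FastEta
open Cfsg.Agent.ChevalleyStructure.NSimple

/-- Reflection compatibility of the chain table for the `i`-th fundamental root. -/
structure ReflCompat (D : ChevalleyDatum) (i : ℕ) : Prop where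
  reflect_lt : ∀ s < D.nroots, D.reflectRoot i s < D.nroots
  reflect_reflect : ∀ s < D.nroots, D.reflectRoot i (D.reflectRoot i s) = s
  chainEntry_reflect : ∀ r < D.nroots, ∀ s < D.nroots,
    D.chainEntry (D.reflectRoot i r) (D.reflectRoot i s) =
      (D.chainEntry r s).mapIdx fun k x =>
        (D.reflectRoot i x.1, eta D i r ^ (k + 1) * eta D i s * eta D i x.1 * x.2)

theorem reflCompat {D : ChevalleyDatum} {i W E : ℕ} {T : Tree}
    (h1 : rowsCheck T D.nroots D.chain.toList 0 = true)
    (h2 : rowsT T (byte W) (bit1 E) D.chain.toList 0 = true)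
    (h3 : invol (byte W) D.nroots = true)
    (h4 : etaCheck D i W E = true)
    (h5 : check D i = true)
    (h6 : ∀ r < D.nroots, ∀ s, ∀ e ∈ D.chainEntry r s, e.1 < D.nroots) : ReflCompat D i where
  reflect_lt s hs := by
    rw [(etaCheck_sound h5 h4 hs).1]
    exact (invol_sound h3 hs).1
  reflect_reflect s hs := by
    rw [(etaCheck_sound h5 h4 hs).1, (etaCheck_sound h5 h4 (invol_sound h3 hs).1).1]
    exact (invol_sound h3 hs).2
  chainEntry_reflect r hr s hs := by
    rw [(etaCheck_sound h5 h4 hr).1, (etaCheck_sound h5 h4 hs).1, (etaCheck_sound h5 h4 hr).2,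
      (etaCheck_sound h5 h4 hs).2, chainEntry_w h1 h2 h3 hr hs, tr_eq_mapIdx]
    apply List.ext_getElem
    · rw [List.length_mapIdx, List.length_mapIdx]
    · intro k hk1 hk2
      rw [List.length_mapIdx] at hk1
      rw [List.getElem_mapIdx, List.getElem_mapIdx]
      have hx := h6 r hr s _ (List.getElem_mem hk1)
      rw [(etaCheck_sound h5 h4 hx).1, (etaCheck_sound h5 h4 hx).2]
      refine congrArg₂ Prod.mk rfl ?_
      simp only [sg_eq]
      ring

end Cfsg.Agent.ChevalleyStructure.FastFinal
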