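import Cfsg.Agent.ChevalleyStructure.FastBase

/-!
Kernel-fast check of the compatibility of the chain table with the simple reflections.
-/

set_option autoImplicit false

namespace Cfsg.Agent.ChevalleyStructure.FastRefl

open Cfsg.Lie
open Cfsg.Agent.ChevalleyStructure.FastBase

/-- The `s`-th byte of `W`. -/
def byte (W s : ℕ) : ℕ := Nat.land (Nat.shiftRight W (Nat.mul 8 s)) 255

/-- The `s`-th bit of `E`. -/
def bit1 (E s : ℕ) : ℕ := Nat.land (Nat.shiftRight E s) 1

/-- The sign attached to a parity. -/
def sg (b : ℕ) : ℤ := cond (Nat.beq (Nat.land b 1) 0) 1 (-1)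

theorem sg_eq (b : ℕ) : sg b = (-1) ^ b := by
  have h : Nat.land b 1 = b % 2 := Nat.and_one_is_mod b
  rw [sg, h]
  rcases Nat.mod_two_eq_zero_or_one b with h | h
  · rw [h, (Nat.even_iff.2 h).neg_one_pow]
    rfl
  · rw [h, (Nat.odd_iff.2 h).neg_one_pow]
    rfl

/-- Compare `± x` with `m - 4`. -/
def intEqS (b : ℕ) (x : ℤ) (m : ℕ) : Bool :=
  cond (Nat.beq (Nat.land b 1) 0) (intEq x m)
    (match x with
      | Int.ofNat a => Nat.beq (Nat.add a m) 4
      | Int.negSucc a => Nat.beq (Nat.add (Nat.succ a) 4) m)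

theorem intEqS_sound {b : ℕ} {x : ℤ} {m : ℕ} (h : intEqS b x m = true) : sg b * x = Int.subNatNat m 4 := by
  unfold intEqS at h
  unfold sg
  cases hb : Nat.beq (Nat.land b 1) 0 with
  | true =>
    rw [hb, cond_true] at h
    rw [cond_true, one_mul]
    exact intEq_sound h
  | false =>
    rw [hb, cond_false] at h
    rw [cond_false, Int.subNatNat_eq_coe]
    cases x with
    | ofNat a =>
      have h2 : a + m = 4 := Nat.eq_of_beq_eq_true h
      simp only [Int.ofNat_eq_natCast]
      omega
    | negSucc a =>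
      have h2 : a + 1 + 4 = m := Nat.eq_of_beq_eq_true h
      omega

/-- Transformation of a chain entry. -/
def tr (w e : ℕ → ℕ) (er : ℕ) : ℕ → List (ℕ × ℤ) → List (ℕ × ℤ)
  | _, [] => []
  | acc, x :: L => (w x.1, sg (acc + e x.1) * x.2) :: tr w e er (acc + er) L

theorem tr_eq_mapIdx (w e : ℕ → ℕ) (er : ℕ) : ∀ (L : List (ℕ × ℤ)) (acc : ℕ),
    tr w e er acc L = L.mapIdx fun k x => (w x.1, sg er ^ k * sg acc * sg (e x.1) * x.2)
  | [], acc => by rw [List.mapIdx_nil]; rfl
  | x :: L, acc => by
    rw [List.mapIdx_cons]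
    show (w x.1, sg (acc + e x.1) * x.2) :: tr w e er (acc + er) L = _
    rw [tr_eq_mapIdx w e er L]
    congr 1
    · rw [sg_eq, sg_eq, sg_eq, sg_eq]
      congr 1
      ring
    · congr 1
      funext k x
      rw [sg_eq, sg_eq, sg_eq, sg_eq]
      congr 1
      ring

/-- Compare the transform of a list with a code. -/
def cmpS (w e : ℕ → ℕ) (er : ℕ) (f : ℕ) : List (ℕ × ℤ) → ℕ → ℕ → Bool :=
  Nat.rec (fun L _ _ => L.isEmpty)
    (fun _ ih L acc c =>
      match L with
      | [] => Nat.beq c 0
      | (k, M) :: L' =>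
        cond (Nat.beq c 0) false
          (and (Nat.beq (w k) (Nat.mod c 256))
            (and (intEqS (Nat.add acc (e k)) M (Nat.div (Nat.mod c 2048) 256))
              (ih L' (Nat.add acc er) (Nat.div c 2048))))) f

theorem cmpS_sound (w e : ℕ → ℕ) (er : ℕ) : ∀ (f : ℕ) (L : List (ℕ × ℤ)) (acc c : ℕ),
    cmpS w e er f L acc c = true → tr w e er acc L = dec f c := by
  intro f
  induction f with
  | zero =>
    intro L acc c h
    have h' : L.isEmpty = true := h
    rw [List.isEmpty_iff] at h'
    rw [h']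
    rfl
  | succ f ih =>
    intro L acc c h
    match L, h with
    | [], h =>
      have h' : Nat.beq c 0 = true := h
      rw [Nat.eq_of_beq_eq_true h']
      rfl
    | (k, M) :: L', h =>
      have h' : cond (Nat.beq c 0) false
          (and (Nat.beq (w k) (Nat.mod c 256))
            (and (intEqS (Nat.add acc (e k)) M (Nat.div (Nat.mod c 2048) 256))
              (cmpS w e er f L' (Nat.add acc er) (Nat.div c 2048)))) = true := h
      have h2 : dec (f + 1) c = cond (Nat.beq c 0) [] (dec1 c :: dec f (Nat.div c 2048)) := rfl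
      rw [h2]
      cases hc : Nat.beq c 0 with
      | true => rw [hc] at h'; simp at h'
      | false =>
        rw [hc, cond_false, Bool.and_eq_true, Bool.and_eq_true] at h'
        obtain ⟨h3, h4, h5⟩ := h'
        rw [cond_false, ← ih _ _ _ h5, dec1, ← intEqS_sound h4, ← Nat.eq_of_beq_eq_true h3]
        rfl

/-- Check of one row: `L` is the row of `r`, `R'` the packed row of `w r`, `er` the sign exponent of `r`. -/
def rowT (w e : ℕ → ℕ) (er R' : ℕ) (L : List (ℕ × Array (ℕ × ℤ))) : Bool :=
  List.rec true (fun x _ ih => and (cmpS w e er 3 x.2.toList (Nat.add er (e x.1)) (fld R' (w x.1))) ih) L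

theorem rowT_sound {w e : ℕ → ℕ} {er R' : ℕ} : ∀ {L : List (ℕ × Array (ℕ × ℤ))}, rowT w e er R' L = true →
    ∀ x ∈ L, tr w e er (er + e x.1) x.2.toList = dec 3 (fld R' (w x.1))
  | [], _, x, hx => by simp at hx
  | y :: L, h, x, hx => by
    have h' : and (cmpS w e er 3 y.2.toList (Nat.add er (e y.1)) (fld R' (w y.1))) (rowT w e er R' L) = true := h
    rw [Bool.and_eq_true] at h'
    rcases List.mem_cons.1 hx with rfl | hx
    · exact cmpS_sound _ _ _ _ _ _ _ h'.1
    · exact rowT_sound h'.2 x hx

/-- Check of all rows, starting with the row number `r`. -/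
def rowsT (T : Tree) (w e : ℕ → ℕ) (L : List (Array (ℕ × Array (ℕ × ℤ)))) : ℕ → Bool :=
  List.rec (fun _ => true)
    (fun a _ ih r => and (force (T.get (w r)) fun R' => force (e r) fun er => rowT w e er R' a.toList) (ih (Nat.succ r))) L

theorem rowsT_sound {T : Tree} {w e : ℕ → ℕ} : ∀ {L : List (Array (ℕ × Array (ℕ × ℤ)))} {r : ℕ},
    rowsT T w e L r = true → ∀ (j : ℕ) (a : Array (ℕ × Array (ℕ × ℤ))), L[j]? = some a →
      ∀ x ∈ a.toList, tr w e (e (r + j)) (e (r + j) + e x.1) x.2.toList = ce T (w (r + j)) (w x.1) := by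
  intro L
  induction L with
  | nil => intro r _ j a h; simp at h
  | cons b L ih =>
    intro r h j a hj x hx
    have h' : and (force (T.get (w r)) fun R' => force (e r) fun er => rowT w e er R' b.toList)
      (rowsT T w e L (r + 1)) = true := h
    rw [Bool.and_eq_true, force_eq, force_eq] at h'
    obtain ⟨h1, h2⟩ := h'
    cases j with
    | zero =>
      simp only [List.getElem?_cons_zero, Option.some.injEq] at hj
      subst hj
      exact rowT_sound h1 x hx
    | succ j =>
      rw [List.getElem?_cons_succ] at hj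
      have := ih h2 j a hj x hx
      have hrj : r + 1 + j = r + (j + 1) := by omega
      rw [hrj] at this
      exact this

/-- `w` is an involution of the indices below `n`. -/
def invol (w : ℕ → ℕ) (n : ℕ) : Bool := allLt n fun s => and (Nat.blt (w s) n) (Nat.beq (w (w s)) s)

theorem invol_sound {w : ℕ → ℕ} {n : ℕ} (h : invol w n = true) {s : ℕ} (hs : s < n) :
    w s < n ∧ w (w s) = s := by
  have := allLt_iff.1 h s hs
  rw [Bool.and_eq_true, Nat.blt_eq] at this
  exact ⟨this.1, Nat.eq_of_beq_eq_true this.2⟩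

theorem rowEntry_ne_nil {L : List (ℕ × Array (ℕ × ℤ))} {s : ℕ} (h : rowEntry L s ≠ []) :
    ∃ x ∈ L, x.1 = s ∧ rowEntry L s = x.2.toList := by
  unfold rowEntry at *
  cases hf : L.find? (fun e => e.1 = s) with
  | none => rw [hf] at h; exact absurd rfl h
  | some x =>
    rw [hf] at h
    refine ⟨x, List.mem_of_find?_eq_some hf, ?_, rfl⟩
    simpa using List.find?_some hf

/-- The main soundness theorem. -/
theorem chainEntry_w {D : ChevalleyDatum} {T : Tree} {w e : ℕ → ℕ}
    (h1 : rowsCheck T D.nroots D.chain.toList 0 = true)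
    (h2 : rowsT T w e D.chain.toList 0 = true)
    (h3 : invol w D.nroots = true)
    {r s : ℕ} (hr : r < D.nroots) (hs : s < D.nroots) :
    D.chainEntry (w r) (w s) = tr w e (e r) (e r + e s) (D.chainEntry r s) := by
  have hl := rowsCheck_length T D.nroots D.chain.toList 0 h1
  have key : ∀ r < D.nroots, ∀ s < D.nroots, D.chainEntry r s ≠ [] →
      D.chainEntry (w r) (w s) = tr w e (e r) (e r + e s) (D.chainEntry r s) := by
    intro r hr s hs hne
    rw [chainEntry_eq D T h1 (invol_sound h3 hr).1 (invol_sound h3 hs).1]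
    rw [chainEntry_eq_rowEntry] at hne ⊢
    have hr' : r < D.chain.size := by rw [← Array.length_toList]; omega
    have hget : D.chain.getD r #[] = D.chain[r] := by
      simp [Array.getD, hr']
    rw [hget] at hne ⊢
    obtain ⟨x, hx, hxs, hxe⟩ := rowEntry_ne_nil hne
    rw [hxe]
    have := rowsT_sound h2 r (D.chain[r]) (by simp [hr']) x hx
    rw [Nat.zero_add] at this
    rw [← hxs, this]
  by_cases hne : D.chainEntry r s = []
  · rw [hne]
    show D.chainEntry (w r) (w s) = []
    by_contra hne'
    have := key (w r) (invol_sound h3 hr).1 (w s) (invol_sound h3 hs).1 hne'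
    rw [(invol_sound h3 hr).2, (invol_sound h3 hs).2, hne] at this
    match hL : D.chainEntry (w r) (w s), hne', this with
    | x :: L, _, this => simp [tr] at this
  · exact key r hr s hs hne

end Cfsg.Agent.ChevalleyStructure.FastRefl
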