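import Mathlib

/-!
# The "sigma-fixed" subgroup of `GL` without a graph automorphism

`ι` finite, `S : ι → Bool` (the basis vectors spanning an ideal `I`), `bar` an involution of `ι` exchanging `S` and
its complement, `φ : K →+* K`. `fixSub` is the subgroup of all `g` which preserve `I` (`g j i = 0` for `i ∈ S`, `j ∉ S`)
and whose block on `I` is the entrywise `φ`-image of the block on `L/I` (relabelled by `bar`):
`g i j = φ (g (bar i) (bar j))` for `i j ∈ S`.
-/

set_option autoImplicit false
set_option linter.unusedSectionVars false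

namespace Cfsg.Agent.ChevalleyStructure.IdealFix

open Matrix

variable {ι : Type*} [Fintype ι] [DecidableEq ι] {K : Type*} [Field K]

/-- preserves the span of the basis vectors in `S` -/
def Pres (S : ι → Bool) (M : Matrix ι ι K) : Prop := ∀ i j, S i = false → S j = true → M i j = 0

/-- block on `S` = `φ` of block on the complement -/
def Rel (S : ι → Bool) (bar : ι → ι) (φ : K →+* K) (M : Matrix ι ι K) : Prop :=
  ∀ i j, S i = true → S j = true → M i j = φ (M (bar i) (bar j))

theorem pres_def {S : ι → Bool} {M : Matrix ι ι K} :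
    Pres S M ↔ ∀ i j, S i = false → S j = true → M i j = 0 := Iff.rfl

theorem rel_def {S : ι → Bool} {bar : ι → ι} {φ : K →+* K} {M : Matrix ι ι K} :
    Rel S bar φ M ↔ ∀ i j, S i = true → S j = true → M i j = φ (M (bar i) (bar j)) := Iff.rfl

theorem pres_one (S : ι → Bool) : Pres S (1 : Matrix ι ι K) := by
  intro i j hi hj
  apply Matrix.one_apply_ne
  rintro rfl
  rw [hi] at hj
  exact Bool.noConfusion hj

theorem Pres.mul {S : ι → Bool} {M N : Matrix ι ι K} (hM : Pres S M) (hN : Pres S N) : Pres S (M * N) := by
  intro i j hi hj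
  rw [Matrix.mul_apply]
  apply Finset.sum_eq_zero
  intro k _
  cases hk : S k
  · rw [hN k j hk hj, mul_zero]
  · rw [hM i k hi hk, zero_mul]

/-- the product on the `S`-block -/
theorem mul_apply_S {S : ι → Bool} {M N : Matrix ι ι K} (hN : Pres S N) {i j : ι} (hj : S j = true) :
    (M * N) i j = ∑ k ∈ Finset.univ.filter (fun k => S k = true), M i k * N k j := by
  rw [Matrix.mul_apply, Finset.sum_filter]
  apply Finset.sum_congr rfl
  intro k _
  by_cases hk : S k = true
  · rw [if_pos hk]
  · rw [if_neg hk, hN k j (Bool.eq_false_iff.2 hk) hj, mul_zero]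

/-- the product on the complementary block -/
theorem mul_apply_not {S : ι → Bool} {M N : Matrix ι ι K} (hM : Pres S M) {i j : ι} (hi : S i = false) :
    (M * N) i j = ∑ k ∈ Finset.univ.filter (fun k => S k = false), M i k * N k j := by
  rw [Matrix.mul_apply, Finset.sum_filter]
  apply Finset.sum_congr rfl
  intro k _
  by_cases hk : S k = false
  · rw [if_pos hk]
  · have hk' : S k = true := by simpa using hk
    rw [if_neg hk, hM i k hi hk', zero_mul]

section bar

variable {S : ι → Bool} {bar : ι → ι} (hbar : ∀ i, bar (bar i) = i) (hS : ∀ i, S (bar i) = !S i)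

include hbar hS

theorem sum_bar (f : ι → K) : ∑ k ∈ Finset.univ.filter (fun k => S k = false), f k =
    ∑ k ∈ Finset.univ.filter (fun k => S k = true), f (bar k) := by
  symm
  apply Finset.sum_bij (fun k _ => bar k)
  · intro k hk
    rw [Finset.mem_filter] at hk ⊢
    exact ⟨Finset.mem_univ _, by rw [hS, hk.2]; rfl⟩
  · intro a _ b _ hab
    rw [← hbar a, hab, hbar]
  · intro b hb
    rw [Finset.mem_filter] at hb
    exact ⟨bar b, by rw [Finset.mem_filter]; exact ⟨Finset.mem_univ _, by rw [hS, hb.2]; rfl⟩, hbar b⟩
  · intro a _; rfl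

theorem rel_one (φ : K →+* K) : Rel S bar φ (1 : Matrix ι ι K) := by
  intro i j _ _
  by_cases h : i = j
  · subst h; simp
  · have h' : bar i ≠ bar j := fun hh => h (by rw [← hbar i, hh, hbar])
    rw [Matrix.one_apply_ne h, Matrix.one_apply_ne h', map_zero]

theorem Rel.mul {φ : K →+* K} {M N : Matrix ι ι K} (hM : Rel S bar φ M) (hN : Rel S bar φ N)
    (hM' : Pres S M) (hN' : Pres S N) : Rel S bar φ (M * N) := by
  intro i j hi hj
  have hi' : S (bar i) = false := by rw [hS, hi]; rfl
  rw [mul_apply_S hN' hj, mul_apply_not hM' hi', map_sum, sum_bar hbar hS]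
  apply Finset.sum_congr rfl
  intro k hk
  rw [Finset.mem_filter] at hk
  rw [hM i k hi hk.2, hN k j hk.2 hj, map_mul]

/-- inverse: if `M` satisfies both conditions and `M * N = 1` then so does `N` -/
theorem inv_mem {φ : K →+* K} {M N : Matrix ι ι K} (hM : Rel S bar φ M) (hM' : Pres S M) (h1 : M * N = 1) :
    Pres S N ∧ Rel S bar φ N := by
  have h2 : N * M = 1 := mul_eq_one_comm.mp h1
  have hN' : Pres S N := by
    have hbt : M.BlockTriangular (fun i => if S i = true then (0 : ℕ) else 1) := by
      intro i j hij0
      have hij : (if S j = true then (0 : ℕ) else 1) < (if S i = true then (0 : ℕ) else 1) := hij0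
      by_cases hi : S i = true
      · rw [if_pos hi] at hij
        simp at hij
      · by_cases hj : S j = true
        · exact hM' i j (Bool.eq_false_iff.2 hi) hj
        · rw [if_neg hi, if_neg hj] at hij
          exact absurd hij (lt_irrefl _)
    have : Invertible M := ⟨N, h2, h1⟩
    have hinv : N = M⁻¹ := (Matrix.inv_eq_right_inv h1).symm
    have hN := Matrix.blockTriangular_inv_of_blockTriangular hbt
    rw [← hinv] at hN
    intro i j hi hj
    apply hN
    simp only [hi, hj]
    simp
  refine ⟨hN', ?_⟩
  -- `X k j = φ (N (bar k) (bar j))` is a right inverse of the `S`-block of `M`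
  have hX : ∀ i j, S i = true → S j = true →
      ∑ k ∈ Finset.univ.filter (fun k => S k = true), M i k * φ (N (bar k) (bar j)) =
        if i = j then 1 else 0 := by
    intro i j hi hj
    have hi' : S (bar i) = false := by rw [hS, hi]; rfl
    have h3 := mul_apply_not (N := N) hM' (i := bar i) (j := bar j) hi'
    rw [h1, sum_bar hbar hS] at h3
    have h4 := congrArg φ h3
    rw [map_sum] at h4
    have h5 : φ ((1 : Matrix ι ι K) (bar i) (bar j)) = if i = j then 1 else 0 := by
      by_cases h : i = j
      · subst h; simp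
      · have h' : bar i ≠ bar j := fun hh => h (by rw [← hbar i, hh, hbar])
        rw [Matrix.one_apply_ne h', map_zero, if_neg h]
    rw [← h5, h4]
    apply Finset.sum_congr rfl
    intro k hk
    rw [Finset.mem_filter] at hk
    rw [hM i k hi hk.2, map_mul]
  intro i j hi hj
  -- multiply on the left by the `S`-block of `N`
  have h6 : ∑ l ∈ Finset.univ.filter (fun k => S k = true), N i l *
      (∑ k ∈ Finset.univ.filter (fun k => S k = true), M l k * φ (N (bar k) (bar j))) = N i j := by
    have : ∀ l ∈ Finset.univ.filter (fun k => S k = true), N i l *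
      (∑ k ∈ Finset.univ.filter (fun k => S k = true), M l k * φ (N (bar k) (bar j))) =
        if l = j then N i l else 0 := by
      intro l hl
      rw [Finset.mem_filter] at hl
      rw [hX l j hl.2 hj]
      by_cases h : l = j
      · rw [if_pos h, if_pos h, mul_one]
      · rw [if_neg h, if_neg h, mul_zero]
    rw [Finset.sum_congr rfl this, Finset.sum_ite_eq' _ j]
    rw [if_pos (by rw [Finset.mem_filter]; exact ⟨Finset.mem_univ _, hj⟩)]
  have h7 : ∑ l ∈ Finset.univ.filter (fun k => S k = true), N i l *
      (∑ k ∈ Finset.univ.filter (fun k => S k = true), M l k * φ (N (bar k) (bar j))) =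
      φ (N (bar i) (bar j)) := by
    have e1 : ∀ l, N i l *
      (∑ k ∈ Finset.univ.filter (fun k => S k = true), M l k * φ (N (bar k) (bar j))) =
      ∑ k ∈ Finset.univ.filter (fun k => S k = true), N i l * M l k * φ (N (bar k) (bar j)) := by
      intro l
      rw [Finset.mul_sum]
      apply Finset.sum_congr rfl
      intro k _
      ring
    simp only [e1]
    rw [Finset.sum_comm]
    have e2 : ∀ k ∈ Finset.univ.filter (fun k => S k = true),
        ∑ l ∈ Finset.univ.filter (fun k => S k = true), N i l * M l k * φ (N (bar k) (bar j)) =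
        if i = k then φ (N (bar k) (bar j)) else 0 := by
      intro k hk
      rw [Finset.mem_filter] at hk
      rw [← Finset.sum_mul, ← mul_apply_S hM' hk.2, h2]
      by_cases h : i = k
      · subst h; simp
      · rw [Matrix.one_apply_ne h, zero_mul, if_neg h]
    rw [Finset.sum_congr rfl e2, Finset.sum_ite_eq _ i]
    rw [if_pos (by rw [Finset.mem_filter]; exact ⟨Finset.mem_univ _, hi⟩)]
  rw [← h6, h7]

end bar

/-- The subgroup of `GL` of the elements satisfying both conditions. -/
def fixSub (S : ι → Bool) (bar : ι → ι) (hbar : ∀ i, bar (bar i) = i) (hS : ∀ i, S (bar i) = !S i)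
    (φ : K →+* K) : Subgroup (GL ι K) where
  carrier := {g | Pres S (g : Matrix ι ι K) ∧ Rel S bar φ (g : Matrix ι ι K)}
  one_mem' := ⟨by rw [Units.val_one]; exact pres_one S, by rw [Units.val_one]; exact rel_one hbar hS φ⟩
  mul_mem' := by
    rintro a b ⟨ha, ha'⟩ ⟨hb, hb'⟩
    refine ⟨?_, ?_⟩
    · rw [Units.val_mul]; exact ha.mul hb
    · rw [Units.val_mul]; exact Rel.mul hbar hS ha' hb' ha hb
  inv_mem' := by
    rintro a ⟨ha, ha'⟩
    have h1 : (a : Matrix ι ι K) * ((a⁻¹ : GL ι K) : Matrix ι ι K) = 1 := by
      rw [← Units.val_mul, mul_inv_cancel, Units.val_one]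
    exact inv_mem hbar hS ha' ha h1

theorem mem_fixSub {S : ι → Bool} {bar : ι → ι} {hbar : ∀ i, bar (bar i) = i} {hS : ∀ i, S (bar i) = !S i}
    {φ : K →+* K} {g : GL ι K} :
    g ∈ fixSub S bar hbar hS φ ↔ (∀ i j, S i = false → S j = true → (g : Matrix ι ι K) i j = 0) ∧
      ∀ i j, S i = true → S j = true →
        (g : Matrix ι ι K) i j = φ ((g : Matrix ι ι K) (bar i) (bar j)) := Iff.rfl

end Cfsg.Agent.ChevalleyStructure.IdealFix
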