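import Cfsg.Agent.ChevalleyStructure.Sparse
import Cfsg.Agent.ChevalleyStructure.SparseHDiag
import Cfsg.Agent.ChevalleyStructure.IdealFix
import Cfsg.Agent.ChevStructure.FieldMap

/-!
# The special isogeny read off the tables: `x_r(t^μ(r))` on `I` equals `x_{bar r}(t)` on `L/I`

Generic reduction of the statement "`twisted group ≤ fixSub`" to kernel checks (characteristic `p`, `p = 2` for
F₄ and B₂, `p = 3` for G₂). `SN n` says that the basis vector with number `n` lies in the ideal `I`, `barN` is the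
relabelling (an involution of the numbers of basis vectors).
-/

set_option autoImplicit false

namespace Cfsg.Agent.ChevalleyStructure.FixTables

open Cfsg.Lie Cfsg.Lie.ChevalleyDatum Cfsg.Agent.ChevalleyStructure.Sparse
  Cfsg.Agent.ChevalleyStructure.SparseHDiag Cfsg.Agent.ChevalleyStructure.IdealFix

noncomputable section

/-- one variable, exponents in `ℕ`, coefficients modulo `p` -/
def opsP (p : ℤ) : Ops ℕ := ⟨Nat.add, Nat.beq, fun c => Int.emod c p⟩

def evP {K : Type*} [Field K] {p : ℤ} (hp : (p : K) = 0) (t : K) : Ev (opsP p) K where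
  ev a := t ^ a
  ev_add a b := pow_add t a b
  ev_beq a b h := by rw [Nat.eq_of_beq_eq_true h]
  nrm_eq c := by
    show ((Int.emod c p : ℤ) : K) = (c : K)
    have h := Int.emod_def c p
    have h' : (Int.emod c p : ℤ) = c - p * (c / p) := h
    rw [h']
    push_cast
    rw [hp]
    ring

/-- difference of two lists of terms -/
def dif {E : Type} (O : Ops E) (A B : List (Term E)) : List (Term E) :=
  List.rec A (fun x _ ih => ins O x.j x.a (Int.neg x.c) ih) B

theorem dif_cons {E : Type} (O : Ops E) (A B : List (Term E)) (x : Term E) :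
    dif O A (x :: B) = ins O x.j x.a (Int.neg x.c) (dif O A B) := rfl

theorem dif_sound {E : Type} {O : Ops E} {K : Type*} [Field K] (V : Ev O K) (A B : List (Term E)) (n : ℕ) :
    evalV V (dif O A B) n = evalV V A n - evalV V B n := by
  induction B with
  | nil => simp [dif, evalV_nil]
  | cons x B ih =>
    rw [dif_cons, ins_sound, ih, evalV_cons, evalTerm]
    have : ((Int.neg x.c : ℤ) : K) = - (x.c : K) := by
      have : (Int.neg x.c : ℤ) = - x.c := rfl
      rw [this]; push_cast; ring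
    rw [this]
    split_ifs <;> ring

/-- is the list empty? -/
def isNil {α : Type} (l : List α) : Bool := List.rec true (fun _ _ _ => false) l

theorem eq_nil_of_isNil {α : Type} {l : List α} (h : isNil l = true) : l = [] := by
  cases l with
  | nil => rfl
  | cons a l => exact Bool.noConfusion h

/-- keep the terms with index satisfying `q`, relabelled by `f` -/
def filterMapT {E : Type} (q : ℕ → Bool) (f : ℕ → ℕ) (l : List (Term E)) : List (Term E) :=
  List.rec [] (fun x _ ih => bif q x.j then ⟨f x.j, x.a, x.c⟩ :: ih else ih) l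

theorem filterMapT_cons {E : Type} (q : ℕ → Bool) (f : ℕ → ℕ) (x : Term E) (l : List (Term E)) :
    filterMapT q f (x :: l) = bif q x.j then ⟨f x.j, x.a, x.c⟩ :: filterMapT q f l else filterMapT q f l := rfl

theorem filterMapT_sound {E : Type} {O : Ops E} {K : Type*} [Field K] (V : Ev O K) (q : ℕ → Bool) (f : ℕ → ℕ)
    (hf : Function.Injective f) (l : List (Term E)) (n : ℕ) (hn : q n = true) :
    evalV V (filterMapT q f l) (f n) = evalV V l n := by
  induction l with
  | nil => rfl
  | cons x l ih =>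
    rw [filterMapT_cons, evalV_cons]
    cases h : q x.j
    · rw [cond_false, ih, evalTerm, if_neg, zero_add]
      rintro rfl
      rw [hn] at h
      exact Bool.noConfusion h
    · rw [cond_true, evalV_cons, ih, evalTerm, evalTerm]
      by_cases hx : x.j = n
      · rw [if_pos hx, if_pos (by rw [hx])]
      · rw [if_neg hx, if_neg (fun hh => hx (hf hh))]

/-- the combinatorial data of the special isogeny -/
structure FixData where
  D : ChevalleyDatum
  p : ℕ
  SN : ℕ → Bool
  barN : ℕ → ℕ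

/-- exponent `μ(r)`: `1` for `r` short, `p` for `r` long -/
def FixData.mu (T : FixData) (r : ℕ) : ℕ := bif T.SN (Nat.add T.D.rank r) then 1 else T.p

/-- the relabelling of roots -/
def FixData.rb (T : FixData) (r : ℕ) : ℕ := Nat.sub (T.barN (Nat.add T.D.rank r)) T.D.rank

/-- all terms have index in `S` -/
def allS {E : Type} (SN : ℕ → Bool) (l : List (Term E)) : Bool :=
  List.rec true (fun x _ ih => bif SN x.j then ih else false) l

theorem evalV_of_allS {E : Type} {O : Ops E} {K : Type*} [Field K] (V : Ev O K) (SN : ℕ → Bool)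
    (l : List (Term E)) (h : allS SN l = true) (n : ℕ) (hn : SN n = false) : evalV V l n = 0 := by
  induction l with
  | nil => rfl
  | cons x l ih =>
    have h' : (bif SN x.j then allS SN l else false) = true := h
    cases hx : SN x.j
    · rw [hx] at h'; exact Bool.noConfusion h'
    · rw [hx, cond_true] at h'
      rw [evalV_cons, ih h', evalTerm, if_neg, zero_add]
      rintro rfl
      rw [hn] at hx
      exact Bool.noConfusion hx

/-- the kernel check for the root `r` -/
def rootCheck (T : FixData) (r : ℕ) : Bool :=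
  bif decide (goodRow T.D r) then
  allRange (fun j => bif T.SN j then
    (bif allS T.SN (act T.D (opsP T.p) ⟨r, 1, 1⟩ [⟨j, 0, 1⟩]) then
      isNil (dif (opsP T.p) (filterMapT T.SN T.barN (act T.D (opsP T.p) ⟨r, T.mu r, 1⟩ [⟨j, 0, 1⟩]))
        (filterMapT (fun n => !(T.SN n)) (fun n => n) (act T.D (opsP T.p) ⟨T.rb r, 1, 1⟩ [⟨T.barN j, 0, 1⟩])))
    else false) else true) 0 (Nat.add T.D.rank T.D.nroots)
  else false

/-- the conditions on the tables -/
structure Ok (T : FixData) : Prop where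
  barN_barN : ∀ n, T.barN (T.barN n) = n
  barN_rank : ∀ n, n < T.D.rank → T.barN n < T.D.rank
  barN_roots : ∀ r, r < T.D.nroots → T.D.rank ≤ T.barN (T.D.rank + r) ∧
    T.barN (T.D.rank + r) < T.D.rank + T.D.nroots
  SN_barN : ∀ n, n < T.D.rank + T.D.nroots → T.SN (T.barN n) = !(T.SN n)
  root : ∀ r, r < T.D.nroots → rootCheck T r = true

variable {T : FixData} (hT : Ok T)

include hT

theorem rb_lt {r : ℕ} (hr : r < T.D.nroots) : T.rb r < T.D.nroots := by
  have h := hT.barN_roots r hr
  show T.barN (T.D.rank + r) - T.D.rank < T.D.nroots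
  omega

theorem rank_add_rb {r : ℕ} (hr : r < T.D.nroots) : T.D.rank + T.rb r = T.barN (T.D.rank + r) := by
  have h := hT.barN_roots r hr
  show T.D.rank + (T.barN (T.D.rank + r) - T.D.rank) = _
  omega

theorem rb_rb {r : ℕ} (hr : r < T.D.nroots) : T.rb (T.rb r) = r := by
  have h1 := rank_add_rb hT (rb_lt hT hr)
  rw [rank_add_rb hT hr, hT.barN_barN] at h1
  omega

theorem barN_injective : Function.Injective T.barN := fun a b h => by
  rw [← hT.barN_barN a, h, hT.barN_barN]

omit hT in
/-- membership in `I` for an index -/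
def S (T : FixData) : T.D.Idx → Bool := fun i => T.SN (idxNat T.D i)

/-- the relabelling of indices -/
def bar : T.D.Idx → T.D.Idx
  | Sum.inl i => Sum.inl ⟨T.barN i.val, hT.barN_rank i.val i.isLt⟩
  | Sum.inr r => Sum.inr ⟨T.rb r.val, rb_lt hT r.isLt⟩

theorem idxNat_bar (i : T.D.Idx) : idxNat T.D (bar hT i) = T.barN (idxNat T.D i) := by
  rcases i with i | r
  · rfl
  · show T.D.rank + T.rb r.val = T.barN (T.D.rank + r.val)
    exact rank_add_rb hT r.isLt

theorem bar_bar (i : T.D.Idx) : bar hT (bar hT i) = i := by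
  apply idxNat_injective
  rw [idxNat_bar, idxNat_bar, hT.barN_barN]

theorem S_bar (i : T.D.Idx) : S T (bar hT i) = !(S T i) := by
  unfold S
  rw [idxNat_bar]
  exact hT.SN_barN _ (idxNat_lt _ _)

theorem goodRow_of_lt {r : ℕ} (hr : r < T.D.nroots) : goodRow T.D r := by
  have h := hT.root r hr
  unfold rootCheck at h
  cases h1 : decide (goodRow T.D r)
  · rw [h1] at h; exact Bool.noConfusion h
  · exact of_decide_eq_true h1

theorem root_col {r : ℕ} (hr : r < T.D.nroots) {j : T.D.Idx} (hj : S T j = true) :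
    allS T.SN (act T.D (opsP T.p) ⟨r, 1, 1⟩ [⟨idxNat T.D j, 0, 1⟩]) = true ∧
      dif (opsP T.p) (filterMapT T.SN T.barN (act T.D (opsP T.p) ⟨r, T.mu r, 1⟩ [⟨idxNat T.D j, 0, 1⟩]))
        (filterMapT (fun n => !(T.SN n)) (fun n => n)
          (act T.D (opsP T.p) ⟨T.rb r, 1, 1⟩ [⟨T.barN (idxNat T.D j), 0, 1⟩])) = [] := by
  have h := hT.root r hr
  unfold rootCheck at h
  rw [decide_eq_true (goodRow_of_lt hT hr), cond_true] at h
  have h2 := allRange_spec h (idxNat T.D j) (Nat.zero_le _) (by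
    have h3 := idxNat_lt T.D j
    show _ < 0 + (T.D.rank + T.D.nroots)
    omega)
  have hj' : T.SN (idxNat T.D j) = true := hj
  simp only [hj', cond_true] at h2
  cases h3 : allS T.SN (act T.D (opsP T.p) ⟨r, 1, 1⟩ [⟨idxNat T.D j, 0, 1⟩])
  · rw [h3] at h2; exact Bool.noConfusion h2
  · rw [h3, cond_true] at h2
    exact ⟨rfl, eq_nil_of_isNil h2⟩

variable {K : Type*} [Field K] (hp : ((T.p : ℤ) : K) = 0)

include hp

/-- a column of a root element by the sparse action -/
theorem x_apply {r : ℕ} (hr : r < T.D.nroots) (t : K) (e : ℕ) (i j : T.D.Idx) :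
    T.D.x K r (t ^ e) i j = evalV (evP hp t) (act T.D (opsP T.p) ⟨r, e, 1⟩ [⟨idxNat T.D j, 0, 1⟩]) (idxNat T.D i) := by
  have h := act_sound T.D (evP hp t) ⟨r, e, 1⟩ (goodRow_of_lt hT hr) [⟨idxNat T.D j, 0, 1⟩]
  rw [vec_single] at h
  have e1 : (((1 : ℤ) : K)) * (evP hp t).ev 0 = 1 := by
    show ((1 : ℤ) : K) * t ^ 0 = 1
    simp
  have e2 : (((1 : ℤ) : K)) * (evP hp t).ev e = t ^ e := by
    show ((1 : ℤ) : K) * t ^ e = t ^ e
    simp
  have e3 : T.D.x K r (t ^ e) = T.D.x K (Letter.mk r e (1 : ℤ)).r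
      (((Letter.mk r e (1 : ℤ)).c : K) * (evP hp t).ev (Letter.mk r e (1 : ℤ)).a) := by
    show T.D.x K r (t ^ e) = T.D.x K r (((1 : ℤ) : K) * (evP hp t).ev e)
    rw [e2]
  rw [e3]
  have h2 := congrFun h i
  rw [e1, Matrix.mulVec_single_one] at h2
  exact h2

theorem pres_x {r : ℕ} (hr : r < T.D.nroots) (t : K) : Pres (S T) (T.D.x K r t) := by
  intro i j hi hj
  have h := x_apply hT hp hr t 1 i j
  rw [pow_one] at h
  rw [h]
  exact evalV_of_allS _ _ _ (root_col hT hr hj).1 _ hi

/-- `x_r(t ^ μ(r))` on `I` is `x_{bar r}(t)` on `L/I` -/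
theorem x_S_eq {r : ℕ} (hr : r < T.D.nroots) (t : K) {i j : T.D.Idx} (hi : S T i = true) (hj : S T j = true) :
    T.D.x K r (t ^ T.mu r) i j = T.D.x K (T.rb r) t (bar hT i) (bar hT j) := by
  have h1 := x_apply hT hp hr t (T.mu r) i j
  have h2 := x_apply hT hp (rb_lt hT hr) t 1 (bar hT i) (bar hT j)
  rw [pow_one, idxNat_bar, idxNat_bar] at h2
  rw [h1, h2]
  have h3 := dif_sound (evP hp t) (filterMapT T.SN T.barN (act T.D (opsP T.p) ⟨r, T.mu r, 1⟩ [⟨idxNat T.D j, 0, 1⟩]))
        (filterMapT (fun n => !(T.SN n)) (fun n => n)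
          (act T.D (opsP T.p) ⟨T.rb r, 1, 1⟩ [⟨T.barN (idxNat T.D j), 0, 1⟩])) (T.barN (idxNat T.D i))
  rw [(root_col hT hr hj).2, evalV_nil, filterMapT_sound _ _ _ (barN_injective hT) _ _ hi] at h3
  have h4 : (fun n => !(T.SN n)) (T.barN (idxNat T.D i)) = true := by
    show (!(T.SN (T.barN (idxNat T.D i)))) = true
    rw [hT.SN_barN _ (idxNat_lt _ _)]
    have : T.SN (idxNat T.D i) = true := hi
    rw [this]; rfl
  have h5 := filterMapT_sound (evP hp t) (fun n => !(T.SN n)) (fun n => n) (fun _ _ h => h)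
    (act T.D (opsP T.p) ⟨T.rb r, 1, 1⟩ [⟨T.barN (idxNat T.D j), 0, 1⟩]) (T.barN (idxNat T.D i)) h4
  rw [h5] at h3
  exact (sub_eq_zero.1 h3.symm)

omit hT hp in
/-- the word after applying `x_r(c) ↦ x_{bar r}(φ(c)^μ(bar r))` -/
def sigWord (T : FixData) (φ : K →+* K) (w : List (ℕ × K)) : List (ℕ × K) :=
  w.map fun q => (T.rb q.1, φ q.2 ^ T.mu (T.rb q.1))

theorem pres_word {w : List (ℕ × K)} (hw : ∀ q ∈ w, q.1 < T.D.nroots) : Pres (S T) (T.D.wordMat K w) := by
  induction w with
  | nil => exact pres_one _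
  | cons q w ih =>
    have h1 : T.D.wordMat K (q :: w) = T.D.x K q.1 q.2 * T.D.wordMat K w := by
      simp [ChevalleyDatum.wordMat]
    rw [h1]
    exact (pres_x hT hp (hw q List.mem_cons_self) q.2).mul (ih fun q' hq' => hw q' (List.mem_cons_of_mem _ hq'))

theorem word_S_eq (φ : K →+* K) {w : List (ℕ × K)} (hw : ∀ q ∈ w, q.1 < T.D.nroots) {i j : T.D.Idx}
    (hi : S T i = true) (hj : S T j = true) :
    T.D.wordMat K (sigWord T φ w) i j = φ (T.D.wordMat K w (bar hT i) (bar hT j)) := by
  induction w generalizing i with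
  | nil =>
    show (1 : Matrix T.D.Idx T.D.Idx K) i j = φ ((1 : Matrix T.D.Idx T.D.Idx K) (bar hT i) (bar hT j))
    exact rel_one (bar_bar hT) (S_bar hT) φ i j hi hj
  | cons q w ih =>
    have hw' : ∀ q ∈ w, q.1 < T.D.nroots := fun q' hq' => hw q' (List.mem_cons_of_mem _ hq')
    have hq := hw q List.mem_cons_self
    have h1 : T.D.wordMat K (q :: w) = T.D.x K q.1 q.2 * T.D.wordMat K w := by
      simp [ChevalleyDatum.wordMat]
    have h2 : T.D.wordMat K (sigWord T φ (q :: w)) =
        T.D.x K (T.rb q.1) (φ q.2 ^ T.mu (T.rb q.1)) * T.D.wordMat K (sigWord T φ w) := by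
      simp [ChevalleyDatum.wordMat, sigWord]
    have hsw : ∀ q' ∈ sigWord T φ w, q'.1 < T.D.nroots := by
      intro q' hq'
      rw [sigWord, List.mem_map] at hq'
      obtain ⟨a, ha, rfl⟩ := hq'
      exact rb_lt hT (hw' a ha)
    have hi' : S T (bar hT i) = false := by rw [S_bar hT, hi]; rfl
    rw [h1, h2, mul_apply_S (pres_word hT hp hsw) hj, mul_apply_not (pres_x hT hp hq q.2) hi', map_sum,
      sum_bar (bar_bar hT) (S_bar hT)]
    apply Finset.sum_congr rfl
    intro k hk
    rw [Finset.mem_filter] at hk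
    rw [map_mul, ih hw' hk.2]
    congr 1
    have h3 := x_S_eq hT hp (rb_lt hT hq) (φ q.2) hi hk.2
    rw [rb_rb hT hq] at h3
    rw [h3, ← Cfsg.Agent.ChevStructure.FieldMap.x_map T.D φ q.1 q.2]
    rfl

/-- the generated subgroup of a set of words fixed by `sigWord` lies in `fixSub` -/
theorem genSubgroup_le_fixSub (φ : K →+* K) (W : Set (List (ℕ × K)))
    (hW : ∀ w ∈ W, (∀ q ∈ w, q.1 < T.D.nroots) ∧ T.D.wordMat K (sigWord T φ w) = T.D.wordMat K w) :
    T.D.genSubgroup K W ≤ fixSub (S T) (bar hT) (bar_bar hT) (S_bar hT) φ := by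
  unfold ChevalleyDatum.genSubgroup
  rw [Subgroup.closure_le]
  rintro g ⟨w, hw, hg⟩
  obtain ⟨h1, h2⟩ := hW w hw
  refine ⟨?_, ?_⟩
  · rw [hg]; exact pres_word hT hp h1
  · rw [hg]
    intro i j hi hj
    rw [← word_S_eq hT hp φ h1 hi hj, h2]

end

end Cfsg.Agent.ChevalleyStructure.FixTables
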