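import Cfsg.Agent.ChevalleyStructure.G2Sym

set_option autoImplicit false

namespace Cfsg.Agent.ChevalleyStructure.G2N

open Cfsg.Lie Cfsg.Agent.ChevalleyStructure.G2Sym

variable {F : Type*} [Field F]

def cst (c : ℤ) : Poly := [([], c)]
/-- `c t` -/
def tv (c : ℤ) : Poly := [([1], c)]
/-- `c u` -/
def uv (c : ℤ) : Poly := [([0, 1], c)]

def Wtab : List (List ℕ) := [[11, 6, 8, 9, 4, 10, 1, 7, 2, 3, 5, 0], [5, 10, 7, 3, 9, 0, 11, 2, 8, 4, 1, 6],
  [10, 11, 9, 7, 8, 5, 6, 3, 4, 2, 0, 1], [6, 1, 4, 8, 2, 11, 0, 9, 3, 7, 10, 5], [0, 5, 3, 2, 7, 1, 10, 4, 9, 8, 6, 11],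
  [1, 0, 2, 4, 3, 6, 5, 8, 7, 9, 11, 10], [1, 0, 2, 4, 3, 6, 5, 8, 7, 9, 11, 10], [0, 5, 3, 2, 7, 1, 10, 4, 9, 8, 6, 11],
  [6, 1, 4, 8, 2, 11, 0, 9, 3, 7, 10, 5], [10, 11, 9, 7, 8, 5, 6, 3, 4, 2, 0, 1], [5, 10, 7, 3, 9, 0, 11, 2, 8, 4, 1, 6],
  [11, 6, 8, 9, 4, 10, 1, 7, 2, 3, 5, 0]]
def Etab : List (List ℤ) := [[-1, -1, -1, 1, 1, 1, 1, 1, 1, -1, -1, -1], [-1, -1, -1, 1, 1, 1, 1, 1, 1, -1, -1, -1],
  [-1, 1, -1, -1, 1, 1, 1, 1, -1, -1, 1, -1], [-1, 1, -1, -1, 1, 1, 1, 1, -1, -1, 1, -1],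
  [1, 1, 1, -1, -1, -1, -1, -1, -1, 1, 1, 1], [1, -1, 1, 1, -1, -1, -1, -1, 1, 1, -1, 1],
  [-1, 1, 1, -1, 1, -1, -1, 1, -1, 1, 1, -1], [1, -1, -1, 1, -1, 1, 1, -1, 1, -1, -1, 1],
  [1, 1, 1, -1, -1, -1, -1, -1, -1, 1, 1, 1], [1, -1, -1, 1, -1, 1, 1, -1, 1, -1, -1, 1],
  [1, -1, 1, 1, -1, -1, -1, -1, 1, 1, -1, 1], [-1, 1, 1, -1, 1, -1, -1, 1, -1, 1, 1, -1]]
/-- index of the reflected root `w_r(s)` -/
def W (r s : ℕ) : ℕ := (Wtab.getD r []).getD s 0
/-- sign with `n_r(1) e_s = E_{r,s} e_{w_r s}` -/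
def E (r s : ℕ) : ℤ := (Etab.getD r []).getD s 1

/-- the word `n_r(1)` -/
def nW (r : ℕ) : List (ℕ × Poly) := [(r, cst 1), (11 - r, cst (-1)), (r, cst 1)]

theorem check_add : ∀ r : Fin 12, chk 0 [(r.val, tv 1), (r.val, uv 1)] [(r.val, [([0, 1], 1), ([1], 1)])] = true := by
  decide +kernel

theorem check_conj_a : ∀ s : Fin 12, chk 0 (nW 7 ++ [(s.val, tv 1)]) ((W 7 s.val, tv (E 7 s.val)) :: nW 7) = true := by
  decide +kernel

theorem check_conj_b : ∀ s : Fin 12, chk 0 (nW 6 ++ [(s.val, tv 1)]) ((W 6 s.val, tv (E 6 s.val)) :: nW 6) = true := by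
  decide +kernel

/-- columns of `n_r(1)` at root vectors -/
theorem check_col : ∀ r s : Fin 12, decide (runS 0 (nW r.val) (unitS (2 + s.val)) =
    [(2 + W r.val s.val, cst (E r.val s.val))]) = true := by
  decide +kernel

theorem evP_cst (ρ : ℕ → F) (c : ℤ) : evP ρ (cst c) = (c : F) := by simp [cst, evP, evM]
theorem evP_tv (ρ : ℕ → F) (c : ℤ) : evP ρ (tv c) = (c : F) * ρ 0 := by simp [tv, evP, evM]
theorem evP_uv (ρ : ℕ → F) (c : ℤ) : evP ρ (uv c) = (c : F) * ρ 1 := by simp [uv, evP, evM]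

theorem cast_zero_int : ((0 : ℤ) : F) = 0 := Int.cast_zero

/-! ### Root elements -/

theorem x_add (r : ℕ) (t u : F) : chevG2.x F r t * chevG2.x F r u = chevG2.x F r (t + u) := by
  by_cases hr : r < 12
  · have h := word_eq (F := F) cast_zero_int (fun k => if k = 0 then t else u) _ _ (check_add ⟨r, hr⟩)
    have h1 : evP (fun k => if k = 0 then t else u) [([0, 1], 1), ([1], 1)] = t + u := by
      simp [evP, evM, add_comm]
    simpa [ChevalleyDatum.wordMat, evP_tv, evP_uv, h1] using h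
  · have h1 : ∀ v : F, chevG2.x F r v = 1 := fun v => dif_neg hr
    rw [h1, h1, h1, one_mul]

theorem x_zero (r : ℕ) : chevG2.x F r 0 = 1 := by
  by_cases hr : r < chevG2.nroots
  · ext i j
    rw [ChevalleyDatum.x, dif_pos hr, xMat_apply, sel, evU_append]
    have h2 : ∀ r : Fin 12, ∀ i j : Fin 14, ∀ c ∈ col r.val j.val, c.2.1 ≠ 0 := by decide +kernel
    have h3 : evU (0 : F) (((col r (flat j)).filter fun c => decide (c.1 = flat i)).map fun c => c.2) = 0 := by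
      have h4 : ∀ c ∈ col r (flat j), c.2.1 ≠ 0 := fun c hc =>
        h2 ⟨r, hr⟩ ⟨0, by decide⟩ ⟨flat j, flat_lt j⟩ c hc
      unfold evU
      apply List.sum_eq_zero
      intro y hy
      simp only [List.map_map, List.mem_map, List.mem_filter, Function.comp_apply] at hy
      obtain ⟨c, ⟨hc, -⟩, rfl⟩ := hy
      rw [zero_pow (h4 c hc), mul_zero]
    rw [h3, add_zero]
    by_cases hij : i = j
    · subst hij
      simp [evU]
    · have h1 : ¬ flat i = flat j := fun h => hij (flat_injective h)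
      rw [if_neg h1, Matrix.one_apply_ne hij]
      simp [evU]
  · rw [ChevalleyDatum.x, dif_neg hr]

/-- the root element `x_r(t)` as a unit -/
def xG (r : ℕ) (t : F) : GL chevG2.Idx F where
  val := chevG2.x F r t
  inv := chevG2.x F r (-t)
  val_inv := by rw [x_add, add_neg_cancel, x_zero]
  inv_val := by rw [x_add, neg_add_cancel, x_zero]

theorem coe_xG (r : ℕ) (t : F) : (xG r t : Matrix chevG2.Idx chevG2.Idx F) = chevG2.x F r t := rfl

theorem xG_add (r : ℕ) (t u : F) : xG r (t + u) = xG r t * xG r u :=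
  Units.ext (x_add r t u).symm

theorem xG_zero (r : ℕ) : xG r (0 : F) = 1 := Units.ext (x_zero r)

theorem xG_neg (r : ℕ) (t : F) : xG r (-t) = (xG r t)⁻¹ := by
  rw [eq_inv_iff_mul_eq_one, ← xG_add, neg_add_cancel, xG_zero]

/-- `n_r(t)` -/
def nG (r : ℕ) (t : F) : GL chevG2.Idx F := xG r t * xG (chevG2.neg r) (-t⁻¹) * xG r t

theorem coe_nG (r : ℕ) (t : F) : (nG r t : Matrix chevG2.Idx chevG2.Idx F) = chevG2.nMat F r t := by
  show chevG2.x F r t * chevG2.x F (chevG2.neg r) (-t⁻¹) * chevG2.x F r t = _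
  simp [ChevalleyDatum.nMat, ChevalleyDatum.wordMat, ChevalleyDatum.nWord, mul_assoc]

/-- `h_r(t)` -/
def hG (r : ℕ) (t : F) : GL chevG2.Idx F := nG r t * nG r (-1)

theorem coe_hG (r : ℕ) (t : F) : (hG r t : Matrix chevG2.Idx chevG2.Idx F) = chevG2.hMat F r t := by
  show (nG r t : Matrix chevG2.Idx chevG2.Idx F) * (nG r (-1 : F) : Matrix chevG2.Idx chevG2.Idx F) = _
  rw [coe_nG, coe_nG]
  simp [ChevalleyDatum.nMat, ChevalleyDatum.hMat, ChevalleyDatum.wordMat, ChevalleyDatum.hWord]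

theorem nG_inv (r : ℕ) (t : F) : (nG r t)⁻¹ = nG r (-t) := by
  rw [inv_eq_iff_mul_eq_one]
  unfold nG
  have h1 : xG r (-t) = (xG r t)⁻¹ := xG_neg r t
  have h2 : xG (chevG2.neg r) (-(-t)⁻¹) = (xG (chevG2.neg r) (-t⁻¹))⁻¹ := by
    rw [← xG_neg]
    congr 1
    rw [inv_neg]
  rw [h1, h2]
  group

/-! ### Conjugation by `n_a`, `n_b` -/

theorem neg_eq {r : ℕ} (hr : r < 12) : chevG2.neg r = 11 - r := by
  have : ∀ r : Fin 12, chevG2.neg r.val = 11 - r.val := by decide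
  exact this ⟨r, hr⟩

theorem E_eq (r s : ℕ) (hr : r < 12) (hs : s < 12) : E r s = 1 ∨ E r s = -1 := by
  have : ∀ r s : Fin 12, E r.val s.val = 1 ∨ E r.val s.val = -1 := by decide +kernel
  exact this ⟨r, hr⟩ ⟨s, hs⟩

theorem W_lt (r s : ℕ) (hr : r < 12) (hs : s < 12) : W r s < 12 := by
  have : ∀ r s : Fin 12, W r.val s.val < 12 := by decide +kernel
  exact this ⟨r, hr⟩ ⟨s, hs⟩

theorem W_neg (r s : ℕ) (hr : r < 12) (hs : s < 12) : W r (11 - s) = 11 - W r s ∧ E r (11 - s) = E r s := by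
  have : ∀ r s : Fin 12, W r.val (11 - s.val) = 11 - W r.val s.val ∧ E r.val (11 - s.val) = E r.val s.val := by
    decide +kernel
  exact this ⟨r, hr⟩ ⟨s, hs⟩

theorem conj_of_check {p s : ℕ} (hp : p < 12)
    (h : chk 0 (nW p ++ [(s, tv 1)]) ((W p s, tv (E p s)) :: nW p) = true) (t : F) :
    nG p 1 * xG s t = xG (W p s) (E p s * t) * nG p 1 := by
  apply Units.ext
  have h1 := word_eq (F := F) cast_zero_int (fun _ => t) _ _ h
  simp only [nW, List.cons_append, List.nil_append, List.map_cons, List.map_nil, ChevalleyDatum.wordMat,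
    List.prod_cons, List.prod_nil, evP_cst, evP_tv, Int.cast_one, Int.cast_neg, one_mul, mul_one] at h1
  show chevG2.x F p 1 * chevG2.x F (chevG2.neg p) (-1⁻¹) * chevG2.x F p 1 * chevG2.x F s t =
    chevG2.x F (W p s) (E p s * t) * (chevG2.x F p 1 * chevG2.x F (chevG2.neg p) (-1⁻¹) * chevG2.x F p 1)
  rw [neg_eq hp, inv_one]
  simp only [mul_assoc]
  exact h1

/-- `n_p x_s(t) n_p⁻¹ = x_{w_p s}(±t)` for the fundamental roots `p`. -/
theorem conj_x {p : ℕ} (hp : p = 7 ∨ p = 6) {s : ℕ} (hs : s < 12) (t : F) :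
    nG p 1 * xG s t * (nG p 1)⁻¹ = xG (W p s) (E p s * t) := by
  rw [mul_inv_eq_iff_eq_mul]
  rcases hp with rfl | rfl
  · exact conj_of_check (by norm_num) (check_conj_a ⟨s, hs⟩) t
  · exact conj_of_check (by norm_num) (check_conj_b ⟨s, hs⟩) t

theorem E_cast (p s : ℕ) (hp : p < 12) (hs : s < 12) : (E p s : F) = 1 ∨ (E p s : F) = -1 := by
  rcases E_eq p s hp hs with h | h
  · left; rw [h]; exact Int.cast_one
  · right; rw [h]; push_cast; rfl

theorem conj_n {p : ℕ} (hp : p = 7 ∨ p = 6) {s : ℕ} (hs : s < 12) (t : F) :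
    nG p 1 * nG s t * (nG p 1)⁻¹ = nG (W p s) (E p s * t) := by
  have hp' : p < 12 := by rcases hp with rfl | rfl <;> norm_num
  have hs' : 11 - s < 12 := by omega
  have e1 : nG p 1 * nG s t * (nG p 1)⁻¹ = (nG p 1 * xG s t * (nG p 1)⁻¹) *
      (nG p 1 * xG (11 - s) (-t⁻¹) * (nG p 1)⁻¹) * (nG p 1 * xG s t * (nG p 1)⁻¹) := by
    have : nG s t = xG s t * xG (11 - s) (-t⁻¹) * xG s t := by rw [nG, neg_eq hs]
    rw [this]
    group
  rw [e1, conj_x hp hs, conj_x hp hs', (W_neg p s hp' hs).1, (W_neg p s hp' hs).2, nG, neg_eq (W_lt p s hp' hs)]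
  congr 3
  rcases E_cast (F := F) p s hp' hs with h | h <;> rw [h] <;> simp [inv_neg]

end Cfsg.Agent.ChevalleyStructure.G2N
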