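import Cfsg.Prelude.Def_ChevStructure
import Cfsg.Prelude.Def_ChevG2

/-!
Symbolic evaluation of words in root elements of the Chevalley group of type G₂ (table chevG2), with
parameters integer polynomials in several variables, coefficients optionally reduced modulo `n` (when `n = 0`
in the field). Everything is meant to be evaluated by the kernel (`decide +kernel`); vectors are sparse.
-/

set_option autoImplicit false

namespace Cfsg.Agent.ChevalleyStructure.G2Sym

open Cfsg.Lie

variable {F : Type*} [Field F]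

/-! ### Monomials and polynomials -/

/-- polynomials: lists of (exponent list, coefficient) -/
abbrev Poly := List (List ℕ × ℤ)

def mulM : List ℕ → List ℕ → List ℕ
  | [], m => m
  | a :: l, [] => a :: l
  | a :: l, b :: m => Nat.add a b :: mulM l m

def evM (ρ : ℕ → F) : ℕ → List ℕ → F
  | _, [] => 1
  | k, a :: l => ρ k ^ a * evM ρ (k + 1) l

theorem evM_mul (ρ : ℕ → F) (l m : List ℕ) (k : ℕ) : evM ρ k (mulM l m) = evM ρ k l * evM ρ k m := by
  induction l generalizing m k with
  | nil => simp [mulM, evM]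
  | cons a l ih =>
    cases m with
    | nil => simp [mulM, evM]
    | cons b m =>
      have : mulM (a :: l) (b :: m) = (a + b) :: mulM l m := rfl
      rw [this]
      simp only [evM, ih, pow_add]
      ring

def beqM : List ℕ → List ℕ → Bool
  | [], [] => true
  | [], _ :: _ => false
  | _ :: _, [] => false
  | a :: l, b :: m => Nat.beq a b && beqM l m

theorem eq_of_beqM : ∀ {l m : List ℕ}, beqM l m = true → l = m
  | [], [], _ => rfl
  | [], _ :: _, h => by simp [beqM] at h
  | _ :: _, [], h => by simp [beqM] at h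
  | a :: l, b :: m, h => by
    simp only [beqM, Bool.and_eq_true] at h
    rw [Nat.eq_of_beq_eq_true h.1, eq_of_beqM h.2]

def bltM : List ℕ → List ℕ → Bool
  | [], [] => false
  | [], _ :: _ => true
  | _ :: _, [] => false
  | a :: l, b :: m => bif Nat.blt a b then true else bif Nat.blt b a then false else bltM l m

def isZ : ℤ → Bool
  | Int.ofNat k => Nat.beq k 0
  | Int.negSucc _ => false

theorem eq_zero_of_isZ : ∀ {c : ℤ}, isZ c = true → c = 0
  | Int.ofNat k, h => by
    have : k = 0 := Nat.eq_of_beq_eq_true h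
    rw [this]
    rfl
  | Int.negSucc _, h => by simp [isZ] at h

/-- insertion of one term, coefficients modulo `n` (`n = 0`: no reduction) -/
def ins (n : ℤ) (m : List ℕ) (c : ℤ) : Poly → Poly
  | [] => [(m, c)]
  | t :: p =>
    bif beqM m t.1 then
      (bif isZ (Int.emod (Int.add c t.2) n) then p else (m, Int.emod (Int.add c t.2) n) :: p)
    else bif bltM m t.1 then (m, c) :: t :: p
    else t :: ins n m c p

/-- insertion of one term, dropped when its coefficient is `0` -/
def insZ (n : ℤ) (m : List ℕ) (c : ℤ) (p : Poly) : Poly := bif isZ c then p else ins n m c p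

def addP (n : ℤ) (p q : Poly) : Poly := p.foldr (fun t acc => insZ n t.1 t.2 acc) q

def mulT (n : ℤ) (m : List ℕ) (c : ℤ) (q : Poly) : Poly :=
  q.map fun t => (mulM m t.1, Int.emod (Int.mul c t.2) n)

def mulP (n : ℤ) (p q : Poly) : Poly := p.foldr (fun t acc => addP n (mulT n t.1 t.2 q) acc) []

def powP (n : ℤ) (p : Poly) : ℕ → Poly
  | 0 => [([], 1)]
  | 1 => p
  | k + 2 => mulP n p (powP n p (k + 1))

def evP (ρ : ℕ → F) (p : Poly) : F := (p.map fun t => (t.2 : F) * evM ρ 0 t.1).sum

section ev
variable {n : ℤ} (hn : (n : F) = 0) (ρ : ℕ → F)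
include hn

theorem cast_emod (c : ℤ) : ((Int.emod c n : ℤ) : F) = c := by
  conv_rhs => rw [← Int.emod_add_mul_ediv c n]
  push_cast
  rw [hn]
  show ((c % n : ℤ) : F) = _
  ring

omit hn in
theorem evP_nil : evP ρ [] = 0 := rfl

omit hn in
theorem evP_cons (t : List ℕ × ℤ) (p : Poly) : evP ρ (t :: p) = t.2 * evM ρ 0 t.1 + evP ρ p := by
  simp [evP]

theorem evP_ins (m : List ℕ) (c : ℤ) (p : Poly) : evP ρ (ins n m c p) = c * evM ρ 0 m + evP ρ p := by
  induction p with
  | nil => rw [ins, evP_cons]
  | cons t p ih =>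
    rw [ins]
    cases h1 : beqM m t.1 with
    | true =>
      have hm := eq_of_beqM h1
      have key : ((Int.emod (Int.add c t.2) n : ℤ) : F) = c + t.2 := by
        rw [cast_emod hn]
        show ((c + t.2 : ℤ) : F) = _
        push_cast
        ring
      simp only [cond_true]
      cases h0 : isZ (Int.emod (Int.add c t.2) n) with
      | true =>
        have h0' := eq_zero_of_isZ h0
        rw [h0'] at key
        rw [cond_true, evP_cons, ← hm, ← add_assoc, ← add_mul, ← key]
        simp
      | false =>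
        rw [cond_false, evP_cons, evP_cons, key, ← hm]
        ring
    | false =>
      simp only [cond_false]
      cases h2 : bltM m t.1 with
      | true => simp only [cond_true]; rw [evP_cons]
      | false => simp only [cond_false]; rw [evP_cons, evP_cons, ih]; ring

theorem evP_insZ (m : List ℕ) (c : ℤ) (p : Poly) : evP ρ (insZ n m c p) = c * evM ρ 0 m + evP ρ p := by
  unfold insZ
  cases h : isZ c with
  | true => rw [cond_true, eq_zero_of_isZ h, Int.cast_zero, zero_mul, zero_add]
  | false => rw [cond_false, evP_ins hn]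

theorem evP_add (p q : Poly) : evP ρ (addP n p q) = evP ρ p + evP ρ q := by
  induction p with
  | nil => simp [addP, evP]
  | cons t p ih =>
    have : addP n (t :: p) q = insZ n t.1 t.2 (addP n p q) := rfl
    rw [this, evP_insZ hn, ih, evP_cons, add_assoc]

theorem evP_mulT (m : List ℕ) (c : ℤ) (q : Poly) : evP ρ (mulT n m c q) = c * evM ρ 0 m * evP ρ q := by
  induction q with
  | nil => simp [mulT, evP]
  | cons t q ih =>
    have : mulT n m c (t :: q) = (mulM m t.1, Int.emod (Int.mul c t.2) n) :: mulT n m c q := rfl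
    rw [this, evP_cons, ih, evP_cons]
    simp only
    rw [cast_emod hn, evM_mul]
    have h2 : ((Int.mul c t.2 : ℤ) : F) = c * t.2 := by
      show ((c * t.2 : ℤ) : F) = _
      push_cast
      ring
    rw [h2]
    ring

theorem evP_mul (p q : Poly) : evP ρ (mulP n p q) = evP ρ p * evP ρ q := by
  induction p with
  | nil => simp [mulP, evP]
  | cons t p ih =>
    have : mulP n (t :: p) q = addP n (mulT n t.1 t.2 q) (mulP n p q) := rfl
    rw [this, evP_add hn, ih, evP_cons, evP_mulT hn]
    ring

theorem evP_pow (p : Poly) : ∀ k, evP ρ (powP n p k) = evP ρ p ^ k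
  | 0 => by simp [powP, evP, evM]
  | 1 => by simp [powP]
  | k + 2 => by rw [powP, evP_mul hn, evP_pow p (k + 1), pow_succ' _ (k + 1)]

end ev

/-! ### The table: nonzero coefficients of `x_r(t) - 1`, for each root `r` and each column -/

/-- `ctab[r][j]`: the (row, exponent of `t`, coefficient) of the column `j` of `x_r(t) - 1` -/
def ctab : List (List (List (ℕ × ℕ × ℤ))) := [
  [[], [(2, 1, 1)], [], [], [], [], [], [], [(3, 1, 1)], [], [(4, 1, 1)], [(5, 1, -1)], [(7, 1, -1)], [(0, 1, -1), (1, 1, -2), (2, 2, -1)]],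
  [[(3, 1, 3)], [(3, 1, -1)], [], [], [], [], [], [(2, 1, 1)], [], [(4, 1, 1)], [], [(6, 1, -1)], [(0, 1, -1), (1, 1, -1), (3, 2, -1)], [(8, 1, -1)]],
  [[(4, 1, 1)], [], [], [], [], [(2, 1, 3)], [(3, 1, 3)], [], [], [(5, 1, -2), (2, 2, -3)], [(6, 1, 2), (3, 2, 3)], [(0, 1, -2), (1, 1, -3), (4, 2, -1)], [(9, 1, -1), (5, 2, 1), (2, 3, 1)], [(10, 1, -1), (6, 2, -1), (3, 3, -1)]],
  [[(5, 1, -1)], [(5, 1, 1)], [], [], [(2, 1, -3)], [], [(4, 1, -2), (2, 2, 3)], [], [(6, 1, 1), (4, 2, -1), (2, 3, 1)], [(7, 1, -3)], [(0, 1, -1), (1, 1, -3), (5, 2, -1)], [(9, 1, 2), (7, 2, -3)], [], [(11, 1, 1), (9, 2, 1), (7, 3, -1)]],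
  [[(6, 1, 2)], [(6, 1, -1)], [], [], [(3, 1, -3)], [(4, 1, 2), (3, 2, -3)], [], [(5, 1, 1), (4, 2, 1), (3, 3, -1)], [], [(0, 1, -1), (6, 2, -1)], [(8, 1, -3)], [(10, 1, -2), (8, 2, 3)], [(11, 1, 1), (10, 2, -1), (8, 3, 1)], []],
  [[(7, 1, -3)], [(7, 1, 2)], [], [(2, 1, -1)], [], [], [(5, 1, -1)], [], [(1, 1, -1), (7, 2, -1)], [], [(9, 1, 1)], [], [], [(12, 1, 1)]],
  [[(8, 1, 3)], [(8, 1, -2)], [(3, 1, -1)], [], [], [(6, 1, -1)], [], [(1, 1, 1), (8, 2, -1)], [], [(10, 1, 1)], [], [], [(13, 1, 1)], []],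
  [[(9, 1, -2)], [(9, 1, 1)], [], [(4, 1, -1), (5, 2, -1), (7, 3, -1)], [(5, 1, 2), (7, 2, 3)], [(7, 1, 3)], [(0, 1, 1), (9, 2, -1)], [], [(10, 1, -1), (11, 2, 1), (12, 3, 1)], [], [(11, 1, -2), (12, 2, -3)], [(12, 1, 3)], [], []],
  [[(10, 1, 1)], [(10, 1, -1)], [(4, 1, -1), (6, 2, 1), (8, 3, 1)], [], [(6, 1, -2), (8, 2, -3)], [(0, 1, 1), (1, 1, 3), (10, 2, -1)], [(8, 1, 3)], [(9, 1, -1), (11, 2, -1), (13, 3, -1)], [], [(11, 1, 2), (13, 2, 3)], [], [(13, 1, 3)], [], []],
  [[(11, 1, -1)], [], [(5, 1, 1), (9, 2, -1), (12, 3, 1)], [(6, 1, 1), (10, 2, 1), (13, 3, -1)], [(0, 1, 2), (1, 1, 3), (11, 2, -1)], [(9, 1, -2), (12, 2, 3)], [(10, 1, 2), (13, 2, -3)], [], [], [(12, 1, -3)], [(13, 1, -3)], [], [], []],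
  [[(12, 1, -3)], [(12, 1, 1)], [(7, 1, 1)], [(0, 1, 1), (1, 1, 1), (12, 2, -1)], [(9, 1, 1)], [], [(11, 1, -1)], [], [(13, 1, -1)], [], [], [], [], []],
  [[], [(13, 1, -1)], [(0, 1, 1), (1, 1, 2), (13, 2, -1)], [(8, 1, 1)], [(10, 1, 1)], [(11, 1, -1)], [], [(12, 1, -1)], [], [], [], [], [], []]]

def col (r j : ℕ) : List (ℕ × ℕ × ℤ) := (ctab.getD r []).getD j []

/-- position of a coordinate in `0, …, 13` -/
def flat : chevG2.Idx → ℕ
  | Sum.inl i => i.val
  | Sum.inr r => 2 + r.val

/-- The polynomial in `t` (list of (exponent, coefficient)) of the entry of `x_r(t)`. -/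
def xP (r : ℕ) (row col : chevG2.Idx) : List (ℕ × ℤ) :=
  match col with
  | Sum.inl i =>
    (match row with
     | Sum.inl i' => if i' = i then [(0, 1)] else []
     | Sum.inr u => if u.val = r then [(1, -((chevG2.cartanSR.getD i.val #[]).getD r 0))] else [])
  | Sum.inr s =>
    if s.val = r then (match row with | Sum.inr u => if u.val = r then [(0, 1)] else [] | Sum.inl _ => [])
    else if s.val = chevG2.negIdx.getD r 0 then
      (match row with
       | Sum.inl i => [(1, (chevG2.coroot.getD r #[]).getD i.val 0)]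
       | Sum.inr u => if u = s then [(0, 1)] else if u.val = r then [(2, -1)] else [])
    else
      (match row with
       | Sum.inl _ => []
       | Sum.inr u => (if u = s then [(0, 1)] else []) ++ chevG2.chainCoeff r s.val u.val)

def evU (t : F) (L : List (ℕ × ℤ)) : F := (L.map fun km => ((km.2 : ℤ) : F) * t ^ km.1).sum

theorem evU_filter (t : F) (L : List (ℕ × ℤ)) : evU t (L.filter fun km => decide (km.2 ≠ 0)) = evU t L := by
  induction L with
  | nil => rfl
  | cons a L ih =>
    by_cases h : a.2 = 0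
    · rw [List.filter_cons_of_neg (by simp [h]), ih]
      simp [evU, h]
    · rw [List.filter_cons_of_pos (by simp [h])]
      simp only [evU, List.map_cons, List.sum_cons] at ih ⊢
      rw [ih]

theorem evU_append (t : F) (L M : List (ℕ × ℤ)) : evU t (L ++ M) = evU t L + evU t M := by
  simp [evU]

theorem xMat_eq (r : Fin chevG2.nroots) (t : F) (row col : chevG2.Idx) :
    chevG2.xMat F r t row col = evU t (xP r.val row col) := by
  rcases row with i' | u <;> rcases col with i | s
  · show (if i' = i then (1 : F) else 0) = evU t (if i' = i then [(0, 1)] else [])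
    split_ifs <;> simp [evU]
  · simp only [ChevalleyDatum.xMat, Matrix.of_apply, xP, Fin.ext_iff]
    split_ifs <;> simp [evU]
  · simp only [ChevalleyDatum.xMat, Matrix.of_apply, xP, Fin.ext_iff]
    split_ifs <;> simp [evU]
  · simp only [ChevalleyDatum.xMat, Matrix.of_apply, xP, Fin.ext_iff]
    split_ifs <;> simp_all [evU]

def sel (r : ℕ) (i j : ℕ) : List (ℕ × ℤ) :=
  (if i = j then [(0, 1)] else []) ++ (((col r j).filter fun c => decide (c.1 = i)).map fun c => c.2)

theorem sel_check : ∀ r : Fin 12, ∀ i j : chevG2.Idx,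
    (xP r.val i j).filter (fun km => decide (km.2 ≠ 0)) = sel r.val (flat i) (flat j) := by
  decide +kernel

theorem flat_lt (i : chevG2.Idx) : flat i < 14 := by
  rcases i with i | i
  · exact lt_of_lt_of_le i.isLt (by decide)
  · have : i.val < 12 := i.isLt
    show 2 + i.val < 14
    omega

theorem flat_injective : Function.Injective flat := by
  rintro (i | i) (j | j) h
  · exact congrArg Sum.inl (Fin.ext h)
  · exfalso
    have h1 : i.val < 2 := i.isLt
    have h2 : i.val = 2 + j.val := h
    omega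
  · exfalso
    have h1 : j.val < 2 := j.isLt
    have h2 : 2 + i.val = j.val := h
    omega
  · have h2 : 2 + i.val = 2 + j.val := h
    exact congrArg Sum.inr (Fin.ext (by omega))

/-- The coordinate at a given position. -/
def unflat (k : ℕ) : chevG2.Idx :=
  if h : k < 2 then Sum.inl ⟨k, h⟩ else if h' : k - 2 < 12 then Sum.inr ⟨k - 2, h'⟩ else Sum.inl ⟨0, by decide⟩

theorem flat_unflat {k : ℕ} (hk : k < 14) : flat (unflat k) = k := by
  unfold unflat
  split_ifs with h1 h2
  · rfl
  · show 2 + (k - 2) = k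
    omega
  · omega

theorem xMat_apply (r : Fin chevG2.nroots) (t : F) (i j : chevG2.Idx) :
    chevG2.xMat F r t i j = evU t (sel r.val (flat i) (flat j)) := by
  rw [xMat_eq, ← evU_filter, sel_check r i j]

/-! ### Sparse symbolic vectors -/

/-- sparse vector: (position, polynomial) -/
abbrev SVec := List (ℕ × Poly)

def addAt (n : ℤ) (i : ℕ) (p : Poly) : SVec → SVec
  | [] => [(i, p)]
  | e :: l =>
    bif Nat.beq i e.1 then
      (match addP n p e.2 with
       | [] => l
       | a :: q => (i, a :: q) :: l)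
    else bif Nat.blt i e.1 then (i, p) :: e :: l
    else e :: addAt n i p l

def addAtZ (n : ℤ) (i : ℕ) (p : Poly) (v : SVec) : SVec :=
  match p with
  | [] => v
  | a :: q => addAt n i (a :: q) v

def stepS (n : ℤ) (C : List (List (ℕ × ℕ × ℤ))) (p : Poly) (v : SVec) : SVec :=
  v.foldr (fun e acc => (C.getD e.1 []).foldr (fun c acc =>
      addAtZ n c.1 (mulP n (mulT n [] c.2.2 (powP n p c.2.1)) e.2) acc) (addAtZ n e.1 e.2 acc)) []

def runS (n : ℤ) (w : List (ℕ × Poly)) (v : SVec) : SVec :=
  w.foldr (fun l acc => stepS n (ctab.getD l.1 []) l.2 acc) v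

/-- value of a sparse vector at a position -/
def evAt (ρ : ℕ → F) (v : SVec) (i : ℕ) : F := (v.map fun e => if e.1 = i then evP ρ e.2 else 0).sum

/-- the vector of `F`-values of a symbolic vector -/
def evS (ρ : ℕ → F) (v : SVec) : chevG2.Idx → F := fun i => evAt ρ v (flat i)

section sound
variable (ρ : ℕ → F)

theorem evAt_nil (i : ℕ) : evAt ρ [] i = 0 := rfl

theorem evAt_cons (e : ℕ × Poly) (v : SVec) (i : ℕ) :
    evAt ρ (e :: v) i = (if e.1 = i then evP ρ e.2 else 0) + evAt ρ v i := by
  simp [evAt]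

variable {n : ℤ} (hn : (n : F) = 0)
include hn

theorem evAt_addAt (k : ℕ) (p : Poly) (v : SVec) (i : ℕ) :
    evAt ρ (addAt n k p v) i = (if k = i then evP ρ p else 0) + evAt ρ v i := by
  induction v with
  | nil => rw [addAt, evAt_cons]
  | cons e v ih =>
    rw [addAt]
    cases h1 : Nat.beq k e.1 with
    | true =>
      have hk : k = e.1 := Nat.eq_of_beq_eq_true h1
      rw [cond_true]
      have hp := evP_add hn ρ p e.2
      cases h2 : addP n p e.2 with
      | nil =>
        rw [h2, evP_nil] at hp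
        simp only
        rw [evAt_cons, ← hk, ← add_assoc]
        split_ifs
        · rw [← hp, zero_add]
        · simp
      | cons a q =>
        rw [h2] at hp
        simp only
        rw [evAt_cons, evAt_cons, ← hk, ← add_assoc]
        simp only [hp]
        split_ifs
        · rfl
        · simp
    | false =>
      rw [cond_false]
      cases h2 : Nat.blt k e.1 with
      | true => rw [cond_true, evAt_cons]
      | false =>
        rw [cond_false, evAt_cons, ih, evAt_cons]
        ring

theorem evAt_addAtZ (k : ℕ) (p : Poly) (v : SVec) (i : ℕ) :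
    evAt ρ (addAtZ n k p v) i = (if k = i then evP ρ p else 0) + evAt ρ v i := by
  cases p with
  | nil =>
    show evAt ρ v i = _
    rw [evP_nil, ite_self, zero_add]
  | cons a q => exact evAt_addAt ρ hn k (a :: q) v i

theorem evAt_inner (C : List (ℕ × ℕ × ℤ)) (p q : Poly) (v : SVec) (i : ℕ) :
    evAt ρ (C.foldr (fun c acc => addAtZ n c.1 (mulP n (mulT n [] c.2.2 (powP n p c.2.1)) q) acc) v) i =
      evU (evP ρ p) ((C.filter fun c => decide (c.1 = i)).map fun c => c.2) * evP ρ q + evAt ρ v i := by
  induction C with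
  | nil => simp [evU]
  | cons c C ih =>
    rw [List.foldr_cons, evAt_addAtZ ρ hn, ih, evP_mul hn, evP_mulT hn, evP_pow hn]
    by_cases h : c.1 = i
    · rw [List.filter_cons_of_pos (by simp [h]), if_pos h]
      simp only [evU, List.map_cons, List.sum_cons, evM]
      ring
    · rw [List.filter_cons_of_neg (by simp [h]), if_neg h]
      ring

theorem evS_step (r : Fin chevG2.nroots) (p : Poly) (v : SVec) :
    evS ρ (stepS n (ctab.getD r.val []) p v) = (chevG2.xMat F r (evP ρ p)).mulVec (evS ρ v) := by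
  funext i
  show evAt ρ (stepS n (ctab.getD r.val []) p v) (flat i) = ∑ j, chevG2.xMat F r (evP ρ p) i j * evAt ρ v (flat j)
  induction v with
  | nil => simp [stepS, evAt]
  | cons e v ih =>
    have h1 : stepS n (ctab.getD r.val []) p (e :: v) = ((ctab.getD r.val []).getD e.1 []).foldr (fun c acc =>
        addAtZ n c.1 (mulP n (mulT n [] c.2.2 (powP n p c.2.1)) e.2) acc)
          (addAtZ n e.1 e.2 (stepS n (ctab.getD r.val []) p v)) := rfl
    rw [h1, evAt_inner ρ hn, evAt_addAtZ ρ hn, ih]
    simp_rw [evAt_cons, mul_add]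
    rw [Finset.sum_add_distrib, ← add_assoc]
    congr 1
    by_cases he : e.1 < 14
    · have h2 : ∀ j : chevG2.Idx, chevG2.xMat F r (evP ρ p) i j * (if e.1 = flat j then evP ρ e.2 else 0) =
          if j = unflat e.1 then chevG2.xMat F r (evP ρ p) i j * evP ρ e.2 else 0 := by
        intro j
        by_cases hj : j = unflat e.1
        · have : e.1 = flat j := by rw [hj, flat_unflat he]
          rw [if_pos this, if_pos hj]
        · have : ¬ (e.1 = flat j) := fun h => hj (flat_injective (by rw [flat_unflat he, h]))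
          rw [if_neg this, if_neg hj, mul_zero]
      rw [Finset.sum_congr rfl (fun j _ => h2 j), Finset.sum_ite_eq', if_pos (Finset.mem_univ _), xMat_apply,
        flat_unflat he, sel, evU_append, add_mul, add_comm]
      congr 1
      by_cases h3 : e.1 = flat i
      · rw [if_pos h3, if_pos h3.symm]
        simp [evU]
      · rw [if_neg h3, if_neg (fun h => h3 h.symm)]
        simp [evU]
    · have h2 : ∀ j : chevG2.Idx, chevG2.xMat F r (evP ρ p) i j * (if e.1 = flat j then evP ρ e.2 else 0) = 0 := by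
        intro j
        rw [if_neg (fun h : e.1 = flat j => he (by rw [h]; exact flat_lt j)), mul_zero]
      rw [Finset.sum_congr rfl (fun j _ => h2 j), Finset.sum_const_zero,
        if_neg (fun h : e.1 = flat i => he (by rw [h]; exact flat_lt i)), add_zero]
      have h3 : ∀ r : Fin 12, (ctab.getD r.val []).length = 14 := by decide +kernel
      have h4 : (ctab.getD r.val []).getD e.1 [] = [] := by
        have := h3 ⟨r.val, r.isLt⟩
        rw [List.getD_eq_default]
        simp only at this
        omega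
      rw [h4]
      simp [evU]

theorem evS_run (w : List (ℕ × Poly)) (hw : ∀ l ∈ w, l.1 < 12) (v : SVec) :
    evS ρ (runS n w v) = (chevG2.wordMat F (w.map fun l => (l.1, evP ρ l.2))).mulVec (evS ρ v) := by
  induction w with
  | nil =>
    show evS ρ v = (1 : Matrix chevG2.Idx chevG2.Idx F).mulVec (evS ρ v)
    rw [Matrix.one_mulVec]
  | cons l w ih =>
    have ih' := ih (fun l' hl' => hw l' (List.mem_cons_of_mem _ hl'))
    have hl : l.1 < chevG2.nroots := hw l (List.mem_cons_self ..)
    have h1 : runS n (l :: w) v = stepS n (ctab.getD (⟨l.1, hl⟩ : Fin chevG2.nroots).val []) l.2 (runS n w v) := rfl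
    have h2 : chevG2.wordMat F ((l :: w).map fun l => (l.1, evP ρ l.2)) =
        chevG2.xMat F ⟨l.1, hl⟩ (evP ρ l.2) * chevG2.wordMat F (w.map fun l => (l.1, evP ρ l.2)) := by
      simp only [ChevalleyDatum.wordMat, List.map_cons, List.prod_cons]
      rw [ChevalleyDatum.x, dif_pos hl]
    rw [h1, evS_step ρ hn, ih', h2, Matrix.mulVec_mulVec]

end sound

def unitS (k : ℕ) : SVec := [(k, [([], 1)])]

theorem evS_unit (ρ : ℕ → F) (j : chevG2.Idx) : evS ρ (unitS (flat j)) = Pi.single j 1 := by
  funext i
  show evAt ρ (unitS (flat j)) (flat i) = _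
  rw [unitS, evAt_cons, evAt_nil, add_zero]
  by_cases hij : i = j
  · subst hij
    simp [evP, evM]
  · have h1 : ¬ (flat j = flat i) := fun h => hij (flat_injective h.symm)
    rw [if_neg h1, Pi.single_eq_of_ne hij]

/-- Entry `(i, j)` of the matrix of a word, symbolically. -/
theorem word_apply {n : ℤ} (hn : (n : F) = 0) (ρ : ℕ → F) (w : List (ℕ × Poly)) (hw : ∀ l ∈ w, l.1 < 12)
    (i j : chevG2.Idx) :
    chevG2.wordMat F (w.map fun l => (l.1, evP ρ l.2)) i j = evAt ρ (runS n w (unitS (flat j))) (flat i) := by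
  have h := congrFun (evS_run ρ hn w hw (unitS (flat j))) i
  rw [evS_unit, Matrix.mulVec_single_one] at h
  exact h.symm

/-- the symbolic matrix of a word, as the list of its columns -/
def cols (n : ℤ) (w : List (ℕ × Poly)) : List SVec := (List.range 14).map fun j => runS n w (unitS j)

theorem getElem?_cols (n : ℤ) (w : List (ℕ × Poly)) (j : chevG2.Idx) :
    (cols n w)[flat j]? = some (runS n w (unitS (flat j))) := by
  have hj := flat_lt j
  simp [cols, hj]

/-- kernel check that two words have the same symbolic matrices -/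
def chk (n : ℤ) (w w' : List (ℕ × Poly)) : Bool :=
  (w.all fun l => Nat.blt l.1 12) && ((w'.all fun l => Nat.blt l.1 12) && decide (cols n w = cols n w'))

theorem lt_of_all {w : List (ℕ × Poly)} (h : (w.all fun l => Nat.blt l.1 12) = true) : ∀ l ∈ w, l.1 < 12 := by
  intro l hl
  have := List.all_eq_true.1 h l hl
  exact Nat.le_of_ble_eq_true this

/-- Two words with the same symbolic columns have the same matrices. -/
theorem word_eq {n : ℤ} (hn : (n : F) = 0) (ρ : ℕ → F) (w w' : List (ℕ × Poly)) (h : chk n w w' = true) :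
    chevG2.wordMat F (w.map fun l => (l.1, evP ρ l.2)) = chevG2.wordMat F (w'.map fun l => (l.1, evP ρ l.2)) := by
  unfold chk at h
  simp only [Bool.and_eq_true, decide_eq_true_eq] at h
  obtain ⟨hw, hw', h⟩ := h
  ext i j
  rw [word_apply hn ρ w (lt_of_all hw), word_apply hn ρ w' (lt_of_all hw')]
  have h1 : (cols n w)[flat j]? = (cols n w')[flat j]? := by rw [h]
  rw [getElem?_cols, getElem?_cols, Option.some_inj] at h1
  rw [h1]

end Cfsg.Agent.ChevalleyStructure.G2Sym
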