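import Cfsg.Agent.ChevalleyStructure.SparseWordEq
import Cfsg.Agent.ChevalleyStructure.Elts
import Cfsg.Prelude.Def_LieTwisted

/-!
# Torus elements of the small Ree group as words

`h_{a+b}(t^θ) h_{3a+b}(t)` and the involution `h_{a+b}(-1)` lie in `twistedG2 K e` (`e` odd; characteristic 3 for the
second one).
-/

set_option autoImplicit false

namespace Cfsg.Agent.ChevalleyStructure.G2Torus

open Cfsg.Lie Cfsg.Lie.ChevalleyDatum Cfsg.Agent.ChevalleyStructure.Sparse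
  Cfsg.Agent.ChevalleyStructure.SparseHDiag Cfsg.Agent.ChevalleyStructure.FixTables
  Cfsg.Agent.ChevalleyStructure.SparseWordEq Cfsg.Agent.ChevalleyStructure.Elts

noncomputable section

/-- two Laurent variables, integer coefficients -/
def opsZZ : Ops (ℤ × ℤ) :=
  ⟨fun a b => (Int.add a.1 b.1, Int.add a.2 b.2), fun a b => ieq a.1 b.1 && ieq a.2 b.2, fun c => c⟩

def evZZ {K : Type*} [Field K] {s t : K} (hs : s ≠ 0) (ht : t ≠ 0) : Ev opsZZ K where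
  ev a := s ^ a.1 * t ^ a.2
  ev_add a b := by
    show s ^ (a.1 + b.1) * t ^ (a.2 + b.2) = _
    rw [zpow_add₀ hs, zpow_add₀ ht]; ring
  ev_beq a b h := by
    have h' : (ieq a.1 b.1 && ieq a.2 b.2) = true := h
    rw [Bool.and_eq_true] at h'
    rw [ieq_eq h'.1, ieq_eq h'.2]
  nrm_eq c := rfl

theorem evZZ_zero {K : Type*} [Field K] {s t : K} (hs : s ≠ 0) (ht : t ≠ 0) : (evZZ hs ht).ev (0, 0) = 1 := by
  show s ^ (0 : ℤ) * t ^ (0 : ℤ) = 1
  simp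

/-- `x_{a+b}(s) x_{3a+b}(t)` etc. -/
def tX (c : ℤ) (i : ℤ) : List (Letter (ℤ × ℤ)) :=
  [⟨7, (0, 0), 0⟩, ⟨6, (0, 0), 0⟩, ⟨8, (i, 0), c⟩, ⟨9, (0, 0), 0⟩, ⟨10, (0, i), c⟩, ⟨11, (0, 0), 0⟩]
def tY (c : ℤ) (i : ℤ) : List (Letter (ℤ × ℤ)) :=
  [⟨4, (0, 0), 0⟩, ⟨5, (0, 0), 0⟩, ⟨3, (i, 0), c⟩, ⟨2, (0, 0), 0⟩, ⟨1, (0, i), c⟩, ⟨0, (0, 0), 0⟩]

def torL : List (Letter (ℤ × ℤ)) := tX 1 1 ++ (tY (-1) (-1) ++ (tX 1 1 ++ (tX (-1) 0 ++ (tY 1 0 ++ tX (-1) 0))))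

def torR : List (Letter (ℤ × ℤ)) :=
  [⟨8, (1, 0), 1⟩, ⟨3, (-1, 0), -1⟩, ⟨8, (1, 0), 1⟩, ⟨8, (0, 0), -1⟩, ⟨3, (0, 0), 1⟩, ⟨8, (0, 0), -1⟩,
   ⟨10, (0, 1), 1⟩, ⟨1, (0, -1), -1⟩, ⟨10, (0, 1), 1⟩, ⟨10, (0, 0), -1⟩, ⟨1, (0, 0), 1⟩, ⟨10, (0, 0), -1⟩]

theorem tor_check : wordEqCheck chevG2 opsZZ (0, 0) torL torR = true := by decide +kernel

/-- constant words over `F₃`: the involution -/
def c3 (r : ℕ) (c : ℤ) : Letter ℕ := ⟨r, 0, c⟩

def iU1 : List (Letter ℕ) := [c3 7 0, c3 6 0, c3 8 1, c3 9 0, c3 10 1, c3 11 0]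
def iV1 : List (Letter ℕ) := [c3 4 0, c3 5 0, c3 3 (-1), c3 2 0, c3 1 (-1), c3 0 0]
def iU2 : List (Letter ℕ) := [c3 7 1, c3 6 1, c3 8 1, c3 9 2, c3 10 0, c3 11 1]
def iV2 : List (Letter ℕ) := [c3 4 1, c3 5 1, c3 3 (-1), c3 2 2, c3 1 0, c3 0 1]

def invL : List (Letter ℕ) := iU1 ++ (iV1 ++ (iU1 ++ (iU2 ++ (iV2 ++ iU2))))
def invR : List (Letter ℕ) := [c3 8 (-1), c3 3 1, c3 8 (-1), c3 8 (-1), c3 3 1, c3 8 (-1)]

theorem inv_check : wordEqCheck chevG2 (opsP 3) 0 invL invR = true := by decide +kernel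

variable {K : Type*} [Field K]

theorem inList : InList chevG2 := by simp [InList]

theorem toWord_append {E : Type} {O : Ops E} (W : Ev O K) (w v : List (Letter E)) :
    toWord W (w ++ v) = toWord W w ++ toWord W v := by
  unfold toWord
  exact List.map_append

theorem mem_U (e : ℕ) (t u v : K) : wordG inList (reeWordU e t u v) ∈ twistedG2 K e :=
  Subgroup.subset_closure ⟨_, ⟨t, u, v, Or.inl rfl⟩, coe_wordG _ _⟩

theorem mem_V (e : ℕ) (t u v : K) : wordG inList (reeWordV e t u v) ∈ twistedG2 K e :=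
  Subgroup.subset_closure ⟨_, ⟨t, u, v, Or.inr rfl⟩, coe_wordG _ _⟩

theorem neg_vals : chevG2.negIdx.getD g2a 0 = 4 ∧ chevG2.negIdx.getD g2b 0 = 5 ∧ chevG2.negIdx.getD g2ab 0 = 3 ∧
    chevG2.negIdx.getD g2aab 0 = 2 ∧ chevG2.negIdx.getD g2aaab 0 = 1 ∧ chevG2.negIdx.getD g2aaabb 0 = 0 := by
  decide +kernel

theorem reeWordV_eq (e : ℕ) (t u v : K) : reeWordV e t u v =
    [(4, -t ^ e), (5, -t), (3, -(t ^ (e + 1) + u ^ e)), (2, -(t ^ (2 * e + 1) + v ^ e)), (1, -u), (0, -v)] := by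
  obtain ⟨h1, h2, h3, h4, h5, h6⟩ := neg_vals
  simp only [reeWordV, negWord, reeWordU, List.map_cons, List.map_nil, h1, h2, h3, h4, h5, h6]

theorem reeWordU_eq (e : ℕ) (t u v : K) : reeWordU e t u v =
    [(7, t ^ e), (6, t), (8, t ^ (e + 1) + u ^ e), (9, t ^ (2 * e + 1) + v ^ e), (10, u), (11, v)] := rfl

/-- **the torus elements** -/
theorem torus_mem {e : ℕ} (he : Odd e) {t : K} (ht : t ≠ 0) :
    hG inList 8 (t ^ e) * hG inList 10 t ∈ twistedG2 K e := by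
  have he0 : e ≠ 0 := by rintro rfl; exact (by decide : ¬ Odd 0) he
  have hs : t ^ e ≠ 0 := pow_ne_zero _ ht
  have h1 := wordMat_eq_of_check tor_check (evZZ hs ht) (evZZ_zero hs ht)
  have e1 : hG inList 8 (t ^ e) * hG inList 10 t = wordG inList (toWord (evZZ hs ht) torR) := by
    unfold hG
    rw [← wordG_append]
    congr 1
    simp [toWord, torR, evZZ, hWord, nWord, ChevalleyDatum.neg, chevG2, chevG2NegIdx]
  have e2 : wordG inList (toWord (evZZ hs ht) torR) = wordG inList (toWord (evZZ hs ht) torL) := by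
    apply Units.ext
    rw [coe_wordG, coe_wordG, h1]
  rw [e1, e2]
  unfold torL
  simp only [toWord_append, wordG_append]
  have a1 : toWord (evZZ hs ht) (tX 1 1) = reeWordU e 0 t 0 := by
    simp [toWord, tX, evZZ, reeWordU_eq, he0]
  have a2 : toWord (evZZ hs ht) (tY (-1) (-1)) = reeWordV e 0 t⁻¹ 0 := by
    simp [toWord, tY, evZZ, reeWordV_eq, he0]
  have a3 : toWord (evZZ hs ht) (tX (-1) 0) = reeWordU e 0 (-1) 0 := by
    simp [toWord, tX, evZZ, reeWordU_eq, he0, he.neg_one_pow]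
  have a4 : toWord (evZZ hs ht) (tY 1 0) = reeWordV e 0 (-1) 0 := by
    simp [toWord, tY, evZZ, reeWordV_eq, he0, he.neg_one_pow]
  rw [a1, a2, a3, a4]
  exact Subgroup.mul_mem _ (mem_U _ _ _ _) (Subgroup.mul_mem _ (mem_V _ _ _ _) (Subgroup.mul_mem _ (mem_U _ _ _ _)
    (Subgroup.mul_mem _ (mem_U _ _ _ _) (Subgroup.mul_mem _ (mem_V _ _ _ _) (mem_U _ _ _ _)))))

/-- **the involution** -/
theorem involution_mem (h3 : ((3 : ℤ) : K) = 0) {e : ℕ} (he : Odd e) : hG inList 8 (-1 : K) ∈ twistedG2 K e := by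
  have he0 : e ≠ 0 := by rintro rfl; exact (by decide : ¬ Odd 0) he
  have hV : (evP h3 (1 : K)).ev 0 = 1 := by
    show (1 : K) ^ 0 = 1
    simp
  have h1 := wordMat_eq_of_check inv_check (evP h3 (1 : K)) hV
  have e1 : hG inList 8 (-1 : K) = wordG inList (toWord (evP h3 (1 : K)) invR) := by
    unfold hG
    congr 1
    simp [toWord, invR, c3, hV, hWord, nWord, ChevalleyDatum.neg, chevG2, chevG2NegIdx]
  have e2 : wordG inList (toWord (evP h3 (1 : K)) invR) = wordG inList (toWord (evP h3 (1 : K)) invL) := by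
    apply Units.ext
    rw [coe_wordG, coe_wordG, h1]
  rw [e1, e2]
  unfold invL
  simp only [toWord_append, wordG_append]
  have h3' : (3 : K) = 0 := by exact_mod_cast h3
  have h2 : (1 : K) + 1 = 2 := by norm_num
  have h2' : (-1 : K) - 1 = -2 := by norm_num
  have odd1 : Odd (2 * e + 1) := ⟨e, rfl⟩
  have even1 : Even (e + 1) := Odd.add_one he
  have a1 : toWord (evP h3 (1 : K)) iU1 = reeWordU e 0 1 0 := by
    simp [toWord, iU1, c3, hV, reeWordU_eq, he0]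
  have a2 : toWord (evP h3 (1 : K)) iV1 = reeWordV e 0 1 0 := by
    simp [toWord, iV1, c3, hV, reeWordV_eq, he0]
  have a3 : toWord (evP h3 (1 : K)) iU2 = reeWordU e 1 0 1 := by
    simp [toWord, iU2, c3, hV, reeWordU_eq, he0, h2]
  have a4 : toWord (evP h3 (1 : K)) iV2 = reeWordV e (-1) 0 (-1) := by
    have h5 : (2 : K) = 1 + 1 := h2.symm
    simp [toWord, iV2, c3, hV, reeWordV_eq, he0, he.neg_one_pow, odd1.neg_one_pow, even1.neg_one_pow, h5]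
  rw [a1, a2, a3, a4]
  exact Subgroup.mul_mem _ (mem_U _ _ _ _) (Subgroup.mul_mem _ (mem_V _ _ _ _) (Subgroup.mul_mem _ (mem_U _ _ _ _)
    (Subgroup.mul_mem _ (mem_U _ _ _ _) (Subgroup.mul_mem _ (mem_V _ _ _ _) (mem_U _ _ _ _)))))

end

end Cfsg.Agent.ChevalleyStructure.G2Torus
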