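import Mathlib

set_option autoImplicit false

/-! An explicit computable model of the field with nine elements, `F₃[i]`, `i² = -1`. -/

namespace Cfsg.Agent.ChevalleyStructure.NineField

/-- The field with nine elements: pairs `re + im·i` over `Z/3`. -/
@[ext] structure F9 where
  re : Fin 3
  im : Fin 3

namespace F9

def decEq : (x y : F9) → Decidable (x = y)
  | ⟨a, b⟩, ⟨c, d⟩ =>
    if h : a = c ∧ b = d then isTrue (by rw [h.1, h.2])
    else isFalse (fun e => h ⟨congrArg F9.re e, congrArg F9.im e⟩)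

instance instDecEq : DecidableEq F9 := decEq

def equivProd : F9 ≃ Fin 3 × Fin 3 where
  toFun x := (x.re, x.im)
  invFun p := ⟨p.1, p.2⟩
  left_inv _ := rfl
  right_inv _ := rfl

instance instFintype : Fintype F9 where
  elems := ⟨([⟨0,0⟩,⟨0,1⟩,⟨0,2⟩,⟨1,0⟩,⟨1,1⟩,⟨1,2⟩,⟨2,0⟩,⟨2,1⟩,⟨2,2⟩] : List F9), by decide⟩
  complete := by
    rintro ⟨a, b⟩
    revert a b
    decide

instance instZero : Zero F9 := ⟨⟨0, 0⟩⟩
instance instOne : One F9 := ⟨⟨1, 0⟩⟩
instance instAdd : Add F9 := ⟨fun x y => ⟨x.re + y.re, x.im + y.im⟩⟩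
instance instNeg : Neg F9 := ⟨fun x => ⟨-x.re, -x.im⟩⟩
instance instSub : Sub F9 := ⟨fun x y => ⟨x.re - y.re, x.im - y.im⟩⟩
instance instMul : Mul F9 :=
  ⟨fun x y => ⟨x.re * y.re + 2 * (x.im * y.im), x.re * y.im + x.im * y.re⟩⟩
/-- inverse: `(re - im i) * (re² + im²)⁻¹`, and `n⁻¹ = n` in `Z/3`. -/
instance instInv : Inv F9 :=
  ⟨fun x => ⟨x.re * (x.re * x.re + x.im * x.im), 2 * x.im * (x.re * x.re + x.im * x.im)⟩⟩

instance instCommRing : CommRing F9 where
  zero := 0
  one := 1
  add := (· + ·)
  mul := (· * ·)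
  neg := Neg.neg
  sub := (· - ·)
  add_assoc := by decide +kernel
  zero_add := by decide +kernel
  add_zero := by decide +kernel
  add_comm := by decide +kernel
  neg_add_cancel := by decide +kernel
  sub_eq_add_neg := by decide +kernel
  mul_assoc := by decide +kernel
  one_mul := by decide +kernel
  mul_one := by decide +kernel
  mul_comm := by decide +kernel
  left_distrib := by decide +kernel
  right_distrib := by decide +kernel
  zero_mul := by decide +kernel
  mul_zero := by decide +kernel
  nsmul := nsmulRec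
  zsmul := zsmulRec

instance instField : Field F9 where
  inv := Inv.inv
  exists_pair_ne := ⟨0, 1, by decide +kernel⟩
  mul_inv_cancel := by decide +kernel
  inv_zero := by decide +kernel
  nnqsmul := _
  nnqsmul_def := fun _ _ => rfl
  qsmul := _
  qsmul_def := fun _ _ => rfl

theorem card_F9 : Fintype.card F9 = 9 := by decide +kernel

end F9

end Cfsg.Agent.ChevalleyStructure.NineField
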