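import Cfsg.Prelude.Def_ChevStructure

/-!
# Root elements of a Chevalley datum as elements of the general linear group

Everything here is relative to a datum `D` and a field `F` with `XAdd D F`: the root elements
satisfy `x_r(t) x_r(u) = x_r(t+u)` and `x_r(0) = 1`.
-/

set_option autoImplicit false

namespace Cfsg.Agent.ChevalleyStructure.GLElems

open Cfsg.Lie Cfsg.Lie.ChevalleyDatum
open scoped MatrixGroups Matrix

/-- Additivity of the root elements of `D` over `F`. -/
structure XAdd (D : ChevalleyDatum) (F : Type*) [Field F] : Prop where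
  mul' : ∀ r < D.nroots, ∀ t u : F, D.x F r t * D.x F r u = D.x F r (t + u)
  zero' : ∀ r < D.nroots, D.x F r (0 : F) = 1

/-- Faithfulness of the root elements of `D` over `F`. -/
structure XFaith (D : ChevalleyDatum) (F : Type*) [Field F] : Prop where
  eq_zero : ∀ r < D.nroots, ∀ t : F, D.x F r t = 1 → t = 0

section basic

variable {D : ChevalleyDatum} {F : Type*} [Field F]

theorem x_eq_dite (r : ℕ) (t : F) :
    D.x F r t = if h : r < D.nroots then D.xMat F ⟨r, h⟩ t else 1 := rfl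

theorem nMat_eq (r : ℕ) (t : F) :
    D.nMat F r t = D.x F r t * (D.x F (D.neg r) (-t⁻¹) * (D.x F r t * 1)) := rfl

theorem hMat_eq (r : ℕ) (t : F) :
    D.hMat F r t = D.x F r t * (D.x F (D.neg r) (-t⁻¹) * (D.x F r t *
      (D.x F r (-1) * (D.x F (D.neg r) (-(-1)⁻¹) * (D.x F r (-1) * 1))))) := rfl

theorem wordMat_append (w₁ w₂ : List (ℕ × F)) :
    D.wordMat F (w₁ ++ w₂) = D.wordMat F w₁ * D.wordMat F w₂ := by
  change ((w₁ ++ w₂).map fun p => D.x F p.1 p.2).prod =
    (w₁.map fun p => D.x F p.1 p.2).prod * (w₂.map fun p => D.x F p.1 p.2).prod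
  rw [List.map_append, List.prod_append]

theorem wordMat_nil : D.wordMat F [] = 1 := rfl

theorem wordMat_cons (p : ℕ × F) (w : List (ℕ × F)) :
    D.wordMat F (p :: w) = D.x F p.1 p.2 * D.wordMat F w := rfl

theorem x_of_not_lt {r : ℕ} (hr : ¬ r < D.nroots) (t : F) : D.x F r t = 1 := by
  rw [x_eq_dite, dif_neg hr]

theorem XAdd.mul (h : XAdd D F) (r : ℕ) (t u : F) :
    D.x F r t * D.x F r u = D.x F r (t + u) := by
  by_cases hr : r < D.nroots
  · exact h.mul' r hr t u
  · rw [x_of_not_lt hr, x_of_not_lt hr, x_of_not_lt hr, one_mul]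

theorem XAdd.zero (h : XAdd D F) (r : ℕ) : D.x F r (0 : F) = 1 := by
  by_cases hr : r < D.nroots
  · exact h.zero' r hr
  · rw [x_of_not_lt hr]

/-- The root element `x_r(t)` as an element of the general linear group. -/
def xG (h : XAdd D F) (r : ℕ) (t : F) : GL D.Idx F where
  val := D.x F r t
  inv := D.x F r (-t)
  val_inv := by rw [h.mul, add_neg_cancel, h.zero]
  inv_val := by rw [h.mul, neg_add_cancel, h.zero]

variable (h : XAdd D F)

@[simp] theorem coe_xG (r : ℕ) (t : F) :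
    ((xG h r t : GL D.Idx F) : Matrix D.Idx D.Idx F) = D.x F r t := rfl

theorem eq_xG_iff {g : GL D.Idx F} {r : ℕ} {t : F} :
    g = xG h r t ↔ (g : Matrix D.Idx D.Idx F) = D.x F r t := by
  constructor
  · rintro rfl; rfl
  · intro hg; exact Units.ext hg

theorem xG_mul (r : ℕ) (t u : F) : xG h r t * xG h r u = xG h r (t + u) :=
  Units.ext (h.mul r t u)

theorem xG_zero (r : ℕ) : xG h r (0 : F) = 1 := Units.ext (h.zero r)

theorem xG_inv (r : ℕ) (t : F) : (xG h r t)⁻¹ = xG h r (-t) := by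
  rw [inv_eq_iff_mul_eq_one, xG_mul, add_neg_cancel, xG_zero]

theorem xG_of_not_lt {r : ℕ} (hr : ¬ r < D.nroots) (t : F) : xG h r t = 1 :=
  Units.ext (x_of_not_lt hr t)

theorem xG_sub (r : ℕ) (t u : F) : xG h r t * (xG h r u)⁻¹ = xG h r (t - u) := by
  rw [xG_inv, xG_mul, sub_eq_add_neg]

/-- `n_r(t)` as an element of the general linear group. -/
def nG (r : ℕ) (t : F) : GL D.Idx F := xG h r t * xG h (D.neg r) (-t⁻¹) * xG h r t

theorem nG_def (r : ℕ) (t : F) :
    nG h r t = xG h r t * xG h (D.neg r) (-t⁻¹) * xG h r t := rfl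

@[simp] theorem coe_nG (r : ℕ) (t : F) :
    ((nG h r t : GL D.Idx F) : Matrix D.Idx D.Idx F) = D.nMat F r t := by
  rw [nMat_eq, nG_def, Units.val_mul, Units.val_mul, coe_xG, coe_xG, mul_one, mul_assoc]

theorem eq_nG_iff {g : GL D.Idx F} {r : ℕ} {t : F} :
    g = nG h r t ↔ (g : Matrix D.Idx D.Idx F) = D.nMat F r t := by
  rw [← coe_nG h]
  exact ⟨fun e => by rw [e], fun e => Units.ext e⟩

theorem nG_inv (r : ℕ) (t : F) : (nG h r t)⁻¹ = nG h r (-t) := by
  rw [nG_def, nG_def, mul_inv_rev, mul_inv_rev, xG_inv, xG_inv, inv_neg, neg_neg, mul_assoc]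

/-- `h_r(t)` as an element of the general linear group. -/
def hG (r : ℕ) (t : F) : GL D.Idx F := nG h r t * nG h r (-1)

theorem hG_def (r : ℕ) (t : F) : hG h r t = nG h r t * nG h r (-1) := rfl

@[simp] theorem coe_hG (r : ℕ) (t : F) :
    ((hG h r t : GL D.Idx F) : Matrix D.Idx D.Idx F) = D.hMat F r t := by
  rw [hG_def, Units.val_mul, coe_nG, coe_nG]
  exact (wordMat_append (D.nWord r t) (D.nWord r (-1))).symm

theorem eq_hG_iff {g : GL D.Idx F} {r : ℕ} {t : F} :
    g = hG h r t ↔ (g : Matrix D.Idx D.Idx F) = D.hMat F r t := by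
  rw [← coe_hG h]
  exact ⟨fun e => by rw [e], fun e => Units.ext e⟩

theorem hG_eq (r : ℕ) (t : F) : hG h r t = nG h r t * (nG h r 1)⁻¹ := by
  rw [hG_def, nG_inv]

theorem nG_eq (r : ℕ) (t : F) : nG h r t = hG h r t * nG h r 1 := by
  rw [hG_eq, inv_mul_cancel_right]

theorem hG_one (r : ℕ) : hG h r (1 : F) = 1 := by
  rw [hG_eq, mul_inv_cancel]

theorem hG_neg_one (r : ℕ) : hG h r (-1 : F) = (nG h r 1)⁻¹ * (nG h r 1)⁻¹ := by
  rw [hG_eq, ← nG_inv]

/-- The key identity `x_{-r}(-t⁻¹) = x_r(-t) n_r(t) x_r(-t)`. -/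
theorem xG_neg_eq (r : ℕ) (t : F) :
    xG h (D.neg r) (-t⁻¹) = xG h r (-t) * nG h r t * xG h r (-t) := by
  rw [nG_def, ← xG_inv h r t]
  group

/-! ### membership -/

theorem xG_mem_rootSubgroup (r : ℕ) (t : F) : xG h r t ∈ D.rootSubgroup F r :=
  Subgroup.subset_closure ⟨t, rfl⟩

theorem mem_rootSubgroup_iff {r : ℕ} {g : GL D.Idx F} :
    g ∈ D.rootSubgroup F r ↔ ∃ t : F, g = xG h r t := by
  constructor
  · intro hg
    change g ∈ Subgroup.closure _ at hg
    induction hg using Subgroup.closure_induction with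
    | mem g hg => obtain ⟨t, ht⟩ := hg; exact ⟨t, Units.ext ht⟩
    | one => exact ⟨0, (xG_zero h r).symm⟩
    | mul a b _ _ ha hb =>
      obtain ⟨t, rfl⟩ := ha
      obtain ⟨u, rfl⟩ := hb
      exact ⟨t + u, xG_mul h r t u⟩
    | inv a _ ha =>
      obtain ⟨t, rfl⟩ := ha
      exact ⟨-t, xG_inv h r t⟩
  · rintro ⟨t, rfl⟩
    exact xG_mem_rootSubgroup h r t

theorem posUnipotent_eq :
    D.posUnipotent F = Subgroup.closure {g | ∃ (r : ℕ) (t : F), D.IsPosRoot r ∧ g = xG h r t} := by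
  change Subgroup.closure {g : GL D.Idx F | ∃ (r : ℕ) (t : F), D.IsPosRoot r ∧ (g : Matrix D.Idx D.Idx F) = D.x F r t} = _
  simp only [eq_xG_iff h]

theorem negUnipotent_eq :
    D.negUnipotent F = Subgroup.closure {g | ∃ (r : ℕ) (t : F), D.IsNegRoot r ∧ g = xG h r t} := by
  change Subgroup.closure {g : GL D.Idx F | ∃ (r : ℕ) (t : F), D.IsNegRoot r ∧ (g : Matrix D.Idx D.Idx F) = D.x F r t} = _
  simp only [eq_xG_iff h]

theorem group_eq :
    D.group F = Subgroup.closure {g | ∃ (r : ℕ) (t : F), g = xG h r t} := by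
  apply le_antisymm
  · change Subgroup.closure _ ≤ _
    rw [Subgroup.closure_le]
    rintro g ⟨r, t, hg⟩
    refine Subgroup.subset_closure ⟨r.1, t, ?_⟩
    rw [eq_xG_iff, hg, x_eq_dite, dif_pos r.2]
  · rw [Subgroup.closure_le]
    rintro g ⟨r, t, rfl⟩
    by_cases hr : r < D.nroots
    · refine Subgroup.subset_closure ⟨⟨r, hr⟩, t, ?_⟩
      rw [coe_xG, x_eq_dite, dif_pos hr]
    · rw [xG_of_not_lt h hr]
      exact Subgroup.one_mem _

theorem diagonalSubgroup_eq :
    D.diagonalSubgroup F =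
      Subgroup.closure {g | ∃ (r : ℕ) (t : F), r < D.nroots ∧ t ≠ 0 ∧ g = hG h r t} := by
  change Subgroup.closure {g : GL D.Idx F | ∃ (r : ℕ) (t : F), r < D.nroots ∧ t ≠ 0 ∧
    (g : Matrix D.Idx D.Idx F) = D.hMat F r t} = _
  simp only [eq_hG_iff h]

theorem monomialSubgroup_eq :
    D.monomialSubgroup F =
      D.diagonalSubgroup F ⊔ Subgroup.closure {g | ∃ r : ℕ, r < D.nroots ∧ g = nG h r 1} := by
  change _ ⊔ Subgroup.closure {g : GL D.Idx F | ∃ r : ℕ, r < D.nroots ∧
    (g : Matrix D.Idx D.Idx F) = D.nMat F r 1} = _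
  simp only [eq_nG_iff h]

theorem xG_mem_posUnipotent {r : ℕ} (hr : D.IsPosRoot r) (t : F) : xG h r t ∈ D.posUnipotent F :=
  Subgroup.subset_closure ⟨r, t, hr, rfl⟩

theorem xG_mem_negUnipotent {r : ℕ} (hr : D.IsNegRoot r) (t : F) : xG h r t ∈ D.negUnipotent F :=
  Subgroup.subset_closure ⟨r, t, hr, rfl⟩

theorem xG_mem_group (r : ℕ) (t : F) : xG h r t ∈ D.group F := by
  rw [group_eq h]
  exact Subgroup.subset_closure ⟨r, t, rfl⟩

theorem nG_mem_group (r : ℕ) (t : F) : nG h r t ∈ D.group F :=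
  mul_mem (mul_mem (xG_mem_group h _ _) (xG_mem_group h _ _)) (xG_mem_group h _ _)

theorem hG_mem_group (r : ℕ) (t : F) : hG h r t ∈ D.group F :=
  mul_mem (nG_mem_group h _ _) (nG_mem_group h _ _)

theorem hG_mem_diagonalSubgroup {r : ℕ} (hr : r < D.nroots) {t : F} (ht : t ≠ 0) :
    hG h r t ∈ D.diagonalSubgroup F := by
  rw [diagonalSubgroup_eq h]
  exact Subgroup.subset_closure ⟨r, t, hr, ht, rfl⟩

theorem diagonalSubgroup_le_monomialSubgroup :
    D.diagonalSubgroup F ≤ D.monomialSubgroup F := le_sup_left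

theorem posUnipotent_le_borelSubgroup : D.posUnipotent F ≤ D.borelSubgroup F := le_sup_left

theorem diagonalSubgroup_le_borelSubgroup : D.diagonalSubgroup F ≤ D.borelSubgroup F := le_sup_right

theorem nG_one_mem_monomialSubgroup {r : ℕ} (hr : r < D.nroots) :
    nG h r (1 : F) ∈ D.monomialSubgroup F := by
  rw [monomialSubgroup_eq h]
  exact Subgroup.mem_sup_right (Subgroup.subset_closure ⟨r, hr, rfl⟩)

theorem nG_mem_monomialSubgroup {r : ℕ} (hr : r < D.nroots) {t : F} (ht : t ≠ 0) :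
    nG h r t ∈ D.monomialSubgroup F := by
  rw [nG_eq]
  exact mul_mem (diagonalSubgroup_le_monomialSubgroup (hG_mem_diagonalSubgroup h hr ht))
    (nG_one_mem_monomialSubgroup h hr)

include h in
theorem posUnipotent_le_group : D.posUnipotent F ≤ D.group F := by
  rw [posUnipotent_eq h, Subgroup.closure_le]
  rintro g ⟨r, t, _, rfl⟩
  exact xG_mem_group h r t

include h in
theorem negUnipotent_le_group : D.negUnipotent F ≤ D.group F := by
  rw [negUnipotent_eq h, Subgroup.closure_le]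
  rintro g ⟨r, t, _, rfl⟩
  exact xG_mem_group h r t

include h in
theorem diagonalSubgroup_le_group : D.diagonalSubgroup F ≤ D.group F := by
  rw [diagonalSubgroup_eq h, Subgroup.closure_le]
  rintro g ⟨r, t, _, _, rfl⟩
  exact hG_mem_group h r t

include h in
theorem borelSubgroup_le_group : D.borelSubgroup F ≤ D.group F :=
  sup_le (posUnipotent_le_group h) (diagonalSubgroup_le_group h)

include h in
theorem monomialSubgroup_le_group : D.monomialSubgroup F ≤ D.group F := by
  rw [monomialSubgroup_eq h]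
  refine sup_le (diagonalSubgroup_le_group h) ?_
  rw [Subgroup.closure_le]
  rintro g ⟨r, _, rfl⟩
  exact nG_mem_group h r 1

include h in
theorem rootSubgroup_le_group (r : ℕ) : D.rootSubgroup F r ≤ D.group F := by
  intro g hg
  obtain ⟨t, rfl⟩ := (mem_rootSubgroup_iff h).1 hg
  exact xG_mem_group h r t

theorem xG_neg_mem_of_mem {K : Subgroup (GL D.Idx F)} {r : ℕ} (hr : r < D.nroots)
    (hx : ∀ t : F, xG h r t ∈ K) (hN : D.monomialSubgroup F ≤ K) (t : F) :
    xG h (D.neg r) t ∈ K := by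
  by_cases ht : t = 0
  · rw [ht, xG_zero]
    exact one_mem _
  · have ht' : -t⁻¹ ≠ 0 := neg_ne_zero.2 (inv_ne_zero ht)
    have e : t = -(-t⁻¹)⁻¹ := by rw [inv_neg, inv_inv, neg_neg]
    rw [e, xG_neg_eq]
    exact mul_mem (mul_mem (hx _) (hN (nG_mem_monomialSubgroup h hr ht'))) (hx _)

include h in
/-- If every root is positive or the negative of a positive root, `G = ⟨B, N⟩`. -/
theorem borelSubgroup_sup_monomialSubgroup
    (hpn : ∀ r < D.nroots, D.IsPosRoot r ∨ ∃ s, D.IsPosRoot s ∧ r = D.neg s) :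
    D.borelSubgroup F ⊔ D.monomialSubgroup F = D.group F := by
  apply le_antisymm (sup_le (borelSubgroup_le_group h) (monomialSubgroup_le_group h))
  rw [group_eq h, Subgroup.closure_le]
  rintro g ⟨r, t, rfl⟩
  have hpos : ∀ s, D.IsPosRoot s → ∀ u : F, xG h s u ∈ D.borelSubgroup F ⊔ D.monomialSubgroup F :=
    fun s hs u => Subgroup.mem_sup_left (posUnipotent_le_borelSubgroup (xG_mem_posUnipotent h hs u))
  by_cases hr : r < D.nroots
  · rcases hpn r hr with hp | ⟨s, hs, rfl⟩
    · exact hpos r hp t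
    · exact xG_neg_mem_of_mem h hs.1 (hpos s hs) le_sup_right t
  · rw [xG_of_not_lt h hr]
    exact one_mem _

include h in
/-- If every root is positive or negative, `G = ⟨U, V⟩`. -/
theorem posUnipotent_sup_negUnipotent
    (hpn : ∀ r < D.nroots, D.IsPosRoot r ∨ D.IsNegRoot r) :
    D.posUnipotent F ⊔ D.negUnipotent F = D.group F := by
  apply le_antisymm (sup_le (posUnipotent_le_group h) (negUnipotent_le_group h))
  rw [group_eq h, Subgroup.closure_le]
  rintro g ⟨r, t, rfl⟩
  by_cases hr : r < D.nroots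
  · rcases hpn r hr with hp | hp
    · exact Subgroup.mem_sup_left (xG_mem_posUnipotent h hp t)
    · exact Subgroup.mem_sup_right (xG_mem_negUnipotent h hp t)
  · rw [xG_of_not_lt h hr]
    exact one_mem _

end basic

end Cfsg.Agent.ChevalleyStructure.GLElems
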