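import Mathlib

/-!
Abstract construction of an exceptional graph automorphism: the closure `H` of the pairs
`(x_r(t), x_{bar r}(t^{lam r}))` is the graph of an automorphism as soon as its first projection is injective,
because its square is the Frobenius map.
-/
set_option autoImplicit false

namespace Cfsg.Agent.ChevalleyStructure.GraphAbstract

open scoped MatrixGroups

variable {ι : Type*} [Fintype ι] [DecidableEq ι] {K : Type*} [Field K] {R : Type*}

/-- the subgroup generated by the root elements -/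
def gen (X : R → K → GL ι K) : Subgroup (GL ι K) :=
  Subgroup.closure {g | ∃ r t, g = X r t}

/-- the subgroup of pairs generated by `(x_r(t), x_{bar r}(t^{lam r}))` -/
def pairs (X : R → K → GL ι K) (bar : R → R) (lam : R → ℕ) : Subgroup (GL ι K × GL ι K) :=
  Subgroup.closure {g | ∃ r t, g = (X r t, X (bar r) (t ^ lam r))}

theorem mem_pairs (X : R → K → GL ι K) (bar : R → R) (lam : R → ℕ) (r : R) (t : K) :
    (X r t, X (bar r) (t ^ lam r)) ∈ pairs X bar lam :=
  Subgroup.subset_closure ⟨r, t, rfl⟩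

theorem pairs_induction (X : R → K → GL ι K) (bar : R → R) (lam : R → ℕ) (P : GL ι K × GL ι K → Prop)
    (hX : ∀ r t, P (X r t, X (bar r) (t ^ lam r))) (h1 : P 1) (hmul : ∀ a b, P a → P b → P (a * b))
    (hinv : ∀ a, P a → P a⁻¹) {g : GL ι K × GL ι K} (hg : g ∈ pairs X bar lam) : P g := by
  unfold pairs at hg
  induction hg using Subgroup.closure_induction with
  | mem x hx =>
    obtain ⟨r, t, rfl⟩ := hx
    exact hX r t
  | one => exact h1
  | mul a b _ _ ha hb => exact hmul a b ha hb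
  | inv a _ ha => exact hinv a ha

theorem frob_injective (p : ℕ) [Fact p.Prime] [CharP K p] :
    Function.Injective (Matrix.GeneralLinearGroup.map (n := ι) (frobenius K p)) := by
  intro g h hgh
  ext i j
  have h1 := congrArg (fun x : GL ι K => (x : Matrix ι ι K) i j) hgh
  simp only [Matrix.GeneralLinearGroup.map_apply] at h1
  exact frobenius_inj K p h1

theorem pairs_frob (p : ℕ) [Fact p.Prime] [CharP K p]
    (X : R → K → GL ι K) (bar : R → R) (lam : R → ℕ)
    (hbar : ∀ r, bar (bar r) = r) (hlam : ∀ r, lam r * lam (bar r) = p)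
    (hfrob : ∀ r t, Matrix.GeneralLinearGroup.map (n := ι) (frobenius K p) (X r t) = X r (t ^ p))
    {g : GL ι K × GL ι K} (hg : g ∈ pairs X bar lam) :
    (g.2, Matrix.GeneralLinearGroup.map (n := ι) (frobenius K p) g.1) ∈ pairs X bar lam := by
  refine Subgroup.closure_induction (p := fun g _ =>
    (g.2, Matrix.GeneralLinearGroup.map (n := ι) (frobenius K p) g.1) ∈ pairs X bar lam) ?_ ?_ ?_ ?_ hg
  · rintro _ ⟨r, t, rfl⟩
    have h := mem_pairs X bar lam (bar r) (t ^ lam r)
    rw [hbar, ← pow_mul, hlam] at h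
    simp only
    rw [hfrob]
    exact h
  · simp only [Prod.snd_one, Prod.fst_one, map_one]
    exact Subgroup.one_mem _
  · intro a b _ _ ha hb
    have := Subgroup.mul_mem _ ha hb
    simpa using this
  · intro a _ ha
    have := Subgroup.inv_mem _ ha
    simpa using this

theorem exists_graph_aut (p : ℕ) [Fact p.Prime] [CharP K p]
    (X : R → K → GL ι K) (bar : R → R) (lam : R → ℕ)
    (hbar : ∀ r, bar (bar r) = r) (hlam : ∀ r, lam r * lam (bar r) = p)
    (hroot : ∀ r (t : K), ∃ s : K, s ^ lam r = t)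
    (hfrob : ∀ r t, Matrix.GeneralLinearGroup.map (n := ι) (frobenius K p) (X r t) = X r (t ^ p))
    (faith : ∀ g' : GL ι K, ((1 : GL ι K), g') ∈ pairs X bar lam → g' = 1) :
    ∃ α : ↥(gen X) ≃* ↥(gen X),
      ∀ g : ↥(gen X), ((g : GL ι K), (α g : GL ι K)) ∈ pairs X bar lam := by
  let f₁ : ↥(pairs X bar lam) →* GL ι K := (MonoidHom.fst _ _).comp (Subgroup.subtype _)
  let f₂ : ↥(pairs X bar lam) →* GL ι K := (MonoidHom.snd _ _).comp (Subgroup.subtype _)
  have h₁ : Function.Injective f₁ := by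
    rw [injective_iff_map_eq_one]
    rintro ⟨⟨g, g'⟩, hg⟩ h
    have hg1 : g = 1 := h
    subst hg1
    have := faith g' hg
    subst this
    rfl
  have h₂ : Function.Injective f₂ := by
    rw [injective_iff_map_eq_one]
    rintro ⟨⟨g, g'⟩, hg⟩ h
    have hg1 : g' = 1 := h
    subst hg1
    have h3 := pairs_frob p X bar lam hbar hlam hfrob hg
    have h4 := faith _ h3
    have h5 : g = 1 := by
      apply frob_injective (ι := ι) (K := K) p
      rw [map_one]
      exact h4
    subst h5
    rfl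
  have r₁ : f₁.range = gen X := by
    have : f₁.range = (pairs X bar lam).map (MonoidHom.fst _ _) := by
      rw [MonoidHom.range_comp, Subgroup.range_subtype]
    rw [this]
    unfold pairs gen
    rw [MonoidHom.map_closure]
    congr 1
    ext g
    constructor
    · rintro ⟨_, ⟨r, t, rfl⟩, rfl⟩
      exact ⟨r, t, rfl⟩
    · rintro ⟨r, t, rfl⟩
      exact ⟨_, ⟨r, t, rfl⟩, rfl⟩
  have r₂ : f₂.range = gen X := by
    have : f₂.range = (pairs X bar lam).map (MonoidHom.snd _ _) := by
      rw [MonoidHom.range_comp, Subgroup.range_subtype]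
    rw [this]
    unfold pairs gen
    rw [MonoidHom.map_closure]
    congr 1
    ext g
    constructor
    · rintro ⟨_, ⟨r, t, rfl⟩, rfl⟩
      exact ⟨bar r, t ^ lam r, rfl⟩
    · rintro ⟨r, t, rfl⟩
      obtain ⟨s, hs⟩ := hroot (bar r) t
      refine ⟨_, ⟨bar r, s, rfl⟩, ?_⟩
      change X (bar (bar r)) (s ^ lam (bar r)) = _
      rw [hbar, hs]
  let e₁ : ↥(pairs X bar lam) ≃* ↥(gen X) := (MonoidHom.ofInjective h₁).trans (MulEquiv.subgroupCongr r₁)
  let e₂ : ↥(pairs X bar lam) ≃* ↥(gen X) := (MonoidHom.ofInjective h₂).trans (MulEquiv.subgroupCongr r₂)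
  have he₁ : ∀ x, ((e₁ x : ↥(gen X)) : GL ι K) = x.1.1 := fun x => rfl
  have he₂ : ∀ x, ((e₂ x : ↥(gen X)) : GL ι K) = x.1.2 := fun x => rfl
  refine ⟨e₁.symm.trans e₂, fun g => ?_⟩
  have hg : e₁ (e₁.symm g) = g := e₁.apply_symm_apply g
  have h3 : (g : GL ι K) = (e₁.symm g).1.1 := by
    conv_lhs => rw [← hg]
    exact he₁ _
  have h4 : ((e₁.symm.trans e₂ g : ↥(gen X)) : GL ι K) = (e₁.symm g).1.2 := he₂ _
  rw [h3, h4]
  exact (e₁.symm g).2

theorem pairs_unique (X : R → K → GL ι K) (bar : R → R) (lam : R → ℕ)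
    (faith : ∀ g' : GL ι K, ((1 : GL ι K), g') ∈ pairs X bar lam → g' = 1)
    {g g₁ g₂ : GL ι K} (h₁ : (g, g₁) ∈ pairs X bar lam) (h₂ : (g, g₂) ∈ pairs X bar lam) : g₁ = g₂ := by
  have h := Subgroup.mul_mem _ (Subgroup.inv_mem _ h₁) h₂
  have h' : ((1 : GL ι K), g₁⁻¹ * g₂) ∈ pairs X bar lam := by simpa using h
  have := faith _ h'
  exact inv_mul_eq_one.mp this

end Cfsg.Agent.ChevalleyStructure.GraphAbstract
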