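import Cfsg.Agent.ChevalleyStructure.GraphSound

/-!
Faithfulness of the pairing for `G₂` (characteristic 3) and `F₄` (characteristic 2), from the Lie bracket
of the adjoint module with the short ideal.
-/
set_option autoImplicit false

namespace Cfsg.Agent.ChevalleyStructure.GraphFaith

open Cfsg.Lie Cfsg.Agent.ChevalleyStructure.GraphSparse Cfsg.Agent.ChevalleyStructure.GraphColumns
  Cfsg.Agent.ChevalleyStructure.GraphCheck Cfsg.Agent.ChevalleyStructure.GraphAbstract
  Cfsg.Agent.ChevalleyStructure.GraphSound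

open scoped MatrixGroups

variable (T : Tab) (D : ChevalleyDatum) (K : Type*) [Field K]

/-- the Lie bracket -/
noncomputable def Br : (D.Idx → K) →ₗ[K] (D.Idx → K) →ₗ[K] (D.Idx → K) :=
  (Pi.basisFun K D.Idx).constr K fun i => (Pi.basisFun K D.Idx).constr K fun j =>
    ev (bas D K) (1 : K) (T.act (enc D i) (enc D j))

variable {T D}

theorem act_out {i j : ℕ} (h : ¬ (i < T.l + T.n ∧ j < T.l + T.n)) : T.act i j = [] := by
  unfold Tab.act
  by_cases hi : i < T.l + T.n
  · by_cases hj : j < T.l + T.n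
    · exact absurd ⟨hi, hj⟩ h
    · rw [ble_true (by omega), ble_false (a := j + 1) (by omega)]; rfl
  · rw [ble_false (by omega)]; rfl

theorem Br_bas (hG : Good T D) (hF : Faith T) (t : K) (i j : ℕ) :
    Br T D K (bas D K i) (bas D K j) = ev (bas D K) t (T.act i j) := by
  by_cases h : i < T.l + T.n ∧ j < T.l + T.n
  · have h6 := allB_sound (hF.c6 i h.1) j h.2
    rw [Bool.and_eq_true] at h6
    rw [ev_of_pz (bas D K) t h6.1 1]
    obtain ⟨a, rfl⟩ := exists_enc D (j := i) (by rw [hG.hl, hG.hn]; exact h.1)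
    obtain ⟨c, rfl⟩ := exists_enc D (j := j) (by rw [hG.hl, hG.hn]; exact h.2)
    unfold Br
    rw [bas_enc, bas_enc, ← Pi.basisFun_apply, ← Pi.basisFun_apply, Module.Basis.constr_basis,
      Module.Basis.constr_basis]
  · rw [act_out h, ev_nil]
    have : ¬ i < T.l + T.n ∨ ¬ j < T.l + T.n := by
      by_contra h'
      push Not at h'
      exact h h'
    rcases this with h' | h'
    · rw [bas_out D K (by rw [hG.hl, hG.hn]; exact h'), map_zero, LinearMap.zero_apply]
    · rw [bas_out D K (j := j) (by rw [hG.hl, hG.hn]; exact h'), map_zero]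

theorem Br_x_bas (hG : Good T D) (hF : Faith T) [CharP K T.p] {r : ℕ} (hr : r < D.nroots) (t : K)
    {c : ℕ} (hc : c ∈ T.jl) (u : D.Idx → K) :
    Br T D K (Matrix.mulVec (D.x K r t) u) (Matrix.mulVec (D.x K r t) (bas D K c)) =
      Matrix.mulVec (D.x K r t) (Br T D K u (bas D K c)) := by
  have key : (Br T D K).flip (Matrix.mulVec (D.x K r t) (bas D K c)) ∘ₗ Matrix.mulVecLin (D.x K r t) =
      Matrix.mulVecLin (D.x K r t) ∘ₗ (Br T D K).flip (bas D K c) := by
    apply lin_ext
    intro j hj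
    have h3 := allL_sound (allB_sound (hF.c3 r (hG.hn ▸ hr)) j (by rw [← hG.hl, ← hG.hn]; exact hj)) c hc
    have h4 := ev_of_eqv (bas D K) t T.p hG.prime.pos h3
    rw [ev_ap2 (bas D K) t (bas D K) (bas D K) (Br T D K) T.act (fun i j => Br_bas K hG hF t i j),
      ev_ap (bas D K) t (bas D K) (Matrix.mulVecLin (D.x K r t)) (T.col r) (fun i => x_bas hG K hr t i),
      ← x_bas hG K hr, ← x_bas hG K hr, ← Br_bas K hG hF] at h4
    exact h4
  exact LinearMap.congr_fun key u

theorem Br_x_shift (hG : Good T D) (hF : Faith T) [CharP K T.p] {r : ℕ} (hr : r < D.nroots) (t : K)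
    (u v : D.Idx → K) :
    Br T D K (Matrix.mulVec (D.x K r t) u) (Matrix.mulVec (D.x K r t) (Matrix.mulVec (shift T D K) v)) =
      Matrix.mulVec (D.x K r t) (Br T D K u (Matrix.mulVec (shift T D K) v)) := by
  have key : (Br T D K) (Matrix.mulVec (D.x K r t) u) ∘ₗ Matrix.mulVecLin (D.x K r t) ∘ₗ
        Matrix.mulVecLin (shift T D K) =
      Matrix.mulVecLin (D.x K r t) ∘ₗ (Br T D K) u ∘ₗ Matrix.mulVecLin (shift T D K) := by
    apply lin_ext
    intro j hj
    simp only [LinearMap.comp_apply, Matrix.mulVecLin_apply]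
    rw [shift_bas hG K t]
    have h8 := hG.c8
    unfold Tab.chk8 at h8
    rw [Bool.and_eq_true] at h8
    have h9 := allL_sound (allB_sound h8.2 j (by rw [← hG.hl, ← hG.hn]; exact hj))
    revert h9
    unfold Tab.sigCol
    cases T.sig.getD j 0 with
    | zero =>
      intro _
      change Br T D K _ (Matrix.mulVec (D.x K r t) 0) = Matrix.mulVec (D.x K r t) (Br T D K u 0)
      simp
    | succ s =>
      intro h9
      have hs : s ∈ T.jl := mem_sound (h9 (s, 0, 1) List.mem_cons_self)
      have : ev (bas D K) t [(s, 0, 1)] = bas D K s := by simp [ev_cons, ev_nil]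
      change Br T D K _ (Matrix.mulVec (D.x K r t) (ev (bas D K) t [(s, 0, 1)])) =
        Matrix.mulVec (D.x K r t) (Br T D K u (ev (bas D K) t [(s, 0, 1)]))
      rw [this]
      exact Br_x_bas K hG hF hr t hs u
  exact LinearMap.congr_fun key v

/-- invariance of the pairing `(u, v) ↦ [u, S v]` -/
def RelB (T : Tab) (D : ChevalleyDatum) (K : Type*) [Field K] (M M' : Matrix D.Idx D.Idx K) : Prop :=
  ∀ u v : D.Idx → K, Br T D K (Matrix.mulVec M' u) (Matrix.mulVec (shift T D K) (Matrix.mulVec M v)) =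
      Matrix.mulVec M' (Br T D K u (Matrix.mulVec (shift T D K) v))

theorem rel_b (hG : Good T D) (hF : Faith T) [CharP K T.p] {g : GL D.Idx K × GL D.Idx K}
    (hg : g ∈ pairs (X hG K) (barF hG) (fun r => T.lam.getD r.val 0)) :
    RelB T D K (g.1 : Matrix D.Idx D.Idx K) (g.2 : Matrix D.Idx D.Idx K) := by
  refine pairs_induction (X hG K) (barF hG) (fun r => T.lam.getD r.val 0)
    (fun g => RelB T D K (g.1 : Matrix D.Idx D.Idx K) (g.2 : Matrix D.Idx D.Idx K)) ?_ ?_ ?_ ?_ hg
  · intro r t u v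
    have h1 := shift_mul hG K r t
    have h2 := Br_x_shift K hG hF (barF hG r).isLt (t ^ T.lam.getD r.val 0) u v
    rw [X_coe, X_coe]
    rw [Matrix.mulVec_mulVec v, h1, ← Matrix.mulVec_mulVec]
    exact h2
  · intro u v
    simp only [Prod.fst_one, Prod.snd_one, Units.val_one, Matrix.one_mulVec]
  · intro a b ha hb u v
    rw [Prod.fst_mul, Prod.snd_mul, Units.val_mul, Units.val_mul, ← Matrix.mulVec_mulVec,
      ← Matrix.mulVec_mulVec, ha, hb, Matrix.mulVec_mulVec]
  · intro a ha u v
    rw [Prod.fst_inv, Prod.snd_inv]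
    have h1 : (((a.2)⁻¹ : GL D.Idx K) : Matrix D.Idx D.Idx K) * (a.2 : Matrix D.Idx D.Idx K) = 1 := by
      rw [← Units.val_mul, inv_mul_cancel, Units.val_one]
    have h1' : (a.2 : Matrix D.Idx D.Idx K) * (((a.2)⁻¹ : GL D.Idx K) : Matrix D.Idx D.Idx K) = 1 := by
      rw [← Units.val_mul, mul_inv_cancel, Units.val_one]
    have h2 : (a.1 : Matrix D.Idx D.Idx K) * (((a.1)⁻¹ : GL D.Idx K) : Matrix D.Idx D.Idx K) = 1 := by
      rw [← Units.val_mul, mul_inv_cancel, Units.val_one]
    have h3 := ha (Matrix.mulVec (((a.2)⁻¹ : GL D.Idx K) : Matrix D.Idx D.Idx K) u)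
      (Matrix.mulVec (((a.1)⁻¹ : GL D.Idx K) : Matrix D.Idx D.Idx K) v)
    have e1 : Matrix.mulVec (a.1 : Matrix D.Idx D.Idx K)
        (Matrix.mulVec (((a.1)⁻¹ : GL D.Idx K) : Matrix D.Idx D.Idx K) v) = v := by
      rw [Matrix.mulVec_mulVec, h2, Matrix.one_mulVec]
    have e2 : Matrix.mulVec (a.2 : Matrix D.Idx D.Idx K)
        (Matrix.mulVec (((a.2)⁻¹ : GL D.Idx K) : Matrix D.Idx D.Idx K) u) = u := by
      rw [Matrix.mulVec_mulVec, h1', Matrix.one_mulVec]
    rw [e1, e2] at h3
    have e3 : ∀ w, Matrix.mulVec (((a.2)⁻¹ : GL D.Idx K) : Matrix D.Idx D.Idx K)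
        (Matrix.mulVec (a.2 : Matrix D.Idx D.Idx K) w) = w := by
      intro w
      rw [Matrix.mulVec_mulVec, h1, Matrix.one_mulVec]
    rw [h3, e3]

/-- coordinate functional at a flattened index -/
noncomputable def pr (D : ChevalleyDatum) (K : Type*) [Field K] (a : ℕ) : (D.Idx → K) →ₗ[K] K :=
  ∑ b : D.Idx, if enc D b = a then LinearMap.proj b else 0

theorem pr_enc (a : D.Idx) (v : D.Idx → K) : pr D K (enc D a) v = v a := by
  unfold pr
  rw [LinearMap.sum_apply, Finset.sum_eq_single a]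
  · rw [if_pos rfl]; rfl
  · intro b _ hb
    rw [if_neg (fun h => hb (enc_injective D h))]; rfl
  · intro h; exact absurd (Finset.mem_univ a) h

theorem pr_ev {a : ℕ} (ha : a < D.rank + D.nroots) (l : SV) :
    pr D K a (ev (bas D K) (1 : K) l) = (co a l : K) := by
  obtain ⟨b, rfl⟩ := exists_enc D ha
  rw [pr_enc]
  induction l with
  | nil => rw [co_nil, ev_nil]; simp
  | cons q l ih =>
    rw [ev_cons, Pi.add_apply, ih, co_cons, Pi.smul_apply]
    change ((q.2.2 : ℕ) : K) * 1 ^ q.2.1 * (if enc D b = q.1 then (1 : K) else 0) + _ = _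
    by_cases h : q.1 = enc D b
    · have h' : Nat.beq q.1 (enc D b) = true := by rw [h]; exact Nat.beq_refl _
      rw [if_pos h.symm, if_pos h']
      push_cast
      ring
    · have h' : ¬ Nat.beq q.1 (enc D b) = true := fun hb => h (Nat.eq_of_beq_eq_true hb)
      rw [if_neg (fun hb => h hb.symm), if_neg h']
      ring

/-- functional attached to a list of witnesses -/
noncomputable def phi (T : Tab) (D : ChevalleyDatum) (K : Type*) [Field K] :
    List (ℕ × ℕ × ℕ) → ((D.Idx → K) →ₗ[K] K)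
  | [] => 0
  | w :: l => ((w.2.2 : ℕ) : K) • (pr D K w.2.1 ∘ₗ (Br T D K).flip (bas D K w.1)) + phi T D K l

theorem phi_bas (hG : Good T D) (hF : Faith T) (i' : ℕ) (L : List (ℕ × ℕ × ℕ))
    (hL : ∀ w ∈ L, w.2.1 < D.rank + D.nroots) :
    phi T D K L (bas D K i') = (T.wsum i' L : K) := by
  induction L with
  | nil => change (0 : K) = ((0 : ℕ) : K); simp
  | cons w l ih =>
    change ((w.2.2 : ℕ) : K) • (pr D K w.2.1 (Br T D K (bas D K i') (bas D K w.1))) +
      phi T D K l (bas D K i') = ((w.2.2 * co w.2.1 (T.act i' w.1) + T.wsum i' l : ℕ) : K)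
    rw [ih (fun w hw => hL w (List.mem_cons_of_mem _ hw)), Br_bas K hG hF 1, pr_ev K (hL w List.mem_cons_self)]
    push_cast
    rfl

theorem phi_zero (w : D.Idx → K) (L : List (ℕ × ℕ × ℕ))
    (h : ∀ q ∈ L, Br T D K w (bas D K q.1) = 0) : phi T D K L w = 0 := by
  induction L with
  | nil => rfl
  | cons q l ih =>
    change ((q.2.2 : ℕ) : K) • (pr D K q.2.1 (Br T D K w (bas D K q.1))) + phi T D K l w = 0
    rw [ih (fun x hx => h x (List.mem_cons_of_mem _ hx)), h q List.mem_cons_self]
    simp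

theorem nondeg (hG : Good T D) (hF : Faith T) [CharP K T.p] (w : D.Idx → K)
    (h : ∀ c ∈ T.jl, Br T D K w (bas D K c) = 0) : w = 0 := by
  funext a
  have hi : enc D a < T.l + T.n := by rw [← hG.hl, ← hG.hn]; exact enc_lt D a
  have h5 := hF.c5 (enc D a) hi
  unfold Tab.chk5 at h5
  rw [Bool.and_eq_true] at h5
  have hW : ∀ q ∈ T.wit.getD (enc D a) [], q.1 ∈ T.jl ∧ q.2.1 < D.rank + D.nroots := by
    intro q hq
    have h6 := allL_sound h5.1 q hq
    rw [Bool.and_eq_true] at h6
    refine ⟨mem_sound h6.1, ?_⟩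
    have := Nat.le_of_ble_eq_true h6.2
    rw [hG.hl, hG.hn]
    omega
  have key : phi T D K (T.wit.getD (enc D a) []) = pr D K (enc D a) := by
    apply lin_ext
    intro j hj
    rw [phi_bas K hG hF j _ (fun q hq => (hW q hq).2)]
    have h7 := Nat.eq_of_beq_eq_true (allB_sound h5.2 j (by rw [← hG.hl, ← hG.hn]; exact hj))
    rw [← cast_mod' T.p, h7, pr_enc]
    change ((bif Nat.beq (enc D a) j then 1 else 0 : ℕ) : K) = (if enc D a = j then (1 : K) else 0)
    by_cases h8 : enc D a = j
    · rw [if_pos h8, h8, Nat.beq_refl]; simp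
    · rw [if_neg h8]
      cases h9 : Nat.beq (enc D a) j with
      | false => simp
      | true => exact absurd (Nat.eq_of_beq_eq_true h9) h8
  have h1 := phi_zero K w (T.wit.getD (enc D a) []) (fun q hq => h q.1 (hW q hq).1)
  rw [key, pr_enc] at h1
  rw [h1]
  rfl

theorem faith (hG : Good T D) (hF : Faith T) [CharP K T.p] (g' : GL D.Idx K)
    (hg : ((1 : GL D.Idx K), g') ∈ pairs (X hG K) (barF hG) (fun r => T.lam.getD r.val 0)) : g' = 1 := by
  have ha := rel_a hG K hg
  have hb := rel_b K hG hF hg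
  simp only [Units.val_one, mul_one] at ha
  have hb : ∀ u v : D.Idx → K, Br T D K (Matrix.mulVec (g' : Matrix D.Idx D.Idx K) u)
      (Matrix.mulVec (shift T D K) v) =
      Matrix.mulVec (g' : Matrix D.Idx D.Idx K) (Br T D K u (Matrix.mulVec (shift T D K) v)) := by
    intro u v
    have := hb u v
    rw [Units.val_one, Matrix.one_mulVec] at this
    exact this
  have h7 := hF.c7
  unfold Tab.chk7 at h7
  -- basis vectors of the short ideal are in the image of the shift
  have him : ∀ c ∈ T.jl, ∃ v, bas D K c = Matrix.mulVec (shift T D K) v := by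
    intro c hc
    have h1 := mem_sound (allL_sound h7 c hc)
    obtain ⟨k, hk, hk'⟩ := List.getElem_of_mem h1
    refine ⟨bas D K k, ?_⟩
    rw [shift_bas hG K 1]
    unfold Tab.sigCol
    rw [List.getD_eq_getElem _ _ hk, hk']
    change bas D K c = ev (bas D K) (1 : K) [(c, 0, 1)]
    simp [ev_cons, ev_nil]
  have hfix : ∀ c ∈ T.jl, Matrix.mulVec (g' : Matrix D.Idx D.Idx K) (bas D K c) = bas D K c := by
    intro c hc
    obtain ⟨v, hv⟩ := him c hc
    rw [hv, Matrix.mulVec_mulVec, ha]
  have hfix2 : ∀ l : SV, (∀ q ∈ l, q.1 ∈ T.jl) →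
      Matrix.mulVec (g' : Matrix D.Idx D.Idx K) (ev (bas D K) (1 : K) l) = ev (bas D K) (1 : K) l := by
    intro l
    induction l with
    | nil => intro _; exact Matrix.mulVec_zero _
    | cons q l ih =>
      intro h
      rw [ev_cons, Matrix.mulVec_add, Matrix.mulVec_smul, hfix q.1 (h q List.mem_cons_self),
        ih (fun x hx => h x (List.mem_cons_of_mem _ hx))]
  have hBr : ∀ (u : D.Idx → K), ∀ c ∈ T.jl,
      Br T D K (Matrix.mulVec (g' : Matrix D.Idx D.Idx K) u) (bas D K c) = Br T D K u (bas D K c) := by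
    intro u c hc
    have h1 : Matrix.mulVec (g' : Matrix D.Idx D.Idx K) (Br T D K u (bas D K c)) = Br T D K u (bas D K c) := by
      have key : Matrix.mulVecLin (g' : Matrix D.Idx D.Idx K) ∘ₗ (Br T D K).flip (bas D K c) =
          (Br T D K).flip (bas D K c) := by
        apply lin_ext
        intro j hj
        change Matrix.mulVec (g' : Matrix D.Idx D.Idx K) (Br T D K (bas D K j) (bas D K c)) =
          Br T D K (bas D K j) (bas D K c)
        rw [Br_bas K hG hF 1]
        apply hfix2
        by_cases hcN : c < T.l + T.n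
        · have h6 := allB_sound (hF.c6 j (by rw [← hG.hl, ← hG.hn]; exact hj)) c hcN
          rw [Bool.and_eq_true, mem_complete hc] at h6
          have h6' := h6.2
          rw [Bool.not_true, Bool.false_or] at h6'
          intro q hq
          exact mem_sound (allL_sound h6' q hq)
        · rw [act_out (fun h => hcN h.2)]
          intro q hq
          exact absurd hq List.not_mem_nil
      exact LinearMap.congr_fun key u
    obtain ⟨v, hv⟩ := him c hc
    have h2 := hb u v
    rw [← hv] at h2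
    rw [h2, h1]
  apply Units.ext
  rw [Units.val_one]
  apply matrix_ext
  intro j hj
  rw [Matrix.one_mulVec]
  have h3 := nondeg K hG hF (Matrix.mulVec (g' : Matrix D.Idx D.Idx K) (bas D K j) - bas D K j) (by
    intro c hc
    rw [map_sub, LinearMap.sub_apply, hBr _ c hc, sub_self])
  exact sub_eq_zero.mp h3

end Cfsg.Agent.ChevalleyStructure.GraphFaith
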