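import Cfsg.Agent.ChevalleyStructure.GraphCheck

/-!
Tables for type B2 modulo 2 (generated).
-/
set_option autoImplicit false

namespace Cfsg.Agent.ChevalleyStructure.GraphTabB2

open Cfsg.Agent.ChevalleyStructure.GraphSparse Cfsg.Agent.ChevalleyStructure.GraphCheck

def tabB2Row0 : List (ℕ × SV) := [(7, [(7, 0, 1), (3, 1, 1)]), (8, [(8, 0, 1), (4, 1, 1)]), (9, [(9, 0, 1), (0, 1, 1), (1, 1, 1), (2, 2, 1)])]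

def tabB2Row1 : List (ℕ × SV) := [(1, [(1, 0, 1), (3, 1, 1)]), (6, [(6, 0, 1), (4, 1, 1), (2, 2, 1)]), (8, [(8, 0, 1), (0, 1, 1), (3, 2, 1)]), (9, [(9, 0, 1), (7, 1, 1), (5, 2, 1)])]

def tabB2Row2 : List (ℕ × SV) := [(1, [(1, 0, 1), (4, 1, 1)]), (5, [(5, 0, 1), (3, 1, 1), (2, 2, 1)]), (7, [(7, 0, 1), (0, 1, 1), (4, 2, 1)]), (9, [(9, 0, 1), (8, 1, 1), (6, 2, 1)])]

def tabB2Row3 : List (ℕ × SV) := [(4, [(4, 0, 1), (3, 1, 1)]), (6, [(6, 0, 1), (1, 1, 1), (5, 2, 1)]), (8, [(8, 0, 1), (7, 1, 1)])]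

def tabB2Row4 : List (ℕ × SV) := [(3, [(3, 0, 1), (4, 1, 1)]), (5, [(5, 0, 1), (1, 1, 1), (6, 2, 1)]), (7, [(7, 0, 1), (8, 1, 1)])]

def tabB2Row5 : List (ℕ × SV) := [(1, [(1, 0, 1), (7, 1, 1)]), (2, [(2, 0, 1), (3, 1, 1), (5, 2, 1)]), (4, [(4, 0, 1), (0, 1, 1), (7, 2, 1)]), (6, [(6, 0, 1), (8, 1, 1), (9, 2, 1)])]

def tabB2Row6 : List (ℕ × SV) := [(1, [(1, 0, 1), (8, 1, 1)]), (2, [(2, 0, 1), (4, 1, 1), (6, 2, 1)]), (3, [(3, 0, 1), (0, 1, 1), (8, 2, 1)]), (5, [(5, 0, 1), (7, 1, 1), (9, 2, 1)])]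

def tabB2Row7 : List (ℕ × SV) := [(2, [(2, 0, 1), (0, 1, 1), (1, 1, 1), (9, 2, 1)]), (3, [(3, 0, 1), (7, 1, 1)]), (4, [(4, 0, 1), (8, 1, 1)])]

def tabB2Rows : List (List (ℕ × SV)) := [tabB2Row0, tabB2Row1, tabB2Row2, tabB2Row3, tabB2Row4, tabB2Row5, tabB2Row6, tabB2Row7]

def tabB2Car : List (List ℕ) := [[0, 0, 0, 0, 0, 0, 0, 0], [0, 1, 1, 0, 0, 1, 1, 0]]

noncomputable def tabB2Col (r j : ℕ) : SV := look j (tabB2Rows.getD r [])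

noncomputable def tabB2Act (j c : ℕ) : SV :=
  if Nat.ble (j + 1) 2 then
    (if Nat.ble (c + 1) 2 then [] else [(c, 0, (tabB2Car.getD j []).getD (c - 2) 0)])
  else lin (tabB2Col (j - 2) c)

noncomputable def tabB2 : Tab where
  p := 2
  l := 2
  n := 8
  colF := tabB2Col
  actF := tabB2Act
  bar := [1, 0, 3, 2, 5, 4, 7, 6]
  lam := [1, 2, 2, 1, 1, 2, 2, 1]
  sig := [0, 1, 4, 0, 0, 5, 8, 0, 0, 9]
  jl := [0, 3, 4, 7, 8]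
  wit := [[], [(3, 3, 1)], [(7, 3, 1)], [(8, 0, 1)], [(7, 0, 1)], [(4, 3, 1)], [(3, 4, 1)], [(4, 0, 1)], [(3, 0, 1)], [(3, 7, 1)]]

end Cfsg.Agent.ChevalleyStructure.GraphTabB2
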