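import Cfsg.Agent.ChevalleyStructure.GraphColumns
import Cfsg.Agent.ChevalleyStructure.GraphAbstract

/-!
Kernel-checkable tables for exceptional graph automorphisms and the Boolean checks on them.
-/
set_option autoImplicit false

namespace Cfsg.Agent.ChevalleyStructure.GraphCheck

open Cfsg.Lie Cfsg.Agent.ChevalleyStructure.GraphSparse Cfsg.Agent.ChevalleyStructure.GraphColumns

/-- Tables: `colF r j` is the `j`-th column of `x_r(t)` modulo `p`; `actF j c` is `[e_j, e_c]` modulo `p`;
`bar`, `lam` describe the map `x_r(t) ↦ x_{bar r}(t^{lam r})`; `sig[j] = 1 + σ(j)` for `j` outside the short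
ideal and `0` inside; `jl` lists the indices of the short ideal. -/
structure Tab where
  p : ℕ
  l : ℕ
  n : ℕ
  colF : ℕ → ℕ → SV
  actF : ℕ → ℕ → SV
  bar : List ℕ
  lam : List ℕ
  sig : List ℕ
  jl : List ℕ
  wit : List (List (ℕ × ℕ × ℕ))

/-- look up a column -/
noncomputable def look (j : ℕ) (L : List (ℕ × SV)) : SV :=
  List.rec [(j, 0, 1)] (fun e _ ih => bif Nat.beq e.1 j then e.2 else ih) L

/-- terms linear in `t`, with exponent set to zero -/
noncomputable def lin (v : SV) : SV :=
  List.rec [] (fun q _ ih => bif Nat.beq q.2.1 1 then (q.1, 0, q.2.2) :: ih else ih) v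

/-- decode a list of terms (index, exponent, 1) packed in base 256 -/
noncomputable def dec (f : ℕ) : ℕ → SV :=
  Nat.rec (fun _ => []) (fun _ ih x => bif Nat.beq x 0 then [] else (x % 64, x / 64 % 4, 1) :: ih (x / 256)) f

/-- decode a list of terms (index, 0, 1) packed in base 256 -/
noncomputable def dec0 (f : ℕ) : ℕ → SV :=
  Nat.rec (fun _ => []) (fun _ ih x => bif Nat.beq x 0 then [] else (x % 64, 0, 1) :: ih (x / 256)) f

/-- membership in a list of naturals -/
noncomputable def mem (a : ℕ) (L : List ℕ) : Bool :=
  List.rec false (fun e _ ih => bif Nat.beq e a then true else ih) L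

/-- all elements satisfy `f` -/
noncomputable def allL {α : Type} (f : α → Bool) (L : List α) : Bool :=
  List.rec true (fun e _ ih => bif f e then ih else false) L

theorem allL_sound {α : Type} {f : α → Bool} {L : List α} (h : allL f L = true) : ∀ x ∈ L, f x = true := by
  induction L with
  | nil => intro x hx; exact absurd hx List.not_mem_nil
  | cons e L ih =>
    change (bif f e then allL f L else false) = true at h
    cases hf : f e with
    | false => rw [hf] at h; exact absurd h Bool.false_ne_true
    | true =>
      rw [hf] at h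
      intro x hx
      rcases List.mem_cons.mp hx with rfl | hx
      · exact hf
      · exact ih h x hx

theorem mem_sound {a : ℕ} {L : List ℕ} (h : mem a L = true) : a ∈ L := by
  induction L with
  | nil => exact absurd h Bool.false_ne_true
  | cons e L ih =>
    change (bif Nat.beq e a then true else mem a L) = true at h
    cases hf : Nat.beq e a with
    | false => rw [hf] at h; exact List.mem_cons_of_mem _ (ih h)
    | true => exact List.mem_cons.mpr (Or.inl (Nat.eq_of_beq_eq_true hf).symm)

theorem mem_complete {a : ℕ} {L : List ℕ} (h : a ∈ L) : mem a L = true := by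
  induction L with
  | nil => exact absurd h List.not_mem_nil
  | cons e L ih =>
    change (bif Nat.beq e a then true else mem a L) = true
    cases hf : Nat.beq e a with
    | true => rfl
    | false =>
      rcases List.mem_cons.mp h with rfl | h
      · rw [Nat.beq_refl] at hf; exact absurd hf.symm Bool.false_ne_true
      · exact ih h

namespace Tab

variable (T : Tab)

/-- column `j` of `x_r(t)` -/
noncomputable def col (r j : ℕ) : SV := bif Nat.ble (j + 1) (T.l + T.n) then T.colF r j else []

/-- the Lie bracket `[e_j, e_c]` -/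
noncomputable def act (j c : ℕ) : SV :=
  bif Nat.ble (j + 1) (T.l + T.n) then (bif Nat.ble (c + 1) (T.l + T.n) then T.actF j c else []) else []

/-- columns of the shift `S` -/
noncomputable def sigCol (j : ℕ) : SV :=
  Nat.rec [] (fun s _ => [(s, 0, 1)]) (T.sig.getD j 0)

/-- sign twist `t ↦ -t` -/
noncomputable def sg (p : ℕ) (v : SV) : SV :=
  List.rec [] (fun q _ ih => (q.1, q.2.1, q.2.2 * (p - 1) ^ q.2.1) :: ih) v

/-- the tables agree with those of the datum -/
noncomputable def chk0 (D : ChevalleyDatum) (r : ℕ) : Bool :=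
  allB (T.l + T.n) fun j => eqv T.p (colD D T.p r j) (T.col r j)

/-- `x_r(-t) x_r(t) = 1` -/
noncomputable def chk1 (r : ℕ) : Bool :=
  allB (T.l + T.n) fun j => eqv T.p (ap (fun i => sg T.p (T.col r i)) (T.col r j)) [(j, 0, 1)]

/-- `S x_r(t) = x_{bar r}(t^{lam r}) S` -/
noncomputable def chk2 (r : ℕ) : Bool :=
  allB (T.l + T.n) fun j =>
    eqv T.p (ap T.sigCol (T.col r j))
      (ap (fun i => pw (T.lam.getD r 0) (T.col (T.bar.getD r 0) i)) (T.sigCol j))

/-- `[x_r(t) e_j, x_r(t) e_c] = x_r(t) [e_j, e_c]` for `c` in the short ideal -/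
noncomputable def chk3 (r : ℕ) : Bool :=
  allB (T.l + T.n) fun j => allL (fun c =>
    eqv T.p (ap2 T.act (T.col r j) (T.col r c)) (ap (T.col r) (T.act j c))) T.jl

/-- `bar` is an involution, etc. -/
noncomputable def chk4 (r : ℕ) : Bool :=
  Nat.ble (T.bar.getD r 0 + 1) T.n && Nat.beq (T.bar.getD (T.bar.getD r 0) 0) r &&
    Nat.beq (T.lam.getD r 0 * T.lam.getD (T.bar.getD r 0) 0) T.p

/-- the value of a witness -/
noncomputable def wsum (i' : ℕ) (L : List (ℕ × ℕ × ℕ)) : ℕ :=
  List.rec 0 (fun w _ ih => w.2.2 * co w.2.1 (T.act i' w.1) + ih) L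

/-- nondegeneracy -/
noncomputable def chk5 (i : ℕ) : Bool :=
  allL (fun w => mem w.1 T.jl && Nat.ble (w.2.1 + 1) (T.l + T.n)) (T.wit.getD i []) &&
  allB (T.l + T.n) fun i' => Nat.beq (T.wsum i' (T.wit.getD i []) % T.p) (bif Nat.beq i i' then 1 else 0)

/-- every value of `act j c` lies in the short ideal, and is constant in `t` -/
noncomputable def chk6 (j : ℕ) : Bool :=
  allB (T.l + T.n) fun c => pz (T.act j c) &&
    (!(mem c T.jl) || allL (fun q => mem q.1 T.jl) (T.act j c))

/-- every element of `jl` is in the image of `σ` -/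
noncomputable def chk7 : Bool :=
  allL (fun c => mem (c + 1) T.sig) T.jl

/-- the image of `σ` is contained in `jl`, and `sig` has the right length -/
noncomputable def chk8 : Bool :=
  Nat.beq T.sig.length (T.l + T.n) && allB (T.l + T.n) fun j => allL (fun q => mem q.1 T.jl) (T.sigCol j)

end Tab

end Cfsg.Agent.ChevalleyStructure.GraphCheck
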