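import Mathlib

/-!
Sparse vectors with polynomial coefficients modulo a prime `p`, as lists of triples
(index, exponent, coefficient), with kernel-friendly operations and their soundness over any field of
characteristic `p`.
-/
set_option autoImplicit false

namespace Cfsg.Agent.ChevalleyStructure.GraphSparse

/-- A sparse vector: list of (index, exponent of `t`, coefficient). -/
abbrev SV := List (ℕ × ℕ × ℕ)

section defs

/-- multiply by `c t^k` -/
noncomputable def scale (k c : ℕ) (v : SV) : SV :=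
  List.rec [] (fun q _ ih => (q.1, q.2.1 + k, q.2.2 * c) :: ih) v

/-- concatenation -/
noncomputable def app (u v : SV) : SV := List.rec v (fun q _ ih => q :: ih) u

/-- apply the linear map with columns `col` -/
noncomputable def ap (col : ℕ → SV) (v : SV) : SV :=
  List.rec [] (fun q _ ih => app (scale q.2.1 q.2.2 (col q.1)) ih) v

/-- apply the bilinear map with table `act` -/
noncomputable def ap2 (act : ℕ → ℕ → SV) (u v : SV) : SV :=
  List.rec [] (fun q _ ih => app (scale q.2.1 q.2.2 (ap (fun i => act i q.1) u)) ih) v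

/-- substitute `t ↦ t^k` -/
noncomputable def pw (k : ℕ) (v : SV) : SV :=
  List.rec [] (fun q _ ih => (q.1, q.2.1 * k, q.2.2) :: ih) v

/-- insert a term, merging with an existing term with the same key, modulo `p` -/
noncomputable def ins (p : ℕ) (q : ℕ × ℕ × ℕ) (v : SV) : SV :=
  List.rec (bif Nat.beq (q.2.2 % p) 0 then [] else [q])
    (fun q' l ih =>
      bif Nat.beq q'.1 q.1 then
        (bif Nat.beq q'.2.1 q.2.1 then
          (bif Nat.beq ((q.2.2 + q'.2.2) % p) 0 then l else (q.1, q.2.1, (q.2.2 + q'.2.2) % p) :: l)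
        else q' :: ih)
      else q' :: ih) v

/-- normal form -/
noncomputable def nf (p : ℕ) (v : SV) : SV := List.rec [] (fun q _ ih => ins p q ih) v

/-- the sparse vector is zero modulo `p` -/
noncomputable def isZ (p : ℕ) (l : SV) : Bool :=
  List.rec true (fun _ _ _ => false) (nf p l)

/-- equality modulo `p` -/
noncomputable def eqv (p : ℕ) (u v : SV) : Bool := isZ p (app u (scale 0 (p - 1) v))

/-- coefficient at index `a` of a sparse vector (forgetting exponents) -/
noncomputable def co (a : ℕ) (v : SV) : ℕ :=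
  List.rec 0 (fun q _ ih => bif Nat.beq q.1 a then q.2.2 + ih else ih) v

/-- bounded quantifier -/
noncomputable def allB (n : ℕ) (f : ℕ → Bool) : Bool := Nat.rec true (fun m ih => bif f m then ih else false) n

theorem scale_nil (k c : ℕ) : scale k c [] = [] := rfl
theorem scale_cons (k c : ℕ) (q : ℕ × ℕ × ℕ) (l : SV) :
    scale k c (q :: l) = (q.1, q.2.1 + k, q.2.2 * c) :: scale k c l := rfl
theorem app_eq (u v : SV) : app u v = u ++ v := by
  induction u with
  | nil => rfl
  | cons q l ih => rw [List.cons_append, ← ih]; rfl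
theorem ap_nil (col : ℕ → SV) : ap col [] = [] := rfl
theorem ap_cons (col : ℕ → SV) (q : ℕ × ℕ × ℕ) (l : SV) :
    ap col (q :: l) = scale q.2.1 q.2.2 (col q.1) ++ ap col l := by rw [← app_eq]; rfl
theorem ap2_nil (act : ℕ → ℕ → SV) (u : SV) : ap2 act u [] = [] := rfl
theorem ap2_cons (act : ℕ → ℕ → SV) (u : SV) (q : ℕ × ℕ × ℕ) (l : SV) :
    ap2 act u (q :: l) = scale q.2.1 q.2.2 (ap (fun i => act i q.1) u) ++ ap2 act u l := by
  rw [← app_eq]; rfl
theorem pw_nil (k : ℕ) : pw k [] = [] := rfl
theorem pw_cons (k : ℕ) (q : ℕ × ℕ × ℕ) (l : SV) :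
    pw k (q :: l) = (q.1, q.2.1 * k, q.2.2) :: pw k l := rfl
theorem ins_nil (p : ℕ) (q : ℕ × ℕ × ℕ) :
    ins p q [] = if Nat.beq (q.2.2 % p) 0 = true then [] else [q] := by
  change (bif Nat.beq (q.2.2 % p) 0 then ([] : SV) else [q]) = _
  rw [Bool.cond_eq_ite]
theorem ins_cons (p : ℕ) (q q' : ℕ × ℕ × ℕ) (l : SV) :
    ins p q (q' :: l) = if Nat.beq q'.1 q.1 && Nat.beq q'.2.1 q.2.1 then
      (if Nat.beq ((q.2.2 + q'.2.2) % p) 0 then l else (q.1, q.2.1, (q.2.2 + q'.2.2) % p) :: l)
    else q' :: ins p q l := by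
  change (bif Nat.beq q'.1 q.1 then
        (bif Nat.beq q'.2.1 q.2.1 then
          (bif Nat.beq ((q.2.2 + q'.2.2) % p) 0 then l else (q.1, q.2.1, (q.2.2 + q'.2.2) % p) :: l)
        else q' :: ins p q l)
      else q' :: ins p q l) = _
  cases Nat.beq q'.1 q.1 <;> cases Nat.beq q'.2.1 q.2.1 <;>
    cases Nat.beq ((q.2.2 + q'.2.2) % p) 0 <;> rfl
theorem nf_nil (p : ℕ) : nf p [] = [] := rfl
theorem nf_cons (p : ℕ) (q : ℕ × ℕ × ℕ) (l : SV) : nf p (q :: l) = ins p q (nf p l) := rfl
theorem nf_of_isZ {p : ℕ} {l : SV} (h : isZ p l = true) : nf p l = [] := by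
  unfold isZ at h
  revert h
  generalize nf p l = m
  intro h
  cases m with
  | nil => rfl
  | cons a b => exact absurd h Bool.false_ne_true
theorem co_nil (a : ℕ) : co a [] = 0 := rfl
theorem co_cons (a : ℕ) (q : ℕ × ℕ × ℕ) (l : SV) :
    co a (q :: l) = if Nat.beq q.1 a then q.2.2 + co a l else co a l := by
  change (bif Nat.beq q.1 a then q.2.2 + co a l else co a l) = _
  rw [Bool.cond_eq_ite]
theorem allB_zero (f : ℕ → Bool) : allB 0 f = true := rfl
theorem allB_succ (n : ℕ) (f : ℕ → Bool) : allB (n + 1) f = (f n && allB n f) := by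
  change (bif f n then allB n f else false) = _
  cases f n <;> rfl

theorem allB_sound {n : ℕ} {f : ℕ → Bool} (h : allB n f = true) : ∀ i < n, f i = true := by
  induction n with
  | zero => intro i hi; exact absurd hi (Nat.not_lt_zero _)
  | succ n ih =>
    intro i hi
    rw [allB_succ, Bool.and_eq_true] at h
    rcases Nat.lt_succ_iff_lt_or_eq.mp hi with h' | h'
    · exact ih h.2 i h'
    · rw [h']; exact h.1

end defs

section sound

variable {K : Type*} [Field K] {V : Type*} [AddCommGroup V] [Module K V]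

/-- value of a sparse vector at `t`, with basis family `b` -/
def ev (b : ℕ → V) (t : K) : SV → V
  | [] => 0
  | q :: l => (((q.2.2 : ℕ) : K) * t ^ q.2.1) • b q.1 + ev b t l

variable (b : ℕ → V) (t : K)

theorem ev_nil : ev b t [] = 0 := rfl

theorem ev_cons (q : ℕ × ℕ × ℕ) (l : SV) :
    ev b t (q :: l) = (((q.2.2 : ℕ) : K) * t ^ q.2.1) • b q.1 + ev b t l := rfl

theorem ev_append (u v : SV) : ev b t (u ++ v) = ev b t u + ev b t v := by
  induction u with
  | nil => simp [ev_nil]
  | cons q l ih => rw [List.cons_append, ev_cons, ev_cons, ih, add_assoc]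

theorem ev_scale (k c : ℕ) (v : SV) : ev b t (scale k c v) = ((c : K) * t ^ k) • ev b t v := by
  induction v with
  | nil => simp [scale_nil, ev_nil]
  | cons q l ih =>
    simp only [scale_cons, ev_cons, ih, smul_add, smul_smul]
    congr 2
    push_cast
    ring

theorem ev_pw (k : ℕ) (v : SV) : ev b t (pw k v) = ev b (t ^ k) v := by
  induction v with
  | nil => simp [pw_nil, ev_nil]
  | cons q l ih =>
    simp only [pw_cons, ev_cons, ih]
    congr 3
    rw [mul_comm, pow_mul]

theorem ev_ap {W : Type*} [AddCommGroup W] [Module K W] (b' : ℕ → W) (A : V →ₗ[K] W)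
    (col : ℕ → SV) (h : ∀ i, A (b i) = ev b' t (col i)) (v : SV) :
    ev b' t (ap col v) = A (ev b t v) := by
  induction v with
  | nil => simp [ap_nil, ev_nil]
  | cons q l ih =>
    rw [ap_cons, ev_append, ev_scale, ih, ev_cons, map_add, map_smul, h]

theorem ev_ap2 {W U : Type*} [AddCommGroup W] [Module K W] [AddCommGroup U] [Module K U]
    (b' : ℕ → W) (b'' : ℕ → U) (B : V →ₗ[K] W →ₗ[K] U)
    (act : ℕ → ℕ → SV) (h : ∀ i j, B (b i) (b' j) = ev b'' t (act i j)) (u v : SV) :
    ev b'' t (ap2 act u v) = B (ev b t u) (ev b' t v) := by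
  induction v with
  | nil => simp [ap2_nil, ev_nil]
  | cons q l ih =>
    rw [ap2_cons, ev_append, ev_scale, ih, ev_cons, map_add, map_smul]
    congr 2
    exact ev_ap b t b'' (B.flip (b' q.1)) (fun i => act i q.1) (fun i => h i q.1) u

variable (p : ℕ) [CharP K p]

theorem cast_eq_zero_of_beq (n : ℕ) (h : Nat.beq (n % p) 0 = true) : (n : K) = 0 := by
  rw [CharP.cast_eq_zero_iff K p]
  exact Nat.dvd_of_mod_eq_zero (Nat.eq_of_beq_eq_true h)

theorem cast_mod' (n : ℕ) : ((n % p : ℕ) : K) = (n : K) := by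
  conv_rhs => rw [← Nat.mod_add_div n p]
  rw [Nat.cast_add, Nat.cast_mul, CharP.cast_eq_zero K p, zero_mul, add_zero]

theorem ev_ins (q : ℕ × ℕ × ℕ) (l : SV) : ev b t (ins p q l) = ev b t (q :: l) := by
  induction l with
  | nil =>
    rw [ins_nil]
    split
    · rename_i h
      rw [ev_cons, cast_eq_zero_of_beq (K := K) p _ h]
      simp [ev_nil]
    · rfl
  | cons q' l ih =>
    rw [ins_cons]
    split
    · rename_i h
      rw [Bool.and_eq_true] at h
      have h1 := Nat.eq_of_beq_eq_true h.1
      have h2 := Nat.eq_of_beq_eq_true h.2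
      split
      · rename_i h3
        have h4 := cast_eq_zero_of_beq (K := K) p _ h3
        rw [ev_cons, ev_cons, h1, h2, ← add_assoc, ← add_smul, ← add_mul]
        push_cast at h4
        rw [h4]
        simp
      · rw [ev_cons, ev_cons, ev_cons, h1, h2, ← add_assoc, ← add_smul, ← add_mul, cast_mod']
        push_cast
        rfl
    · rw [ev_cons, ih, ev_cons, ev_cons, ev_cons]
      abel

theorem ev_nf (l : SV) : ev b t (nf p l) = ev b t l := by
  induction l with
  | nil => rfl
  | cons q l ih => rw [nf_cons, ev_ins, ev_cons, ev_cons, ih]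

theorem ev_of_isZ {l : SV} (h : isZ p l = true) : ev b t l = 0 := by
  rw [← ev_nf b t p l, nf_of_isZ h]
  rfl

theorem ev_of_eqv {u v : SV} (hp : 0 < p) (h : eqv p u v = true) : ev b t u = ev b t v := by
  have h1 := ev_of_isZ b t p h
  rw [app_eq, ev_append, ev_scale] at h1
  have h2 : ((p - 1 : ℕ) : K) = -1 := by
    rw [Nat.cast_sub hp, CharP.cast_eq_zero K p]
    simp
  rw [h2] at h1
  simpa [add_neg_eq_zero] using h1

/-- all exponents are zero -/
noncomputable def pz (v : SV) : Bool :=
  List.rec true (fun q _ ih => bif Nat.beq q.2.1 0 then ih else false) v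

theorem pz_cons (q : ℕ × ℕ × ℕ) (l : SV) : pz (q :: l) = (Nat.beq q.2.1 0 && pz l) := by
  change (bif Nat.beq q.2.1 0 then pz l else false) = _
  cases Nat.beq q.2.1 0 <;> rfl

theorem ev_of_pz {l : SV} (h : pz l = true) (s : K) : ev b t l = ev b s l := by
  induction l with
  | nil => rfl
  | cons q l ih =>
    rw [pz_cons, Bool.and_eq_true] at h
    rw [ev_cons, ev_cons, ih h.2, Nat.eq_of_beq_eq_true h.1]
    simp

end sound

end Cfsg.Agent.ChevalleyStructure.GraphSparse
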