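import Cfsg.Prelude.Def_ChevWords
import Cfsg.Agent.ChevalleyStructure.GraphSparse

/-!
Columns of the root element matrices `x_r(t)` of a Chevalley datum as sparse vectors modulo `p`.
-/
set_option autoImplicit false

namespace Cfsg.Agent.ChevalleyStructure.GraphColumns

open Cfsg.Lie Cfsg.Agent.ChevalleyStructure.GraphSparse

variable (D : ChevalleyDatum)

/-- flattened index -/
def enc : D.Idx → ℕ
  | Sum.inl i => i.val
  | Sum.inr u => D.rank + u.val

theorem enc_inl (i : Fin D.rank) : enc D (Sum.inl i) = i.val := rfl
theorem enc_inr (i : Fin D.nroots) : enc D (Sum.inr i) = D.rank + i.val := rfl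

theorem enc_lt (a : D.Idx) : enc D a < D.rank + D.nroots := by
  cases a with
  | inl i => rw [enc_inl]; have := i.isLt; omega
  | inr i => rw [enc_inr]; have := i.isLt; omega

theorem enc_injective : Function.Injective (enc D) := by
  intro a b h
  cases a with
  | inl i =>
    cases b with
    | inl j => rw [enc_inl, enc_inl] at h; rw [Fin.ext h]
    | inr j => rw [enc_inl, enc_inr] at h; have := i.isLt; omega
  | inr i =>
    cases b with
    | inl j => rw [enc_inl, enc_inr] at h; have := j.isLt; omega
    | inr j =>
      rw [enc_inr, enc_inr] at h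
      have : i = j := Fin.ext (by omega)
      rw [this]

theorem exists_enc {j : ℕ} (h : j < D.rank + D.nroots) : ∃ a : D.Idx, enc D a = j := by
  by_cases h' : j < D.rank
  · exact ⟨Sum.inl ⟨j, h'⟩, rfl⟩
  · exact ⟨Sum.inr ⟨j - D.rank, by omega⟩, by rw [enc_inr]; simp only; omega⟩

/-- reduction of an integer to a natural number modulo `p` -/
def md (p : ℕ) (z : ℤ) : ℕ := (z % (p : ℤ)).toNat

/-- the `j`-th column of `x_r(t)` modulo `p`, read off the tables -/
def colD (p : ℕ) (r j : ℕ) : SV :=
  if j < D.rank then
    [(j, 0, 1), (D.rank + r, 1, md p (-((D.cartanSR.getD j #[]).getD r 0)))]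
  else
    if j - D.rank = r then [(j, 0, 1)]
    else if j - D.rank = D.negIdx.getD r 0 then
      (j, 0, 1) :: (D.rank + r, 2, md p (-1)) ::
        (List.range D.rank).map (fun i => (i, 1, md p ((D.coroot.getD r #[]).getD i 0)))
    else
      (j, 0, 1) :: ((D.chain.getD r #[]).toList.filter (fun e => e.1 = j - D.rank)).flatMap
        fun e => e.2.toList.zipIdx.map fun q => (D.rank + q.1.1, q.2 + 1, md p q.1.2)

variable (K : Type*) [Field K]

/-- the basis vector with flattened index `j` (zero if out of range) -/
def bas (j : ℕ) : D.Idx → K := fun a => if enc D a = j then 1 else 0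

theorem bas_enc (a : D.Idx) : bas D K (enc D a) = Pi.single a 1 := by
  funext c
  unfold bas
  by_cases h : c = a
  · subst h; simp
  · rw [if_neg (fun h' => h (enc_injective D h')), Pi.single_eq_of_ne h]

theorem bas_out {j : ℕ} (h : ¬ j < D.rank + D.nroots) : bas D K j = 0 := by
  funext c
  change (if enc D c = j then (1 : K) else 0) = 0
  rw [if_neg]
  intro h'
  apply h
  rw [← h']
  exact enc_lt D c

theorem ev_apply (t : K) (l : SV) (a : D.Idx) :
    ev (bas D K) t l a = (l.map fun q => if enc D a = q.1 then ((q.2.2 : ℕ) : K) * t ^ q.2.1 else 0).sum := by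
  induction l with
  | nil => rfl
  | cons q l ih =>
    rw [ev_cons, Pi.add_apply, ih, List.map_cons, List.sum_cons]
    congr 1
    rw [Pi.smul_apply, smul_eq_mul]
    unfold bas
    split <;> simp

theorem md_cast (p : ℕ) [CharP K p] (hp : 0 < p) (z : ℤ) : ((md p z : ℕ) : K) = (z : K) := by
  have h1 : ((md p z : ℕ) : ℤ) = z % (p : ℤ) := by
    unfold md
    exact Int.toNat_of_nonneg (Int.emod_nonneg z (by omega))
  have h2 : ((md p z : ℕ) : K) = (((md p z : ℕ) : ℤ) : K) := by push_cast; rfl
  rw [h2, h1]
  conv_rhs => rw [← Int.emod_add_mul_ediv z p]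
  push_cast
  rw [CharP.cast_eq_zero K p]
  ring

/-! entries of `xMat`, by definition -/

theorem xMat_ll (r : Fin D.nroots) (t : K) (i' i : Fin D.rank) :
    D.xMat K r t (Sum.inl i') (Sum.inl i) = if i' = i then 1 else 0 := rfl

theorem xMat_rl (r : Fin D.nroots) (t : K) (u : Fin D.nroots) (i : Fin D.rank) :
    D.xMat K r t (Sum.inr u) (Sum.inl i) =
      if u = r then - (((D.cartanSR.getD i.val #[]).getD r.val 0 : ℤ) : K) * t else 0 := rfl

theorem xMat_lr (r : Fin D.nroots) (t : K) (i : Fin D.rank) (s : Fin D.nroots) :
    D.xMat K r t (Sum.inl i) (Sum.inr s) =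
      if s = r then 0 else if s.val = D.negIdx.getD r.val 0 then
        (((D.coroot.getD r.val #[]).getD i.val 0 : ℤ) : K) * t else 0 := rfl

theorem xMat_rr (r : Fin D.nroots) (t : K) (u s : Fin D.nroots) :
    D.xMat K r t (Sum.inr u) (Sum.inr s) =
      if s = r then (if u = r then 1 else 0) else if s.val = D.negIdx.getD r.val 0 then
        (if u = s then 1 else if u = r then -(t ^ 2) else 0) else
        (if u = s then 1 else 0) +
          ((D.chainCoeff r.val s.val u.val).map fun km => ((km.2 : ℤ) : K) * t ^ km.1).sum := rfl

theorem chain_sum (p : ℕ) [CharP K p] (hp : 0 < p) (t : K) (r s u : ℕ) :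
    ((D.chainCoeff r s u).map fun km => ((km.2 : ℤ) : K) * t ^ km.1).sum =
      ((((D.chain.getD r #[]).toList.filter (fun e => e.1 = s)).flatMap
        fun e => e.2.toList.zipIdx.map fun q => (D.rank + q.1.1, q.2 + 1, md p q.1.2)).map
        fun q => if D.rank + u = q.1 then ((q.2.2 : ℕ) : K) * t ^ q.2.1 else 0).sum := by
  change ((((D.chain.getD r #[]).toList.filter (fun e => e.1 = s)).flatMap fun e =>
    ((e.2.toList.zipIdx).filter (fun q => q.1.1 = u)).map fun q => (q.2 + 1, q.1.2)).map
      fun km => ((km.2 : ℤ) : K) * t ^ km.1).sum = _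
  generalize ((D.chain.getD r #[]).toList.filter (fun e => e.1 = s)) = L
  induction L with
  | nil => rfl
  | cons e L ih =>
    rw [List.flatMap_cons, List.flatMap_cons, List.map_append, List.map_append, List.sum_append,
      List.sum_append, ih]
    congr 1
    generalize e.2.toList.zipIdx = M
    induction M with
    | nil => rfl
    | cons q M ih' =>
      rw [List.map_cons, List.map_cons, List.sum_cons, List.filter_cons]
      by_cases h : q.1.1 = u
      · simp only [h, decide_true, if_true, List.map_cons, List.sum_cons]
        rw [ih', md_cast K p hp]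
      · have h' : ¬ (D.rank + u = D.rank + q.1.1) := by omega
        simp only [h, decide_false, h', if_false, zero_add]
        exact ih'

theorem xMat_mulVec_bas (p : ℕ) [CharP K p] (hp : 0 < p) (r : Fin D.nroots) (t : K) (j : ℕ)
    (hj : j < D.rank + D.nroots) :
    Matrix.mulVec (D.xMat K r t) (bas D K j) = ev (bas D K) t (colD D p r.val j) := by
  obtain ⟨c, rfl⟩ := exists_enc D hj
  funext a
  rw [bas_enc, Matrix.mulVec_single_one, ev_apply]
  change D.xMat K r t a c = _
  cases c with
  | inl i =>
    have hi : enc D (Sum.inl i) < D.rank := i.isLt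
    unfold colD
    rw [if_pos hi]
    simp only [List.map_cons, List.map_nil, List.sum_cons, List.sum_nil]
    cases a with
    | inl i' =>
      rw [xMat_ll, enc_inl, enc_inl]
      have hne : ¬ (i'.val = D.rank + r.val) := by have := i'.isLt; omega
      rw [if_neg hne]
      by_cases h : i' = i
      · subst h; simp
      · rw [if_neg h, if_neg (fun h' => h (Fin.ext h'))]; simp
    | inr u =>
      rw [xMat_rl, enc_inl, enc_inr]
      have hne : ¬ (D.rank + u.val = i.val) := by have := i.isLt; omega
      rw [if_neg hne]
      by_cases h : u = r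
      · subst h
        rw [if_pos rfl, if_pos rfl, md_cast K p hp]
        push_cast
        ring
      · rw [if_neg h, if_neg (fun h' => h (Fin.ext (by omega)))]; simp
  | inr s =>
    have hi : ¬ (enc D (Sum.inr s) < D.rank) := by rw [enc_inr]; omega
    have hs : enc D (Sum.inr s) - D.rank = s.val := by rw [enc_inr]; omega
    unfold colD
    rw [if_neg hi, hs]
    by_cases hsr : s.val = r.val
    · have hsr' : s = r := Fin.ext hsr
      rw [if_pos hsr]
      simp only [List.map_cons, List.map_nil, List.sum_cons, List.sum_nil]
      cases a with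
      | inl i' =>
        rw [xMat_lr, if_pos hsr', enc_inl, enc_inr]
        have hne : ¬ (i'.val = D.rank + s.val) := by have := i'.isLt; omega
        rw [if_neg hne]; simp
      | inr u =>
        rw [xMat_rr, if_pos hsr', enc_inr, enc_inr]
        by_cases h : u = r
        · subst h; subst hsr'; simp
        · have hne : ¬ (D.rank + u.val = D.rank + s.val) := fun h' => h (Fin.ext (by omega))
          rw [if_neg h, if_neg hne]; simp
    · have hsr' : ¬ s = r := fun h => hsr (by rw [h])
      rw [if_neg hsr]
      by_cases hneg : s.val = D.negIdx.getD r.val 0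
      · rw [if_pos hneg]
        rw [List.map_cons, List.sum_cons, List.map_cons, List.sum_cons]
        cases a with
        | inl i' =>
          rw [xMat_lr, if_neg hsr', if_pos hneg]
          have hne : ¬ (enc D (Sum.inl i') = enc D (Sum.inr s)) := by
            rw [enc_inl, enc_inr]; have := i'.isLt; omega
          have hne2 : ¬ (enc D (Sum.inl i') = D.rank + r.val) := by
            rw [enc_inl]; have := i'.isLt; omega
          rw [if_neg hne, if_neg hne2, zero_add, zero_add, enc_inl, List.map_map]
          have : ∀ (n : ℕ), i'.val < n → ((List.range n).map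
              ((fun q : ℕ × ℕ × ℕ => if i'.val = q.1 then ((q.2.2 : ℕ) : K) * t ^ q.2.1 else 0) ∘
                fun i => (i, 1, md p ((D.coroot.getD r.val #[]).getD i 0)))).sum
              = (((D.coroot.getD r.val #[]).getD i'.val 0 : ℤ) : K) * t := by
            intro n hn
            rw [List.sum_map_eq_nsmul_single i'.val]
            · rw [List.count_eq_one_of_mem List.nodup_range (List.mem_range.mpr hn)]
              simp [md_cast K p hp]
            · intro a' ha' _
              simp [Ne.symm ha']
          rw [this _ i'.isLt]
        | inr u =>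
          rw [xMat_rr, if_neg hsr', if_pos hneg]
          have hz : (((List.range D.rank).map
              (fun i => (i, 1, md p ((D.coroot.getD r.val #[]).getD i 0)))).map
              (fun q : ℕ × ℕ × ℕ => if enc D (Sum.inr u) = q.1 then ((q.2.2 : ℕ) : K) * t ^ q.2.1 else 0)).sum
              = 0 := by
            apply List.sum_eq_zero
            intro x hx
            rw [List.mem_map] at hx
            obtain ⟨q, hq, rfl⟩ := hx
            rw [List.mem_map] at hq
            obtain ⟨i, hi', rfl⟩ := hq
            have : ¬ (enc D (Sum.inr u) = i) := by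
              rw [enc_inr]; have := List.mem_range.mp hi'; omega
            simp [this]
          rw [hz, enc_inr, enc_inr, add_zero]
          by_cases h : u = s
          · subst h
            simp [hsr]
          · have hne : ¬ (D.rank + u.val = D.rank + s.val) := fun h' => h (Fin.ext (by omega))
            rw [if_neg h, if_neg hne, zero_add]
            by_cases h2 : u = r
            · subst h2; rw [if_pos rfl, if_pos rfl, md_cast K p hp]; push_cast; ring
            · have hne2 : ¬ (D.rank + u.val = D.rank + r.val) := fun h' => h2 (Fin.ext (by omega))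
              rw [if_neg h2, if_neg hne2]
      · rw [if_neg hneg]
        rw [List.map_cons, List.sum_cons]
        cases a with
        | inl i' =>
          rw [xMat_lr, if_neg hsr', if_neg hneg]
          have hne : ¬ (enc D (Sum.inl i') = enc D (Sum.inr s)) := by
            rw [enc_inl, enc_inr]; have := i'.isLt; omega
          rw [if_neg hne, zero_add]
          symm
          apply List.sum_eq_zero
          intro x hx
          rw [List.mem_map] at hx
          obtain ⟨q, hq, rfl⟩ := hx
          rw [List.mem_flatMap] at hq
          obtain ⟨e, _, hq⟩ := hq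
          rw [List.mem_map] at hq
          obtain ⟨q', _, rfl⟩ := hq
          have : ¬ (enc D (Sum.inl i') = D.rank + q'.1.1) := by
            rw [enc_inl]; have := i'.isLt; omega
          simp [this]
        | inr u =>
          rw [xMat_rr, if_neg hsr', if_neg hneg, chain_sum D K p hp t r.val s.val u.val, enc_inr, enc_inr]
          congr 1
          by_cases h : u = s
          · subst h; simp
          · have hne : ¬ (D.rank + u.val = D.rank + s.val) := fun h' => h (Fin.ext (by omega))
            rw [if_neg h, if_neg hne]

theorem x_of_lt {r : ℕ} (hr : r < D.nroots) (t : K) : D.x K r t = D.xMat K ⟨r, hr⟩ t := by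
  change (if h : r < D.nroots then D.xMat K ⟨r, h⟩ t else 1) = _
  rw [dif_pos hr]

theorem x_mulVec_bas (p : ℕ) [CharP K p] (hp : 0 < p) {r : ℕ} (hr : r < D.nroots) (t : K) (j : ℕ)
    (hj : j < D.rank + D.nroots) :
    Matrix.mulVec (D.x K r t) (bas D K j) = ev (bas D K) t (colD D p r j) := by
  rw [x_of_lt D K hr]
  exact xMat_mulVec_bas D K p hp ⟨r, hr⟩ t j hj

end Cfsg.Agent.ChevalleyStructure.GraphColumns
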