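import Cfsg.Agent.ChevalleyStructure.GraphTabF4

/-!
Kernel checks of the bracket identities for `F₄` modulo 2, part 0 (generated).
-/
set_option autoImplicit false

namespace Cfsg.Agent.ChevalleyStructure.GraphF4Chk0

open Cfsg.Agent.ChevalleyStructure.GraphCheck Cfsg.Agent.ChevalleyStructure.GraphTabF4

set_option maxRecDepth 100000

theorem c3_0 : tabF4.chk3 0 = true := by decide +kernel
theorem c3_1 : tabF4.chk3 1 = true := by decide +kernel
theorem c3_2 : tabF4.chk3 2 = true := by decide +kernel
theorem c3_3 : tabF4.chk3 3 = true := by decide +kernel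
theorem c3_4 : tabF4.chk3 4 = true := by decide +kernel
theorem c3_5 : tabF4.chk3 5 = true := by decide +kernel
theorem c3_6 : tabF4.chk3 6 = true := by decide +kernel
theorem c3_7 : tabF4.chk3 7 = true := by decide +kernel
theorem c3_8 : tabF4.chk3 8 = true := by decide +kernel
theorem c3_9 : tabF4.chk3 9 = true := by decide +kernel
theorem c3_10 : tabF4.chk3 10 = true := by decide +kernel
theorem c3_11 : tabF4.chk3 11 = true := by decide +kernel
theorem c3_12 : tabF4.chk3 12 = true := by decide +kernel
theorem c3_13 : tabF4.chk3 13 = true := by decide +kernel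
theorem c3_14 : tabF4.chk3 14 = true := by decide +kernel
theorem c3_15 : tabF4.chk3 15 = true := by decide +kernel

end Cfsg.Agent.ChevalleyStructure.GraphF4Chk0
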