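import Cfsg.Agent.ChevalleyStructure.GraphTabF4

/-!
Kernel checks of the bracket identities for `F₄` modulo 2, part 1 (generated).
-/
set_option autoImplicit false

namespace Cfsg.Agent.ChevalleyStructure.GraphF4Chk1

open Cfsg.Agent.ChevalleyStructure.GraphCheck Cfsg.Agent.ChevalleyStructure.GraphTabF4

set_option maxRecDepth 100000

theorem c3_16 : tabF4.chk3 16 = true := by decide +kernel
theorem c3_17 : tabF4.chk3 17 = true := by decide +kernel
theorem c3_18 : tabF4.chk3 18 = true := by decide +kernel
theorem c3_19 : tabF4.chk3 19 = true := by decide +kernel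
theorem c3_20 : tabF4.chk3 20 = true := by decide +kernel
theorem c3_21 : tabF4.chk3 21 = true := by decide +kernel
theorem c3_22 : tabF4.chk3 22 = true := by decide +kernel
theorem c3_23 : tabF4.chk3 23 = true := by decide +kernel
theorem c3_24 : tabF4.chk3 24 = true := by decide +kernel
theorem c3_25 : tabF4.chk3 25 = true := by decide +kernel
theorem c3_26 : tabF4.chk3 26 = true := by decide +kernel
theorem c3_27 : tabF4.chk3 27 = true := by decide +kernel
theorem c3_28 : tabF4.chk3 28 = true := by decide +kernel
theorem c3_29 : tabF4.chk3 29 = true := by decide +kernel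
theorem c3_30 : tabF4.chk3 30 = true := by decide +kernel
theorem c3_31 : tabF4.chk3 31 = true := by decide +kernel

end Cfsg.Agent.ChevalleyStructure.GraphF4Chk1
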