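import Cfsg.Agent.ChevalleyStructure.GraphTabF4

/-!
Kernel checks of the bracket identities for `F₄` modulo 2, part 2 (generated).
-/
set_option autoImplicit false

namespace Cfsg.Agent.ChevalleyStructure.GraphF4Chk2

open Cfsg.Agent.ChevalleyStructure.GraphCheck Cfsg.Agent.ChevalleyStructure.GraphTabF4

set_option maxRecDepth 100000

theorem c3_32 : tabF4.chk3 32 = true := by decide +kernel
theorem c3_33 : tabF4.chk3 33 = true := by decide +kernel
theorem c3_34 : tabF4.chk3 34 = true := by decide +kernel
theorem c3_35 : tabF4.chk3 35 = true := by decide +kernel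
theorem c3_36 : tabF4.chk3 36 = true := by decide +kernel
theorem c3_37 : tabF4.chk3 37 = true := by decide +kernel
theorem c3_38 : tabF4.chk3 38 = true := by decide +kernel
theorem c3_39 : tabF4.chk3 39 = true := by decide +kernel
theorem c3_40 : tabF4.chk3 40 = true := by decide +kernel
theorem c3_41 : tabF4.chk3 41 = true := by decide +kernel
theorem c3_42 : tabF4.chk3 42 = true := by decide +kernel
theorem c3_43 : tabF4.chk3 43 = true := by decide +kernel
theorem c3_44 : tabF4.chk3 44 = true := by decide +kernel
theorem c3_45 : tabF4.chk3 45 = true := by decide +kernel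
theorem c3_46 : tabF4.chk3 46 = true := by decide +kernel
theorem c3_47 : tabF4.chk3 47 = true := by decide +kernel

end Cfsg.Agent.ChevalleyStructure.GraphF4Chk2
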