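import Cfsg.Prelude.Def_ChevF4
import Cfsg.Agent.ChevalleyStructure.GraphTabF4
import Cfsg.Agent.ChevalleyStructure.GraphFaith
import Cfsg.Agent.ChevalleyStructure.GraphF4Chk0
import Cfsg.Agent.ChevalleyStructure.GraphF4Chk1
import Cfsg.Agent.ChevalleyStructure.GraphF4Chk2

/-!
The exceptional graph automorphism of `F₄` in characteristic 2, on all root elements.
-/
set_option autoImplicit false

namespace Cfsg.Agent.ChevalleyStructure.GraphF4

open Cfsg.Lie Cfsg.Agent.ChevalleyStructure.GraphSparse Cfsg.Agent.ChevalleyStructure.GraphColumns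
  Cfsg.Agent.ChevalleyStructure.GraphCheck Cfsg.Agent.ChevalleyStructure.GraphAbstract
  Cfsg.Agent.ChevalleyStructure.GraphSound Cfsg.Agent.ChevalleyStructure.GraphFaith
  Cfsg.Agent.ChevalleyStructure.GraphTabF4

set_option maxRecDepth 100000

theorem c0 : allB 48 (tabF4.chk0 chevF4) = true := by decide +kernel
theorem c1 : allB 48 tabF4.chk1 = true := by decide +kernel
theorem c2 : allB 48 tabF4.chk2 = true := by decide +kernel
theorem c4 : allB 48 tabF4.chk4 = true := by decide +kernel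
theorem c5 : allB 52 tabF4.chk5 = true := by decide +kernel
theorem c6 : allB 52 tabF4.chk6 = true := by decide +kernel
theorem c7 : tabF4.chk7 = true := by decide +kernel
theorem c8 : tabF4.chk8 = true := by decide +kernel

theorem c3 : ∀ r < 48, tabF4.chk3 r = true := by
  intro r hr
  match r, hr with
  | 0, _ => exact GraphF4Chk0.c3_0
  | 1, _ => exact GraphF4Chk0.c3_1
  | 2, _ => exact GraphF4Chk0.c3_2
  | 3, _ => exact GraphF4Chk0.c3_3
  | 4, _ => exact GraphF4Chk0.c3_4
  | 5, _ => exact GraphF4Chk0.c3_5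
  | 6, _ => exact GraphF4Chk0.c3_6
  | 7, _ => exact GraphF4Chk0.c3_7
  | 8, _ => exact GraphF4Chk0.c3_8
  | 9, _ => exact GraphF4Chk0.c3_9
  | 10, _ => exact GraphF4Chk0.c3_10
  | 11, _ => exact GraphF4Chk0.c3_11
  | 12, _ => exact GraphF4Chk0.c3_12
  | 13, _ => exact GraphF4Chk0.c3_13
  | 14, _ => exact GraphF4Chk0.c3_14
  | 15, _ => exact GraphF4Chk0.c3_15
  | 16, _ => exact GraphF4Chk1.c3_16
  | 17, _ => exact GraphF4Chk1.c3_17
  | 18, _ => exact GraphF4Chk1.c3_18
  | 19, _ => exact GraphF4Chk1.c3_19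
  | 20, _ => exact GraphF4Chk1.c3_20
  | 21, _ => exact GraphF4Chk1.c3_21
  | 22, _ => exact GraphF4Chk1.c3_22
  | 23, _ => exact GraphF4Chk1.c3_23
  | 24, _ => exact GraphF4Chk1.c3_24
  | 25, _ => exact GraphF4Chk1.c3_25
  | 26, _ => exact GraphF4Chk1.c3_26
  | 27, _ => exact GraphF4Chk1.c3_27
  | 28, _ => exact GraphF4Chk1.c3_28
  | 29, _ => exact GraphF4Chk1.c3_29
  | 30, _ => exact GraphF4Chk1.c3_30
  | 31, _ => exact GraphF4Chk1.c3_31
  | 32, _ => exact GraphF4Chk2.c3_32
  | 33, _ => exact GraphF4Chk2.c3_33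
  | 34, _ => exact GraphF4Chk2.c3_34
  | 35, _ => exact GraphF4Chk2.c3_35
  | 36, _ => exact GraphF4Chk2.c3_36
  | 37, _ => exact GraphF4Chk2.c3_37
  | 38, _ => exact GraphF4Chk2.c3_38
  | 39, _ => exact GraphF4Chk2.c3_39
  | 40, _ => exact GraphF4Chk2.c3_40
  | 41, _ => exact GraphF4Chk2.c3_41
  | 42, _ => exact GraphF4Chk2.c3_42
  | 43, _ => exact GraphF4Chk2.c3_43
  | 44, _ => exact GraphF4Chk2.c3_44
  | 45, _ => exact GraphF4Chk2.c3_45
  | 46, _ => exact GraphF4Chk2.c3_46
  | 47, _ => exact GraphF4Chk2.c3_47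
  | (n + 48), h => exact absurd h (by omega)

theorem good : Good tabF4 chevF4 where
  hl := rfl
  hn := rfl
  prime := Nat.prime_two
  c0 := allB_sound c0
  c1 := allB_sound c1
  c2 := allB_sound c2
  c4 := allB_sound c4
  c8 := c8

theorem faithful : Faith tabF4 where
  c3 := c3
  c5 := allB_sound c5
  c6 := allB_sound c6
  c7 := c7

/-- The exceptional graph automorphism of `F₄(K)`, `K` perfect of characteristic 2, on all root elements. -/
theorem exists_graph {K : Type*} [Field K] [CharP K 2] (hperf : ∀ x : K, ∃ y : K, y ^ 2 = x) :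
    ∃ α : ↥(chevF4.group K) ≃* ↥(chevF4.group K), ∀ (g : ↥(chevF4.group K)) (r : ℕ) (t : K), r < 48 →
      ((g : GL chevF4.Idx K) : Matrix _ _ K) = chevF4.x K r t →
        ((α g : GL chevF4.Idx K) : Matrix _ _ K) =
          chevF4.x K (tabF4.bar.getD r 0) (t ^ tabF4.lam.getD r 0) := by
  have : CharP K tabF4.p := (inferInstance : CharP K 2)
  obtain ⟨α, hα⟩ := GraphSound.main good K hperf (faith K good faithful)
  exact ⟨α, fun g r t hr hg => (hα g).2 r t hr hg⟩

end Cfsg.Agent.ChevalleyStructure.GraphF4
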