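import Cfsg.Agent.ChevalleyStructure.GraphCheck

/-!
Tables for type G2 modulo 3 (generated).
-/
set_option autoImplicit false

namespace Cfsg.Agent.ChevalleyStructure.GraphTabG2

open Cfsg.Agent.ChevalleyStructure.GraphSparse Cfsg.Agent.ChevalleyStructure.GraphCheck

def tabG2Row0 : List (ℕ × SV) := [(1, [(1, 0, 1), (2, 1, 1)]), (8, [(8, 0, 1), (3, 1, 1)]), (10, [(10, 0, 1), (4, 1, 1)]), (11, [(11, 0, 1), (5, 1, 2)]), (12, [(12, 0, 1), (7, 1, 2)]), (13, [(13, 0, 1), (0, 1, 2), (1, 1, 1), (2, 2, 2)])]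

def tabG2Row1 : List (ℕ × SV) := [(1, [(1, 0, 1), (3, 1, 2)]), (7, [(7, 0, 1), (2, 1, 1)]), (9, [(9, 0, 1), (4, 1, 1)]), (11, [(11, 0, 1), (6, 1, 2)]), (12, [(12, 0, 1), (0, 1, 2), (1, 1, 2), (3, 2, 2)]), (13, [(13, 0, 1), (8, 1, 2)])]

def tabG2Row2 : List (ℕ × SV) := [(0, [(0, 0, 1), (4, 1, 1)]), (9, [(9, 0, 1), (5, 1, 1)]), (10, [(10, 0, 1), (6, 1, 2)]), (11, [(11, 0, 1), (0, 1, 1), (4, 2, 2)]), (12, [(12, 0, 1), (9, 1, 2), (5, 2, 1), (2, 3, 1)]), (13, [(13, 0, 1), (10, 1, 2), (6, 2, 2), (3, 3, 2)])]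

def tabG2Row3 : List (ℕ × SV) := [(0, [(0, 0, 1), (5, 1, 2)]), (1, [(1, 0, 1), (5, 1, 1)]), (6, [(6, 0, 1), (4, 1, 1)]), (8, [(8, 0, 1), (6, 1, 1), (4, 2, 2), (2, 3, 1)]), (10, [(10, 0, 1), (0, 1, 2), (5, 2, 2)]), (11, [(11, 0, 1), (9, 1, 2)]), (13, [(13, 0, 1), (11, 1, 1), (9, 2, 1), (7, 3, 2)])]

def tabG2Row4 : List (ℕ × SV) := [(0, [(0, 0, 1), (6, 1, 2)]), (1, [(1, 0, 1), (6, 1, 2)]), (5, [(5, 0, 1), (4, 1, 2)]), (7, [(7, 0, 1), (5, 1, 1), (4, 2, 1), (3, 3, 2)]), (9, [(9, 0, 1), (0, 1, 2), (6, 2, 2)]), (11, [(11, 0, 1), (10, 1, 1)]), (12, [(12, 0, 1), (11, 1, 1), (10, 2, 2), (8, 3, 1)])]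

def tabG2Row5 : List (ℕ × SV) := [(1, [(1, 0, 1), (7, 1, 2)]), (3, [(3, 0, 1), (2, 1, 2)]), (6, [(6, 0, 1), (5, 1, 2)]), (8, [(8, 0, 1), (1, 1, 2), (7, 2, 2)]), (10, [(10, 0, 1), (9, 1, 1)]), (13, [(13, 0, 1), (12, 1, 1)])]

def tabG2Row6 : List (ℕ × SV) := [(1, [(1, 0, 1), (8, 1, 1)]), (2, [(2, 0, 1), (3, 1, 2)]), (5, [(5, 0, 1), (6, 1, 2)]), (7, [(7, 0, 1), (1, 1, 1), (8, 2, 2)]), (9, [(9, 0, 1), (10, 1, 1)]), (12, [(12, 0, 1), (13, 1, 1)])]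

def tabG2Row7 : List (ℕ × SV) := [(0, [(0, 0, 1), (9, 1, 1)]), (1, [(1, 0, 1), (9, 1, 1)]), (3, [(3, 0, 1), (4, 1, 2), (5, 2, 2), (7, 3, 2)]), (4, [(4, 0, 1), (5, 1, 2)]), (6, [(6, 0, 1), (0, 1, 1), (9, 2, 2)]), (8, [(8, 0, 1), (10, 1, 2), (11, 2, 1), (12, 3, 1)]), (10, [(10, 0, 1), (11, 1, 1)])]

def tabG2Row8 : List (ℕ × SV) := [(0, [(0, 0, 1), (10, 1, 1)]), (1, [(1, 0, 1), (10, 1, 2)]), (2, [(2, 0, 1), (4, 1, 2), (6, 2, 1), (8, 3, 1)]), (4, [(4, 0, 1), (6, 1, 1)]), (5, [(5, 0, 1), (0, 1, 1), (10, 2, 2)]), (7, [(7, 0, 1), (9, 1, 2), (11, 2, 2), (13, 3, 2)]), (9, [(9, 0, 1), (11, 1, 2)])]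

def tabG2Row9 : List (ℕ × SV) := [(0, [(0, 0, 1), (11, 1, 2)]), (2, [(2, 0, 1), (5, 1, 1), (9, 2, 2), (12, 3, 1)]), (3, [(3, 0, 1), (6, 1, 1), (10, 2, 1), (13, 3, 2)]), (4, [(4, 0, 1), (0, 1, 2), (11, 2, 2)]), (5, [(5, 0, 1), (9, 1, 1)]), (6, [(6, 0, 1), (10, 1, 2)])]

def tabG2Row10 : List (ℕ × SV) := [(1, [(1, 0, 1), (12, 1, 1)]), (2, [(2, 0, 1), (7, 1, 1)]), (3, [(3, 0, 1), (0, 1, 1), (1, 1, 1), (12, 2, 2)]), (4, [(4, 0, 1), (9, 1, 1)]), (6, [(6, 0, 1), (11, 1, 2)]), (8, [(8, 0, 1), (13, 1, 2)])]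

def tabG2Row11 : List (ℕ × SV) := [(1, [(1, 0, 1), (13, 1, 2)]), (2, [(2, 0, 1), (0, 1, 1), (1, 1, 2), (13, 2, 2)]), (3, [(3, 0, 1), (8, 1, 1)]), (4, [(4, 0, 1), (10, 1, 1)]), (5, [(5, 0, 1), (11, 1, 2)]), (7, [(7, 0, 1), (12, 1, 2)])]

def tabG2Rows : List (List (ℕ × SV)) := [tabG2Row0, tabG2Row1, tabG2Row2, tabG2Row3, tabG2Row4, tabG2Row5, tabG2Row6, tabG2Row7, tabG2Row8, tabG2Row9, tabG2Row10, tabG2Row11]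

def tabG2Car : List (List ℕ) := [[0, 0, 2, 1, 1, 0, 0, 2, 2, 1, 0, 0], [2, 1, 0, 2, 1, 1, 2, 2, 1, 0, 2, 1]]

noncomputable def tabG2Col (r j : ℕ) : SV := look j (tabG2Rows.getD r [])

noncomputable def tabG2Act (j c : ℕ) : SV :=
  if Nat.ble (j + 1) 2 then
    (if Nat.ble (c + 1) 2 then [] else [(c, 0, (tabG2Car.getD j []).getD (c - 2) 0)])
  else lin (tabG2Col (j - 2) c)

noncomputable def tabG2 : Tab where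
  p := 3
  l := 2
  n := 12
  colF := tabG2Col
  actF := tabG2Act
  bar := [2, 3, 0, 1, 5, 4, 7, 6, 10, 11, 8, 9]
  lam := [1, 1, 3, 3, 3, 1, 1, 3, 3, 3, 1, 1]
  sig := [0, 1, 5, 6, 0, 0, 0, 7, 10, 0, 0, 0, 11, 12]
  jl := [0, 4, 5, 6, 9, 10, 11]
  wit := [[(4, 4, 2)], [(4, 4, 2), (5, 5, 2)], [(10, 4, 1)], [(9, 4, 1)], [(0, 4, 1)], [(0, 5, 2)], [(0, 6, 2)], [(6, 5, 2)], [(5, 6, 2)], [(0, 9, 1)], [(0, 10, 1)], [(0, 11, 2)], [(4, 9, 1)], [(4, 10, 1)]]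

end Cfsg.Agent.ChevalleyStructure.GraphTabG2
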