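import Cfsg.Prelude.Def_ChevG2
import Cfsg.Agent.ChevalleyStructure.GraphTabG2
import Cfsg.Agent.ChevalleyStructure.GraphFaith

/-!
The exceptional graph automorphism of `G₂` in characteristic 3, on all root elements.
-/
set_option autoImplicit false

namespace Cfsg.Agent.ChevalleyStructure.GraphG2

open Cfsg.Lie Cfsg.Agent.ChevalleyStructure.GraphSparse Cfsg.Agent.ChevalleyStructure.GraphColumns
  Cfsg.Agent.ChevalleyStructure.GraphCheck Cfsg.Agent.ChevalleyStructure.GraphAbstract
  Cfsg.Agent.ChevalleyStructure.GraphSound Cfsg.Agent.ChevalleyStructure.GraphFaith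
  Cfsg.Agent.ChevalleyStructure.GraphTabG2

set_option maxRecDepth 100000

theorem c0 : allB 12 (tabG2.chk0 chevG2) = true := by decide +kernel
theorem c1 : allB 12 tabG2.chk1 = true := by decide +kernel
theorem c2 : allB 12 tabG2.chk2 = true := by decide +kernel
theorem c3 : allB 12 tabG2.chk3 = true := by decide +kernel
theorem c4 : allB 12 tabG2.chk4 = true := by decide +kernel
theorem c5 : allB 14 tabG2.chk5 = true := by decide +kernel
theorem c6 : allB 14 tabG2.chk6 = true := by decide +kernel
theorem c7 : tabG2.chk7 = true := by decide +kernel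
theorem c8 : tabG2.chk8 = true := by decide +kernel

theorem good : Good tabG2 chevG2 where
  hl := rfl
  hn := rfl
  prime := Nat.prime_three
  c0 := allB_sound c0
  c1 := allB_sound c1
  c2 := allB_sound c2
  c4 := allB_sound c4
  c8 := c8

theorem faithful : Faith tabG2 where
  c3 := allB_sound c3
  c5 := allB_sound c5
  c6 := allB_sound c6
  c7 := c7

/-- The exceptional graph automorphism of `G₂(K)`, `K` perfect of characteristic 3, on all root elements. -/
theorem exists_graph {K : Type*} [Field K] [CharP K 3] (hperf : ∀ x : K, ∃ y : K, y ^ 3 = x) :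
    ∃ α : ↥(chevG2.group K) ≃* ↥(chevG2.group K), ∀ (g : ↥(chevG2.group K)) (r : ℕ) (t : K), r < 12 →
      ((g : GL chevG2.Idx K) : Matrix _ _ K) = chevG2.x K r t →
        ((α g : GL chevG2.Idx K) : Matrix _ _ K) =
          chevG2.x K ([2, 3, 0, 1, 5, 4, 7, 6, 10, 11, 8, 9].getD r 0)
            (t ^ [1, 1, 3, 3, 3, 1, 1, 3, 3, 3, 1, 1].getD r 0) := by
  have : CharP K tabG2.p := (inferInstance : CharP K 3)
  obtain ⟨α, hα⟩ := GraphSound.main good K hperf (faith K good faithful)
  exact ⟨α, fun g r t hr hg => (hα g).2 r t hr hg⟩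

end Cfsg.Agent.ChevalleyStructure.GraphG2
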