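import Cfsg.Agent.ChevalleyStructure.GraphCheck

/-!
Soundness of the checks of `GraphCheck`: existence of the exceptional graph automorphisms.
-/
set_option autoImplicit false

namespace Cfsg.Agent.ChevalleyStructure.GraphSound

open Cfsg.Lie Cfsg.Agent.ChevalleyStructure.GraphSparse Cfsg.Agent.ChevalleyStructure.GraphColumns
  Cfsg.Agent.ChevalleyStructure.GraphCheck Cfsg.Agent.ChevalleyStructure.GraphAbstract

open scoped MatrixGroups

/-- the checks needed for every type -/
structure Good (T : Tab) (D : ChevalleyDatum) : Prop where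
  hl : D.rank = T.l
  hn : D.nroots = T.n
  prime : T.p.Prime
  c0 : ∀ r < T.n, T.chk0 D r = true
  c1 : ∀ r < T.n, T.chk1 r = true
  c2 : ∀ r < T.n, T.chk2 r = true
  c4 : ∀ r < T.n, T.chk4 r = true
  c8 : T.chk8 = true

/-- the checks needed for the adjoint faithfulness argument (types `G₂` and `F₄`) -/
structure Faith (T : Tab) : Prop where
  c3 : ∀ r < T.n, T.chk3 r = true
  c5 : ∀ i < T.l + T.n, T.chk5 i = true
  c6 : ∀ j < T.l + T.n, T.chk6 j = true
  c7 : T.chk7 = true

section general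

variable {D : ChevalleyDatum} {K : Type*} [Field K]

theorem matrix_ext {M M' : Matrix D.Idx D.Idx K}
    (h : ∀ j < D.rank + D.nroots, Matrix.mulVec M (bas D K j) = Matrix.mulVec M' (bas D K j)) : M = M' := by
  ext a c
  have := h _ (enc_lt D c)
  rw [bas_enc, Matrix.mulVec_single_one, Matrix.mulVec_single_one] at this
  exact congrFun this a

theorem lin_ext {W : Type*} [AddCommGroup W] [Module K W] {f g : (D.Idx → K) →ₗ[K] W}
    (h : ∀ j < D.rank + D.nroots, f (bas D K j) = g (bas D K j)) : f = g := by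
  apply (Pi.basisFun K D.Idx).ext
  intro c
  have := h _ (enc_lt D c)
  rw [bas_enc] at this
  rw [Pi.basisFun_apply]
  exact this

theorem ble_false {a b : ℕ} (h : ¬ a ≤ b) : Nat.ble a b = false := by
  cases h' : Nat.ble a b with
  | false => rfl
  | true => exact absurd (Nat.le_of_ble_eq_true h') h

theorem ble_true {a b : ℕ} (h : a ≤ b) : Nat.ble a b = true := Nat.ble_eq_true_of_le h

end general

/-- the shift matrix -/
noncomputable def shift (T : Tab) (D : ChevalleyDatum) (K : Type*) [Field K] : Matrix D.Idx D.Idx K :=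
  Matrix.of fun a c => ev (bas D K) (1 : K) (T.sigCol (enc D c)) a

theorem ev_sigCol (T : Tab) (D : ChevalleyDatum) (K : Type*) [Field K] (t : K) (j : ℕ) :
    ev (bas D K) t (T.sigCol j) = ev (bas D K) (1 : K) (T.sigCol j) := by
  unfold Tab.sigCol
  cases T.sig.getD j 0 with
  | zero => rfl
  | succ s =>
    change ev (bas D K) t [(s, 0, 1)] = ev (bas D K) (1 : K) [(s, 0, 1)]
    simp [ev_cons, ev_nil]

section good

variable {T : Tab} {D : ChevalleyDatum} (hG : Good T D) (K : Type*) [Field K] [CharP K T.p]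
include hG

theorem col_out {r j : ℕ} (h : ¬ j < D.rank + D.nroots) : T.col r j = [] := by
  rw [hG.hl, hG.hn] at h
  change (bif Nat.ble (j + 1) (T.l + T.n) then T.colF r j else []) = _
  rw [ble_false (by omega)]
  rfl

theorem x_bas {r : ℕ} (hr : r < D.nroots) (t : K) (j : ℕ) :
    Matrix.mulVec (D.x K r t) (bas D K j) = ev (bas D K) t (T.col r j) := by
  by_cases hj : j < D.rank + D.nroots
  · rw [x_mulVec_bas D K T.p hG.prime.pos hr t j hj]
    have h0 := allB_sound (hG.c0 r (hG.hn ▸ hr)) j (by rw [← hG.hl, ← hG.hn]; exact hj)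
    exact ev_of_eqv _ t T.p hG.prime.pos h0
  · rw [bas_out D K hj, col_out hG hj, Matrix.mulVec_zero]
    rfl

omit hG in
theorem ev_sg (b : ℕ → (D.Idx → K)) (t : K) (hp : 0 < T.p) (v : SV) :
    ev b t (Tab.sg T.p v) = ev b (-t) v := by
  induction v with
  | nil => rfl
  | cons q l ih =>
    change (((q.2.2 * (T.p - 1) ^ q.2.1 : ℕ) : K) * t ^ q.2.1) • b q.1 + ev b t (Tab.sg T.p l) = _
    rw [ih, ev_cons]
    congr 2
    have h2 : ((T.p - 1 : ℕ) : K) = -1 := by
      rw [Nat.cast_sub hp, CharP.cast_eq_zero K T.p]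
      simp
    push_cast
    rw [h2, mul_assoc, ← mul_pow]
    simp

theorem x_neg_mul {r : ℕ} (hr : r < D.nroots) (t : K) : D.x K r (-t) * D.x K r t = 1 := by
  apply matrix_ext
  intro j hj
  rw [← Matrix.mulVec_mulVec, x_bas hG K hr, Matrix.one_mulVec]
  have h1 := allB_sound (hG.c1 r (hG.hn ▸ hr)) j (by rw [← hG.hl, ← hG.hn]; exact hj)
  have h2 := ev_of_eqv (bas D K) t T.p hG.prime.pos h1
  rw [ev_ap (bas D K) t (bas D K) (Matrix.mulVecLin (D.x K r (-t)))] at h2
  · rw [Matrix.mulVecLin_apply] at h2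
    rw [h2, ev_cons, ev_nil]
    simp
  · intro i
    rw [Matrix.mulVecLin_apply, ev_sg K _ _ hG.prime.pos]
    exact x_bas hG K hr (-t) i

/-- the root element as an element of the general linear group -/
noncomputable def X (r : Fin D.nroots) (t : K) : GL D.Idx K where
  val := D.xMat K r t
  inv := D.xMat K r (-t)
  val_inv := by
    have := x_neg_mul hG K r.isLt (-t)
    rw [x_of_lt D K r.isLt, x_of_lt D K r.isLt, neg_neg] at this
    exact this
  inv_val := by
    have := x_neg_mul hG K r.isLt t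
    rw [x_of_lt D K r.isLt, x_of_lt D K r.isLt] at this
    exact this

theorem X_coe (r : Fin D.nroots) (t : K) : ((X hG K r t : GL D.Idx K) : Matrix D.Idx D.Idx K) = D.x K r.val t := by
  rw [x_of_lt D K r.isLt]
  rfl

theorem gen_X : gen (X hG K) = D.group K := by
  unfold gen
  change _ = Subgroup.closure {g : GL D.Idx K | ∃ (r : Fin D.nroots) (t : K), (g : Matrix D.Idx D.Idx K) = D.xMat K r t}
  congr 1
  ext g
  constructor
  · rintro ⟨r, t, rfl⟩
    exact ⟨r, t, rfl⟩
  · rintro ⟨r, t, h⟩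
    exact ⟨r, t, Units.ext h⟩

omit [CharP K T.p] in
theorem sigCol_out {j : ℕ} (h : ¬ j < D.rank + D.nroots) : T.sigCol j = [] := by
  rw [hG.hl, hG.hn] at h
  have h8 : T.chk8 = true := hG.c8
  unfold Tab.chk8 at h8
  rw [Bool.and_eq_true] at h8
  have hlen := Nat.eq_of_beq_eq_true h8.1
  have : T.sig.getD j 0 = 0 := by
    rw [List.getD_eq_default]
    omega
  unfold Tab.sigCol
  rw [this]
  rfl

omit [CharP K T.p] in
theorem shift_bas (t : K) (j : ℕ) :
    Matrix.mulVec (shift T D K) (bas D K j) = ev (bas D K) t (T.sigCol j) := by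
  by_cases hj : j < D.rank + D.nroots
  · obtain ⟨c, rfl⟩ := exists_enc D hj
    rw [bas_enc, Matrix.mulVec_single_one, ev_sigCol]
    rfl
  · rw [bas_out D K hj, sigCol_out hG hj, Matrix.mulVec_zero]
    rfl

/-- `bar` as a map on `Fin` -/
noncomputable def barF (r : Fin D.nroots) : Fin D.nroots :=
  ⟨T.bar.getD r.val 0, by
    have h := hG.c4 r.val (hG.hn ▸ r.isLt)
    unfold Tab.chk4 at h
    rw [Bool.and_eq_true, Bool.and_eq_true] at h
    have := Nat.le_of_ble_eq_true h.1.1
    have hn := hG.hn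
    omega⟩

omit [CharP K T.p] in
theorem barF_barF (r : Fin D.nroots) : barF hG (barF hG r) = r := by
  apply Fin.ext
  have h := hG.c4 r.val (hG.hn ▸ r.isLt)
  unfold Tab.chk4 at h
  rw [Bool.and_eq_true, Bool.and_eq_true] at h
  exact Nat.eq_of_beq_eq_true h.1.2

omit [CharP K T.p] in
theorem lam_mul (r : Fin D.nroots) : T.lam.getD r.val 0 * T.lam.getD (barF hG r).val 0 = T.p := by
  have h := hG.c4 r.val (hG.hn ▸ r.isLt)
  unfold Tab.chk4 at h
  rw [Bool.and_eq_true, Bool.and_eq_true] at h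
  exact Nat.eq_of_beq_eq_true h.2

theorem shift_mul (r : Fin D.nroots) (t : K) :
    shift T D K * D.x K r.val t = D.x K (barF hG r).val (t ^ T.lam.getD r.val 0) * shift T D K := by
  apply matrix_ext
  intro j hj
  have h2 := allB_sound (hG.c2 r.val (hG.hn ▸ r.isLt)) j (by rw [← hG.hl, ← hG.hn]; exact hj)
  have h3 := ev_of_eqv (bas D K) t T.p hG.prime.pos h2
  rw [ev_ap (bas D K) t (bas D K) (Matrix.mulVecLin (shift T D K)) _ (fun i => shift_bas hG K t i),
    ev_ap (bas D K) t (bas D K) (Matrix.mulVecLin (D.x K (barF hG r).val (t ^ T.lam.getD r.val 0)))] at h3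
  · rw [Matrix.mulVecLin_apply, Matrix.mulVecLin_apply] at h3
    rw [← Matrix.mulVec_mulVec, ← Matrix.mulVec_mulVec, x_bas hG K r.isLt, shift_bas hG K t]
    exact h3
  · intro i
    rw [Matrix.mulVecLin_apply, ev_pw]
    exact x_bas hG K (barF hG r).isLt _ i

omit hG in
theorem ev_frob [Fact T.p.Prime] (t : K) (l : SV) (a : D.Idx) :
    frobenius K T.p (ev (bas D K) t l a) = ev (bas D K) (t ^ T.p) l a := by
  induction l with
  | nil => exact map_zero _
  | cons q l ih =>
    rw [ev_cons, ev_cons, Pi.add_apply, map_add, ih, Pi.add_apply]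
    congr 1
    rw [Pi.smul_apply, Pi.smul_apply, smul_eq_mul, smul_eq_mul, map_mul, map_mul, map_natCast, map_pow,
      frobenius_def]
    congr 1
    change frobenius K T.p (if enc D a = q.1 then (1 : K) else 0) = (if enc D a = q.1 then (1 : K) else 0)
    split
    · exact map_one _
    · exact map_zero _

theorem X_frob [Fact T.p.Prime] (r : Fin D.nroots) (t : K) :
    Matrix.GeneralLinearGroup.map (n := D.Idx) (frobenius K T.p) (X hG K r t) = X hG K r (t ^ T.p) := by
  ext a c
  rw [Matrix.GeneralLinearGroup.map_apply, X_coe, X_coe]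
  have h1 := congrFun (x_bas hG K r.isLt t (enc D c)) a
  have h2 := congrFun (x_bas hG K r.isLt (t ^ T.p) (enc D c)) a
  rw [bas_enc, Matrix.mulVec_single_one] at h1 h2
  change D.x K r.val t a c = _ at h1
  change D.x K r.val (t ^ T.p) a c = _ at h2
  rw [h1, h2, ev_frob]

omit [CharP K T.p] in
theorem lam_cases (r : Fin D.nroots) : T.lam.getD r.val 0 = 1 ∨ T.lam.getD r.val 0 = T.p := by
  have h := lam_mul hG r
  exact (Nat.dvd_prime hG.prime).mp ⟨_, h.symm⟩

theorem rel_a {g : GL D.Idx K × GL D.Idx K}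
    (hg : g ∈ pairs (X hG K) (barF hG) (fun r => T.lam.getD r.val 0)) :
    (g.2 : Matrix D.Idx D.Idx K) * shift T D K = shift T D K * (g.1 : Matrix D.Idx D.Idx K) := by
  refine Subgroup.closure_induction (p := fun g _ =>
    ((g.2 : GL D.Idx K) : Matrix D.Idx D.Idx K) * shift T D K =
      shift T D K * ((g.1 : GL D.Idx K) : Matrix D.Idx D.Idx K)) ?_ ?_ ?_ ?_ hg
  · rintro _ ⟨r, t, rfl⟩
    simp only [X_coe]
    exact (shift_mul hG K r t).symm
  · simp
  · intro a b _ _ ha hb
    simp only [Prod.fst_mul, Prod.snd_mul, Units.val_mul]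
    rw [mul_assoc, hb, ← mul_assoc, ha, mul_assoc]
  · intro a _ ha
    simp only [Prod.fst_inv, Prod.snd_inv]
    have h1 : (((a.2)⁻¹ : GL D.Idx K) : Matrix D.Idx D.Idx K) * (a.2 : Matrix D.Idx D.Idx K) = 1 := by
      rw [← Units.val_mul, inv_mul_cancel, Units.val_one]
    have h2 : (a.1 : Matrix D.Idx D.Idx K) * (((a.1)⁻¹ : GL D.Idx K) : Matrix D.Idx D.Idx K) = 1 := by
      rw [← Units.val_mul, mul_inv_cancel, Units.val_one]
    calc (((a.2)⁻¹ : GL D.Idx K) : Matrix D.Idx D.Idx K) * shift T D K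
        = (((a.2)⁻¹ : GL D.Idx K) : Matrix D.Idx D.Idx K) * (shift T D K *
            ((a.1 : Matrix D.Idx D.Idx K) * (((a.1)⁻¹ : GL D.Idx K) : Matrix D.Idx D.Idx K))) := by
          rw [h2, mul_one]
      _ = (((a.2)⁻¹ : GL D.Idx K) : Matrix D.Idx D.Idx K) * ((a.2 : Matrix D.Idx D.Idx K) * shift T D K) *
            (((a.1)⁻¹ : GL D.Idx K) : Matrix D.Idx D.Idx K) := by
          rw [ha]; simp only [mul_assoc]
      _ = shift T D K * (((a.1)⁻¹ : GL D.Idx K) : Matrix D.Idx D.Idx K) := by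
          rw [← mul_assoc _ _ (shift T D K), h1, one_mul]

/-- Main theorem: the graph automorphism, given faithfulness. -/
theorem main (hperf : ∀ x : K, ∃ y : K, y ^ T.p = x)
    (faith : ∀ g' : GL D.Idx K, ((1 : GL D.Idx K), g') ∈
      pairs (X hG K) (barF hG) (fun r => T.lam.getD r.val 0) → g' = 1) :
    ∃ α : ↥(D.group K) ≃* ↥(D.group K), ∀ (g : ↥(D.group K)),
      (((g : GL D.Idx K), (α g : GL D.Idx K)) ∈ pairs (X hG K) (barF hG) (fun r => T.lam.getD r.val 0)) ∧
      (∀ (r : ℕ) (t : K), r < D.nroots → ((g : GL D.Idx K) : Matrix D.Idx D.Idx K) = D.x K r t →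
        ((α g : GL D.Idx K) : Matrix D.Idx D.Idx K) = D.x K (T.bar.getD r 0) (t ^ T.lam.getD r 0)) := by
  have : Fact T.p.Prime := ⟨hG.prime⟩
  have key := exists_graph_aut T.p (X hG K) (barF hG) (fun r => T.lam.getD r.val 0)
    (barF_barF hG) (lam_mul hG) (by
      intro r t
      rcases lam_cases hG r with h | h
      · exact ⟨t, by rw [h, pow_one]⟩
      · obtain ⟨s, hs⟩ := hperf t
        exact ⟨s, by rw [h, hs]⟩)
    (X_frob hG K) faith
  rw [gen_X hG K] at key
  obtain ⟨α, hα⟩ := key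
  refine ⟨α, fun g => ⟨hα g, ?_⟩⟩
  intro r t hr hg
  have h1 : (g : GL D.Idx K) = X hG K ⟨r, hr⟩ t := by
    apply Units.ext
    rw [X_coe]
    exact hg
  have h2 := hα g
  rw [h1] at h2
  have h3 := mem_pairs (X hG K) (barF hG) (fun r => T.lam.getD r.val 0) ⟨r, hr⟩ t
  have h4 := pairs_unique _ _ _ faith h2 h3
  rw [h4, X_coe]
  rfl

end good

end Cfsg.Agent.ChevalleyStructure.GraphSound
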