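import Cfsg.Agent.ChevalleyStructure.JacDataB2

/-!
Kernel check of the Jacobi identity for type B2.
-/

set_option autoImplicit false
set_option maxRecDepth 100000

namespace Cfsg.Agent.ChevalleyStructure.JacChkB2

open Cfsg.Agent.ChevalleyStructure.JacTab
open Cfsg.Agent.ChevalleyStructure.JacDataB2

theorem chk_5 : chkP rows 5 = true := by decide +kernel
theorem chk_2 : chkP rows 2 = true := by decide +kernel
theorem chk_4 : chkP rows 4 = true := by decide +kernel
theorem chk_3 : chkP rows 3 = true := by decide +kernel

end Cfsg.Agent.ChevalleyStructure.JacChkB2
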