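import Cfsg.Agent.ChevalleyStructure.JacMain
import Cfsg.Agent.ChevalleyStructure.Good
import Cfsg.Agent.ChevalleyStructure.JacChkB2
import Cfsg.Prelude.Def_ChevB2

/-!
The Jacobi identity for type B2.
-/

set_option autoImplicit false
set_option maxRecDepth 100000

namespace Cfsg.Agent.ChevalleyStructure.JacB2

open Cfsg.Lie
open Cfsg.Agent.ChevalleyStructure.JacTab
open Cfsg.Agent.ChevalleyStructure.JacDataB2
open Cfsg.Agent.ChevalleyStructure.JacMain
open Cfsg.Agent.ChevalleyStructure.JacBridge
open Cfsg.Agent.ChevalleyStructure.Columns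
open Cfsg.Agent.ChevalleyStructure.LieAbs

theorem bridge_ok : bridge chevB2 Rs Hs = true := by decide +kernel

theorem anti_ok : antiAll rows rows 0 = true := by decide +kernel

theorem gen_ok : genAll rows gen (maskOf ps) (2 ^ 10 - 1) = true := by decide +kernel

theorem lt_ok : ltAll 10 gen = true := by decide +kernel

theorem chk_ok : ∀ p ∈ ps, p < chevB2.nroots ∧ chkP (Rs ++ Hs) p = true := by
  intro p hp
  simp only [ps, List.mem_cons, List.not_mem_nil, or_false] at hp
  rcases hp with rfl | rfl | rfl | rfl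
  · exact ⟨by decide, JacChkB2.chk_5⟩
  · exact ⟨by decide, JacChkB2.chk_2⟩
  · exact ⟨by decide, JacChkB2.chk_4⟩
  · exact ⟨by decide, JacChkB2.chk_3⟩

/-- **The Jacobi identity for type B2.** -/
theorem jac (x : chevB2.Idx → ℤ) : Jac (adA chevB2) x :=
  jac_of_checks chevB2 Rs Hs
    (fun r hr => (Cfsg.Agent.ChevalleyStructure.Good.goodAt_of_mem chevB2 (by simp) r hr).neg_ne)
    (fun r hr => (Cfsg.Agent.ChevalleyStructure.Good.goodAt_of_mem chevB2 (by simp) r hr).sorted)
    bridge_ok anti_ok ps chk_ok gen lt_ok gen_ok x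

end Cfsg.Agent.ChevalleyStructure.JacB2
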