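import Cfsg.Agent.ChevalleyStructure.JacDataD4

/-!
Kernel check of the Jacobi identity for type D4.
-/

set_option autoImplicit false
set_option maxRecDepth 100000

namespace Cfsg.Agent.ChevalleyStructure.JacChkD4

open Cfsg.Agent.ChevalleyStructure.JacTab
open Cfsg.Agent.ChevalleyStructure.JacDataD4

theorem chk_18 : chkP rows 18 = true := by decide +kernel
theorem chk_5 : chkP rows 5 = true := by decide +kernel
theorem chk_14 : chkP rows 14 = true := by decide +kernel
theorem chk_9 : chkP rows 9 = true := by decide +kernel
theorem chk_13 : chkP rows 13 = true := by decide +kernel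
theorem chk_10 : chkP rows 10 = true := by decide +kernel
theorem chk_12 : chkP rows 12 = true := by decide +kernel
theorem chk_11 : chkP rows 11 = true := by decide +kernel

end Cfsg.Agent.ChevalleyStructure.JacChkD4
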