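import Cfsg.Agent.ChevalleyStructure.JacDataE6

/-!
Kernel check of the Jacobi identity for type E6.
-/

set_option autoImplicit false
set_option maxRecDepth 100000

namespace Cfsg.Agent.ChevalleyStructure.JacChkE6

open Cfsg.Agent.ChevalleyStructure.JacTab
open Cfsg.Agent.ChevalleyStructure.JacDataE6

theorem chk_56 : chkP rows 56 = true := by decide +kernel
theorem chk_15 : chkP rows 15 = true := by decide +kernel
theorem chk_46 : chkP rows 46 = true := by decide +kernel
theorem chk_25 : chkP rows 25 = true := by decide +kernel
theorem chk_42 : chkP rows 42 = true := by decide +kernel
theorem chk_29 : chkP rows 29 = true := by decide +kernel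
theorem chk_39 : chkP rows 39 = true := by decide +kernel
theorem chk_32 : chkP rows 32 = true := by decide +kernel
theorem chk_37 : chkP rows 37 = true := by decide +kernel
theorem chk_34 : chkP rows 34 = true := by decide +kernel
theorem chk_36 : chkP rows 36 = true := by decide +kernel
theorem chk_35 : chkP rows 35 = true := by decide +kernel

end Cfsg.Agent.ChevalleyStructure.JacChkE6
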