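import Cfsg.Agent.ChevalleyStructure.JacDataE7

/-!
Kernel check of the Jacobi identity for type E7, part 1.
-/

set_option autoImplicit false
set_option maxRecDepth 100000

namespace Cfsg.Agent.ChevalleyStructure.JacChkE7p1

open Cfsg.Agent.ChevalleyStructure.JacTab
open Cfsg.Agent.ChevalleyStructure.JacDataE7

theorem chk_93 : chkP rows 93 = true := by decide +kernel
theorem chk_32 : chkP rows 32 = true := by decide +kernel
theorem chk_78 : chkP rows 78 = true := by decide +kernel
theorem chk_47 : chkP rows 47 = true := by decide +kernel
theorem chk_73 : chkP rows 73 = true := by decide +kernel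
theorem chk_52 : chkP rows 52 = true := by decide +kernel
theorem chk_69 : chkP rows 69 = true := by decide +kernel

end Cfsg.Agent.ChevalleyStructure.JacChkE7p1
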