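import Cfsg.Agent.ChevalleyStructure.JacDataE7

/-!
Kernel check of the Jacobi identity for type E7, part 2.
-/

set_option autoImplicit false
set_option maxRecDepth 100000

namespace Cfsg.Agent.ChevalleyStructure.JacChkE7p2

open Cfsg.Agent.ChevalleyStructure.JacTab
open Cfsg.Agent.ChevalleyStructure.JacDataE7

theorem chk_56 : chkP rows 56 = true := by decide +kernel
theorem chk_66 : chkP rows 66 = true := by decide +kernel
theorem chk_59 : chkP rows 59 = true := by decide +kernel
theorem chk_64 : chkP rows 64 = true := by decide +kernel
theorem chk_61 : chkP rows 61 = true := by decide +kernel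
theorem chk_63 : chkP rows 63 = true := by decide +kernel
theorem chk_62 : chkP rows 62 = true := by decide +kernel

end Cfsg.Agent.ChevalleyStructure.JacChkE7p2
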