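import Cfsg.Agent.ChevalleyStructure.JacDataE8

/-!
Kernel check of the Jacobi identity for type E8, part 1.
-/

set_option autoImplicit false
set_option maxRecDepth 100000

namespace Cfsg.Agent.ChevalleyStructure.JacChkE8p1

open Cfsg.Agent.ChevalleyStructure.JacTab
open Cfsg.Agent.ChevalleyStructure.JacDataE8

theorem chk_162 : chkP rows 162 = true := by decide +kernel
theorem chk_77 : chkP rows 77 = true := by decide +kernel
theorem chk_141 : chkP rows 141 = true := by decide +kernel
theorem chk_98 : chkP rows 98 = true := by decide +kernel

end Cfsg.Agent.ChevalleyStructure.JacChkE8p1
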