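import Cfsg.Agent.ChevalleyStructure.JacDataE8

/-!
Kernel check of the Jacobi identity for type E8, part 2.
-/

set_option autoImplicit false
set_option maxRecDepth 100000

namespace Cfsg.Agent.ChevalleyStructure.JacChkE8p2

open Cfsg.Agent.ChevalleyStructure.JacTab
open Cfsg.Agent.ChevalleyStructure.JacDataE8

theorem chk_135 : chkP rows 135 = true := by decide +kernel
theorem chk_104 : chkP rows 104 = true := by decide +kernel
theorem chk_130 : chkP rows 130 = true := by decide +kernel
theorem chk_109 : chkP rows 109 = true := by decide +kernel

end Cfsg.Agent.ChevalleyStructure.JacChkE8p2
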