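import Cfsg.Agent.ChevalleyStructure.JacDataE8

/-!
Kernel check of the Jacobi identity for type E8, part 3.
-/

set_option autoImplicit false
set_option maxRecDepth 100000

namespace Cfsg.Agent.ChevalleyStructure.JacChkE8p3

open Cfsg.Agent.ChevalleyStructure.JacTab
open Cfsg.Agent.ChevalleyStructure.JacDataE8

theorem chk_126 : chkP rows 126 = true := by decide +kernel
theorem chk_113 : chkP rows 113 = true := by decide +kernel
theorem chk_123 : chkP rows 123 = true := by decide +kernel
theorem chk_116 : chkP rows 116 = true := by decide +kernel

end Cfsg.Agent.ChevalleyStructure.JacChkE8p3
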