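import Cfsg.Agent.ChevalleyStructure.JacDataE8

/-!
Kernel check of the Jacobi identity for type E8, part 4.
-/

set_option autoImplicit false
set_option maxRecDepth 100000

namespace Cfsg.Agent.ChevalleyStructure.JacChkE8p4

open Cfsg.Agent.ChevalleyStructure.JacTab
open Cfsg.Agent.ChevalleyStructure.JacDataE8

theorem chk_121 : chkP rows 121 = true := by decide +kernel
theorem chk_118 : chkP rows 118 = true := by decide +kernel
theorem chk_120 : chkP rows 120 = true := by decide +kernel
theorem chk_119 : chkP rows 119 = true := by decide +kernel

end Cfsg.Agent.ChevalleyStructure.JacChkE8p4
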