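import Cfsg.Agent.ChevalleyStructure.JacMain
import Cfsg.Agent.ChevalleyStructure.Good
import Cfsg.Agent.ChevalleyStructure.JacChkE8p1
import Cfsg.Agent.ChevalleyStructure.JacChkE8p2
import Cfsg.Agent.ChevalleyStructure.JacChkE8p3
import Cfsg.Agent.ChevalleyStructure.JacChkE8p4
import Cfsg.Prelude.Def_ChevE8

/-!
The Jacobi identity for type E8.
-/

set_option autoImplicit false
set_option maxRecDepth 100000

namespace Cfsg.Agent.ChevalleyStructure.JacE8

open Cfsg.Lie
open Cfsg.Agent.ChevalleyStructure.JacTab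
open Cfsg.Agent.ChevalleyStructure.JacDataE8
open Cfsg.Agent.ChevalleyStructure.JacMain
open Cfsg.Agent.ChevalleyStructure.JacBridge
open Cfsg.Agent.ChevalleyStructure.Columns
open Cfsg.Agent.ChevalleyStructure.LieAbs

theorem bridge_ok : bridge chevE8 Rs Hs = true := by decide +kernel

theorem anti_ok : antiAll rows rows 0 = true := by decide +kernel

theorem gen_ok : genAll rows gen (maskOf ps) (2 ^ 248 - 1) = true := by decide +kernel

theorem lt_ok : ltAll 248 gen = true := by decide +kernel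

theorem chk_ok : ∀ p ∈ ps, p < chevE8.nroots ∧ chkP (Rs ++ Hs) p = true := by
  intro p hp
  simp only [ps, List.mem_cons, List.not_mem_nil, or_false] at hp
  rcases hp with rfl | rfl | rfl | rfl | rfl | rfl | rfl | rfl | rfl | rfl | rfl | rfl | rfl | rfl | rfl | rfl
  · exact ⟨by decide, JacChkE8p1.chk_162⟩
  · exact ⟨by decide, JacChkE8p1.chk_77⟩
  · exact ⟨by decide, JacChkE8p1.chk_141⟩
  · exact ⟨by decide, JacChkE8p1.chk_98⟩
  · exact ⟨by decide, JacChkE8p2.chk_135⟩
  · exact ⟨by decide, JacChkE8p2.chk_104⟩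
  · exact ⟨by decide, JacChkE8p2.chk_130⟩
  · exact ⟨by decide, JacChkE8p2.chk_109⟩
  · exact ⟨by decide, JacChkE8p3.chk_126⟩
  · exact ⟨by decide, JacChkE8p3.chk_113⟩
  · exact ⟨by decide, JacChkE8p3.chk_123⟩
  · exact ⟨by decide, JacChkE8p3.chk_116⟩
  · exact ⟨by decide, JacChkE8p4.chk_121⟩
  · exact ⟨by decide, JacChkE8p4.chk_118⟩
  · exact ⟨by decide, JacChkE8p4.chk_120⟩
  · exact ⟨by decide, JacChkE8p4.chk_119⟩

/-- **The Jacobi identity for type E8.** -/
theorem jac (x : chevE8.Idx → ℤ) : Jac (adA chevE8) x :=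
  jac_of_checks chevE8 Rs Hs
    (fun r hr => (Cfsg.Agent.ChevalleyStructure.Good.goodAt_of_mem chevE8 (by simp) r hr).neg_ne)
    (fun r hr => (Cfsg.Agent.ChevalleyStructure.Good.goodAt_of_mem chevE8 (by simp) r hr).sorted)
    bridge_ok anti_ok ps chk_ok gen lt_ok gen_ok x

end Cfsg.Agent.ChevalleyStructure.JacE8
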