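import Cfsg.Agent.ChevalleyStructure.JacDataF4

/-!
Kernel check of the Jacobi identity for type F4.
-/

set_option autoImplicit false
set_option maxRecDepth 100000

namespace Cfsg.Agent.ChevalleyStructure.JacChkF4

open Cfsg.Agent.ChevalleyStructure.JacTab
open Cfsg.Agent.ChevalleyStructure.JacDataF4

theorem chk_33 : chkP rows 33 = true := by decide +kernel
theorem chk_14 : chkP rows 14 = true := by decide +kernel
theorem chk_27 : chkP rows 27 = true := by decide +kernel
theorem chk_20 : chkP rows 20 = true := by decide +kernel
theorem chk_25 : chkP rows 25 = true := by decide +kernel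
theorem chk_22 : chkP rows 22 = true := by decide +kernel
theorem chk_24 : chkP rows 24 = true := by decide +kernel
theorem chk_23 : chkP rows 23 = true := by decide +kernel

end Cfsg.Agent.ChevalleyStructure.JacChkF4
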