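import Cfsg.Agent.ChevalleyStructure.JacMain
import Cfsg.Agent.ChevalleyStructure.Good
import Cfsg.Agent.ChevalleyStructure.JacChkF4
import Cfsg.Prelude.Def_ChevF4

/-!
The Jacobi identity for type F4.
-/

set_option autoImplicit false
set_option maxRecDepth 100000

namespace Cfsg.Agent.ChevalleyStructure.JacF4

open Cfsg.Lie
open Cfsg.Agent.ChevalleyStructure.JacTab
open Cfsg.Agent.ChevalleyStructure.JacDataF4
open Cfsg.Agent.ChevalleyStructure.JacMain
open Cfsg.Agent.ChevalleyStructure.JacBridge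
open Cfsg.Agent.ChevalleyStructure.Columns
open Cfsg.Agent.ChevalleyStructure.LieAbs

theorem bridge_ok : bridge chevF4 Rs Hs = true := by decide +kernel

theorem anti_ok : antiAll rows rows 0 = true := by decide +kernel

theorem gen_ok : genAll rows gen (maskOf ps) (2 ^ 52 - 1) = true := by decide +kernel

theorem lt_ok : ltAll 52 gen = true := by decide +kernel

theorem chk_ok : ∀ p ∈ ps, p < chevF4.nroots ∧ chkP (Rs ++ Hs) p = true := by
  intro p hp
  simp only [ps, List.mem_cons, List.not_mem_nil, or_false] at hp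
  rcases hp with rfl | rfl | rfl | rfl | rfl | rfl | rfl | rfl
  · exact ⟨by decide, JacChkF4.chk_33⟩
  · exact ⟨by decide, JacChkF4.chk_14⟩
  · exact ⟨by decide, JacChkF4.chk_27⟩
  · exact ⟨by decide, JacChkF4.chk_20⟩
  · exact ⟨by decide, JacChkF4.chk_25⟩
  · exact ⟨by decide, JacChkF4.chk_22⟩
  · exact ⟨by decide, JacChkF4.chk_24⟩
  · exact ⟨by decide, JacChkF4.chk_23⟩

/-- **The Jacobi identity for type F4.** -/
theorem jac (x : chevF4.Idx → ℤ) : Jac (adA chevF4) x :=
  jac_of_checks chevF4 Rs Hs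
    (fun r hr => (Cfsg.Agent.ChevalleyStructure.Good.goodAt_of_mem chevF4 (by simp) r hr).neg_ne)
    (fun r hr => (Cfsg.Agent.ChevalleyStructure.Good.goodAt_of_mem chevF4 (by simp) r hr).sorted)
    bridge_ok anti_ok ps chk_ok gen lt_ok gen_ok x

end Cfsg.Agent.ChevalleyStructure.JacF4
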