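import Cfsg.Agent.ChevalleyStructure.JacMain

/-!
The root elements `x_r(t)` are automorphisms of the Lie algebra of the tables, over every commutative ring,
provided the Jacobi identity holds for the adjoint matrices (see `JacAll`) and `x_r` is additive in
characteristic zero.
-/

set_option autoImplicit false
set_option linter.unusedSectionVars false

namespace Cfsg.Agent.ChevalleyStructure.LieAut

open Matrix
open Cfsg.Lie
open Cfsg.Agent.ChevalleyStructure.LieAbs
open Cfsg.Agent.ChevalleyStructure.Ring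
open Cfsg.Agent.ChevalleyStructure.JacMain

/-- the adjoint family over a commutative ring -/
noncomputable def adR (D : ChevalleyDatum) (R : Type*) [CommRing R] (j : D.Idx) : Matrix D.Idx D.Idx R :=
  (adA D j).map (Int.castRingHom R)

theorem adR_def (D : ChevalleyDatum) (R : Type*) [CommRing R] (j : D.Idx) :
    adR D R j = (adA D j).map (Int.castRingHom R) := rfl

theorem adR_map (D : ChevalleyDatum) {R S : Type*} [CommRing R] [CommRing S] (f : R →+* S) (j : D.Idx) :
    (adR D R j).map f = adR D S j := by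
  ext a b
  simp [adR]

theorem adR_inr (D : ChevalleyDatum) (K : Type*) [Field K] (s : Fin D.nroots) :
    adR D K (Sum.inr s) = adK D K s.val := rfl

/-- the Jacobi identity over every commutative ring -/
theorem jacR (D : ChevalleyDatum) (hJ : ∀ x, Jac (adA D) x) (R : Type*) [CommRing R] (x : D.Idx → R) :
    Jac (adR D R) x := Jac.map (Int.castRingHom R) hJ x

theorem aut_char_zero (D : ChevalleyDatum) (hJ : ∀ x, Jac (adA D) x) (r : ℕ)
    (hadd : ∀ (K : Type) [Field K] [CharZero K] (t u : K), xR D K r t * xR D K r u = xR D K r (t + u))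
    (K : Type*) [Field K] [CharZero K] (t : K) (v : D.Idx → K) :
    xR D K r t * adv (adR D K) v = adv (adR D K) (xR D K r t *ᵥ v) * xR D K r t := by
  by_cases hr : r < D.nroots
  · obtain ⟨hn, he⟩ := xR_eq_exp D r hadd t
    rw [he]
    obtain ⟨m, hm⟩ := hn
    refine exp_mul_adv (adR D K) (t • adK D K r) ⟨m, by rw [smul_pow, hm, smul_zero]⟩ ?_ v
    intro y
    have h1 := jacR D hJ K (Pi.single (Sum.inr ⟨r, hr⟩) t) y
    rw [adv_single] at h1
    exact h1
  · have h1 : xR D K r t = 1 := by unfold xR; rw [dif_neg hr]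
    rw [h1, one_mul, Matrix.one_mulVec, mul_one]

theorem mul_adv_of_basis (D : ChevalleyDatum) {R : Type*} [CommRing R] (g : Matrix D.Idx D.Idx R)
    (h : ∀ j, g * adR D R j = adv (adR D R) (g *ᵥ Pi.single j 1) * g) (v : D.Idx → R) :
    g * adv (adR D R) v = adv (adR D R) (g *ᵥ v) * g := by
  have hv : v = ∑ j, v j • (Pi.single j (1 : R) : D.Idx → R) := by
    ext k
    simp [Finset.sum_apply, Pi.single_apply]
  have e1 : adv (adR D R) (g *ᵥ v) = ∑ j, v j • adv (adR D R) (g *ᵥ Pi.single j 1) := by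
    have : (advLin (adR D R) ∘ₗ Matrix.mulVecLin g) v
        = ∑ j, v j • (advLin (adR D R) ∘ₗ Matrix.mulVecLin g) (Pi.single j 1) := by
      conv_lhs => rw [hv]
      rw [map_sum]
      exact Finset.sum_congr rfl fun j _ => map_smul _ _ _
    simpa using this
  rw [e1, Finset.sum_mul]
  have e2 : adv (adR D R) v = ∑ j, v j • adR D R j := rfl
  rw [e2, Finset.mul_sum]
  refine Finset.sum_congr rfl fun j _ => ?_
  rw [Matrix.mul_smul, Matrix.smul_mul, h j]

open Polynomial in
/-- **`x_r(t)` is an automorphism of the Lie algebra**, over every commutative ring. -/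
theorem xR_mul_adv (D : ChevalleyDatum) (hJ : ∀ x, Jac (adA D) x) (r : ℕ)
    (hadd : ∀ (K : Type) [Field K] [CharZero K] (t u : K), xR D K r t * xR D K r u = xR D K r (t + u))
    (R : Type*) [CommRing R] (t : R) (v : D.Idx → R) :
    xR D R r t * adv (adR D R) v = adv (adR D R) (xR D R r t *ᵥ v) * xR D R r t := by
  refine mul_adv_of_basis D _ (fun j => ?_) v
  let K := FractionRing ℤ[X]
  have hinj : Function.Injective (algebraMap ℤ[X] K) := IsFractionRing.injective _ _
  have : CharZero K := charZero_of_injective_algebraMap (R := ℤ[X]) hinj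
  -- the identity over `ℤ[X]`
  have h1 : xR D ℤ[X] r X * adR D ℤ[X] j =
      adv (adR D ℤ[X]) (xR D ℤ[X] r X *ᵥ Pi.single j 1) * xR D ℤ[X] r X := by
    apply Matrix.map_injective hinj
    show (xR D ℤ[X] r X * adR D ℤ[X] j).map (algebraMap ℤ[X] K) =
      (adv (adR D ℤ[X]) (xR D ℤ[X] r X *ᵥ Pi.single j 1) * xR D ℤ[X] r X).map (algebraMap ℤ[X] K)
    rw [Matrix.map_mul, Matrix.map_mul, adv_map, xR_map, adR_map]
    have h2 := aut_char_zero D hJ r hadd K (algebraMap ℤ[X] K X) (Pi.single j 1)
    rw [adv_single_one] at h2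
    rw [h2]
    congr 1
    have e1 : (fun k => (adR D ℤ[X] k).map (algebraMap ℤ[X] K)) = adR D K := by
      funext k; exact adR_map D _ k
    rw [e1]
    congr 1
    ext k
    rw [← xR_map]
    simp
  obtain ⟨f, hf⟩ : ∃ f : ℤ[X] →+* R, f X = t := ⟨eval₂RingHom (Int.castRingHom R) t, by simp⟩
  have h3 : (xR D ℤ[X] r X * adR D ℤ[X] j).map f =
      (adv (adR D ℤ[X]) (xR D ℤ[X] r X *ᵥ Pi.single j 1) * xR D ℤ[X] r X).map f := by rw [h1]
  rw [Matrix.map_mul, Matrix.map_mul, adv_map, xR_map, adR_map, hf] at h3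
  rw [h3]
  congr 1
  have e1 : (fun k => (adR D ℤ[X] k).map f) = adR D R := by
    funext k; exact adR_map D _ k
  rw [e1]
  congr 1
  ext k
  rw [← hf, ← xR_map]
  simp

end Cfsg.Agent.ChevalleyStructure.LieAut
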