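import Cfsg.Agent.S1023
import Cfsg.Agent.ChevalleyStructure.LieAut
import Cfsg.Agent.ChevalleyStructure.JacG2
import Cfsg.Agent.ChevalleyStructure.JacB2
import Cfsg.Agent.ChevalleyStructure.JacD4
import Cfsg.Agent.ChevalleyStructure.JacF4
import Cfsg.Agent.ChevalleyStructure.JacE6
import Cfsg.Agent.ChevalleyStructure.JacE7
import Cfsg.Agent.ChevalleyStructure.JacE8

/-!
The Jacobi identity for the Lie algebras of the tables of the seven types, and: the root elements `x_r(t)` are
automorphisms of these Lie algebras over every field.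
-/

set_option autoImplicit false

namespace Cfsg.Agent.ChevalleyStructure.JacAll

open Matrix
open Cfsg.Lie
open Cfsg.Agent.ChevalleyStructure.LieAbs
open Cfsg.Agent.ChevalleyStructure.Ring
open Cfsg.Agent.ChevalleyStructure.JacMain
open Cfsg.Agent.ChevalleyStructure.LieAut

/-- **The Jacobi identity**: `ad [x, y] = [ad x, ad y]` for the adjoint matrices read off the tables. -/
theorem jac_all (D : ChevalleyDatum)
    (hD : D ∈ [chevG2, chevB2, chevD4, chevF4, chevE6, chevE7, chevE8]) (x : D.Idx → ℤ) : Jac (adA D) x := by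
  simp only [List.mem_cons, List.not_mem_nil, or_false] at hD
  rcases hD with rfl | rfl | rfl | rfl | rfl | rfl | rfl
  · exact JacG2.jac x
  · exact JacB2.jac x
  · exact JacD4.jac x
  · exact JacF4.jac x
  · exact JacE6.jac x
  · exact JacE7.jac x
  · exact JacE8.jac x

/-- additivity in characteristic zero, as needed by `Ring` and `LieAut` -/
theorem xR_add_field (D : ChevalleyDatum)
    (hD : D ∈ [chevG2, chevB2, chevD4, chevF4, chevE6, chevE7, chevE8]) (r : ℕ)
    (K : Type*) [Field K] (t u : K) : xR D K r t * xR D K r u = xR D K r (t + u) := by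
  by_cases hr : r < D.nroots
  · exact S1023.result D hD r hr t u
  · have h1 : ∀ t : K, xR D K r t = 1 := fun t => by unfold xR; rw [dif_neg hr]
    rw [h1, h1, h1, mul_one]

/-- the Jacobi identity over every commutative ring -/
theorem jacR_all (D : ChevalleyDatum)
    (hD : D ∈ [chevG2, chevB2, chevD4, chevF4, chevE6, chevE7, chevE8]) (R : Type*) [CommRing R]
    (x : D.Idx → R) : Jac (adR D R) x := jacR D (jac_all D hD) R x

/-- **`x_r(t)` is an automorphism of the Lie algebra** over every commutative ring. -/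
theorem xR_mul_adv_all (D : ChevalleyDatum)
    (hD : D ∈ [chevG2, chevB2, chevD4, chevF4, chevE6, chevE7, chevE8]) (r : ℕ)
    (R : Type*) [CommRing R] (t : R) (v : D.Idx → R) :
    xR D R r t * adv (adR D R) v = adv (adR D R) (xR D R r t *ᵥ v) * xR D R r t :=
  xR_mul_adv D (jac_all D hD) r (fun K _ _ t u => xR_add_field D hD r K t u) R t v

/-- **`x_r(t)` is an automorphism of the Lie algebra** over every field. -/
theorem x_mul_adv (D : ChevalleyDatum)
    (hD : D ∈ [chevG2, chevB2, chevD4, chevF4, chevE6, chevE7, chevE8]) (r : ℕ)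
    (F : Type*) [Field F] (t : F) (v : D.Idx → F) :
    D.x F r t * adv (adR D F) v = adv (adR D F) (D.x F r t *ᵥ v) * D.x F r t :=
  xR_mul_adv_all D hD r F t v

/-- products of root elements are automorphisms of the Lie algebra -/
theorem wordMat_mul_adv (D : ChevalleyDatum)
    (hD : D ∈ [chevG2, chevB2, chevD4, chevF4, chevE6, chevE7, chevE8])
    (F : Type*) [Field F] (w : List (ℕ × F)) (v : D.Idx → F) :
    D.wordMat F w * adv (adR D F) v = adv (adR D F) (D.wordMat F w *ᵥ v) * D.wordMat F w := by
  induction w generalizing v with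
  | nil =>
    have h : D.wordMat F [] = 1 := rfl
    rw [h, one_mul, mul_one, Matrix.one_mulVec]
  | cons p w ih =>
    have h : D.wordMat F (p :: w) = D.x F p.1 p.2 * D.wordMat F w := by
      simp [ChevalleyDatum.wordMat]
    rw [h, mul_assoc, ih, ← mul_assoc, x_mul_adv D hD, mul_assoc, Matrix.mulVec_mulVec]

/-- every element of the Chevalley group is an automorphism of the Lie algebra -/
theorem group_mul_adv (D : ChevalleyDatum)
    (hD : D ∈ [chevG2, chevB2, chevD4, chevF4, chevE6, chevE7, chevE8])
    (F : Type*) [Field F] (g : GL D.Idx F) (hg : g ∈ D.group F) (v : D.Idx → F) :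
    (g : Matrix D.Idx D.Idx F) * adv (adR D F) v =
      adv (adR D F) ((g : Matrix D.Idx D.Idx F) *ᵥ v) * (g : Matrix D.Idx D.Idx F) := by
  unfold ChevalleyDatum.group at hg
  induction hg using Subgroup.closure_induction generalizing v with
  | mem g hg =>
    obtain ⟨r, t, h⟩ := hg
    have h2 : D.x F r.val t = D.xMat F r t := by
      unfold ChevalleyDatum.x
      rw [dif_pos r.isLt]
    rw [h, ← h2]
    exact x_mul_adv D hD r.val F t v
  | one => simp
  | mul g g' _ _ ih ih' =>
    rw [Units.val_mul, mul_assoc, ih', ← mul_assoc, ih, mul_assoc, Matrix.mulVec_mulVec]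
  | inv g _ ih =>
    have h1 := ih (((g⁻¹ : GL D.Idx F) : Matrix D.Idx D.Idx F) *ᵥ v)
    rw [Matrix.mulVec_mulVec, ← Units.val_mul, mul_inv_cancel, Units.val_one, Matrix.one_mulVec] at h1
    calc ((g⁻¹ : GL D.Idx F) : Matrix D.Idx D.Idx F) * adv (adR D F) v
        = ((g⁻¹ : GL D.Idx F) : Matrix D.Idx D.Idx F) * (adv (adR D F) v * (g : Matrix D.Idx D.Idx F)) *
          ((g⁻¹ : GL D.Idx F) : Matrix D.Idx D.Idx F) := by
          rw [mul_assoc, mul_assoc, ← Units.val_mul, mul_inv_cancel, Units.val_one, mul_one]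
      _ = ((g⁻¹ : GL D.Idx F) : Matrix D.Idx D.Idx F) * ((g : Matrix D.Idx D.Idx F) *
          adv (adR D F) (((g⁻¹ : GL D.Idx F) : Matrix D.Idx D.Idx F) *ᵥ v)) *
          ((g⁻¹ : GL D.Idx F) : Matrix D.Idx D.Idx F) := by rw [h1]
      _ = _ := by rw [← mul_assoc, ← Units.val_mul, inv_mul_cancel, Units.val_one, one_mul]

end Cfsg.Agent.ChevalleyStructure.JacAll
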