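import Cfsg.Prelude.Def_ChevWords

/-!
Root elements of a Chevalley datum over an arbitrary commutative ring, naturality in the ring, transfer of word
identities (prove an identity over the fraction field of a polynomial ring over ℤ, get it over every commutative
ring), and the integer coefficient matrices `coefE D r k` with `x_r(t) = ∑ t^k E_r^(k)`.

Main statements (`D` an arbitrary datum, no hypothesis on `D`):
* `x_eq_xR : D.x F r t = xR D F r t` (by `rfl`), `wordMat_eq_wordR : D.wordMat F w = wordR D F w`
* `xR_map`, `wordR_map` : naturality under ring homs; `xR_zero : xR D R r 0 = 1`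
* `wordR_transfer`, `wordMat_transfer₁`, `wordMat_transfer₂`
* `coefE`, `xR_eq_sum`, `coefE_zero`, entry formulas, `coefE_mul`
* `xR_eq_exp`
-/

set_option autoImplicit false

namespace Cfsg.Agent.ChevalleyStructure.Ring

open Cfsg.Lie Matrix

variable (D : ChevalleyDatum)

/-- `x_r(t)` over a commutative ring: the formula of `ChevalleyDatum.xMat`. -/
def xMatR (R : Type*) [CommRing R] (r : Fin D.nroots) (t : R) : Matrix D.Idx D.Idx R :=
  Matrix.of fun row col =>
    match col with
    | Sum.inl i =>
      (match row with
       | Sum.inl i' => if i' = i then 1 else 0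
       | Sum.inr u => if u = r then - (((D.cartanSR.getD i.val #[]).getD r.val 0 : ℤ) : R) * t else 0)
    | Sum.inr s =>
      if s = r then (match row with | Sum.inr u => if u = r then 1 else 0 | Sum.inl _ => 0)
      else if s.val = D.negIdx.getD r.val 0 then
        (match row with
         | Sum.inl i => (((D.coroot.getD r.val #[]).getD i.val 0 : ℤ) : R) * t
         | Sum.inr u => if u = s then 1 else if u = r then -(t ^ 2) else 0)
      else
        (match row with
         | Sum.inl _ => 0
         | Sum.inr u => (if u = s then 1 else 0) +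
             ((D.chainCoeff r.val s.val u.val).map fun km => ((km.2 : ℤ) : R) * t ^ km.1).sum)

/-- `x_r(t)` over a commutative ring, root index a natural number (identity out of range). -/
def xR (R : Type*) [CommRing R] (r : ℕ) (t : R) : Matrix D.Idx D.Idx R :=
  if h : r < D.nroots then xMatR D R ⟨r, h⟩ t else 1

/-- Product of a word of root elements over a commutative ring. -/
def wordR (R : Type*) [CommRing R] (w : List (ℕ × R)) : Matrix D.Idx D.Idx R :=
  (w.map fun p => xR D R p.1 p.2).prod

theorem xMat_eq_xMatR (F : Type*) [Field F] (r : Fin D.nroots) (t : F) : D.xMat F r t = xMatR D F r t := rfl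

theorem x_eq_xR (F : Type*) [Field F] (r : ℕ) (t : F) : D.x F r t = xR D F r t := rfl

theorem wordMat_eq_wordR (F : Type*) [Field F] (w : List (ℕ × F)) : D.wordMat F w = wordR D F w := rfl

section Map

variable {R S : Type*} [CommRing R] [CommRing S]

theorem xMatR_map (f : R →+* S) (r : Fin D.nroots) (t : R) :
    (xMatR D R r t).map f = xMatR D S r (f t) := by
  ext row col
  rcases row with i' | u <;> rcases col with i | s
  · show f (if i' = i then 1 else 0) = (if i' = i then 1 else 0)
    split <;> simp
  · simp only [Matrix.map_apply, xMatR, Matrix.of_apply]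
    split_ifs <;> simp
  · simp only [Matrix.map_apply, xMatR, Matrix.of_apply]
    split_ifs <;> simp
  · simp only [Matrix.map_apply, xMatR, Matrix.of_apply]
    split_ifs <;> simp [map_list_sum, Function.comp_def]

theorem xR_map (f : R →+* S) (r : ℕ) (t : R) : (xR D R r t).map f = xR D S r (f t) := by
  unfold xR
  split_ifs with h
  · exact xMatR_map D f ⟨r, h⟩ t
  · exact Matrix.map_one f (map_zero f) (map_one f)

theorem wordR_map (f : R →+* S) (w : List (ℕ × R)) :
    (wordR D R w).map f = wordR D S (w.map fun p => (p.1, f p.2)) := by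
  unfold wordR
  induction w with
  | nil => exact Matrix.map_one f (map_zero f) (map_one f)
  | cons p w ih =>
    simp only [List.map_cons, List.prod_cons]
    rw [Matrix.map_mul, xR_map, ih]

theorem wordR_nil : wordR D R [] = 1 := rfl

theorem wordR_cons (p : ℕ × R) (w : List (ℕ × R)) : wordR D R (p :: w) = xR D R p.1 p.2 * wordR D R w := by
  simp [wordR]

theorem wordR_append (w w' : List (ℕ × R)) : wordR D R (w ++ w') = wordR D R w * wordR D R w' := by
  simp [wordR]

theorem xMatR_zero (r : Fin D.nroots) : xMatR D R r 0 = 1 := by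
  have hc : ∀ (l : List (ℕ × ℤ)), (∀ km ∈ l, km.1 ≠ 0) →
      (l.map fun km => ((km.2 : ℤ) : R) * (0 : R) ^ km.1).sum = 0 := by
    intro l hl
    apply List.sum_eq_zero
    intro x hx
    obtain ⟨km, hkm, rfl⟩ := List.mem_map.mp hx
    rw [zero_pow (hl km hkm), mul_zero]
  have hpos : ∀ r s u : ℕ, ∀ km ∈ D.chainCoeff r s u, km.1 ≠ 0 := by
    intro r s u km hkm
    simp only [ChevalleyDatum.chainCoeff, List.mem_flatMap, List.mem_map] at hkm
    obtain ⟨e, -, q, -, rfl⟩ := hkm
    exact Nat.succ_ne_zero _
  ext row col
  rcases row with i' | u <;> rcases col with i | s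
  · simp [xMatR, Matrix.one_apply]
  · simp only [xMatR, Matrix.of_apply, Matrix.one_apply]
    split_ifs <;> simp_all
  · simp only [xMatR, Matrix.of_apply, Matrix.one_apply]
    split_ifs <;> simp_all
  · simp only [xMatR, Matrix.of_apply, Matrix.one_apply, hc _ (hpos _ _ _), add_zero,
      Sum.inr.injEq]
    split_ifs <;> simp_all

theorem xR_zero (r : ℕ) : xR D R r 0 = 1 := by
  unfold xR
  split_ifs with h
  · exact xMatR_zero D ⟨r, h⟩
  · rfl

/-- Transfer of a word identity: prove it after an injective ring hom `i : P → K` (typically `P` a polynomial or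
Laurent polynomial ring over `ℤ` and `K` its fraction field); then it holds after every ring hom `f : P → R`. -/
theorem wordR_transfer {P K : Type*} [CommRing P] [CommRing K] (i : P →+* K) (hi : Function.Injective i)
    (w₁ w₂ : List (ℕ × P))
    (h : wordR D K (w₁.map fun p => (p.1, i p.2)) = wordR D K (w₂.map fun p => (p.1, i p.2)))
    (f : P →+* R) :
    wordR D R (w₁.map fun p => (p.1, f p.2)) = wordR D R (w₂.map fun p => (p.1, f p.2)) := by
  have h1 : wordR D P w₁ = wordR D P w₂ := by
    rw [← wordR_map, ← wordR_map] at h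
    exact Matrix.map_injective hi h
  rw [← wordR_map, ← wordR_map, h1]

end Map

section Transfer

/-- A word identity in one variable that holds over all fields of characteristic zero (in `Type`) holds over every
commutative ring. -/
theorem wordR_transfer₁ (w₁ w₂ : List (ℕ × Polynomial ℤ))
    (h : ∀ (K : Type) [Field K] [CharZero K] (t : K),
      wordR D K (w₁.map fun p => (p.1, p.2.eval₂ (Int.castRingHom K) t))
        = wordR D K (w₂.map fun p => (p.1, p.2.eval₂ (Int.castRingHom K) t)))
    (R : Type*) [CommRing R] (t : R) :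
    wordR D R (w₁.map fun p => (p.1, p.2.eval₂ (Int.castRingHom R) t))
      = wordR D R (w₂.map fun p => (p.1, p.2.eval₂ (Int.castRingHom R) t)) := by
  let K := FractionRing (Polynomial ℤ)
  have hinj : Function.Injective (algebraMap (Polynomial ℤ) K) := IsFractionRing.injective _ _
  have : CharZero K := charZero_of_injective_algebraMap (R := Polynomial ℤ) hinj
  have key := h K (algebraMap (Polynomial ℤ) K Polynomial.X)
  have e : ∀ q : Polynomial ℤ, q.eval₂ (Int.castRingHom K) (algebraMap (Polynomial ℤ) K Polynomial.X)
      = algebraMap (Polynomial ℤ) K q := by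
    intro q
    have : (Polynomial.eval₂RingHom (Int.castRingHom K) (algebraMap (Polynomial ℤ) K Polynomial.X))
        = algebraMap (Polynomial ℤ) K := by
      apply Polynomial.ringHom_ext
      · intro a; simp
      · simp
    exact congrArg (fun g : Polynomial ℤ →+* K => g q) this
  simp only [e] at key
  exact wordR_transfer D (algebraMap (Polynomial ℤ) K) hinj w₁ w₂ key
    (Polynomial.eval₂RingHom (Int.castRingHom R) t)

/-- A word identity in finitely many variables that holds over all fields of characteristic zero (in `Type`) holds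
over every commutative ring. -/
theorem wordR_transfer_mv {σ : Type} (w₁ w₂ : List (ℕ × MvPolynomial σ ℤ))
    (h : ∀ (K : Type) [Field K] [CharZero K] (t : σ → K),
      wordR D K (w₁.map fun p => (p.1, MvPolynomial.eval₂ (Int.castRingHom K) t p.2))
        = wordR D K (w₂.map fun p => (p.1, MvPolynomial.eval₂ (Int.castRingHom K) t p.2)))
    (R : Type*) [CommRing R] (t : σ → R) :
    wordR D R (w₁.map fun p => (p.1, MvPolynomial.eval₂ (Int.castRingHom R) t p.2))
      = wordR D R (w₂.map fun p => (p.1, MvPolynomial.eval₂ (Int.castRingHom R) t p.2)) := by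
  let P := MvPolynomial σ ℤ
  let K := FractionRing P
  have hinj : Function.Injective (algebraMap P K) := IsFractionRing.injective _ _
  have : CharZero K := charZero_of_injective_algebraMap (R := P) hinj
  have key := h K (fun s => algebraMap P K (MvPolynomial.X s))
  have e : ∀ q : P, MvPolynomial.eval₂ (Int.castRingHom K) (fun s => algebraMap P K (MvPolynomial.X s)) q
      = algebraMap P K q := by
    intro q
    have : (MvPolynomial.eval₂Hom (Int.castRingHom K) (fun s => algebraMap P K (MvPolynomial.X s)))
        = algebraMap P K := by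
      apply MvPolynomial.ringHom_ext
      · intro a; simp
      · intro i; simp
    exact congrArg (fun g : P →+* K => g q) this
  simp only [e] at key
  exact wordR_transfer D (algebraMap P K) hinj w₁ w₂ key (MvPolynomial.eval₂Hom (Int.castRingHom R) t)

end Transfer

section Coef

open Polynomial

/-- The integer matrix `E_r^(k)`: coefficient of `t^k` in `x_r(t)`. -/
noncomputable def coefE (r k : ℕ) : Matrix D.Idx D.Idx ℤ :=
  (xR D ℤ[X] r X).map fun q => q.coeff k

theorem coefE_apply (r k : ℕ) (i j : D.Idx) : coefE D r k i j = (xR D ℤ[X] r X i j).coeff k := rfl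

theorem xR_apply_eq_eval₂ {R : Type*} [CommRing R] (r : ℕ) (t : R) (i j : D.Idx) :
    xR D R r t i j = (xR D ℤ[X] r X i j).eval₂ (Int.castRingHom R) t := by
  have := xR_map D (eval₂RingHom (Int.castRingHom R) t) r X
  rw [coe_eval₂RingHom, eval₂_X] at this
  rw [← this]
  rfl

/-- `x_r(t) = ∑_{k < m} t^k E_r^(k)` as soon as all entries have degree `< m`. -/
theorem xR_eq_sum {R : Type*} [CommRing R] (r : ℕ) (t : R) (m : ℕ)
    (hm : ∀ i j, (xR D ℤ[X] r X i j).natDegree < m) :
    xR D R r t = ∑ k ∈ Finset.range m, t ^ k • (coefE D r k).map (Int.castRingHom R) := by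
  ext i j
  rw [xR_apply_eq_eval₂, eval₂_eq_sum_range' _ (hm i j), Matrix.sum_apply]
  refine Finset.sum_congr rfl fun k _ => ?_
  simp [coefE_apply, mul_comm]

theorem exists_degree_bound (r : ℕ) : ∃ m, ∀ i j, (xR D ℤ[X] r X i j).natDegree < m := by
  refine ⟨(Finset.univ.sup fun i => Finset.univ.sup fun j => (xR D ℤ[X] r X i j).natDegree) + 1, fun i j => ?_⟩
  refine Nat.lt_succ_of_le ?_
  exact le_trans (Finset.le_sup (f := fun j => (xR D ℤ[X] r X i j).natDegree) (Finset.mem_univ j))
    (Finset.le_sup (f := fun i => Finset.univ.sup fun j => (xR D ℤ[X] r X i j).natDegree) (Finset.mem_univ i))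

theorem coefE_eq_zero_of_le (r : ℕ) {m : ℕ} (hm : ∀ i j, (xR D ℤ[X] r X i j).natDegree < m) {k : ℕ} (hk : m ≤ k) :
    coefE D r k = 0 := by
  ext i j
  exact coeff_eq_zero_of_natDegree_lt (lt_of_lt_of_le (hm i j) hk)

theorem coefE_zero (r : ℕ) : coefE D r 0 = 1 := by
  have h := xR_map D (eval₂RingHom (Int.castRingHom ℤ) 0) r X
  rw [coe_eval₂RingHom, eval₂_X, xR_zero] at h
  ext i j
  have h2 := congrFun (congrFun h i) j
  rw [Matrix.map_apply] at h2
  rw [coefE_apply, coeff_zero_eq_eval_zero, ← h2]
  rfl

/-- If `x_r` is additive over all fields of characteristic zero, the coefficient matrices are divided powers. -/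
theorem coefE_mul (r : ℕ)
    (hadd : ∀ (K : Type) [Field K] [CharZero K] (t u : K), xR D K r t * xR D K r u = xR D K r (t + u)) (j k : ℕ) :
    coefE D r j * coefE D r k = (j + k).choose k • coefE D r (j + k) := by
  -- identity over `ℤ[X][X]`
  let P := Polynomial (Polynomial ℤ)
  let K := FractionRing P
  have hinj : Function.Injective (algebraMap P K) := IsFractionRing.injective _ _
  have : CharZero K := charZero_of_injective_algebraMap (R := P) hinj
  have h1 : xR D P r (C X) * xR D P r X = xR D P r (C X + X) := by
    apply Matrix.map_injective hinj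
    show (xR D P r (C X) * xR D P r X).map (algebraMap P K) = (xR D P r (C X + X)).map (algebraMap P K)
    rw [Matrix.map_mul, xR_map, xR_map, xR_map, hadd, map_add]
  obtain ⟨m, hm⟩ := exists_degree_bound D r
  have eC : xR D P r (C X) = (xR D ℤ[X] r X).map C := (xR_map D (C : ℤ[X] →+* P) r X).symm
  ext a b
  have h2 := congrFun (congrFun h1 a) b
  rw [eC, xR_eq_sum D r (X : P) m hm, xR_eq_sum D r (C X + X : P) m hm] at h2
  have h3 := congrArg (fun q : P => (q.coeff k).coeff j) h2
  simp only [Matrix.mul_apply, Matrix.sum_apply, Matrix.smul_apply, Matrix.map_apply, smul_eq_mul,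
    finsetSum_coeff, eq_intCast] at h3
  have L : ∀ x : D.Idx, ((C (xR D ℤ[X] r X a x) * ∑ c ∈ Finset.range m, X ^ c * ((coefE D r c x b : ℤ) : P)).coeff k).coeff j
      = coefE D r j a x * coefE D r k x b := by
    intro x
    rw [coeff_C_mul, finsetSum_coeff]
    have : ∀ c ∈ Finset.range m, (X ^ c * ((coefE D r c x b : ℤ) : P)).coeff k
        = if c = k then ((coefE D r c x b : ℤ) : ℤ[X]) else 0 := by
      intro c _
      rw [show ((coefE D r c x b : ℤ) : P) = C ((coefE D r c x b : ℤ) : ℤ[X]) by simp, coeff_mul_C, coeff_X_pow]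
      by_cases hck : c = k
      · subst hck; simp
      · have : ¬ k = c := fun h => hck h.symm
        simp [hck, this]
    rw [Finset.sum_congr rfl this, Finset.sum_ite_eq']
    by_cases hk : k ∈ Finset.range m
    · rw [if_pos hk, ← C_eq_intCast, coeff_mul_C]; rfl
    · rw [if_neg hk, coefE_eq_zero_of_le D r hm (k := k) (by simpa using hk)]; simp
  rw [Finset.sum_congr rfl fun x _ => L x] at h3
  rw [Matrix.mul_apply, h3]
  have Rr : ∀ c ∈ Finset.range m, (((C X + X : P) ^ c * ((coefE D r c a b : ℤ) : P)).coeff k).coeff j
      = if c = j + k then (j + k).choose k * coefE D r c a b else 0 := by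
    intro c _
    rw [show ((coefE D r c a b : ℤ) : P) = C (C (coefE D r c a b : ℤ)) by simp, coeff_mul_C, coeff_mul_C]
    rw [add_comm (C X : P) X, coeff_X_add_C_pow]
    by_cases hc : c = j + k
    · subst hc
      rw [if_pos rfl, Nat.add_sub_cancel, coeff_mul_natCast, coeff_X_pow, if_pos rfl]
      simp
    · rw [if_neg hc, coeff_mul_natCast, coeff_X_pow]
      by_cases hck : k ≤ c
      · have : ¬ j = c - k := by omega
        simp [this]
      · rw [Nat.choose_eq_zero_of_lt (by omega)]
        simp
  rw [finsetSum_coeff, finsetSum_coeff, Finset.sum_congr rfl Rr, Finset.sum_ite_eq', Matrix.smul_apply, nsmul_eq_mul]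
  by_cases hk : j + k ∈ Finset.range m
  · rw [if_pos hk]
  · rw [if_neg hk, coefE_eq_zero_of_le D r hm (by simpa using hk)]; simp

/-- Explicit entries of the coefficient matrices. -/
theorem coefE_entry (r k : ℕ) (hr : r < D.nroots) (row col : D.Idx) : coefE D r k row col =
    match col with
    | Sum.inl i =>
      (match row with
       | Sum.inl i' => if k = 0 ∧ i' = i then 1 else 0
       | Sum.inr u => if k = 1 ∧ u.val = r then - ((D.cartanSR.getD i.val #[]).getD r 0) else 0)
    | Sum.inr s =>
      if s.val = r then (match row with | Sum.inr u => if k = 0 ∧ u.val = r then 1 else 0 | Sum.inl _ => 0)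
      else if s.val = D.negIdx.getD r 0 then
        (match row with
         | Sum.inl i => if k = 1 then (D.coroot.getD r #[]).getD i.val 0 else 0
         | Sum.inr u => if u = s then (if k = 0 then 1 else 0) else if k = 2 ∧ u.val = r then -1 else 0)
      else
        (match row with
         | Sum.inl _ => 0
         | Sum.inr u => (if k = 0 ∧ u = s then 1 else 0) +
             ((D.chainCoeff r s.val u.val).map fun km => if km.1 = k then km.2 else 0).sum) := by
  have hfin : ∀ u : Fin D.nroots, (u = ⟨r, hr⟩) = (u.val = r) := fun u => by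
    rw [eq_iff_iff, Fin.ext_iff]
  have hsum : ∀ l : List (ℕ × ℤ), (l.map fun km : ℕ × ℤ => ((km.2 : ℤ) : ℤ[X]) * X ^ km.1).sum.coeff k
      = (l.map fun km : ℕ × ℤ => if km.1 = k then km.2 else 0).sum := by
    intro l
    induction l with
    | nil => simp
    | cons a l ih =>
      rw [List.map_cons, List.sum_cons, List.map_cons, List.sum_cons, coeff_add, ih, ← C_eq_intCast,
        coeff_C_mul, coeff_X_pow]
      by_cases h : a.1 = k
      · subst h; simp
      · have : ¬ k = a.1 := fun h' => h h'.symm
        simp [h, this]
  rw [coefE_apply]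
  unfold xR
  rw [dif_pos hr]
  rcases row with i' | u <;> rcases col with i | s
  · show (if i' = i then (1 : ℤ[X]) else 0).coeff k = _
    by_cases h : i' = i
    · subst h
      by_cases hk : k = 0
      · simp [hk]
      · simp [hk, coeff_one]
    · simp [h]
  · simp only [xMatR, Matrix.of_apply, hfin]
    split_ifs with h1 h2 h3 h3
    · simp
    · rw [← C_eq_intCast, coeff_C_mul, coeff_X, h3]; simp
    · rw [← C_eq_intCast, coeff_C_mul, coeff_X, if_neg (fun h => h3 h.symm)]; simp
    · simp
  · simp only [xMatR, Matrix.of_apply, hfin]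
    by_cases h1 : u.val = r
    · by_cases h2 : k = 1
      · subst h2
        simp only [h1, if_true, true_and, and_self]
        rw [← C_eq_intCast, ← C_neg, coeff_C_mul, coeff_X]
        simp
      · simp only [h1, h2, if_true, false_and, if_false]
        rw [← C_eq_intCast, ← C_neg, coeff_C_mul, coeff_X, if_neg (fun h => h2 h.symm)]
        simp
    · simp [h1]
  · simp only [xMatR, Matrix.of_apply, hfin]
    by_cases h1 : s.val = r
    · simp only [h1, if_true]
      by_cases h2 : u.val = r
      · by_cases hk : k = 0
        · simp [h2, hk]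
        · simp [h2, hk, coeff_one]
      · simp [h2]
    · simp only [h1, if_false]
      by_cases h2 : s.val = D.negIdx.getD r 0
      · simp only [h2, if_true]
        by_cases h3 : u = s
        · by_cases hk : k = 0
          · simp [h3, hk]
          · simp [h3, hk, coeff_one]
        · by_cases h4 : u.val = r
          · by_cases hk : k = 2
            · subst hk
              simp [h3, h4, coeff_X_pow]
            · have : ¬ k = 2 := hk
              simp [h3, h4, hk, coeff_X_pow]
          · simp [h3, h4]
      · simp only [h2, if_false]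
        rw [coeff_add, hsum]
        congr 1
        by_cases h3 : u = s
        · by_cases hk : k = 0
          · simp [h3, hk]
          · simp [h3, hk, coeff_one]
        · simp [h3]

/-- `k! E_r^(k) = (E_r^(1))^k`. -/
theorem coefE_pow (r : ℕ)
    (hadd : ∀ (K : Type) [Field K] [CharZero K] (t u : K), xR D K r t * xR D K r u = xR D K r (t + u)) (k : ℕ) :
    coefE D r 1 ^ k = k.factorial • coefE D r k := by
  induction k with
  | zero => simp [coefE_zero]
  | succ k ih =>
    rw [pow_succ', ih, mul_smul_comm, coefE_mul D r hadd, smul_smul, Nat.factorial_succ, add_comm 1 k,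
      show (k + 1).choose k = k + 1 from Nat.choose_succ_self_right k, mul_comm]

end Coef

section Exp

variable {K : Type*} [Field K] [CharZero K]

/-- The matrix of `ad e_r` over a field. -/
noncomputable def adK (K : Type*) [Field K] (r : ℕ) : Matrix D.Idx D.Idx K :=
  (coefE D r 1).map (Int.castRingHom K)

omit [CharZero K] in
theorem adK_pow (r : ℕ)
    (hadd : ∀ (K : Type) [Field K] [CharZero K] (t u : K), xR D K r t * xR D K r u = xR D K r (t + u)) (k : ℕ) :
    adK D K r ^ k = k.factorial • (coefE D r k).map (Int.castRingHom K) := by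
  have h := congrArg (fun M : Matrix D.Idx D.Idx ℤ => (Int.castRingHom K).mapMatrix M) (coefE_pow D r hadd k)
  simp only [map_pow, map_nsmul] at h
  exact h

/-- In characteristic zero `x_r(t) = exp(t ad e_r)`, with `ad e_r` nilpotent. -/
theorem xR_eq_exp (r : ℕ)
    (hadd : ∀ (K : Type) [Field K] [CharZero K] (t u : K), xR D K r t * xR D K r u = xR D K r (t + u)) (t : K) :
    IsNilpotent (adK D K r) ∧ xR D K r t = IsNilpotent.exp (t • adK D K r) := by
  obtain ⟨m, hm⟩ := exists_degree_bound D r
  have hpow : adK D K r ^ m = 0 := by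
    rw [adK_pow D r hadd, coefE_eq_zero_of_le D r hm le_rfl]
    ext i j
    simp
  refine ⟨⟨m, hpow⟩, ?_⟩
  have hpow' : (t • adK D K r) ^ m = 0 := by rw [smul_pow, hpow, smul_zero]
  rw [IsNilpotent.exp_eq_sum hpow', xR_eq_sum D r t m hm]
  refine Finset.sum_congr rfl fun k _ => ?_
  rw [smul_pow, adK_pow D r hadd]
  ext i j
  have hk : ((k.factorial : ℕ) : K) ≠ 0 := Nat.cast_ne_zero.mpr (Nat.factorial_ne_zero k)
  simp only [Matrix.smul_apply, smul_eq_mul, nsmul_eq_mul, Rat.smul_def]
  have e : ((((k.factorial : ℕ) : Matrix D.Idx D.Idx K) * (coefE D r k).map (Int.castRingHom K)) i j)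
      = (k.factorial : K) * (coefE D r k).map (Int.castRingHom K) i j := by
    rw [← nsmul_eq_mul, Matrix.smul_apply, nsmul_eq_mul]
  rw [e]
  push_cast
  field_simp

end Exp

end Cfsg.Agent.ChevalleyStructure.Ring
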