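import Cfsg.Agent.ChevalleyStructure.JacTab
import Cfsg.Agent.ChevalleyStructure.Columns
import Cfsg.Agent.ChevalleyStructure.Ring

/-!
Comparison of packed rows (JacTab) with the tables of a Chevalley datum.
-/

set_option autoImplicit false
set_option linter.unusedSectionVars false

namespace Cfsg.Agent.ChevalleyStructure.JacBridge

open Cfsg.Lie
open Cfsg.Agent.ChevalleyStructure.JacTab
open Cfsg.Agent.ChevalleyStructure.Columns
open Cfsg.Agent.ChevalleyStructure.LieAbs

/-- the field is zero -/
def zOK (R : Row) (b : ℕ) : Bool := Nat.beq (Nat.land (Nat.shiftRight R.r (Nat.mul 16 b)) 65535) 0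

/-- the field is exceptional -/
def sOK (R : Row) (b : ℕ) : Bool := Nat.beq (Nat.land (Nat.shiftRight R.r (Nat.mul 16 b)) 65535) 65535

/-- the field is `(k, m)` -/
noncomputable def mOK (R : Row) (b k : ℕ) (m : ℤ) : Bool :=
  Nat.rec (motive := fun _ => Bool) false
    (fun f _ => Bool.rec (motive := fun _ => Bool)
      (Bool.rec (motive := fun _ => Bool) false
        (intZ (Int.sub (Int.subNatNat (Nat.shiftRight (Nat.succ f) 8) 8) m))
        (Nat.beq (Nat.land (Nat.succ f) 255) k)) false (Nat.beq f 65534))
    (Nat.land (Nat.shiftRight R.r (Nat.mul 16 b)) 65535)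

theorem rbr_of_zOK {R : Row} {b : ℕ} (h : zOK R b = true) : rbr R b = [] := by
  unfold rbr
  rw [Nat.eq_of_beq_eq_true h]
  rfl

theorem rbr_of_sOK {R : Row} {b : ℕ} (h : sOK R b = true) : rbr R b = R.h := by
  unfold rbr
  rw [Nat.eq_of_beq_eq_true h]
  rfl

theorem rbr_of_mOK {R : Row} {b k : ℕ} {m : ℤ} (h : mOK R b k m = true) : rbr R b = [(k, m)] := by
  unfold mOK at h
  unfold rbr
  cases hf : Nat.land (Nat.shiftRight R.r (Nat.mul 16 b)) 65535 with
  | zero =>
    rw [hf] at h
    exact absurd h (by simp)
  | succ f =>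
    rw [hf] at h
    change Bool.rec (motive := fun _ => Bool) _ false (Nat.beq f 65534) = true at h
    show Bool.rec (motive := fun _ => List (ℕ × ℤ)) _ _ (Nat.beq f 65534) = _
    cases hb : Nat.beq f 65534 with
    | true =>
      rw [hb] at h
      exact absurd h (by simp)
    | false =>
      rw [hb] at h
      change Bool.rec (motive := fun _ => Bool) false _ (Nat.beq (Nat.land (Nat.succ f) 255) k) = true at h
      show [_] = _
      cases hk : Nat.beq (Nat.land (Nat.succ f) 255) k with
      | false =>
        rw [hk] at h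
        exact absurd h (by simp)
      | true =>
        rw [hk] at h
        have h1 := eq_zero_of_intZ _ h
        have h2 : Int.subNatNat (Nat.shiftRight (Nat.succ f) 8) 8 = m := sub_eq_zero.mp h1
        rw [h2, Nat.eq_of_beq_eq_true hk]

/-- nothing in the chain table at `b` -/
def emptyAt (R : Row) (ng b : ℕ) : Bool :=
  Bool.rec (motive := fun _ => Bool) (zOK R b) (sOK R b) (Nat.beq b ng)

/-- an entry of the chain table at `b` -/
noncomputable def entAt (n : ℕ) (R : Row) (r ng b : ℕ) (es : List (ℕ × ℤ)) : Bool :=
  List.rec (motive := fun _ => Bool) false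
    (fun e _ _ => Bool.rec (motive := fun _ => Bool)
      (Bool.rec (motive := fun _ => Bool)
        (Bool.rec (motive := fun _ => Bool) false (mOK R b e.1 e.2) (Nat.blt e.1 n)) false (Nat.beq b ng))
      false (Nat.beq b r)) es

/-- walk through a row -/
noncomputable def walk (n : ℕ) (R : Row) (r ng : ℕ) (f : ℕ) : ℕ → List (ℕ × Array (ℕ × ℤ)) → Bool :=
  Nat.rec (motive := fun _ => ℕ → List (ℕ × Array (ℕ × ℤ)) → Bool) (fun _ _ => true)
    (fun _ ih b l => List.rec (motive := fun _ => Bool)
      (Bool.rec (motive := fun _ => Bool) false (ih (Nat.succ b) []) (emptyAt R ng b))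
      (fun e t _ => Bool.rec (motive := fun _ => Bool)
        (Bool.rec (motive := fun _ => Bool) false (ih (Nat.succ b) (e :: t)) (emptyAt R ng b))
        (Bool.rec (motive := fun _ => Bool) false (ih (Nat.succ b) t) (entAt n R r ng b e.2.toList))
        (Nat.beq e.1 b)) l) f

theorem look_of_sorted (l : List (ℕ × Array (ℕ × ℤ))) (b : ℕ) (h : sortedFrom (b + 1) l = true) :
    look l b = [] := by
  rcases filter_of_sorted l (b + 1) h b with h1 | ⟨e, he, h2, -⟩
  · exact h1.2
  · have := lt_of_sortedFrom l (b + 1) h e he
    omega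

/-- what a walk says at `s` -/
def WalkAt (n : ℕ) (R : Row) (r ng : ℕ) (l : List (ℕ × Array (ℕ × ℤ))) (s : ℕ) : Prop :=
  (look l s = [] ∧ emptyAt R ng s = true) ∨
    ∃ k m es, look l s = (k, m) :: es ∧ s ≠ r ∧ s ≠ ng ∧ k < n ∧ rbr R s = [(k, m)]

theorem bool_rec_false {b x : Bool} (h : Bool.rec (motive := fun _ => Bool) false x b = true) :
    b = true ∧ x = true := by
  cases b with
  | false => exact absurd h (by simp)
  | true => exact ⟨rfl, h⟩

theorem bool_rec_true {b x : Bool} (h : Bool.rec (motive := fun _ => Bool) x false b = true) :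
    b = false ∧ x = true := by
  cases b with
  | false => exact ⟨rfl, h⟩
  | true => exact absurd h (by simp)

theorem ne_of_beq_false {a b : ℕ} (h : Nat.beq a b = false) : a ≠ b := Nat.ne_of_beq_eq_false h

theorem entAt_sound {n : ℕ} {R : Row} {r ng b : ℕ} {es : List (ℕ × ℤ)} (h : entAt n R r ng b es = true) :
    ∃ k m es', es = (k, m) :: es' ∧ b ≠ r ∧ b ≠ ng ∧ k < n ∧ rbr R b = [(k, m)] := by
  cases es with
  | nil => exact absurd h (by simp [entAt])
  | cons e es =>
    have h' : Bool.rec (motive := fun _ => Bool)
      (Bool.rec (motive := fun _ => Bool)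
        (Bool.rec (motive := fun _ => Bool) false (mOK R b e.1 e.2) (Nat.blt e.1 n)) false (Nat.beq b ng))
      false (Nat.beq b r) = true := h
    obtain ⟨h1, h2⟩ := bool_rec_true h'
    obtain ⟨h3, h4⟩ := bool_rec_true h2
    obtain ⟨h5, h6⟩ := bool_rec_false h4
    exact ⟨e.1, e.2, es, rfl, ne_of_beq_false h1, ne_of_beq_false h3, Nat.le_of_ble_eq_true h5, rbr_of_mOK h6⟩

theorem walk_sound (n : ℕ) (R : Row) (r ng : ℕ) (f : ℕ) : ∀ (b : ℕ) (l : List (ℕ × Array (ℕ × ℤ))),
    sortedFrom b l = true → walk n R r ng f b l = true → ∀ s, b ≤ s → s < b + f → WalkAt n R r ng l s := by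
  induction f with
  | zero => intro b l _ _ s h1 h2; omega
  | succ f ih =>
    intro b l hl hw s h1 h2
    cases l with
    | nil =>
      have hw' : Bool.rec (motive := fun _ => Bool) false (walk n R r ng f (b + 1) []) (emptyAt R ng b) = true := hw
      obtain ⟨h3, h4⟩ := bool_rec_false hw'
      by_cases hs : s = b
      · subst hs
        exact Or.inl ⟨rfl, h3⟩
      · exact ih (b + 1) [] rfl h4 s (by omega) (by omega)
    | cons e t =>
      have hw' : Bool.rec (motive := fun _ => Bool)
        (Bool.rec (motive := fun _ => Bool) false (walk n R r ng f (b + 1) (e :: t)) (emptyAt R ng b))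
        (Bool.rec (motive := fun _ => Bool) false (walk n R r ng f (b + 1) t) (entAt n R r ng b e.2.toList))
        (Nat.beq e.1 b) = true := hw
      have hl' : (Nat.ble b e.1 && sortedFrom (e.1 + 1) t) = true := hl
      rw [Bool.and_eq_true] at hl'
      have hbe := Nat.le_of_ble_eq_true hl'.1
      cases hb : Nat.beq e.1 b with
      | false =>
        rw [hb] at hw'
        obtain ⟨h3, h4⟩ := bool_rec_false hw'
        have hne := ne_of_beq_false hb
        have hs' : sortedFrom (b + 1) (e :: t) = true := by
          show (Nat.ble (b + 1) e.1 && sortedFrom (e.1 + 1) t) = true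
          rw [Bool.and_eq_true]
          exact ⟨Nat.ble_eq_true_of_le (by omega), hl'.2⟩
        by_cases hs : s = b
        · subst hs
          exact Or.inl ⟨look_of_sorted _ _ hs', h3⟩
        · exact ih (b + 1) _ hs' h4 s (by omega) (by omega)
      | true =>
        rw [hb] at hw'
        obtain ⟨h3, h4⟩ := bool_rec_false hw'
        have he := Nat.eq_of_beq_eq_true hb
        by_cases hs : s = b
        · subst hs
          right
          obtain ⟨k, m, es, h5, h6, h7, h8, h9⟩ := entAt_sound h3
          refine ⟨k, m, es, ?_, h6, h7, h8, h9⟩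
          rw [look_cons, if_pos he, h5]
        · have hs2 : sortedFrom (b + 1) t = true := by rw [← he]; exact hl'.2
          have := ih (b + 1) t hs2 h4 s (by omega) (by omega)
          unfold WalkAt at this ⊢
          rw [look_cons, if_neg (by omega)]
          exact this

/-- the list `[(k, c₀), (k+1, c₁), …]` -/
def mk : ℕ → List ℤ → List (ℕ × ℤ)
  | _, [] => []
  | k, c :: cs => (k, c) :: mk (k + 1) cs

/-- comparison of the exceptional list -/
noncomputable def hOK (h : List (ℕ × ℤ)) : List ℤ → ℕ → Bool :=
  List.rec (motive := fun _ => List ℤ → ℕ → Bool)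
    (fun c _ => List.rec (motive := fun _ => Bool) true (fun _ _ _ => false) c)
    (fun e _ ih c k => List.rec (motive := fun _ => Bool) false
      (fun c cs _ => Bool.rec (motive := fun _ => Bool) false
        (Bool.rec (motive := fun _ => Bool) false (ih cs (Nat.succ k)) (intZ (Int.sub e.2 c)))
        (Nat.beq e.1 k)) c) h

theorem hOK_sound (h : List (ℕ × ℤ)) : ∀ (c : List ℤ) (k : ℕ), hOK h c k = true → h = mk k c := by
  induction h with
  | nil =>
    intro c k hh
    cases c with
    | nil => rfl
    | cons c cs => exact absurd hh (by simp [hOK])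
  | cons e h ih =>
    intro c k hh
    cases c with
    | nil => exact absurd hh (by simp [hOK])
    | cons c cs =>
      have hh' : Bool.rec (motive := fun _ => Bool) false
        (Bool.rec (motive := fun _ => Bool) false (hOK h cs (Nat.succ k)) (intZ (Int.sub e.2 c)))
        (Nat.beq e.1 k) = true := hh
      obtain ⟨h1, h2⟩ := bool_rec_false hh'
      obtain ⟨h3, h4⟩ := bool_rec_false h2
      show _ = (k, c) :: mk (k + 1) cs
      rw [← ih cs _ h4, ← Nat.eq_of_beq_eq_true h1, ← (sub_eq_zero.mp (eq_zero_of_intZ _ h3) : e.2 = c)]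

/-- all rows of roots -/
noncomputable def rowsOK (n l : ℕ) (cs : List (Array (ℕ × Array (ℕ × ℤ)))) :
    List (Array ℤ) → List ℕ → List Row → ℕ → Bool :=
  List.rec (motive := fun _ => List (Array ℤ) → List ℕ → List Row → ℕ → Bool)
    (fun _ _ _ _ => true)
    (fun c _ ih hs gs Rs r =>
      List.rec (motive := fun _ => Bool) false (fun h hs' _ =>
        List.rec (motive := fun _ => Bool) false (fun g gs' _ =>
          List.rec (motive := fun _ => Bool) false (fun R Rs' _ =>
            Bool.rec (motive := fun _ => Bool) false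
              (Bool.rec (motive := fun _ => Bool) false
                (Bool.rec (motive := fun _ => Bool) false (ih hs' gs' Rs' (Nat.succ r))
                  (walk n R r g n 0 c.toList))
                (hOK R.h h.toList n))
              (Nat.beq h.toList.length l)) Rs) gs) hs) cs

theorem rowsOK_sound (n l : ℕ) (cs : List (Array (ℕ × Array (ℕ × ℤ)))) :
    ∀ (hs : List (Array ℤ)) (gs : List ℕ) (Rs : List Row) (r : ℕ), rowsOK n l cs hs gs Rs r = true →
    ∀ j < cs.length, (hs.getD j #[]).toList.length = l ∧
      (Rs.getD j ⟨0, []⟩).h = mk n (hs.getD j #[]).toList ∧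
      walk n (Rs.getD j ⟨0, []⟩) (r + j) (gs.getD j 0) n 0 (cs.getD j #[]).toList = true := by
  induction cs with
  | nil => intro hs gs Rs r _ j hj; exact absurd hj (Nat.not_lt_zero j)
  | cons c cs ih =>
    intro hs gs Rs r h j hj
    cases hs with
    | nil => exact absurd h (by simp [rowsOK])
    | cons hh hs =>
      cases gs with
      | nil => exact absurd h (by simp [rowsOK])
      | cons g gs =>
        cases Rs with
        | nil => exact absurd h (by simp [rowsOK])
        | cons R Rs =>
          have h' : Bool.rec (motive := fun _ => Bool) false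
              (Bool.rec (motive := fun _ => Bool) false
                (Bool.rec (motive := fun _ => Bool) false (rowsOK n l cs hs gs Rs (Nat.succ r))
                  (walk n R r g n 0 c.toList))
                (hOK R.h hh.toList n))
              (Nat.beq hh.toList.length l) = true := h
          obtain ⟨h1, h2⟩ := bool_rec_false h'
          obtain ⟨h3, h4⟩ := bool_rec_false h2
          obtain ⟨h5, h6⟩ := bool_rec_false h4
          cases j with
          | zero => exact ⟨Nat.eq_of_beq_eq_true h1, hOK_sound _ _ _ h3, h5⟩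
          | succ j =>
            have := ih hs gs Rs (Nat.succ r) h6 j (by simpa using hj)
            rw [List.getD_cons_succ, List.getD_cons_succ, List.getD_cons_succ, List.getD_cons_succ,
              show r + (j + 1) = Nat.succ r + j by omega]
            exact this

/-- one column of Cartan integers: `as = (A_{i,r})_r`, `q = n + i`, `H` the row of `h_i` -/
noncomputable def carOK (q : ℕ) (H : Row) (as : List ℤ) : List Row → ℕ → Bool :=
  List.rec (motive := fun _ => List Row → ℕ → Bool) (fun _ _ => true)
    (fun a _ ih Rs r => List.rec (motive := fun _ => Bool) false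
      (fun R Rs' _ => Bool.rec (motive := fun _ => Bool) false (ih Rs' (Nat.succ r))
        (Bool.rec (motive := fun _ => Bool)
          (Bool.rec (motive := fun _ => Bool) false (mOK H r r a) (mOK R q r (Int.neg a)))
          (Bool.rec (motive := fun _ => Bool) false (zOK H r) (zOK R q)) (intZ a))) Rs) as

theorem carOK_sound (q : ℕ) (H : Row) (as : List ℤ) : ∀ (Rs : List Row) (r : ℕ), carOK q H as Rs r = true →
    ∀ j < as.length,
      (as.getD j 0 = 0 ∧ rbr H (r + j) = [] ∧ rbr (Rs.getD j ⟨0, []⟩) q = []) ∨
      (rbr H (r + j) = [(r + j, as.getD j 0)] ∧ rbr (Rs.getD j ⟨0, []⟩) q = [(r + j, - as.getD j 0)]) := by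
  induction as with
  | nil => intro Rs r _ j hj; exact absurd hj (Nat.not_lt_zero j)
  | cons a as ih =>
    intro Rs r h j hj
    cases Rs with
    | nil => exact absurd h (by simp [carOK])
    | cons R Rs =>
      have h' : Bool.rec (motive := fun _ => Bool) false (carOK q H as Rs (Nat.succ r))
        (Bool.rec (motive := fun _ => Bool)
          (Bool.rec (motive := fun _ => Bool) false (mOK H r r a) (mOK R q r (Int.neg a)))
          (Bool.rec (motive := fun _ => Bool) false (zOK H r) (zOK R q)) (intZ a)) = true := h
      obtain ⟨h1, h2⟩ := bool_rec_false h'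
      cases j with
      | succ j =>
        have := ih Rs (Nat.succ r) h2 j (by simpa using hj)
        rw [List.getD_cons_succ, List.getD_cons_succ, show r + (j + 1) = Nat.succ r + j by omega]
        exact this
      | zero =>
        rw [List.getD_cons_zero, List.getD_cons_zero, Nat.add_zero]
        cases ha : intZ a with
        | true =>
          rw [ha] at h1
          obtain ⟨h3, h4⟩ := bool_rec_false h1
          exact Or.inl ⟨eq_zero_of_intZ _ ha, rbr_of_zOK h4, rbr_of_zOK h3⟩
        | false =>
          rw [ha] at h1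
          obtain ⟨h3, h4⟩ := bool_rec_false h1
          exact Or.inr ⟨rbr_of_mOK h4, rbr_of_mOK h3⟩

/-- the fields `n, …, n + l - 1` of `H` are zero -/
def zerosOK (H : Row) (n l : ℕ) : Bool :=
  Nat.rec (motive := fun _ => Bool) true
    (fun j ih => Bool.rec (motive := fun _ => Bool) false ih (zOK H (Nat.add n j))) l

theorem zerosOK_sound (H : Row) (n l : ℕ) (h : zerosOK H n l = true) : ∀ j < l, rbr H (n + j) = [] := by
  induction l with
  | zero => intro j hj; exact absurd hj (Nat.not_lt_zero j)
  | succ l ih =>
    obtain ⟨h1, h2⟩ := bool_rec_false (x := zerosOK H n l) h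
    intro j hj
    rcases Nat.lt_succ_iff_lt_or_eq.mp hj with h3 | rfl
    · exact ih h2 j h3
    · exact rbr_of_zOK h1

/-- all Cartan columns; `As` the rows of the Cartan table, `Hs` the rows of the `h_i` -/
noncomputable def carsOK (n l : ℕ) (rows : List Row) (As : List (Array ℤ)) : List Row → ℕ → Bool :=
  List.rec (motive := fun _ => List Row → ℕ → Bool) (fun _ _ => true)
    (fun a _ ih Hs i => List.rec (motive := fun _ => Bool) false
      (fun H Hs' _ =>
        Bool.rec (motive := fun _ => Bool) false
          (Bool.rec (motive := fun _ => Bool) false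
            (Bool.rec (motive := fun _ => Bool) false (ih Hs' (Nat.succ i)) (zerosOK H n l))
            (carOK (Nat.add n i) H a.toList rows 0))
          (Nat.beq a.toList.length n)) Hs) As

theorem carsOK_sound (n l : ℕ) (rows : List Row) (As : List (Array ℤ)) : ∀ (Hs : List Row) (i : ℕ),
    carsOK n l rows As Hs i = true → ∀ j < As.length,
      (As.getD j #[]).toList.length = n ∧
      carOK (n + (i + j)) (Hs.getD j ⟨0, []⟩) (As.getD j #[]).toList rows 0 = true ∧
      zerosOK (Hs.getD j ⟨0, []⟩) n l = true := by
  induction As with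
  | nil => intro Hs i _ j hj; exact absurd hj (Nat.not_lt_zero j)
  | cons a As ih =>
    intro Hs i h j hj
    cases Hs with
    | nil => exact absurd h (by simp [carsOK])
    | cons H Hs =>
      have h' : Bool.rec (motive := fun _ => Bool) false
          (Bool.rec (motive := fun _ => Bool) false
            (Bool.rec (motive := fun _ => Bool) false (carsOK n l rows As Hs (Nat.succ i)) (zerosOK H n l))
            (carOK (Nat.add n i) H a.toList rows 0))
          (Nat.beq a.toList.length n) = true := h
      obtain ⟨h1, h2⟩ := bool_rec_false h'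
      obtain ⟨h3, h4⟩ := bool_rec_false h2
      obtain ⟨h5, h6⟩ := bool_rec_false h4
      cases j with
      | zero => exact ⟨Nat.eq_of_beq_eq_true h1, h3, h5⟩
      | succ j =>
        have := ih Hs (Nat.succ i) h6 j (by simpa using hj)
        rw [List.getD_cons_succ, List.getD_cons_succ, show i + (j + 1) = Nat.succ i + j by omega]
        exact this

/-- the whole comparison; `Rs` the rows of the roots, `Hs` the rows of the `h_i` -/
noncomputable def bridge (D : ChevalleyDatum) (Rs Hs : List Row) : Bool :=
  Nat.beq Rs.length D.nroots && (Nat.beq Hs.length D.rank &&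
  (Nat.beq D.chain.toList.length D.nroots && (Nat.beq D.cartanSR.toList.length D.rank &&
  (rowsOK D.nroots D.rank D.chain.toList D.coroot.toList D.negIdx.toList Rs 0 &&
  carsOK D.nroots D.rank Rs D.cartanSR.toList Hs 0))))

/-- the number of a basis index -/
def key (D : ChevalleyDatum) : D.Idx → ℕ
  | Sum.inl i => D.nroots + i.val
  | Sum.inr s => s.val

theorem key_inl (D : ChevalleyDatum) (i : Fin D.rank) : key D (Sum.inl i) = D.nroots + i.val := rfl
theorem key_inr (D : ChevalleyDatum) (s : Fin D.nroots) : key D (Sum.inr s) = s.val := rfl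

theorem key_injective (D : ChevalleyDatum) : Function.Injective (key D) := by
  rintro (i | s) (j | t) h
  · rw [key_inl, key_inl] at h
    congr 1
    exact Fin.ext (by omega)
  · rw [key_inl, key_inr] at h
    have := t.isLt
    omega
  · rw [key_inr, key_inl] at h
    have := s.isLt
    omega
  · rw [key_inr, key_inr] at h
    congr 1
    exact Fin.ext h

theorem key_lt (D : ChevalleyDatum) (x : D.Idx) : key D x < D.nroots + D.rank := by
  rcases x with i | s
  · rw [key_inl]; have := i.isLt; omega
  · rw [key_inr]; have := s.isLt; omega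

theorem key_surj (D : ChevalleyDatum) (k : ℕ) (hk : k < D.nroots + D.rank) : ∃ x, key D x = k := by
  by_cases h : k < D.nroots
  · exact ⟨Sum.inr ⟨k, h⟩, rfl⟩
  · refine ⟨Sum.inl ⟨k - D.nroots, by omega⟩, ?_⟩
    rw [key_inl]
    simp only
    omega

/-- The facts read off the comparison. -/
structure Bridge (D : ChevalleyDatum) (Rs Hs : List Row) : Prop where
  lenR : Rs.length = D.nroots
  lenH : Hs.length = D.rank
  walk : ∀ r < D.nroots, ∀ s < D.nroots,
    WalkAt D.nroots (Rs.getD r ⟨0, []⟩) r (D.neg r) (row D r) s
  h : ∀ r < D.nroots, (Rs.getD r ⟨0, []⟩).h = mk D.nroots (D.coroot.getD r #[]).toList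
  hlen : ∀ r < D.nroots, (D.coroot.getD r #[]).toList.length = D.rank
  car : ∀ i < D.rank, ∀ r < D.nroots,
    (car D i r = 0 ∧ rbr (Hs.getD i ⟨0, []⟩) r = [] ∧ rbr (Rs.getD r ⟨0, []⟩) (D.nroots + i) = []) ∨
    (rbr (Hs.getD i ⟨0, []⟩) r = [(r, car D i r)] ∧
      rbr (Rs.getD r ⟨0, []⟩) (D.nroots + i) = [(r, - car D i r)])
  zero : ∀ i < D.rank, ∀ j < D.rank, rbr (Hs.getD i ⟨0, []⟩) (D.nroots + j) = []

theorem getD_toList {α : Type*} (a : Array α) (i : ℕ) (d : α) : a.toList.getD i d = a.getD i d := by
  simp

theorem bridge_sound (D : ChevalleyDatum) (Rs Hs : List Row) (h : bridge D Rs Hs = true)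
    (hs : ∀ r < D.nroots, sortedFrom 0 (row D r) = true) : Bridge D Rs Hs := by
  simp only [bridge, Bool.and_eq_true] at h
  obtain ⟨h1, h2, h3, h4, h5, h6⟩ := h
  have e1 := Nat.eq_of_beq_eq_true h1
  have e2 := Nat.eq_of_beq_eq_true h2
  have e3 := Nat.eq_of_beq_eq_true h3
  have e4 := Nat.eq_of_beq_eq_true h4
  have hR := rowsOK_sound _ _ _ _ _ _ _ h5
  have hC := carsOK_sound _ _ _ _ _ _ h6
  rw [e3] at hR
  rw [e4] at hC
  simp only [getD_toList, Nat.zero_add] at hR hC
  refine ⟨e1, e2, ?_, ?_, ?_, ?_, ?_⟩
  · intro r hr s hs'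
    exact walk_sound _ _ _ _ _ 0 _ (hs r hr) (hR r hr).2.2 s (Nat.zero_le _) (by omega)
  · intro r hr
    exact (hR r hr).2.1
  · intro r hr
    exact (hR r hr).1
  · intro i hi r hr
    have := carOK_sound _ _ _ _ _ (hC i hi).2.1 r (by rw [(hC i hi).1]; exact hr)
    simp only [getD_toList, Nat.zero_add] at this
    exact this
  · intro i hi j hj
    exact zerosOK_sound _ _ _ (hC i hi).2.2 j hj

end Cfsg.Agent.ChevalleyStructure.JacBridge
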