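import Cfsg.Agent.ChevalleyStructure.JacTab

/-!
Packed bracket table of type B2 (generated from the tables of Def_ChevB2).
-/

set_option autoImplicit false
set_option maxRecDepth 100000

namespace Cfsg.Agent.ChevalleyStructure.JacDataB2

open Cfsg.Agent.ChevalleyStructure.JacTab

/-- rows of the root vectors -/
def Rs : List Row := [
  ⟨0xa00ffff0702090100000000000000000000, [(8, .negSucc 0), (9, .negSucc 0)]⟩,
  ⟨0x90100000705ffff0603090200000a0000000000, [(8, .negSucc 0), (9, .negSucc 1)]⟩,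
  ⟨0x7020a0209060604ffff00000901000006000000, [(8, .negSucc 0), (9, .ofNat 0)]⟩,
  ⟨0xa030603000009050000ffff0000070100000000, [(8, .ofNat 0), (9, .negSucc 0)]⟩,
  ⟨0x6040a040000000009060000ffff000007020000, [(8, .ofNat 0), (9, .ofNat 1)]⟩,
  ⟨0x905060500000a07000007060000ffff0a030701, [(8, .ofNat 1), (9, .ofNat 0)]⟩,
  ⟨0x7060000000000000607000007050a04ffff0902, [(8, .ofNat 1), (9, .ofNat 2)]⟩,
  ⟨0x6070000000000000000000007060905ffff, [(8, .ofNat 1), (9, .ofNat 1)]⟩]

/-- rows of the simple coroots -/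
def Hs : List Row := [
  ⟨0xa0700000a0506040a03060200000600, []⟩,
  ⟨0x90607050a040603090207010000, []⟩]

/-- all rows -/
def rows : List Row := Rs ++ Hs

/-- the simple roots and their negatives -/
def ps : List ℕ := [5, 2, 4, 3]

/-- generation of all roots: `[e_p, e_b] = m e_c` -/
def gen : List (ℕ × ℕ × ℕ) := [(5, 4, 6), (2, 3, 1), (5, 6, 7), (2, 1, 0), (5, 2, 8), (4, 3, 9)]

end Cfsg.Agent.ChevalleyStructure.JacDataB2
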