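import Cfsg.Agent.ChevalleyStructure.JacTab

/-!
Packed bracket table of type G2 (generated from the tables of Def_ChevG2).
-/

set_option autoImplicit false
set_option maxRecDepth 100000

namespace Cfsg.Agent.ChevalleyStructure.JacDataG2

open Cfsg.Agent.ChevalleyStructure.JacTab

/-- rows of the root vectors -/
def Rs : List Row := [
  ⟨0x9000000ffff07050703090200000901000000000000000000000000, [(12, .negSucc 0), (13, .negSucc 1)]⟩,
  ⟨0x7010b010706ffff0704000009020000090000000000000000000000, [(12, .negSucc 0), (13, .negSucc 0)]⟩,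
  ⟨0x90207080707ffff0a040603000000000b010b00000000000000, [(12, .negSucc 1), (13, .negSucc 2)]⟩,
  ⟨0x9030703090900000a07ffff05050904000006020000050000000000, [(12, .negSucc 0), (13, .negSucc 2)]⟩,
  ⟨0x7040a040000090906080506ffff0000090300000a02050100000000, [(12, .negSucc 0), (13, .ofNat 0)]⟩,
  ⟨0xa050505090a0000000009070000ffff000007030000000007000000, [(12, .ofNat 0), (13, .negSucc 0)]⟩,
  ⟨0x6060b060000090b0000000009080000ffff00000704000000000701, [(12, .ofNat 0), (13, .ofNat 1)]⟩,
  ⟨0x9070607000000000b0a0609000007080000ffff0b050a0307020000, [(12, .ofNat 1), (13, .ofNat 0)]⟩,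
  ⟨0x7080908000000000b0b00000a09000007070b06ffff060400000702, [(12, .ofNat 1), (13, .ofNat 3)]⟩,
  ⟨0x709000000000000050b050a000000000a080607ffff09040903, [(12, .ofNat 2), (13, .ofNat 3)]⟩,
  ⟨0x90a050a00000000000000000000070b0000070900000907ffff0905, [(12, .ofNat 1), (13, .ofNat 1)]⟩,
  ⟨0x70b0000000000000000000000000000070a0000070909080906ffff, [(12, .ofNat 1), (13, .ofNat 2)]⟩]

/-- rows of the simple coroots -/
def Hs : List Row := [
  ⟨0xb0a090907080a0705060b0506040903070205010000, []⟩,
  ⟨0x90b070a0000090807070a06060509040703000009010700, []⟩]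

/-- all rows -/
def rows : List Row := Rs ++ Hs

/-- the simple roots and their negatives -/
def ps : List ℕ := [7, 4, 6, 5]

/-- generation of all roots: `[e_p, e_b] = m e_c` -/
def gen : List (ℕ × ℕ × ℕ) := [(7, 6, 8), (4, 5, 3), (7, 8, 9), (4, 3, 2), (7, 9, 10), (4, 2, 1), (6, 10, 11), (5, 1, 0), (7, 4, 12), (6, 5, 13)]

end Cfsg.Agent.ChevalleyStructure.JacDataG2
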