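import Cfsg.Agent.ChevalleyStructure.JacBridge

/-!
The Jacobi identity for the adjoint matrices `E_r^(1)` of a Chevalley datum from kernel checks.
-/

set_option autoImplicit false
set_option linter.unusedSectionVars false

namespace Cfsg.Agent.ChevalleyStructure.JacMain

open Matrix
open Cfsg.Lie
open Cfsg.Agent.ChevalleyStructure.JacTab
open Cfsg.Agent.ChevalleyStructure.JacBridge
open Cfsg.Agent.ChevalleyStructure.Columns
open Cfsg.Agent.ChevalleyStructure.LieAbs
open Cfsg.Agent.ChevalleyStructure.Ring

/-- the matrix of `ad h_{p_i}` -/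
def adH (D : ChevalleyDatum) (i : ℕ) : Matrix D.Idx D.Idx ℤ :=
  Matrix.diagonal (Sum.elim (fun _ => 0) (fun s : Fin D.nroots => car D i s.val))

/-- the adjoint family: `ad h_{p_i}` and `ad e_s = E_s^(1)` -/
noncomputable def adA (D : ChevalleyDatum) : D.Idx → Matrix D.Idx D.Idx ℤ :=
  Sum.elim (fun i => adH D i.val) (fun s => coefE D s.val 1)

theorem adA_inl (D : ChevalleyDatum) (i : Fin D.rank) : adA D (Sum.inl i) = adH D i.val := rfl
theorem adA_inr (D : ChevalleyDatum) (s : Fin D.nroots) : adA D (Sum.inr s) = coefE D s.val 1 := rfl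

theorem ev_singleton {ι : Type*} (κ : ι → ℕ) (k : ℕ) (m : ℤ) (x : ι) :
    ev κ [(k, m)] x = if κ x = k then m else 0 := by
  simp [ev]

theorem ev_nil_apply {ι : Type*} (κ : ι → ℕ) (x : ι) : ev κ [] x = 0 := by
  simp [ev]

theorem ev_mk {ι : Type*} (κ : ι → ℕ) (x : ι) : ∀ (cs : List ℤ) (k : ℕ),
    ev κ (mk k cs) x = if k ≤ κ x ∧ κ x < k + cs.length then cs.getD (κ x - k) 0 else 0
  | [], k => by
    show ev κ [] x = _
    rw [ev_nil_apply, if_neg]
    simp only [List.length_nil]
    omega
  | c :: cs, k => by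
    have h : mk k (c :: cs) = (k, c) :: mk (k + 1) cs := rfl
    rw [h, ev_cons, Pi.add_apply, ev_mk κ x cs (k + 1), Pi.smul_apply, bv]
    by_cases h1 : κ x = k
    · rw [if_pos h1, if_neg (by omega), if_pos (by simp only [List.length_cons]; omega), h1, Nat.sub_self]
      simp
    · rw [if_neg h1]
      by_cases h2 : k + 1 ≤ κ x ∧ κ x < k + 1 + cs.length
      · rw [if_pos h2, if_pos (by simp only [List.length_cons]; omega),
          show κ x - k = (κ x - (k + 1)) + 1 by omega, List.getD_cons_succ]
        simp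
      · rw [if_neg h2, if_neg (by simp only [List.length_cons]; omega)]
        simp

theorem kok_mk (N : ℕ) : ∀ (cs : List ℤ) (k : ℕ), k + cs.length ≤ N → KOK N (mk k cs)
  | [], _, _ => fun e he => absurd he (by simp [mk])
  | c :: cs, k, h => by
    intro e he
    have h' : mk k (c :: cs) = (k, c) :: mk (k + 1) cs := rfl
    rw [h'] at he
    simp only [List.length_cons] at h
    rcases List.mem_cons.mp he with rfl | he
    · simp only; omega
    · exact kok_mk N cs (k + 1) (by omega) e he

variable {D : ChevalleyDatum} {Rs Hs : List Row}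

theorem rowAt_root (B : Bridge D Rs Hs) {r : ℕ} (hr : r < D.nroots) :
    rowAt (Rs ++ Hs) r = Rs.getD r ⟨0, []⟩ := by
  rw [rowAt_eq, List.getD_append _ _ _ _ (by rw [B.lenR]; exact hr)]

theorem rowAt_h (B : Bridge D Rs Hs) (i : ℕ) :
    rowAt (Rs ++ Hs) (D.nroots + i) = Hs.getD i ⟨0, []⟩ := by
  rw [rowAt_eq, List.getD_append_right _ _ _ _ (by rw [B.lenR]; omega), B.lenR, Nat.add_sub_cancel_left]

/-- the bracket `[e_r, e_s]` of two root vectors in the rows -/
theorem rbr_root (B : Bridge D Rs Hs) {r s : ℕ} (hr : r < D.nroots) (hs : s < D.nroots) :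
    (s = D.neg r ∧ look (row D r) s = [] ∧
      rbr (rowAt (Rs ++ Hs) r) s = mk D.nroots (D.coroot.getD r #[]).toList) ∨
    (s ≠ D.neg r ∧ look (row D r) s = [] ∧ rbr (rowAt (Rs ++ Hs) r) s = []) ∨
    (∃ k m es, s ≠ D.neg r ∧ s ≠ r ∧ k < D.nroots ∧ look (row D r) s = (k, m) :: es ∧
      rbr (rowAt (Rs ++ Hs) r) s = [(k, m)]) := by
  rw [rowAt_root B hr]
  rcases B.walk r hr s hs with ⟨h1, h2⟩ | ⟨k, m, es, h1, h2, h3, h4, h5⟩
  · unfold emptyAt at h2
    cases hb : Nat.beq s (D.neg r) with
    | true =>
      rw [hb] at h2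
      left
      exact ⟨Nat.eq_of_beq_eq_true hb, h1, by rw [rbr_of_sOK h2, B.h r hr]⟩
    | false =>
      rw [hb] at h2
      right; left
      exact ⟨ne_of_beq_false hb, h1, rbr_of_zOK h2⟩
  · right; right
    exact ⟨k, m, es, h3, h2, h4, h1, h5⟩

theorem good_of_bridge (B : Bridge D Rs Hs) (ha : antiAll (Rs ++ Hs) (Rs ++ Hs) 0 = true) :
    Good (key D) (D.nroots + D.rank) (Rs ++ Hs) := by
  refine ⟨key_injective D, key_lt D, key_surj D, ?_, ?_, ha⟩
  · rw [List.length_append, B.lenR, B.lenH]
  · intro a haN b hbN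
    by_cases har : a < D.nroots
    · by_cases hbr : b < D.nroots
      · rcases rbr_root B har hbr with ⟨-, -, h⟩ | ⟨-, -, h⟩ | ⟨k, m, es, -, -, hk, -, h⟩
        · rw [h]
          exact kok_mk _ _ _ (by rw [B.hlen a har])
        · rw [h]; intro e he; simp at he
        · rw [h]; intro e he
          rw [List.mem_singleton] at he
          subst he
          exact lt_of_lt_of_le hk (Nat.le_add_right _ _)
      · obtain ⟨i, rfl⟩ : ∃ i, b = D.nroots + i := ⟨b - D.nroots, by omega⟩
        rw [rowAt_root B har]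
        rcases B.car i (by omega) a har with ⟨-, -, h⟩ | ⟨-, h⟩
        · rw [h]; intro e he; simp at he
        · rw [h]; intro e he
          rw [List.mem_singleton] at he
          subst he
          exact haN
    · obtain ⟨i, rfl⟩ : ∃ i, a = D.nroots + i := ⟨a - D.nroots, by omega⟩
      rw [rowAt_h B]
      by_cases hbr : b < D.nroots
      · rcases B.car i (by omega) b hbr with ⟨-, h, -⟩ | ⟨h, -⟩
        · rw [h]; intro e he; simp at he
        · rw [h]; intro e he
          rw [List.mem_singleton] at he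
          subst he
          exact hbN
      · obtain ⟨j, rfl⟩ : ∃ j, b = D.nroots + j := ⟨b - D.nroots, by omega⟩
        rw [B.zero i (by omega) j (by omega)]
        intro e he; simp at he

theorem zipIdx_later (u : ℕ) : ∀ (l : List (ℕ × ℤ)) (k : ℕ), 1 ≤ k →
    ((((l.zipIdx k).filter (fun q => q.1.1 = u)).map fun q => (q.2 + 1, q.1.2)).map
      fun km : ℕ × ℤ => if km.1 = 1 then km.2 else 0).sum = 0
  | [], _, _ => by simp
  | e :: l, k, hk => by
    rw [List.zipIdx_cons]
    have ih := zipIdx_later u l (k + 1) (by omega)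
    by_cases h : e.1 = u
    · have h1 : ¬ (k + 1 = 1) := by omega
      have h2 : ¬ (k = 0) := by omega
      simpa [h, h1, h2] using ih
    · simpa [h] using ih

/-- the coefficient of `t` in the chain -/
theorem chainCoeff_one (D : ChevalleyDatum) (r s u : ℕ) (h : sortedFrom 0 (row D r) = true) :
    ((D.chainCoeff r s u).map fun km => if km.1 = 1 then km.2 else 0).sum =
      match look (row D r) s with
      | [] => 0
      | (k, m) :: _ => if k = u then m else 0 := by
  unfold ChevalleyDatum.chainCoeff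
  rw [← Columns.row_def]
  rcases filter_of_sorted _ 0 h s with ⟨h1, h2⟩ | ⟨e, _, _, h1, h2⟩
  · rw [h1, h2]; rfl
  · rw [h1, h2]
    simp only [List.flatMap_cons, List.flatMap_nil, List.append_nil]
    cases hL : e.2.toList with
    | nil => simp
    | cons a L =>
      rw [List.zipIdx_cons]
      have := zipIdx_later u L 1 le_rfl
      obtain ⟨k, m⟩ := a
      by_cases hk : k = u
      · simpa [hk] using this
      · simpa [hk] using this

theorem coef_root (B : Bridge D Rs Hs) (hneg : ∀ r < D.nroots, D.neg r ≠ r)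
    (hs : ∀ r < D.nroots, sortedFrom 0 (row D r) = true) (r : Fin D.nroots) :
    AK (key D) (Rs ++ Hs) r.val = coefE D r.val 1 := by
  ext y z
  rw [coefE_entry D r.val 1 r.isLt]
  show ev (key D) (rbr (rowAt (Rs ++ Hs) r.val) (key D z)) y = _
  rcases z with i | s
  · rw [rowAt_root B r.isLt, key_inl]
    dsimp only
    have hcar : (D.cartanSR.getD i.val #[]).getD r.val 0 = car D i.val r.val := rfl
    rcases B.car i.val i.isLt r.val r.isLt with ⟨h0, -, h⟩ | ⟨-, h⟩
    · rw [h, ev_nil_apply]
      rcases y with j | u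
      · dsimp only
        rw [if_neg (by simp)]
      · dsimp only
        rw [hcar, h0, neg_zero]
        split_ifs <;> rfl
    · rw [h, ev_singleton]
      rcases y with j | u
      · dsimp only
        rw [key_inl, if_neg (by have := r.isLt; omega), if_neg (by simp)]
      · dsimp only
        rw [key_inr, hcar]
        by_cases hu : u.val = r.val
        · rw [if_pos hu, if_pos ⟨rfl, hu⟩]
        · rw [if_neg hu, if_neg (fun h => hu h.2)]
  · rw [key_inr]
    dsimp only
    rcases rbr_root B r.isLt s.isLt with ⟨h1, h2, h3⟩ | ⟨h1, h2, h3⟩ | ⟨k, m, es, h1, h2, hk, h3, h4⟩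
    · -- `s = - r`
      have hne : s.val ≠ r.val := by rw [h1]; exact hneg r.val r.isLt
      rw [h3, ev_mk, B.hlen r.val r.isLt]
      rw [if_neg hne, if_pos (show s.val = D.negIdx.getD r.val 0 from h1)]
      rcases y with i | u
      · dsimp only
        rw [key_inl, if_pos (by have := i.isLt; omega), Nat.add_sub_cancel_left, getD_toList, if_pos rfl]
      · dsimp only
        rw [key_inr, if_neg (by have := u.isLt; omega)]
        by_cases hu : u = s
        · rw [if_pos hu, if_neg (by simp)]
        · rw [if_neg hu, if_neg (by simp)]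
    · rw [h3, ev_nil_apply]
      by_cases hsr : s.val = r.val
      · rw [if_pos hsr]
        rcases y with i | u
        · rfl
        · dsimp only
          rw [if_neg (by simp)]
      · rw [if_neg hsr, if_neg (show s.val ≠ D.negIdx.getD r.val 0 from h1)]
        rcases y with i | u
        · rfl
        · dsimp only
          rw [chainCoeff_one D _ _ _ (hs r.val r.isLt), h2, if_neg (by simp)]
          rfl
    · rw [h4, ev_singleton]
      rw [if_neg h2, if_neg (show s.val ≠ D.negIdx.getD r.val 0 from h1)]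
      rcases y with i | u
      · dsimp only
        rw [key_inl, if_neg (by omega)]
      · dsimp only
        rw [chainCoeff_one D _ _ _ (hs r.val r.isLt), h3, key_inr,
          if_neg (show ¬ ((1 : ℕ) = 0 ∧ u = s) from fun h => absurd h.1 (by simp)), zero_add]
        dsimp only
        by_cases hu : u.val = k
        · rw [if_pos hu, if_pos hu.symm]
        · rw [if_neg hu, if_neg (fun h => hu h.symm)]

theorem coef_h (B : Bridge D Rs Hs) (i : Fin D.rank) :
    AK (key D) (Rs ++ Hs) (D.nroots + i.val) = adH D i.val := by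
  ext y z
  show ev (key D) (rbr (rowAt (Rs ++ Hs) (D.nroots + i.val)) (key D z)) y = _
  rw [rowAt_h B]
  rcases z with j | s
  · rw [key_inl, B.zero i.val i.isLt j.val j.isLt, ev_nil_apply]
    unfold adH
    rw [Matrix.diagonal_apply]
    split_ifs with h
    · subst h; rfl
    · rfl
  · rw [key_inr]
    unfold adH
    rw [Matrix.diagonal_apply]
    rcases B.car i.val i.isLt s.val s.isLt with ⟨h0, h, -⟩ | ⟨h, -⟩
    · rw [h, ev_nil_apply]
      split_ifs with h'
      · subst h'; exact h0.symm
      · rfl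
    · rw [h, ev_singleton]
      have : (key D y = s.val) ↔ y = Sum.inr s := by
        rw [← key_inr D s]
        exact (key_injective D).eq_iff
      by_cases h' : y = Sum.inr s
      · rw [if_pos (this.mpr h'), if_pos h', h']; rfl
      · rw [if_neg (fun h'' => h' (this.mp h'')), if_neg h']

theorem AX_eq_adA (B : Bridge D Rs Hs) (hneg : ∀ r < D.nroots, D.neg r ≠ r)
    (hs : ∀ r < D.nroots, sortedFrom 0 (row D r) = true) : AX (key D) (Rs ++ Hs) = adA D := by
  funext x
  rcases x with i | s
  · exact coef_h B i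
  · exact coef_root B hneg hs s

/-- all third entries are below `N` -/
def ltAll (N : ℕ) (gen : List (ℕ × ℕ × ℕ)) : Bool := gen.all fun t => Nat.blt t.2.2 N

/-- **The Jacobi identity from the kernel checks.** `ps` the indices `p` checked directly, `gen` the generation. -/
theorem jac_of_checks (D : ChevalleyDatum) (Rs Hs : List Row)
    (hneg : ∀ r < D.nroots, D.neg r ≠ r)
    (hs : ∀ r < D.nroots, sortedFrom 0 (row D r) = true)
    (hbr : bridge D Rs Hs = true) (ha : antiAll (Rs ++ Hs) (Rs ++ Hs) 0 = true)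
    (ps : List ℕ) (hp : ∀ p ∈ ps, p < D.nroots ∧ chkP (Rs ++ Hs) p = true)
    (gen : List (ℕ × ℕ × ℕ)) (hgen : ltAll (D.nroots + D.rank) gen = true)
    (hg : genAll (Rs ++ Hs) gen (maskOf ps) (2 ^ (D.nroots + D.rank) - 1) = true)
    (x : D.Idx → ℤ) : Jac (adA D) x := by
  have B := bridge_sound D Rs Hs hbr hs
  have G := good_of_bridge B ha
  rw [← AX_eq_adA B hneg hs]
  refine jac_of_forall_basis (fun y => ?_) x
  rw [← bv_eq_single (key_injective D)]
  refine genAll_sound G gen (maskOf ps) _ ?_ ?_ hg _ ?_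
  · intro k hk'
    obtain ⟨h1, h2⟩ := hp k (mem_of_testBit_maskOf ps k hk')
    have h3 : k < D.nroots + D.rank := lt_of_lt_of_le h1 (Nat.le_add_right _ _)
    exact ⟨h3, G.jac_of_chk h3 h2⟩
  · intro t ht
    exact Nat.le_of_ble_eq_true (List.all_eq_true.mp hgen t ht)
  · rw [Nat.testBit_two_pow_sub_one]
    exact decide_eq_true (key_lt D y)

end Cfsg.Agent.ChevalleyStructure.JacMain
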