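import Cfsg.Agent.ChevalleyStructure.LieAbs

/-!
Kernel-friendly bracket tables: a `Row` packs the brackets `[e_a, e_b]` of a basis element `e_a` with all basis
elements `e_b` (the basis is numbered by naturals `< N`), 16 bits for each `b`: `0` means zero, `65535` means the
exceptional list `h`, otherwise the low byte is the index `k` and the rest is `8 + m` for the bracket `m e_k`.
Soundness of a check of the Jacobi identity, and generation of the Lie algebra.
-/

set_option autoImplicit false
set_option linter.unusedSectionVars false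

namespace Cfsg.Agent.ChevalleyStructure.JacTab

open Matrix
open Cfsg.Agent.ChevalleyStructure.LieAbs

/-- brackets of one basis element with all others -/
structure Row where
  r : ℕ
  h : List (ℕ × ℤ)

/-- the 16-bit field number `k` -/
def fld (R : Row) (k : ℕ) : ℕ := Nat.land (Nat.shiftRight R.r (Nat.mul 16 k)) 65535

/-- the list of a bracket -/
def rbr (R : Row) (k : ℕ) : List (ℕ × ℤ) :=
  Nat.rec (motive := fun _ => List (ℕ × ℤ)) []
    (fun f _ => Bool.rec (motive := fun _ => List (ℕ × ℤ))
      [(Nat.land (Nat.succ f) 255, Int.subNatNat (Nat.shiftRight (Nat.succ f) 8) 8)] R.h (Nat.beq f 65534))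
    (Nat.land (Nat.shiftRight R.r (Nat.mul 16 k)) 65535)

/-- add `m e_k` to a formal sum -/
def insM (k : ℕ) (m : ℤ) (l : List (ℕ × ℤ)) : List (ℕ × ℤ) :=
  List.rec (motive := fun _ => List (ℕ × ℤ)) [(k, m)]
    (fun hd tl ih => Bool.rec (motive := fun _ => List (ℕ × ℤ)) (hd :: ih) ((k, Int.add m hd.2) :: tl)
      (Nat.beq k hd.1)) l

/-- add `c` times a formal sum -/
def addH (c : ℤ) (h : List (ℕ × ℤ)) (acc : List (ℕ × ℤ)) : List (ℕ × ℤ) :=
  List.rec (motive := fun _ => List (ℕ × ℤ)) acc (fun hd _ ih => insM hd.1 (Int.mul c hd.2) ih) h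

/-- add `c [e_R, e_k]` -/
def actE (R : Row) (k : ℕ) (c : ℤ) (acc : List (ℕ × ℤ)) : List (ℕ × ℤ) :=
  Nat.rec (motive := fun _ => List (ℕ × ℤ)) acc
    (fun f _ => Bool.rec (motive := fun _ => List (ℕ × ℤ))
      (insM (Nat.land (Nat.succ f) 255) (Int.mul c (Int.subNatNat (Nat.shiftRight (Nat.succ f) 8) 8)) acc)
      (addH c R.h acc)
      (Nat.beq f 65534)) (Nat.land (Nat.shiftRight R.r (Nat.mul 16 k)) 65535)

/-- add `c [e_P, [e_S, e_k]]` -/
def act2 (P S : Row) (k : ℕ) (c : ℤ) (acc : List (ℕ × ℤ)) : List (ℕ × ℤ) :=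
  Nat.rec (motive := fun _ => List (ℕ × ℤ)) acc
    (fun f _ => Bool.rec (motive := fun _ => List (ℕ × ℤ))
      (actE P (Nat.land (Nat.succ f) 255) (Int.mul c (Int.subNatNat (Nat.shiftRight (Nat.succ f) 8) 8)) acc)
      (List.rec (motive := fun _ => List (ℕ × ℤ)) acc (fun hd _ ih => actE P hd.1 (Int.mul c hd.2) ih) S.h)
      (Nat.beq f 65534)) (Nat.land (Nat.shiftRight S.r (Nat.mul 16 k)) 65535)

/-- is the integer zero? -/
noncomputable def intZ (m : ℤ) : Bool :=
  Int.rec (motive := fun _ => Bool) (fun n => Nat.beq n 0) (fun _ => false) m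

/-- are all coefficients zero? -/
noncomputable def allZ (l : List (ℕ × ℤ)) : Bool :=
  List.rec (motive := fun _ => Bool) true
    (fun hd _ ih => Bool.rec (motive := fun _ => Bool) false ih (intZ hd.2)) l

/-- `∑ c [e_R, e_q]` over a list of rows -/
def comb (PS : List (Row × ℤ)) (q : ℕ) : List (ℕ × ℤ) :=
  List.rec (motive := fun _ => List (ℕ × ℤ)) [] (fun hd _ ih => actE hd.1 q hd.2 ih) PS

/-- the Jacobi identity at the column `q` -/
noncomputable def chk (P S : Row) (PS : List (Row × ℤ)) (q : ℕ) : Bool :=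
  allZ (act2 P S q (Int.ofNat 1) (act2 S P q (Int.negSucc 0) (comb PS q)))

/-- the Jacobi identity at the columns `q < n` -/
noncomputable def chkUpTo (P S : Row) (PS : List (Row × ℤ)) (n : ℕ) : Bool :=
  Nat.rec (motive := fun _ => Bool) true
    (fun q ih => Bool.rec (motive := fun _ => Bool) false ih (chk P S PS q)) n

/-- the row number `k` -/
def rowAt (rows : List Row) (k : ℕ) : Row :=
  List.rec (motive := fun _ => ℕ → Row) (fun _ => ⟨0, []⟩)
    (fun R _ ih n => Nat.rec (motive := fun _ => Row) R (fun m _ => ih m) n) rows k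

/-- the rows and coefficients of `-[e_P, e_s]` -/
def pairList (rows : List Row) (P : Row) (s : ℕ) : List (Row × ℤ) :=
  List.rec (motive := fun _ => List (Row × ℤ)) [] (fun hd _ ih => (rowAt rows hd.1, Int.neg hd.2) :: ih) (rbr P s)

/-- the Jacobi identity for `e_P, e_s, e_q`, all `q < s` -/
noncomputable def chkAll (rows : List Row) (P : Row) (l : List Row) (s : ℕ) : Bool :=
  List.rec (motive := fun _ => ℕ → Bool) (fun _ => true)
    (fun S _ ih s => Bool.rec (motive := fun _ => Bool) false (ih (Nat.succ s))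
      (chkUpTo P S (pairList rows P s) s)) l s

/-- the Jacobi identity for `e_p` -/
noncomputable def chkP (rows : List Row) (p : ℕ) : Bool := chkAll rows (rowAt rows p) rows 0

/-- antisymmetry of one row with the rows of a list -/
noncomputable def antiRow (R : Row) (a : ℕ) (l : List Row) (b : ℕ) : Bool :=
  List.rec (motive := fun _ => ℕ → Bool) (fun _ => true)
    (fun S _ ih b => Bool.rec (motive := fun _ => Bool) false (ih (Nat.succ b))
      (allZ (actE R b (Int.ofNat 1) (actE S a (Int.ofNat 1) [])))) l b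

/-- antisymmetry -/
noncomputable def antiAll (rows : List Row) (l : List Row) (a : ℕ) : Bool :=
  List.rec (motive := fun _ => ℕ → Bool) (fun _ => true)
    (fun R _ ih a => Bool.rec (motive := fun _ => Bool) false (ih (Nat.succ a)) (antiRow R a rows 0)) l a

/-! ### Semantics -/

section Sem

variable {ι : Type*} (κ : ι → ℕ)

/-- value of a formal sum -/
def ev (l : List (ℕ × ℤ)) : ι → ℤ := fun x => (l.map fun e => if κ x = e.1 then e.2 else 0).sum

/-- basis vector -/
def bv (k : ℕ) : ι → ℤ := fun x => if κ x = k then 1 else 0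

theorem ev_nil : ev κ [] = 0 := by
  ext x; simp [ev]

theorem ev_cons (e : ℕ × ℤ) (l : List (ℕ × ℤ)) : ev κ (e :: l) = e.2 • bv κ e.1 + ev κ l := by
  ext x; simp [ev, bv]

theorem ev_insM (k : ℕ) (m : ℤ) (l : List (ℕ × ℤ)) : ev κ (insM k m l) = m • bv κ k + ev κ l := by
  induction l with
  | nil =>
    show ev κ [(k, m)] = _
    rw [ev_cons]
  | cons hd tl ih =>
    have h : insM k m (hd :: tl) = Bool.rec (motive := fun _ => List (ℕ × ℤ)) (hd :: insM k m tl)
        ((k, Int.add m hd.2) :: tl) (Nat.beq k hd.1) := rfl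
    rw [h]
    cases hb : Nat.beq k hd.1 with
    | false =>
      show ev κ (hd :: insM k m tl) = _
      rw [ev_cons, ih, ev_cons]
      abel
    | true =>
      show ev κ ((k, m + hd.2) :: tl) = _
      rw [ev_cons, ev_cons, Nat.eq_of_beq_eq_true hb, add_smul, add_assoc]

theorem ev_addH (c : ℤ) (h acc : List (ℕ × ℤ)) : ev κ (addH c h acc) = c • ev κ h + ev κ acc := by
  induction h with
  | nil =>
    show ev κ acc = _
    rw [ev_nil, smul_zero, zero_add]
  | cons hd tl ih =>
    have h : addH c (hd :: tl) acc = insM hd.1 (c * hd.2) (addH c tl acc) := rfl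
    rw [h, ev_insM, ih, ev_cons, smul_add, smul_smul, add_assoc]

theorem ev_actE (R : Row) (k : ℕ) (c : ℤ) (acc : List (ℕ × ℤ)) :
    ev κ (actE R k c acc) = c • ev κ (rbr R k) + ev κ acc := by
  unfold actE rbr
  cases Nat.land (Nat.shiftRight R.r (Nat.mul 16 k)) 65535 with
  | zero =>
    show ev κ acc = c • ev κ [] + _
    rw [ev_nil, smul_zero, zero_add]
  | succ f =>
    show ev κ (Bool.rec (motive := fun _ => List (ℕ × ℤ)) _ _ (Nat.beq f 65534)) =
      c • ev κ (Bool.rec (motive := fun _ => List (ℕ × ℤ)) _ _ (Nat.beq f 65534)) + _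
    cases Nat.beq f 65534 with
    | false =>
      show ev κ (insM _ _ _) = c • ev κ [_] + _
      rw [ev_insM, ev_cons, ev_nil, add_zero, smul_smul]
      rfl
    | true => exact ev_addH κ c R.h acc

theorem ev_foldE (P : Row) (c : ℤ) (h acc : List (ℕ × ℤ)) :
    ev κ (List.rec (motive := fun _ => List (ℕ × ℤ)) acc (fun hd _ ih => actE P hd.1 (Int.mul c hd.2) ih) h) =
      c • (h.map fun e => e.2 • ev κ (rbr P e.1)).sum + ev κ acc := by
  induction h with
  | nil =>
    show ev κ acc = _
    simp
  | cons hd tl ih =>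
    show ev κ (actE P hd.1 (c * hd.2) _) = _
    rw [ev_actE, ih, List.map_cons, List.sum_cons, smul_add, smul_smul, add_assoc]

theorem ev_act2 (P S : Row) (k : ℕ) (c : ℤ) (acc : List (ℕ × ℤ)) :
    ev κ (act2 P S k c acc) = c • ((rbr S k).map fun e => e.2 • ev κ (rbr P e.1)).sum + ev κ acc := by
  unfold act2
  have hS : rbr S k = Nat.rec (motive := fun _ => List (ℕ × ℤ)) []
    (fun f _ => Bool.rec (motive := fun _ => List (ℕ × ℤ))
      [(Nat.land (Nat.succ f) 255, Int.subNatNat (Nat.shiftRight (Nat.succ f) 8) 8)] S.h (Nat.beq f 65534))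
    (Nat.land (Nat.shiftRight S.r (Nat.mul 16 k)) 65535) := rfl
  rw [hS]
  cases Nat.land (Nat.shiftRight S.r (Nat.mul 16 k)) 65535 with
  | zero =>
    show ev κ acc = _
    simp
  | succ f =>
    show ev κ (Bool.rec (motive := fun _ => List (ℕ × ℤ)) _ _ (Nat.beq f 65534)) =
      c • ((Bool.rec (motive := fun _ => List (ℕ × ℤ)) _ _ (Nat.beq f 65534)).map _).sum + _
    cases Nat.beq f 65534 with
    | false =>
      show ev κ (actE _ _ _ _) = _
      rw [ev_actE, List.map_cons, List.map_nil, List.sum_cons, List.sum_nil, add_zero, smul_smul]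
      rfl
    | true => exact ev_foldE κ P c S.h acc

theorem eq_zero_of_intZ (m : ℤ) (h : intZ m = true) : m = 0 := by
  cases m with
  | ofNat n => rw [Nat.eq_of_beq_eq_true h]; rfl
  | negSucc n => exact absurd h (by simp [intZ])

theorem ev_of_allZ (l : List (ℕ × ℤ)) (h : allZ l = true) : ev κ l = 0 := by
  induction l with
  | nil => exact ev_nil κ
  | cons hd tl ih =>
    have h' : Bool.rec (motive := fun _ => Bool) false (allZ tl) (intZ hd.2) = true := h
    cases hb : intZ hd.2 with
    | false =>
      rw [hb] at h'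
      exact absurd h' (by simp)
    | true =>
      rw [hb] at h'
      rw [ev_cons, ih h', eq_zero_of_intZ _ hb, zero_smul, zero_add]

theorem ev_comb (PS : List (Row × ℤ)) (q : ℕ) :
    ev κ (comb PS q) = (PS.map fun e => e.2 • ev κ (rbr e.1 q)).sum := by
  induction PS with
  | nil => simp [comb, ev_nil]
  | cons hd tl ih =>
    have h : comb (hd :: tl) q = actE hd.1 q hd.2 (comb tl q) := rfl
    rw [h, ev_actE, ih, List.map_cons, List.sum_cons]

theorem chk_sound (P S : Row) (PS : List (Row × ℤ)) (q : ℕ) (h : chk P S PS q = true) :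
    ((rbr S q).map fun e => e.2 • ev κ (rbr P e.1)).sum - ((rbr P q).map fun e => e.2 • ev κ (rbr S e.1)).sum
      + (PS.map fun e => e.2 • ev κ (rbr e.1 q)).sum = 0 := by
  have h1 := ev_of_allZ κ _ h
  rw [ev_act2, ev_act2, ev_comb] at h1
  rw [← h1]
  show _ = (1 : ℤ) • _ + ((-1 : ℤ) • _ + _)
  rw [one_smul, neg_one_smul, sub_eq_add_neg, add_assoc]

theorem chkUpTo_sound (P S : Row) (PS : List (Row × ℤ)) (n : ℕ) (h : chkUpTo P S PS n = true) :
    ∀ q < n, chk P S PS q = true := by
  induction n with
  | zero => intro q hq; exact absurd hq (Nat.not_lt_zero q)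
  | succ n ih =>
    have h' : Bool.rec (motive := fun _ => Bool) false (chkUpTo P S PS n) (chk P S PS n) = true := h
    cases hb : chk P S PS n with
    | false =>
      rw [hb] at h'
      exact absurd h' (by simp)
    | true =>
      rw [hb] at h'
      intro q hq
      rcases Nat.lt_succ_iff_lt_or_eq.mp hq with h2 | rfl
      · exact ih h' q h2
      · exact hb

theorem rowAt_eq (rows : List Row) (k : ℕ) : rowAt rows k = rows.getD k ⟨0, []⟩ := by
  induction rows generalizing k with
  | nil => rfl
  | cons R rows ih =>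
    cases k with
    | zero => rfl
    | succ k => rw [List.getD_cons_succ, ← ih k]; rfl

theorem pairList_eq (rows : List Row) (P : Row) (s : ℕ) :
    pairList rows P s = (rbr P s).map fun e => (rowAt rows e.1, - e.2) := by
  unfold pairList
  induction rbr P s with
  | nil => rfl
  | cons hd tl ih =>
    rw [List.map_cons, ← ih]
    rfl

theorem chkAll_sound (rows : List Row) (P : Row) (l : List Row) (s : ℕ) (h : chkAll rows P l s = true) :
    ∀ k < l.length, chkUpTo P (l.getD k ⟨0, []⟩) (pairList rows P (s + k)) (s + k) = true := by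
  induction l generalizing s with
  | nil => intro k hk; exact absurd hk (Nat.not_lt_zero k)
  | cons S l ih =>
    have h' : Bool.rec (motive := fun _ => Bool) false (chkAll rows P l (s + 1))
      (chkUpTo P S (pairList rows P s) s) = true := h
    cases hb : chkUpTo P S (pairList rows P s) s with
    | false =>
      rw [hb] at h'
      exact absurd h' (by simp)
    | true =>
      rw [hb] at h'
      intro k hk
      cases k with
      | zero => exact hb
      | succ k =>
        have := ih (s + 1) h' k (by simpa using hk)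
        rw [List.getD_cons_succ, show s + (k + 1) = s + 1 + k by omega]
        exact this

theorem antiRow_sound (R : Row) (a : ℕ) (l : List Row) (b : ℕ) (h : antiRow R a l b = true) :
    ∀ k < l.length, ev κ (rbr R (b + k)) = - ev κ (rbr (l.getD k ⟨0, []⟩) a) := by
  induction l generalizing b with
  | nil => intro k hk; exact absurd hk (Nat.not_lt_zero k)
  | cons S l ih =>
    have h' : Bool.rec (motive := fun _ => Bool) false (antiRow R a l (b + 1))
      (allZ (actE R b (Int.ofNat 1) (actE S a (Int.ofNat 1) []))) = true := h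
    cases hb : allZ (actE R b (Int.ofNat 1) (actE S a (Int.ofNat 1) [])) with
    | false =>
      rw [hb] at h'
      exact absurd h' (by simp)
    | true =>
      rw [hb] at h'
      intro k hk
      cases k with
      | zero =>
        have h1 := ev_of_allZ κ _ hb
        rw [ev_actE, ev_actE, ev_nil] at h1
        have h2 : (1 : ℤ) • ev κ (rbr R b) + ((1 : ℤ) • ev κ (rbr S a) + 0) = 0 := h1
        rw [one_smul, one_smul, add_zero] at h2
        exact eq_neg_of_add_eq_zero_left h2
      | succ k =>
        have := ih (b + 1) h' k (by simpa using hk)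
        rw [List.getD_cons_succ, show b + (k + 1) = b + 1 + k by omega]
        exact this

theorem antiAll_sound (rows : List Row) (l : List Row) (a : ℕ) (h : antiAll rows l a = true) :
    ∀ k < l.length, antiRow (l.getD k ⟨0, []⟩) (a + k) rows 0 = true := by
  induction l generalizing a with
  | nil => intro k hk; exact absurd hk (Nat.not_lt_zero k)
  | cons R l ih =>
    have h' : Bool.rec (motive := fun _ => Bool) false (antiAll rows l (a + 1)) (antiRow R a rows 0) = true := h
    cases hb : antiRow R a rows 0 with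
    | false =>
      rw [hb] at h'
      exact absurd h' (by simp)
    | true =>
      rw [hb] at h'
      intro k hk
      cases k with
      | zero => exact hb
      | succ k =>
        have := ih (a + 1) h' k (by simpa using hk)
        rw [List.getD_cons_succ, show a + (k + 1) = a + 1 + k by omega]
        exact this

end Sem

/-! ### The Jacobi identity -/

section Jacobi

variable {ι : Type*} [Fintype ι] [DecidableEq ι] (κ : ι → ℕ)

/-- the matrix of `ad e_k` read off the rows -/
def AK (rows : List Row) (k : ℕ) : Matrix ι ι ℤ := Matrix.of fun y z => ev κ (rbr (rowAt rows k) (κ z)) y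

/-- the family of all `ad e_x` -/
def AX (rows : List Row) (x : ι) : Matrix ι ι ℤ := AK κ rows (κ x)

variable {κ} {N : ℕ} {rows : List Row}

theorem bv_eq_single (hκ : Function.Injective κ) (x : ι) : bv κ (κ x) = Pi.single x 1 := by
  ext y
  by_cases h : y = x
  · subst h; simp [bv]
  · rw [Pi.single_eq_of_ne h]
    simp only [bv]
    rw [if_neg fun h' => h (hκ h')]

theorem AK_mulVec_single (k : ℕ) (z : ι) :
    AK κ rows k *ᵥ Pi.single z 1 = ev κ (rbr (rowAt rows k) (κ z)) := by
  ext y
  simp [AK]

/-- all keys of a list are in range -/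
def KOK (N : ℕ) (l : List (ℕ × ℤ)) : Prop := ∀ e ∈ l, e.1 < N

theorem AK_mulVec_ev (hκ : Function.Injective κ) (hN : ∀ k < N, ∃ x, κ x = k) (k : ℕ) (l : List (ℕ × ℤ))
    (hl : KOK N l) :
    AK κ rows k *ᵥ ev κ l = (l.map fun e => e.2 • ev κ (rbr (rowAt rows k) e.1)).sum := by
  induction l with
  | nil => simp [ev_nil]
  | cons e l ih =>
    obtain ⟨x, hx⟩ := hN e.1 (hl e List.mem_cons_self)
    rw [ev_cons, Matrix.mulVec_add, ih (fun f hf => hl f (List.mem_cons_of_mem _ hf)), List.map_cons,
      List.sum_cons, Matrix.mulVec_smul, ← hx, bv_eq_single hκ, AK_mulVec_single]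

theorem adv_ev (hκ : Function.Injective κ) (hN : ∀ k < N, ∃ x, κ x = k) (l : List (ℕ × ℤ)) (hl : KOK N l) :
    adv (AX κ rows) (ev κ l) = (l.map fun e => e.2 • AK κ rows e.1).sum := by
  induction l with
  | nil => simp [ev_nil, adv_zero]
  | cons e l ih =>
    obtain ⟨x, hx⟩ := hN e.1 (hl e List.mem_cons_self)
    rw [ev_cons, adv_add, ih (fun f hf => hl f (List.mem_cons_of_mem _ hf)), List.map_cons, List.sum_cons,
      adv_smul, ← hx, bv_eq_single hκ, adv_single_one]
    rfl

/-- the assumptions on a system of rows -/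
structure Good (κ : ι → ℕ) (N : ℕ) (rows : List Row) : Prop where
  inj : Function.Injective κ
  lt : ∀ x, κ x < N
  surj : ∀ k < N, ∃ x, κ x = k
  len : rows.length = N
  keys : ∀ a < N, ∀ b < N, KOK N (rbr (rowAt rows a) b)
  anti : antiAll rows rows 0 = true

theorem Good.antisymm (G : Good κ N rows) (a b : ℕ) (ha : a < N) (hb : b < N) :
    ev κ (rbr (rowAt rows a) b) = - ev κ (rbr (rowAt rows b) a) := by
  have h1 := antiAll_sound rows rows 0 G.anti a (by rw [G.len]; exact ha)
  have h2 := antiRow_sound κ _ _ _ _ h1 b (by rw [G.len]; exact hb)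
  rw [Nat.zero_add, Nat.zero_add, ← rowAt_eq, ← rowAt_eq] at h2
  exact h2

theorem Good.adv_antisymm (G : Good κ N rows) (v w : ι → ℤ) :
    adv (AX κ rows) v *ᵥ w = - (adv (AX κ rows) w *ᵥ v) := by
  have key : ∀ x y : ι, AX κ rows x *ᵥ Pi.single y 1 = - (AX κ rows y *ᵥ Pi.single x 1) := by
    intro x y
    unfold AX
    rw [AK_mulVec_single, AK_mulVec_single]
    exact G.antisymm _ _ (G.lt x) (G.lt y)
  have expand : ∀ v w : ι → ℤ, adv (AX κ rows) v *ᵥ w =
      ∑ x, ∑ y, (v x * w y) • (AX κ rows x *ᵥ Pi.single y 1) := by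
    intro v w
    have hw : w = ∑ y, w y • (Pi.single y (1 : ℤ) : ι → ℤ) := by
      ext k
      simp [Finset.sum_apply, Pi.single_apply]
    unfold adv
    rw [Matrix.sum_mulVec]
    refine Finset.sum_congr rfl fun x _ => ?_
    conv_lhs => rw [hw]
    rw [Matrix.mulVec_sum]
    refine Finset.sum_congr rfl fun y _ => ?_
    rw [Matrix.mulVec_smul, Matrix.smul_mulVec, smul_smul, mul_comm]
  rw [expand v w, expand w v, Finset.sum_comm, ← Finset.sum_neg_distrib]
  refine Finset.sum_congr rfl fun y _ => ?_
  rw [← Finset.sum_neg_distrib]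
  refine Finset.sum_congr rfl fun x _ => ?_
  rw [key x y, smul_neg, mul_comm]

/-- the Jacobi defect -/
def defect (A : ι → Matrix ι ι ℤ) (u v w : ι → ℤ) : ι → ℤ :=
  adv A u *ᵥ (adv A v *ᵥ w) - adv A v *ᵥ (adv A u *ᵥ w) - adv A (adv A u *ᵥ v) *ᵥ w

theorem Good.defect_swap (G : Good κ N rows) (u v w : ι → ℤ) :
    defect (AX κ rows) u w v = - defect (AX κ rows) u v w := by
  unfold defect
  rw [G.adv_antisymm w v, Matrix.mulVec_neg, G.adv_antisymm w (adv (AX κ rows) u *ᵥ v),
    G.adv_antisymm (adv (AX κ rows) u *ᵥ w) v]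
  abel

theorem Good.defect_of_chk (G : Good κ N rows) {p : ℕ} (hp : p < N) (h : chkP rows p = true) (x y z : ι)
    (hx : κ x = p) (hyz : κ z < κ y) :
    defect (AX κ rows) (Pi.single x 1) (Pi.single y 1) (Pi.single z 1) = 0 := by
  subst hx
  have h1 := chkAll_sound _ _ _ _ h (κ y) (by rw [G.len]; exact G.lt y)
  rw [Nat.zero_add, ← rowAt_eq] at h1
  have h2 := chk_sound κ _ _ _ _ (chkUpTo_sound _ _ _ _ h1 (κ z) hyz)
  unfold defect
  simp only [adv_single_one]
  have e1 : AX κ rows x *ᵥ (AX κ rows y *ᵥ Pi.single z 1) =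
      ((rbr (rowAt rows (κ y)) (κ z)).map fun e => e.2 • ev κ (rbr (rowAt rows (κ x)) e.1)).sum := by
    unfold AX
    rw [AK_mulVec_single, AK_mulVec_ev G.inj G.surj _ _ (G.keys _ (G.lt y) _ (G.lt z))]
  have e2 : AX κ rows y *ᵥ (AX κ rows x *ᵥ Pi.single z 1) =
      ((rbr (rowAt rows (κ x)) (κ z)).map fun e => e.2 • ev κ (rbr (rowAt rows (κ y)) e.1)).sum := by
    unfold AX
    rw [AK_mulVec_single, AK_mulVec_ev G.inj G.surj _ _ (G.keys _ (G.lt x) _ (G.lt z))]
  have e3 : adv (AX κ rows) (AX κ rows x *ᵥ Pi.single y 1) *ᵥ Pi.single z 1 =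
      - ((pairList rows (rowAt rows (κ x)) (κ y)).map fun e => e.2 • ev κ (rbr e.1 (κ z))).sum := by
    have e4 : AX κ rows x *ᵥ Pi.single y 1 = ev κ (rbr (rowAt rows (κ x)) (κ y)) := by
      unfold AX
      rw [AK_mulVec_single]
    rw [e4, adv_ev G.inj G.surj _ (G.keys _ (G.lt x) _ (G.lt y)), pairList_eq]
    induction rbr (rowAt rows (κ x)) (κ y) with
    | nil =>
      show (0 : Matrix ι ι ℤ) *ᵥ _ = - (0 : ι → ℤ)
      rw [Matrix.zero_mulVec, neg_zero]
    | cons e l ih =>
      simp only [List.map_cons, List.sum_cons] at ih ⊢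
      rw [Matrix.add_mulVec, ih, Matrix.smul_mulVec, AK_mulVec_single, neg_add, neg_smul, neg_neg]
  rw [e1, e2, e3, sub_neg_eq_add]
  exact h2

/-- **The check implies that `e_p` acts as a derivation.** -/
theorem Good.jac_of_chk (G : Good κ N rows) {p : ℕ} (hp : p < N) (h : chkP rows p = true) :
    Jac (AX κ rows) (bv κ p) := by
  obtain ⟨x, rfl⟩ := G.surj p hp
  rw [bv_eq_single G.inj]
  have key : ∀ y z, defect (AX κ rows) (Pi.single x 1) (Pi.single y 1) (Pi.single z 1) = 0 := by
    intro y z
    rcases lt_trichotomy (κ z) (κ y) with h1 | h1 | h1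
    · exact G.defect_of_chk hp h x y z rfl h1
    · have h2 : z = y := G.inj h1
      subst h2
      have h3 := G.defect_swap (Pi.single x 1) (Pi.single z 1) (Pi.single z 1)
      ext i
      have h4 := congrFun h3 i
      simp only [Pi.neg_apply, Pi.zero_apply] at h4 ⊢
      omega
    · rw [G.defect_swap, G.defect_of_chk hp h x z y rfl h1, neg_zero]
  refine jac_of_basis _ _ fun j => ?_
  rw [adv_single_one]
  ext i k
  have h1 := congrFun (key j k) i
  unfold defect at h1
  have hcol : ∀ M : Matrix ι ι ℤ, (M *ᵥ Pi.single k 1) i = M i k := fun M => by simp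
  rw [adv_single_one, adv_single_one, Matrix.mulVec_mulVec, Matrix.mulVec_mulVec, Pi.sub_apply, Pi.sub_apply,
    hcol, hcol, hcol, Pi.zero_apply] at h1
  rw [Matrix.sub_apply]
  omega

/-! ### Generation -/

/-- is the coefficient nonzero? -/
noncomputable def nzc (e : ℕ × ℤ) : Bool := !(intZ e.2)

theorem ev_filter (κ : ι → ℕ) (l : List (ℕ × ℤ)) : ev κ (l.filter nzc) = ev κ l := by
  induction l with
  | nil => rfl
  | cons e l ih =>
    rw [List.filter_cons]
    cases h : nzc e with
    | true => rw [if_pos rfl, ev_cons, ev_cons, ih]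
    | false =>
      rw [if_neg (by simp), ih, ev_cons]
      have h1 : intZ e.2 = true := by simpa [nzc] using h
      rw [eq_zero_of_intZ _ h1, zero_smul, zero_add]

/-- one step of the generation: `[e_p, e_b] = m e_c` with `m ≠ 0`, `p` and `b` known; add `c` to the known set -/
noncomputable def genStep (rows : List Row) (p b c : ℕ) (known : ℕ) : Bool :=
  Nat.testBit known p && Nat.testBit known b && (match (rbr (rowAt rows p) b).filter nzc with
    | [(k, _)] => Nat.beq k c
    | _ => false)

/-- the bit mask of a list -/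
def maskOf (ps : List ℕ) : ℕ := ps.foldr (fun p acc => Nat.lor (Nat.shiftLeft 1 p) acc) 0

theorem mem_of_testBit_maskOf (ps : List ℕ) (k : ℕ) (h : (maskOf ps).testBit k = true) : k ∈ ps := by
  induction ps with
  | nil =>
    have h' : (0 : ℕ).testBit k = true := h
    simp at h'
  | cons p ps ih =>
    have hor : ((1 <<< p) ||| maskOf ps).testBit k = true := h
    rw [Nat.testBit_or, Bool.or_eq_true] at hor
    rcases hor with h3 | h3
    · rw [Nat.one_shiftLeft, Nat.testBit_two_pow] at h3
      rw [← of_decide_eq_true h3]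
      exact List.mem_cons_self
    · exact List.mem_cons_of_mem _ (ih h3)

/-- a sequence of generation steps, ending with everything known -/
noncomputable def genAll (rows : List Row) : List (ℕ × ℕ × ℕ) → ℕ → ℕ → Bool
  | [], known, goal => Nat.beq known goal
  | t :: l, known, goal => genStep rows t.1 t.2.1 t.2.2 known && genAll rows l (Nat.lor known (Nat.shiftLeft 1 t.2.2)) goal

theorem genAll_sound (G : Good κ N rows) (l : List (ℕ × ℕ × ℕ)) (known goal : ℕ)
    (hk : ∀ k, known.testBit k = true → k < N ∧ Jac (AX κ rows) (bv κ k))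
    (hl : ∀ t ∈ l, t.2.2 < N)
    (h : genAll rows l known goal = true) :
    ∀ k, goal.testBit k = true → Jac (AX κ rows) (bv κ k) := by
  induction l generalizing known with
  | nil =>
    have := Nat.eq_of_beq_eq_true h
    subst this
    exact fun k hk' => (hk k hk').2
  | cons t l ih =>
    rw [genAll, Bool.and_eq_true] at h
    obtain ⟨h1, h2⟩ := h
    refine ih _ ?_ (fun t' ht' => hl t' (List.mem_cons_of_mem _ ht')) h2
    intro k hk'
    have hor : (known ||| (1 <<< t.2.2)).testBit k = true := hk'
    rw [Nat.testBit_or, Bool.or_eq_true] at hor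
    rcases hor with h3 | h3
    · exact hk k h3
    · have hkt : k = t.2.2 := by
        rw [Nat.one_shiftLeft, Nat.testBit_two_pow] at h3
        exact (of_decide_eq_true h3).symm
      subst hkt
      refine ⟨hl t List.mem_cons_self, ?_⟩
      unfold genStep at h1
      rw [Bool.and_eq_true, Bool.and_eq_true] at h1
      obtain ⟨⟨hp, hb⟩, h4⟩ := h1
      obtain ⟨hpN, hpJ⟩ := hk _ hp
      obtain ⟨hbN, hbJ⟩ := hk _ hb
      split at h4
      · rename_i k' m heq
        have h5 := Nat.eq_of_beq_eq_true h4
        subst h5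
        have h6 := hpJ.bracket hbJ
        obtain ⟨x, hx⟩ := G.surj _ hpN
        obtain ⟨y, hy⟩ := G.surj _ hbN
        rw [← hx, ← hy, bv_eq_single G.inj, bv_eq_single G.inj, adv_single_one] at h6
        unfold AX at h6
        rw [AK_mulVec_single, hx, hy, ← ev_filter, heq, ev_cons, ev_nil, add_zero] at h6
        refine Jac.of_smul m ?_ h6
        intro h7
        have h8 : (t.2.2, m) ∈ (rbr (rowAt rows t.1) t.2.1).filter nzc := by rw [heq]; simp
        rw [List.mem_filter] at h8
        have h9 := h8.2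
        rw [h7] at h9
        exact absurd h9 (by simp [nzc, intZ])
      · exact absurd h4 (by simp)

end Jacobi

end Cfsg.Agent.ChevalleyStructure.JacTab
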