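import Cfsg.Agent.ChevalleyStructure.LaurentWord

/-!
Additions to `LaurentWord`: `x_r(0) = 1` for every datum, the words `n_r(t)`, `h_r(t)` with Laurent monomial
parameters, and elements of `GL` with given words.
-/

set_option autoImplicit false

namespace Cfsg.Agent.ChevalleyStructure.LaurentNH

open Cfsg.Lie
open Cfsg.Agent.ChevalleyStructure.LaurentWord
open scoped Matrix

variable (D : ChevalleyDatum) {F : Type*} [Field F]

theorem colSum_zero_of (l : List (ℕ × ℤ × ℕ)) (h : ∀ e ∈ l, e.2.2 ≠ 0) (k : ℕ) :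
    colSum (0 : F) l k = 0 := by
  unfold colSum
  apply List.sum_eq_zero
  intro x hx
  rw [List.mem_map] at hx
  obtain ⟨e, he, rfl⟩ := hx
  rw [zero_pow (h e he), mul_zero, ite_self]

theorem col_cons (r j : ℕ) : ∃ l, col D r j = (j, 1, 0) :: l ∧ ∀ e ∈ l, e.2.2 ≠ 0 := by
  unfold col
  by_cases h1 : j < D.rank
  · rw [if_pos h1]
    refine ⟨_, rfl, ?_⟩
    intro e he
    rw [List.mem_singleton] at he
    rw [he]
    exact one_ne_zero
  · rw [if_neg h1]
    by_cases h2 : j - D.rank = r
    · rw [if_pos h2]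
      refine ⟨_, rfl, ?_⟩
      intro e he
      exact absurd he (List.not_mem_nil)
    · rw [if_neg h2]
      by_cases h3 : j - D.rank = D.negIdx.getD r 0
      · rw [if_pos h3]
        refine ⟨_, rfl, ?_⟩
        intro e he
        rw [List.mem_cons, List.mem_map] at he
        rcases he with rfl | ⟨i, _, rfl⟩
        · exact two_ne_zero
        · exact one_ne_zero
      · rw [if_neg h3]
        refine ⟨_, rfl, ?_⟩
        intro e he
        rw [List.mem_flatMap] at he
        obtain ⟨a, _, ha⟩ := he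
        rw [List.mem_map] at ha
        obtain ⟨q, _, rfl⟩ := ha
        exact Nat.succ_ne_zero _

theorem colSum_zero_col (r j k : ℕ) : colSum (0 : F) (col D r j) k = if j = k then 1 else 0 := by
  obtain ⟨l, hl, hl'⟩ := col_cons D r j
  rw [hl, colSum_cons, colSum_zero_of l hl', add_zero]
  simp

/-- `x_r(0) = 1`. -/
theorem x_zero (r : ℕ) : D.x F r 0 = 1 := by
  unfold ChevalleyDatum.x
  split_ifs with h
  · ext i j
    rw [xMat_eq_colSum, colSum_zero_col, Matrix.one_apply]
    by_cases hij : i = j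
    · subst hij; rw [if_pos rfl, if_pos rfl]
    · rw [if_neg hij, if_neg (fun h' => hij (code_injective D h').symm)]
  · rfl

theorem x_eq_one_of_le {r : ℕ} (hr : D.nroots ≤ r) (t : F) : D.x F r t = 1 := by
  unfold ChevalleyDatum.x
  rw [dif_neg (by omega)]

/-- the word `n_r(p)` for a monomial `p = (±1, a, b)` -/
def nW (r : ℕ) (p : Mono) : List (ℕ × Mono) :=
  [(r, p), (D.neg r, (-p.1, -p.2.1, -p.2.2)), (r, p)]

/-- the word `h_r(p)` for a monomial `p = (±1, a, b)` -/
def hW (r : ℕ) (p : Mono) : List (ℕ × Mono) :=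
  nW D r p ++ nW D r (-1, 0, 0)

theorem evM_neg_inv {t u : F} {p : Mono} (hp : p.1 = 1 ∨ p.1 = -1) :
    evM t u (-p.1, -p.2.1, -p.2.2) = -(evM t u p)⁻¹ := by
  unfold evM
  rcases hp with h | h <;> rw [h] <;> simp only [zpow_neg, mul_inv] <;> push_cast <;> simp

theorem evM_neg_one (t u : F) : evM t u (-1, 0, 0) = -1 := by simp [evM]
theorem evM_one (t u : F) : evM t u (1, 0, 0) = 1 := by simp [evM]
theorem evM_t (t u : F) : evM t u (1, 1, 0) = t := by simp [evM]
theorem evM_neg_t (t u : F) : evM t u (-1, 1, 0) = -t := by simp [evM]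
theorem evM_u (t u : F) : evM t u (1, 0, 1) = u := by simp [evM]
theorem evM_neg_u (t u : F) : evM t u (-1, 0, 1) = -u := by simp [evM]

theorem evW_nW {t u : F} (r : ℕ) {p : Mono} (hp : p.1 = 1 ∨ p.1 = -1) :
    evW t u (nW D r p) = D.nWord r (evM t u p) := by
  show [(r, evM t u p), (D.neg r, evM t u (-p.1, -p.2.1, -p.2.2)), (r, evM t u p)] = _
  rw [evM_neg_inv hp]
  rfl

theorem evW_hW {t u : F} (r : ℕ) {p : Mono} (hp : p.1 = 1 ∨ p.1 = -1) :
    evW t u (hW D r p) = D.hWord r (evM t u p) := by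
  have h1 : evW t u (hW D r p) = evW t u (nW D r p) ++ evW t u (nW D r (-1, 0, 0)) := by
    simp only [evW, hW, List.map_append]
  rw [h1, evW_nW D r hp, evW_nW D r (Or.inr rfl), evM_neg_one]
  rfl

theorem nMat_eq {t : F} (r : ℕ) : D.nMat F r t = D.wordMat F (evW t 1 (nW D r (1, 1, 0))) := by
  rw [evW_nW D r (Or.inl rfl), evM_t]
  rfl

theorem hMat_eq {t : F} (r : ℕ) : D.hMat F r t = D.wordMat F (evW t 1 (hW D r (1, 1, 0))) := by
  rw [evW_hW D r (Or.inl rfl), evM_t]
  rfl

/-- `x_r(t) x_r(-t) = 1` for all `r`, from a check. -/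
theorem x_mul_x_neg_of_check {cols : ℕ → ℕ → List (ℕ × ℤ × ℕ)} (hc : ColsOK D cols) {r : ℕ}
    (h : checkEq (D.rank + D.nroots) D.nroots cols [(r, 1, 1, 0), (r, -1, 1, 0)] [] = true) (t : F) :
    D.x F r t * D.x F r (-t) = 1 := by
  by_cases ht : t = 0
  · subst ht
    rw [neg_zero, x_zero, mul_one]
  · have := wordMat_eq_of_checkEq D hc ht (one_ne_zero (α := F)) h
    simp only [evW, List.map_cons, List.map_nil, evM_t, evM_neg_t] at this
    simpa only [ChevalleyDatum.wordMat, List.map_cons, List.map_nil, List.prod_cons, List.prod_nil,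
      mul_one] using this

/-- `x_r(t)` and `x_s(u)` commute, from a check. -/
theorem x_comm_of_check {cols : ℕ → ℕ → List (ℕ × ℤ × ℕ)} (hc : ColsOK D cols) {r s : ℕ}
    (h : checkEq (D.rank + D.nroots) D.nroots cols [(r, 1, 1, 0), (s, 1, 0, 1)]
      [(s, 1, 0, 1), (r, 1, 1, 0)] = true) (t u : F) :
    D.x F r t * D.x F s u = D.x F s u * D.x F r t := by
  by_cases ht : t = 0
  · subst ht
    rw [x_zero, mul_one, one_mul]
  by_cases hu : u = 0
  · subst hu
    rw [x_zero, mul_one, one_mul]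
  have := wordMat_eq_of_checkEq D hc ht hu h
  simp only [evW, List.map_cons, List.map_nil, evM_t, evM_u] at this
  simpa only [ChevalleyDatum.wordMat, List.map_cons, List.map_nil, List.prod_cons, List.prod_nil,
      mul_one] using this

end Cfsg.Agent.ChevalleyStructure.LaurentNH
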