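import Mathlib

/-!
Abstract layer: an "adjoint" family `A : ι → Matrix ι ι R` (think of `A j = ad e_j` on the basis `e_j` of a Lie
algebra), its linear extension `adv A : (ι → R) → Matrix ι ι R`, the Jacobi identity for it and how it spreads
from generators; exponentials of nilpotent `A x` in characteristic zero are automorphisms.
-/

set_option autoImplicit false
set_option linter.unusedSectionVars false

namespace Cfsg.Agent.ChevalleyStructure.LieAbs

open Matrix

section Defs

variable {ι : Type*} [Fintype ι] [DecidableEq ι] {R : Type*} [CommRing R]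

/-- Linear extension of a family of matrices indexed by the basis. -/
def adv (A : ι → Matrix ι ι R) (y : ι → R) : Matrix ι ι R := ∑ j, y j • A j

theorem adv_add (A : ι → Matrix ι ι R) (x y : ι → R) : adv A (x + y) = adv A x + adv A y := by
  simp [adv, add_smul, Finset.sum_add_distrib]

theorem adv_smul (A : ι → Matrix ι ι R) (c : R) (y : ι → R) : adv A (c • y) = c • adv A y := by
  simp [adv, Finset.smul_sum, smul_smul]

theorem adv_zero (A : ι → Matrix ι ι R) : adv A 0 = 0 := by simp [adv]

theorem adv_neg (A : ι → Matrix ι ι R) (y : ι → R) : adv A (-y) = - adv A y := by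
  simp [adv, neg_smul]

theorem adv_sub (A : ι → Matrix ι ι R) (x y : ι → R) : adv A (x - y) = adv A x - adv A y := by
  rw [sub_eq_add_neg, adv_add, adv_neg, sub_eq_add_neg]

theorem adv_single (A : ι → Matrix ι ι R) (j : ι) (c : R) : adv A (Pi.single j c) = c • A j := by
  unfold adv
  rw [Finset.sum_eq_single j]
  · simp
  · intro b _ hb
    simp [Pi.single_eq_of_ne hb]
  · intro h
    exact absurd (Finset.mem_univ j) h

theorem adv_single_one (A : ι → Matrix ι ι R) (j : ι) : adv A (Pi.single j 1) = A j := by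
  rw [adv_single, one_smul]

/-- `adv` as a linear map. -/
def advLin (A : ι → Matrix ι ι R) : (ι → R) →ₗ[R] Matrix ι ι R where
  toFun := adv A
  map_add' := adv_add A
  map_smul' := adv_smul A

@[simp] theorem advLin_apply (A : ι → Matrix ι ι R) (y : ι → R) : advLin A y = adv A y := rfl

/-- The element `x` acts as a derivation: `ad [x, y] = [ad x, ad y]` for all `y`. -/
def Jac (A : ι → Matrix ι ι R) (x : ι → R) : Prop :=
  ∀ y : ι → R, adv A (adv A x *ᵥ y) = adv A x * adv A y - adv A y * adv A x

/-- `Jac` may be checked on basis vectors `y`. -/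
theorem jac_of_basis (A : ι → Matrix ι ι R) (x : ι → R)
    (h : ∀ j, adv A (adv A x *ᵥ Pi.single j 1) = adv A x * A j - A j * adv A x) : Jac A x := by
  intro y
  have hy : y = ∑ j, y j • (Pi.single j (1 : R) : ι → R) := by
    ext k
    simp [Finset.sum_apply, Pi.single_apply]
  have e1 : adv A (adv A x *ᵥ y) = ∑ j, y j • adv A (adv A x *ᵥ Pi.single j 1) := by
    have : (advLin A ∘ₗ Matrix.mulVecLin (adv A x)) y
        = ∑ j, y j • (advLin A ∘ₗ Matrix.mulVecLin (adv A x)) (Pi.single j 1) := by
      conv_lhs => rw [hy]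
      rw [map_sum]
      exact Finset.sum_congr rfl fun j _ => map_smul _ _ _
    simpa using this
  rw [e1]
  have e2 : adv A x * adv A y - adv A y * adv A x = ∑ j, y j • (adv A x * A j - A j * adv A x) := by
    have hy' : adv A y = ∑ j, y j • A j := rfl
    rw [hy', Finset.mul_sum, Finset.sum_mul, ← Finset.sum_sub_distrib]
    exact Finset.sum_congr rfl fun j _ => by rw [Matrix.mul_smul, Matrix.smul_mul, smul_sub]
  rw [e2]
  exact Finset.sum_congr rfl fun j _ => by rw [h j]

theorem Jac.add {A : ι → Matrix ι ι R} {x y : ι → R} (hx : Jac A x) (hy : Jac A y) : Jac A (x + y) := by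
  intro z
  rw [adv_add, Matrix.add_mulVec, adv_add, hx z, hy z]
  noncomm_ring

theorem Jac.smul {A : ι → Matrix ι ι R} {x : ι → R} (hx : Jac A x) (c : R) : Jac A (c • x) := by
  intro z
  rw [adv_smul, Matrix.smul_mulVec, adv_smul, hx z, Matrix.smul_mul, Matrix.mul_smul, smul_sub]

theorem jac_zero (A : ι → Matrix ι ι R) : Jac A 0 := by
  intro z
  simp [adv_zero]

theorem Jac.sum {A : ι → Matrix ι ι R} {κ : Type*} (s : Finset κ) (f : κ → ι → R)
    (h : ∀ k ∈ s, Jac A (f k)) : Jac A (∑ k ∈ s, f k) := by
  classical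
  induction s using Finset.induction_on with
  | empty => simpa using jac_zero A
  | insert a s ha ih =>
    rw [Finset.sum_insert ha]
    exact (h a (Finset.mem_insert_self a s)).add
      (ih fun k hk => h k (Finset.mem_insert_of_mem hk))

/-- Cancellation of a nonzero integer factor. -/
theorem Jac.of_smul {A : ι → Matrix ι ι ℤ} {x : ι → ℤ} (c : ℤ) (hc : c ≠ 0) (h : Jac A (c • x)) : Jac A x := by
  intro z
  have h1 := h z
  rw [adv_smul, Matrix.smul_mulVec, adv_smul, Matrix.smul_mul, Matrix.mul_smul, ← smul_sub] at h1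
  ext i j
  have h2 := congrFun (congrFun h1 i) j
  simp only [Matrix.smul_apply, smul_eq_mul] at h2
  exact mul_left_cancel₀ hc h2

/-- The bracket of two derivation-like elements is derivation-like. -/
theorem Jac.bracket {A : ι → Matrix ι ι R} {x y : ι → R} (hx : Jac A x) (hy : Jac A y) :
    Jac A (adv A x *ᵥ y) := by
  intro z
  rw [hx y, Matrix.sub_mulVec, adv_sub, ← Matrix.mulVec_mulVec, ← Matrix.mulVec_mulVec, hx (adv A y *ᵥ z),
    hy z, hy (adv A x *ᵥ z), hx z]
  noncomm_ring

theorem jac_of_forall_basis {A : ι → Matrix ι ι R} (h : ∀ j, Jac A (Pi.single j 1)) (x : ι → R) : Jac A x := by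
  have hx : x = ∑ j, x j • (Pi.single j (1 : R) : ι → R) := by
    ext k
    simp [Finset.sum_apply, Pi.single_apply]
  rw [hx]
  exact Jac.sum _ _ fun j _ => (h j).smul _

end Defs

section Map

variable {ι : Type*} [Fintype ι] [DecidableEq ι] {R S : Type*} [CommRing R] [CommRing S]

theorem adv_map (f : R →+* S) (A : ι → Matrix ι ι R) (y : ι → R) :
    (adv A y).map f = adv (fun j => (A j).map f) (fun j => f (y j)) := by
  ext i k
  simp [adv, Matrix.sum_apply, map_sum]

/-- Base change of the Jacobi identity. -/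
theorem Jac.map (f : R →+* S) {A : ι → Matrix ι ι R} (h : ∀ x, Jac A x) (x : ι → S) :
    Jac (fun j => (A j).map f) x := by
  refine jac_of_forall_basis (fun i => jac_of_basis _ _ fun j => ?_) x
  have h1 := congrArg (fun M : Matrix ι ι R => M.map f) (h (Pi.single i 1) (Pi.single j 1))
  simp only [adv_single_one] at h1 ⊢
  rw [adv_map] at h1
  have e1 : (fun k => f ((A i *ᵥ Pi.single j 1) k)) = (A i).map f *ᵥ Pi.single j 1 := by
    ext k
    simp [Matrix.map_apply]
  rw [e1] at h1
  rw [h1]
  rw [Matrix.map_sub f (map_sub f), Matrix.map_mul, Matrix.map_mul]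

end Map

section Exp

variable {ι : Type*} [Fintype ι] [DecidableEq ι] {K : Type*} [Field K] [CharZero K]

open IsNilpotent

theorem mulVecLin_pow (X : Matrix ι ι K) (m : ℕ) : (Matrix.mulVecLin X) ^ m = Matrix.mulVecLin (X ^ m) := by
  induction m with
  | zero => ext; simp
  | succ m ih => rw [_root_.pow_succ, ih, _root_.pow_succ, Matrix.mulVecLin_mul]; rfl

/-- Exponentials intertwine: if `[X, ad y] = ad (X y)` for all `y` and `X` is nilpotent, then
`exp X · ad y = ad (exp X y) · exp X`. -/
theorem exp_mul_adv (A : ι → Matrix ι ι K) (X : Matrix ι ι K) (hX : IsNilpotent X)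
    (h : ∀ y, adv A (X *ᵥ y) = X * adv A y - adv A y * X) (y : ι → K) :
    exp X * adv A y = adv A (exp X *ᵥ y) * exp X := by
  obtain ⟨n, hn⟩ := hX
  have hneg : (-X) ^ n = 0 := by rw [neg_pow, hn, mul_zero]
  -- left and right multiplications
  have hLn : (LinearMap.mulLeft K X) ^ n = 0 := by
    rw [LinearMap.pow_mulLeft, hn]; exact LinearMap.mulLeft_zero_eq_zero K _
  have hRn : (LinearMap.mulRight K (-X)) ^ n = 0 := by
    rw [LinearMap.pow_mulRight, hneg]; exact LinearMap.mulRight_zero_eq_zero K _
  have hMn : (Matrix.mulVecLin X) ^ n = 0 := by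
    rw [mulVecLin_pow, hn]; exact Matrix.mulVecLin_zero
  have hcomm : Commute (LinearMap.mulLeft K X) (LinearMap.mulRight K (-X)) :=
    LinearMap.commute_mulLeft_right X (-X)
  have hN : IsNilpotent (LinearMap.mulLeft K X + LinearMap.mulRight K (-X)) :=
    hcomm.isNilpotent_add ⟨n, hLn⟩ ⟨n, hRn⟩
  have key := Module.End.commute_exp_left_of_commute ⟨n, hMn⟩ hN (g := advLin A) (by
    ext1 j
    refine LinearMap.ext_ring ?_
    simp only [LinearMap.coe_comp, Function.comp_apply, LinearMap.coe_single, LinearMap.add_apply,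
      LinearMap.mulLeft_apply, LinearMap.mulRight_apply, advLin_apply,
      Matrix.mulVecLin_apply]
    rw [h, Matrix.mul_neg]
    abel)
  have hexpN : exp (LinearMap.mulLeft K X + LinearMap.mulRight K (-X))
      = exp (LinearMap.mulLeft K X) * exp (LinearMap.mulRight K (-X)) :=
    exp_add_of_commute hcomm ⟨n, hLn⟩ ⟨n, hRn⟩
  have eL : exp (LinearMap.mulLeft K X) = LinearMap.mulLeft K (exp X) := by
    rw [exp_eq_sum hn, exp_eq_sum hLn]
    ext Y : 1
    simp [LinearMap.pow_mulLeft, Finset.sum_mul, LinearMap.sum_apply]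
  have eR : exp (LinearMap.mulRight K (-X)) = LinearMap.mulRight K (exp (-X)) := by
    rw [exp_eq_sum hneg, exp_eq_sum hRn]
    ext Y : 1
    simp [LinearMap.pow_mulRight, Finset.mul_sum, LinearMap.sum_apply]
  have eM : exp (Matrix.mulVecLin X) y = exp X *ᵥ y := by
    rw [exp_eq_sum hn, exp_eq_sum hMn]
    simp only [LinearMap.sum_apply, LinearMap.smul_apply, mulVecLin_pow, Matrix.mulVecLin_apply,
      Matrix.sum_mulVec, Matrix.smul_mulVec]
  have := LinearMap.congr_fun key y
  rw [hexpN, eL, eR] at this
  simp only [LinearMap.coe_comp, Function.comp_apply, Module.End.mul_apply, LinearMap.mulLeft_apply,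
    LinearMap.mulRight_apply, advLin_apply, eM] at this
  rw [← this, Matrix.mul_assoc, Matrix.mul_assoc, exp_neg_mul_exp_self ⟨n, hn⟩, Matrix.mul_one]

/-- Conjugation and exponential. -/
theorem conj_exp (g g' X Y : Matrix ι ι K) (hg : g * g' = 1) (hg' : g' * g = 1) (hX : IsNilpotent X)
    (h : g * X = Y * g) : g * exp X * g' = exp Y := by
  have hY : Y = g * X * g' := by rw [h, Matrix.mul_assoc, hg, Matrix.mul_one]
  have hpow : ∀ m : ℕ, Y ^ m = g * X ^ m * g' := by
    intro m
    induction m with
    | zero => simp [hg]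
    | succ m ih =>
      rw [_root_.pow_succ, ih, _root_.pow_succ, hY]
      calc g * X ^ m * g' * (g * X * g') = g * X ^ m * (g' * g) * X * g' := by noncomm_ring
        _ = g * (X ^ m * X) * g' := by rw [hg', Matrix.mul_one, Matrix.mul_assoc g]
  obtain ⟨n, hn⟩ := hX
  rw [exp_eq_sum hn, exp_eq_sum (k := n) (by rw [hpow, hn]; simp)]
  simp only [Finset.mul_sum, Finset.sum_mul, hpow, Matrix.mul_smul, Matrix.smul_mul]

theorem conj_exp_mul (g g' X Y : Matrix ι ι K) (hg : g * g' = 1) (hg' : g' * g = 1) (hX : IsNilpotent X)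
    (h : g * X = Y * g) : g * exp X = exp Y * g := by
  rw [← conj_exp g g' X Y hg hg' hX h, Matrix.mul_assoc, hg', Matrix.mul_one]

/-- Exponential of a sum over a list of pairwise commuting nilpotents. -/
theorem exp_list_sum (l : List (Matrix ι ι K)) (hn : ∀ X ∈ l, IsNilpotent X)
    (hc : l.Pairwise Commute) : IsNilpotent l.sum ∧ exp l.sum = (l.map exp).prod := by
  induction l with
  | nil => simp
  | cons X l ih =>
    rw [List.pairwise_cons] at hc
    obtain ⟨h1, h2⟩ := ih (fun Y hY => hn Y (List.mem_cons_of_mem _ hY)) hc.2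
    have hcomm : Commute X l.sum := by
      have : ∀ l' : List (Matrix ι ι K), (∀ Y ∈ l', Commute X Y) → Commute X l'.sum := by
        intro l' 
        induction l' with
        | nil => intro _; simp
        | cons Y l' ih' =>
          intro h
          rw [List.sum_cons]
          exact (h Y (List.mem_cons_self ..)).add_right (ih' fun Z hZ => h Z (List.mem_cons_of_mem _ hZ))
      exact this l hc.1
    have hX := hn X (List.mem_cons_self ..)
    refine ⟨?_, ?_⟩
    · rw [List.sum_cons]
      exact hcomm.isNilpotent_add hX h1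
    · rw [List.sum_cons, exp_add_of_commute hcomm hX h1, h2, List.map_cons, List.prod_cons]

end Exp

end Cfsg.Agent.ChevalleyStructure.LieAbs
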