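import Cfsg.Agent.ChevalleyStructure.Elts

/-!
`H` is normal in `N`: consequence of the "sharp" form of `n_p x_s(t) n_p⁻¹ = x_{w_p s}(η t)` (the same sign for `s`
and `-s`), which gives `n_p n_s(t) n_p⁻¹ = n_{w_p s}(η t)` and `n_p h_s(t) n_p⁻¹ = n_{w_p s}(η t) n_{w_p s}(-η) ∈ H`.
-/

set_option autoImplicit false

namespace Cfsg.Agent.ChevalleyStructure.MonomialNormal

open Cfsg.Lie Cfsg.Agent.ChevalleyStructure.Elts

universe u

/-- The facts about conjugation by `n_p` (`p` fundamental) which are used here. -/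
structure Sharp (D : ChevalleyDatum) (F : Type u) [Field F] : Prop where
  neg_lt : ∀ s < D.nroots, D.neg s < D.nroots
  refl_lt : ∀ i < D.rank, ∀ s < D.nroots, D.reflectRoot i s < D.nroots
  simple_lt : ∀ i < D.rank, D.simple i < D.nroots
  conj : ∀ i < D.rank, ∀ s < D.nroots, ∃ η : F, (η = 1 ∨ η = -1) ∧ ∀ t : F,
    D.nMat F (D.simple i) 1 * D.x F s t = D.x F (D.reflectRoot i s) (η * t) * D.nMat F (D.simple i) 1 ∧
    D.nMat F (D.simple i) 1 * D.x F (D.neg s) t =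
      D.x F (D.neg (D.reflectRoot i s)) (η * t) * D.nMat F (D.simple i) 1
  reach : ∀ r < D.nroots, ∃ w : List ℕ, (∀ i ∈ w, i < D.rank) ∧ ∃ j < D.rank,
    w.foldr D.reflectRoot (D.simple j) = r

variable {D : ChevalleyDatum} {F : Type u} [Field F] (hD : InList D)

theorem nG_inv (r : ℕ) (t : F) : (nG hD r t)⁻¹ = nG hD r (-t) := by
  rw [nG_def, nG_def]
  simp only [mul_inv_rev, xG_inv, neg_neg, inv_neg, mul_assoc]

theorem nG_neg_one (r : ℕ) : nG hD r (-1 : F) = (nG hD r 1)⁻¹ := by rw [nG_inv]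

/-- `n_r(t) n_r(1)^{-1}` is `h_r(t)`. -/
theorem nG_mul_inv (r : ℕ) (t : F) : nG hD r t * (nG hD r 1)⁻¹ = hG hD r t := by
  rw [hG_def, nG_neg_one]

/-- `n_r(a) n_r(b)⁻¹ = h_r(a) h_r(b)⁻¹`. -/
theorem nG_mul_nG_inv (r : ℕ) (a b : F) : nG hD r a * (nG hD r b)⁻¹ = hG hD r a * (hG hD r b)⁻¹ := by
  rw [← nG_mul_inv, ← nG_mul_inv]
  group

theorem nG_mul_nG_inv_mem {r : ℕ} (hr : r < D.nroots) {a b : F} (ha : a ≠ 0) (hb : b ≠ 0) :
    nG hD r a * (nG hD r b)⁻¹ ∈ D.diagonalSubgroup F := by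
  rw [nG_mul_nG_inv]
  exact Subgroup.mul_mem _ (hG_mem_diagonal hD hr ha) (Subgroup.inv_mem _ (hG_mem_diagonal hD hr hb))

theorem nG_mem_monomial {r : ℕ} (hr : r < D.nroots) {a : F} (ha : a ≠ 0) :
    nG hD r a ∈ D.monomialSubgroup F := by
  have h1 := diagonal_le_monomial D F (nG_mul_nG_inv_mem hD hr ha one_ne_zero)
  have h2 := Subgroup.mul_mem _ h1 (nG_one_mem_monomial (F := F) hD hr)
  rwa [inv_mul_cancel_right] at h2

section

variable (hS : Sharp D F)
include hD hS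

/-- `n_p x_s(t) n_p⁻¹ = x_{w_p s}(η t)` and the same for `-s` with the same sign. -/
theorem xG_conj {i s : ℕ} (hi : i < D.rank) (hs : s < D.nroots) : ∃ η : F, (η = 1 ∨ η = -1) ∧ ∀ t : F,
    nG hD (D.simple i) 1 * xG hD s t * (nG hD (D.simple i) 1)⁻¹ = xG hD (D.reflectRoot i s) (η * t) ∧
    nG hD (D.simple i) 1 * xG hD (D.neg s) t * (nG hD (D.simple i) 1)⁻¹ =
      xG hD (D.neg (D.reflectRoot i s)) (η * t) := by
  obtain ⟨η, hη, h⟩ := hS.conj i hi s hs
  refine ⟨η, hη, fun t => ⟨?_, ?_⟩⟩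
  · rw [mul_inv_eq_iff_eq_mul]
    apply Units.ext
    simpa only [Units.val_mul, coe_nG, coe_xG] using (h t).1
  · rw [mul_inv_eq_iff_eq_mul]
    apply Units.ext
    simpa only [Units.val_mul, coe_nG, coe_xG] using (h t).2

theorem nG_conj {i s : ℕ} (hi : i < D.rank) (hs : s < D.nroots) : ∃ η : F, (η = 1 ∨ η = -1) ∧ ∀ t : F,
    nG hD (D.simple i) 1 * nG hD s t * (nG hD (D.simple i) 1)⁻¹ = nG hD (D.reflectRoot i s) (η * t) := by
  obtain ⟨η, hη, h⟩ := xG_conj hD hS hi hs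
  refine ⟨η, hη, fun t => ?_⟩
  have h3 : (η * t)⁻¹ = η * t⁻¹ := by
    rcases hη with rfl | rfl
    · simp
    · rw [neg_one_mul, neg_one_mul, inv_neg]
  rw [nG_def hD s t, nG_def hD (D.reflectRoot i s), ← (h t).1, h3]
  rw [show -(η * t⁻¹) = η * (-t⁻¹) by ring, ← (h (-t⁻¹)).2]
  group

/-- `n_p h_s(t) n_p⁻¹ = n_{w_p s}(η t) n_{w_p s}(η)⁻¹`. -/
theorem hG_conj {i s : ℕ} (hi : i < D.rank) (hs : s < D.nroots) : ∃ η : F, (η = 1 ∨ η = -1) ∧ ∀ t : F,
    nG hD (D.simple i) 1 * hG hD s t * (nG hD (D.simple i) 1)⁻¹ =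
      nG hD (D.reflectRoot i s) (η * t) * (nG hD (D.reflectRoot i s) η)⁻¹ := by
  obtain ⟨η, hη, h⟩ := nG_conj hD hS hi hs
  refine ⟨η, hη, fun t => ?_⟩
  have h1 := h 1
  rw [mul_one] at h1
  rw [← nG_mul_inv, ← h t, ← h1]
  group

theorem hG_conj_mem {i s : ℕ} (hi : i < D.rank) (hs : s < D.nroots) {t : F} (ht : t ≠ 0) :
    nG hD (D.simple i) 1 * hG hD s t * (nG hD (D.simple i) 1)⁻¹ ∈ D.diagonalSubgroup F := by
  obtain ⟨η, hη, h⟩ := hG_conj hD hS hi hs
  have hη0 : η ≠ 0 := by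
    rcases hη with rfl | rfl
    · exact one_ne_zero
    · exact neg_ne_zero.2 one_ne_zero
  rw [h t]
  exact nG_mul_nG_inv_mem hD (hS.refl_lt i hi s hs) (mul_ne_zero hη0 ht) hη0

/-- Conjugation by `n_p` maps `H` into `H`. -/
theorem conj_diagonal_le {i : ℕ} (hi : i < D.rank) :
    D.diagonalSubgroup F ≤ (D.diagonalSubgroup F).comap
      (MulAut.conj (nG hD (D.simple i) (1 : F))).toMonoidHom := by
  rw [diagonal_le_iff hD]
  intro s hs t ht
  exact hG_conj_mem hD hS hi hs ht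

/-- `n_p` normalises `H`. -/
theorem nG_simple_mem_normalizer {i : ℕ} (hi : i < D.rank) :
    nG hD (D.simple i) (1 : F) ∈ Subgroup.normalizer (D.diagonalSubgroup F : Set (GL D.Idx F)) := by
  have hfwd : ∀ h ∈ D.diagonalSubgroup F,
      nG hD (D.simple i) 1 * h * (nG hD (D.simple i) 1)⁻¹ ∈ D.diagonalSubgroup F :=
    fun h hh => conj_diagonal_le hD hS hi hh
  have hsi := hS.simple_lt i hi
  -- `n⁻¹ = n * k` with `k ∈ H`
  have hk : nG hD (D.simple i) (-1 : F) * nG hD (D.simple i) (-1 : F) ∈ D.diagonalSubgroup F := by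
    have := hG_mem_diagonal (F := F) hD hsi (t := -1) (neg_ne_zero.2 one_ne_zero)
    rwa [hG_def] at this
  have hinv : (nG hD (D.simple i) (1 : F))⁻¹ =
      nG hD (D.simple i) (1 : F) * (nG hD (D.simple i) (-1 : F) * nG hD (D.simple i) (-1 : F)) := by
    rw [nG_neg_one]
    group
  rw [Subgroup.mem_normalizer_iff]
  intro h
  refine ⟨hfwd h, fun hh => ?_⟩
  -- conjugate back
  have h2 : (nG hD (D.simple i) (1 : F))⁻¹ * (nG hD (D.simple i) 1 * h * (nG hD (D.simple i) 1)⁻¹) *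
      nG hD (D.simple i) (1 : F) = h := by group
  set k := nG hD (D.simple i) (-1 : F) * nG hD (D.simple i) (-1 : F) with hkdef
  have h3 : (nG hD (D.simple i) (1 : F))⁻¹ * (nG hD (D.simple i) 1 * h * (nG hD (D.simple i) 1)⁻¹) *
      nG hD (D.simple i) (1 : F) =
      nG hD (D.simple i) 1 * (k * (nG hD (D.simple i) 1 * h * (nG hD (D.simple i) 1)⁻¹) * k⁻¹) *
        (nG hD (D.simple i) 1)⁻¹ := by
    have h4 : nG hD (D.simple i) (1 : F) = (nG hD (D.simple i) (1 : F) * k)⁻¹ := by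
      rw [← hinv, inv_inv]
    have h5 : nG hD (D.simple i) (1 : F) * k = (nG hD (D.simple i) (1 : F))⁻¹ := hinv.symm
    calc (nG hD (D.simple i) (1 : F))⁻¹ * (nG hD (D.simple i) 1 * h * (nG hD (D.simple i) 1)⁻¹) *
          nG hD (D.simple i) (1 : F)
        = (nG hD (D.simple i) (1 : F))⁻¹ * (nG hD (D.simple i) 1 * h * (nG hD (D.simple i) 1)⁻¹) *
          ((nG hD (D.simple i) (1 : F))⁻¹)⁻¹ := by rw [inv_inv]
      _ = (nG hD (D.simple i) (1 : F) * k) * (nG hD (D.simple i) 1 * h * (nG hD (D.simple i) 1)⁻¹) *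
          (nG hD (D.simple i) (1 : F) * k)⁻¹ := by rw [h5]
      _ = _ := by rw [mul_inv_rev]; group
  rw [← h2, h3]
  exact hfwd _ (Subgroup.mul_mem _ (Subgroup.mul_mem _ hk hh) (Subgroup.inv_mem _ hk))

/-- Every `n_r(±1)` with `r = w(p)` normalises `H`. -/
theorem nG_mem_normalizer_word (w : List ℕ) (hw : ∀ i ∈ w, i < D.rank) {j : ℕ} (hj : j < D.rank) :
    w.foldr D.reflectRoot (D.simple j) < D.nroots ∧ ∀ t : F, (t = 1 ∨ t = -1) →
    nG hD (w.foldr D.reflectRoot (D.simple j)) t ∈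
      Subgroup.normalizer (D.diagonalSubgroup F : Set (GL D.Idx F)) := by
  induction w with
  | nil =>
    refine ⟨hS.simple_lt j hj, ?_⟩
    intro t ht
    rcases ht with rfl | rfl
    · exact nG_simple_mem_normalizer hD hS hj
    · rw [List.foldr_nil, nG_neg_one]
      exact Subgroup.inv_mem _ (nG_simple_mem_normalizer hD hS hj)
  | cons i w ih =>
    have hi : i < D.rank := hw i List.mem_cons_self
    obtain ⟨h1, h2⟩ := ih fun k hk => hw k (List.mem_cons_of_mem _ hk)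
    rw [List.foldr_cons]
    refine ⟨hS.refl_lt i hi _ h1, ?_⟩
    intro t ht
    obtain ⟨η, hη, h⟩ := nG_conj hD hS hi h1
    have hηη : η * η = 1 := by
      rcases hη with rfl | rfl <;> simp
    have h3 := h (η * t)
    rw [← mul_assoc, hηη, one_mul] at h3
    rw [← h3]
    have h4 : η * t = 1 ∨ η * t = -1 := by
      rcases hη with rfl | rfl <;> rcases ht with rfl | rfl <;> simp
    have h5 := nG_simple_mem_normalizer hD hS hi
    exact Subgroup.mul_mem _ (Subgroup.mul_mem _ h5 (h2 _ h4)) (Subgroup.inv_mem _ h5)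

theorem nG_one_mem_normalizer {r : ℕ} (hr : r < D.nroots) :
    nG hD r (1 : F) ∈ Subgroup.normalizer (D.diagonalSubgroup F : Set (GL D.Idx F)) := by
  obtain ⟨w, hw, j, hj, rfl⟩ := hS.reach r hr
  exact (nG_mem_normalizer_word hD hS w hw hj).2 1 (Or.inl rfl)

/-- `N` normalises `H`. -/
theorem monomial_le_normalizer :
    D.monomialSubgroup F ≤ Subgroup.normalizer (D.diagonalSubgroup F : Set (GL D.Idx F)) := by
  rw [monomial_le_iff hD]
  exact ⟨fun r hr t ht => Subgroup.le_normalizer (hG_mem_diagonal hD hr ht),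
    fun r hr => nG_one_mem_normalizer hD hS hr⟩

theorem normal : ((D.diagonalSubgroup F).subgroupOf (D.monomialSubgroup F)).Normal :=
  Subgroup.normal_subgroupOf_of_le_normalizer (monomial_le_normalizer hD hS)

/-- `N` is generated by `H` and the `n_p`, `p` fundamental. -/
theorem nG_mem_simple_gen (w : List ℕ) (hw : ∀ i ∈ w, i < D.rank) {j : ℕ} (hj : j < D.rank) :
    w.foldr D.reflectRoot (D.simple j) < D.nroots ∧ ∀ t : F, (t = 1 ∨ t = -1) →
    nG hD (w.foldr D.reflectRoot (D.simple j)) t ∈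
      Subgroup.closure {g : GL D.Idx F | ∃ i < D.rank, g = nG hD (D.simple i) 1} := by
  induction w with
  | nil =>
    refine ⟨hS.simple_lt j hj, ?_⟩
    intro t ht
    have h0 : nG hD (D.simple j) (1 : F) ∈
        Subgroup.closure {g : GL D.Idx F | ∃ i < D.rank, g = nG hD (D.simple i) 1} :=
      Subgroup.subset_closure ⟨j, hj, rfl⟩
    rcases ht with rfl | rfl
    · exact h0
    · rw [List.foldr_nil, nG_neg_one]
      exact Subgroup.inv_mem _ h0
  | cons i w ih =>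
    have hi : i < D.rank := hw i List.mem_cons_self
    obtain ⟨h1, h2⟩ := ih fun k hk => hw k (List.mem_cons_of_mem _ hk)
    rw [List.foldr_cons]
    refine ⟨hS.refl_lt i hi _ h1, ?_⟩
    intro t ht
    obtain ⟨η, hη, h⟩ := nG_conj hD hS hi h1
    have hηη : η * η = 1 := by
      rcases hη with rfl | rfl <;> simp
    have h3 := h (η * t)
    rw [← mul_assoc, hηη, one_mul] at h3
    rw [← h3]
    have h4 : η * t = 1 ∨ η * t = -1 := by
      rcases hη with rfl | rfl <;> rcases ht with rfl | rfl <;> simp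
    have h5 : nG hD (D.simple i) (1 : F) ∈
        Subgroup.closure {g : GL D.Idx F | ∃ i < D.rank, g = nG hD (D.simple i) 1} :=
      Subgroup.subset_closure ⟨i, hi, rfl⟩
    exact Subgroup.mul_mem _ (Subgroup.mul_mem _ h5 (h2 _ h4)) (Subgroup.inv_mem _ h5)

theorem monomial_eq : D.monomialSubgroup F =
    D.diagonalSubgroup F ⊔ Subgroup.closure {g : GL D.Idx F | ∃ i < D.rank, g = nG hD (D.simple i) 1} := by
  apply le_antisymm
  · rw [monomial_le_iff hD]
    refine ⟨fun r hr t ht => (le_sup_left : D.diagonalSubgroup F ≤ _) (hG_mem_diagonal hD hr ht), ?_⟩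
    intro r hr
    obtain ⟨w, hw, j, hj, rfl⟩ := hS.reach r hr
    exact (le_sup_right : Subgroup.closure {g : GL D.Idx F | ∃ i < D.rank, g = nG hD (D.simple i) 1} ≤ _)
      ((nG_mem_simple_gen hD hS w hw hj).2 1 (Or.inl rfl))
  · refine sup_le (diagonal_le_monomial D F) ((Subgroup.closure_le _).2 ?_)
    rintro g ⟨i, hi, rfl⟩
    exact nG_one_mem_monomial hD (hS.simple_lt i hi)

end

end Cfsg.Agent.ChevalleyStructure.MonomialNormal
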