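import Cfsg.Agent.ChevalleyStructure.Elts
import Cfsg.Agent.ChevalleyStructure.Reach
import Cfsg.Agent.ChevalleyStructure.RootComb
import Cfsg.Agent.S1031
import Cfsg.Agent.S1095

/-!
# `n_p n_s(t) n_p⁻¹ = n_{w_p(s)}(±t)` and the structure of `N`

From S1031 (`n_p x_s(t) n_p⁻¹ = x_{w_p(s)}(η t)`) and the monomial form S1095 of `n_p` it follows that the sign is
the same for `s` and `-s`; hence conjugation by `n_p` maps `n_s(t)` to `n_{w_p(s)}(η t)`, and `N` is
generated by `H` and the `n_p`, `p` simple, and `H` is normal in `N`.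
-/

set_option autoImplicit false

namespace Cfsg.Agent.ChevalleyStructure.NConj

open Cfsg.Lie Cfsg.Agent.ChevalleyStructure.Elts Cfsg.Agent.ChevalleyStructure.Columns
  Cfsg.Agent.ChevalleyStructure.Additive

universe u

/-! ### Antisymmetry of the Cartan table -/

/-- Each row of the Cartan table is antisymmetric under reversal. -/
def carCheck (D : ChevalleyDatum) : Bool :=
  Nat.beq D.cartanSR.toList.length D.rank &&
  D.cartanSR.toList.all fun row => Nat.beq row.toList.length D.nroots &&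
    decide (row.toList.reverse = row.toList.map fun c => -c)

set_option maxRecDepth 100000 in
theorem carCheck_G2 : carCheck chevG2 = true := by decide +kernel
set_option maxRecDepth 100000 in
theorem carCheck_B2 : carCheck chevB2 = true := by decide +kernel
set_option maxRecDepth 100000 in
theorem carCheck_D4 : carCheck chevD4 = true := by decide +kernel
set_option maxRecDepth 100000 in
theorem carCheck_F4 : carCheck chevF4 = true := by decide +kernel
set_option maxRecDepth 100000 in
theorem carCheck_E6 : carCheck chevE6 = true := by decide +kernel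
set_option maxRecDepth 100000 in
theorem carCheck_E7 : carCheck chevE7 = true := by decide +kernel
set_option maxRecDepth 100000 in
theorem carCheck_E8 : carCheck chevE8 = true := by decide +kernel

theorem carCheck_of_mem {D : ChevalleyDatum} (hD : InList D) : carCheck D = true := by
  simp only [InList, List.mem_cons, List.not_mem_nil, or_false] at hD
  rcases hD with h | h | h | h | h | h | h <;> rw [h]
  · exact carCheck_G2
  · exact carCheck_B2
  · exact carCheck_D4
  · exact carCheck_F4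
  · exact carCheck_E6
  · exact carCheck_E7
  · exact carCheck_E8

theorem car_neg {D : ChevalleyDatum} (hD : InList D) {i s : ℕ} (hi : i < D.rank) (hs : s < D.nroots) :
    car D i (D.neg s) = - car D i s := by
  have h := carCheck_of_mem hD
  unfold carCheck at h
  rw [Bool.and_eq_true, List.all_eq_true] at h
  have hlen : D.cartanSR.size = D.rank := by simpa using Nat.eq_of_beq_eq_true h.1
  have hi' : i < D.cartanSR.size := by omega
  have hrow := h.2 (D.cartanSR[i]) (by simp)
  rw [Bool.and_eq_true, decide_eq_true_eq] at hrow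
  set row := D.cartanSR[i] with hrowdef
  have hl : row.toList.length = D.nroots := Nat.eq_of_beq_eq_true hrow.1
  have hsz : row.size = D.nroots := by simpa using hl
  have hrev := hrow.2
  have hneg := Reach.neg_eq hD hs
  have e1 : ∀ k, car D i k = row.getD k 0 := by
    intro k
    rw [car_def, Array.getD_eq_getD_getElem? (xs := D.cartanSR), Array.getElem?_eq_getElem hi',
      Option.getD_some]
  have e2 : ∀ k, row.getD k 0 = row.toList.getD k 0 := by
    intro k
    rw [Array.getD_eq_getD_getElem?, List.getD_eq_getElem?_getD, Array.getElem?_toList]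
  rw [e1, e1, e2, e2, hneg]
  have h3 : row.toList.reverse.getD s 0 = - row.toList.getD s 0 := by
    rw [hrev, List.getD_eq_getElem?_getD, List.getD_eq_getElem?_getD, List.getElem?_map]
    rw [List.getElem?_eq_getElem (by omega)]
    rfl
  rw [← h3, List.getD_eq_getElem?_getD, List.getD_eq_getElem?_getD, List.getElem?_reverse (by omega), hl]

/-! ### The entry of `x_s(t) x_{-s}(u)` at `(e_s, e_s)` -/

section entry

variable {D : ChevalleyDatum} (hD : InList D) {F : Type u} [Field F]

include hD in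
theorem entry (s : Fin D.nroots) (t u : F) :
    (D.x F s t * D.x F (D.neg s) u) (Sum.inr s) (Sum.inr s) = (1 + t * u) ^ 2 := by
  have hneg : D.neg s < D.nroots := Reach.neg_lt hD s.2
  have hnn : D.neg (D.neg s) = s := Reach.neg_neg hD s.2
  have g1 := Good.goodAt_of_mem D hD (D.neg s) hneg
  rw [x_of_lt s.2, x_of_lt hneg, Matrix.mul_apply]
  have hne : s ≠ ⟨D.neg s, hneg⟩ := by
    intro h
    have h' : (s : ℕ) = D.neg s := congrArg Fin.val h
    exact g1.neg_ne (by show D.neg (D.neg s) = D.neg s; rw [hnn]; exact h')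
  have e1 : ∀ v, D.xMat F ⟨D.neg s, hneg⟩ u v (Sum.inr s) =
      dl F D v s.val + (∑ i : Fin D.rank, (cor D (D.neg s) i.val : F) * u *
        (if v = Sum.inl i then 1 else 0)) - u ^ 2 * dl F D v (D.neg s) := fun v =>
    xMat_neg D ⟨D.neg s, hneg⟩ u v s hnn.symm hne
  simp only [e1, mul_sub, mul_add, Finset.sum_sub_distrib, Finset.sum_add_distrib]
  rw [sum_mul_dl]
  have e2 : ∀ A : D.Idx → F, ∑ v, A v * (u ^ 2 * dl F D v (D.neg s)) = u ^ 2 * A (Sum.inr ⟨D.neg s, hneg⟩) := by
    intro A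
    have := sum_mul_dl A ⟨D.neg s, hneg⟩
    rw [← this, Finset.mul_sum]
    exact Finset.sum_congr rfl fun v _ => by ring
  rw [e2]
  have e3 : ∑ v : D.Idx, D.xMat F ⟨s, s.2⟩ t (Sum.inr s) v *
      (∑ i : Fin D.rank, (cor D (D.neg s) i.val : F) * u * (if v = Sum.inl i then 1 else 0)) = 2 * t * u := by
    simp only [Finset.mul_sum]
    rw [Finset.sum_comm]
    have e4 : ∀ i : Fin D.rank, ∑ v : D.Idx, D.xMat F ⟨s, s.2⟩ t (Sum.inr s) v *
        ((cor D (D.neg s) i.val : F) * u * (if v = Sum.inl i then 1 else 0)) =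
        ((cor D (D.neg s) i.val : F) * (car D i (D.neg s) : F)) * (t * u) := by
      intro i
      have h5 : ∀ v : D.Idx, D.xMat F ⟨s, s.2⟩ t (Sum.inr s) v *
          ((cor D (D.neg s) i.val : F) * u * (if v = Sum.inl i then 1 else 0)) =
          (D.xMat F ⟨s, s.2⟩ t (Sum.inr s) v * ((cor D (D.neg s) i.val : F) * u)) *
            (if v = Sum.inl i then 1 else 0) := fun v => by ring
      simp only [h5]
      rw [sum_mul_ite (fun v => D.xMat F ⟨s, s.2⟩ t (Sum.inr s) v * ((cor D (D.neg s) i.val : F) * u)),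
        xMat_inl, dl_inr, if_pos rfl, if_neg (by simp), car_neg hD i.2 s.2]
      push_cast
      ring
    simp only [e4]
    rw [← Finset.sum_mul]
    have h6 := g1.two
    rw [Finset.sum_range] at h6
    have h7 : ∑ x : Fin D.rank, (cor D (D.neg s) x.val : F) * (car D x.val (D.neg s) : F) = 2 := by
      exact_mod_cast congrArg (Int.cast : ℤ → F) h6
    rw [h7]
    ring
  rw [e3]
  have e5 : D.xMat F ⟨s, s.2⟩ t (Sum.inr s) (Sum.inr s) = 1 := by
    have := xMat_self D s t (Sum.inr s)
    rw [dl_inr, if_pos rfl] at this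
    exact this
  have e6 : D.xMat F ⟨s, s.2⟩ t (Sum.inr s) (Sum.inr ⟨D.neg s, hneg⟩) = -(t ^ 2) := by
    have hne' : (⟨D.neg s, hneg⟩ : Fin D.nroots) ≠ s := fun h => hne h.symm
    have := xMat_neg D s t (Sum.inr s) ⟨D.neg s, hneg⟩ rfl hne'
    have h8 : ¬ (s : ℕ) = D.neg s := fun h => hne (Fin.ext h)
    rw [dl_inr, dl_inr, if_pos rfl, if_neg h8] at this
    simpa using this
  rw [e5, e6]
  ring

end entry

/-! ### Equality of the signs for `s` and `-s` -/

section sign

variable {D : ChevalleyDatum} (hD : InList D) {F : Type u} [Field F]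

include hD in
/-- The column `e_s` of `n_p` is a non-zero multiple of `e_{w_p(s)}`, and the row `e_{w_p(s)}` has its only non-zero
entry there. -/
theorem monomial {i : ℕ} (hi : i < D.rank) (s : Fin D.nroots) :
    ∃ c : F, c ≠ 0 ∧
      (∀ v : D.Idx, D.nMat F (D.simple i) 1 v (Sum.inr s) =
        if v = Sum.inr ⟨D.reflectRoot i s, Reach.reflect_lt hD hi s.2⟩ then c else 0) ∧
      (∀ v : D.Idx, D.nMat F (D.simple i) 1 (Sum.inr ⟨D.reflectRoot i s, Reach.reflect_lt hD hi s.2⟩) v =
        if v = Sum.inr s then c else 0) := by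
  obtain ⟨η, h1, -, -, -, h5⟩ := S1095.result (F := F) D hD i hi
  refine ⟨((η s : ℤ) : F), ?_, ?_, ?_⟩
  · rcases h1 s s.2 with h | h <;> rw [h] <;> simp
  · intro v
    rw [h5, Matrix.of_apply]
    rcases v with j | s'
    · simp
    · by_cases h : (s' : ℕ) = D.reflectRoot i s
      · have h' : s' = ⟨D.reflectRoot i s, Reach.reflect_lt hD hi s.2⟩ := Fin.ext h
        simp [h']
      · have h' : s' ≠ ⟨D.reflectRoot i s, Reach.reflect_lt hD hi s.2⟩ := fun h'' => h (congrArg Fin.val h'')
        rw [if_neg (fun e => h' (Sum.inr_injective e))]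
        exact if_neg h
  · intro v
    rw [h5, Matrix.of_apply]
    rcases v with j | s'
    · simp
    · by_cases h : s' = s
      · subst h
        simp
      · have h' : ¬ D.reflectRoot i s = D.reflectRoot i s' := by
          intro e
          apply h
          have e2 := congrArg (D.reflectRoot i) e
          rw [Reach.reflect_reflect hD hi s.2, Reach.reflect_reflect hD hi s'.2] at e2
          exact (Fin.ext e2).symm
        rw [if_neg (fun e => h (Sum.inr_injective e))]
        exact if_neg h'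

include hD in
theorem sign_eq {i s : ℕ} (hi : i < D.rank) (hs : s < D.nroots) {η η' : F} (hη : η = 1 ∨ η = -1)
    (hη' : η' = 1 ∨ η' = -1)
    (h1 : ∀ t : F, D.nMat F (D.simple i) 1 * D.x F s t =
      D.x F (D.reflectRoot i s) (η * t) * D.nMat F (D.simple i) 1)
    (h2 : ∀ t : F, D.nMat F (D.simple i) 1 * D.x F (D.neg s) t =
      D.x F (D.reflectRoot i (D.neg s)) (η' * t) * D.nMat F (D.simple i) 1) : η' = η := by
  by_contra hne
  have hprod : η * η' = -1 := by
    rcases hη with h | h <;> rcases hη' with h' | h' <;> rw [h, h'] at hne ⊢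
    · exact absurd rfl hne
    · ring
    · ring
    · exact absurd rfl hne
  have h20 : (2 : F) ≠ 0 := by
    intro h2
    have : (1 : F) = -1 := by
      have : (1 : F) + 1 = 0 := by rw [← h2]; norm_num
      exact eq_neg_of_add_eq_zero_left this
    rcases hη with h | h <;> rcases hη' with h' | h' <;> rw [h, h'] at hne
    · exact hne rfl
    · exact hne this.symm
    · exact hne this
    · exact hne rfl
  have key : D.nMat F (D.simple i) 1 * (D.x F s 1 * D.x F (D.neg s) 1) =
      (D.x F (D.reflectRoot i s) η * D.x F (D.neg (D.reflectRoot i s)) η') * D.nMat F (D.simple i) 1 := by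
    have e1 := h1 1
    have e2 := h2 1
    rw [mul_one] at e1 e2
    rw [Reach.reflect_neg hD hi hs] at e2
    rw [← mul_assoc, e1, mul_assoc, e2, mul_assoc]
  obtain ⟨c, hc, hcol, hrow⟩ := monomial (F := F) hD hi ⟨s, hs⟩
  set w : Fin D.nroots := ⟨D.reflectRoot i s, Reach.reflect_lt hD hi hs⟩ with hw
  have k1 := congrFun (congrFun key (Sum.inr w)) (Sum.inr ⟨s, hs⟩)
  rw [Matrix.mul_apply, Matrix.mul_apply] at k1
  have l1 : ∑ j : D.Idx, D.nMat F (D.simple i) 1 (Sum.inr w) j *
      (D.x F s 1 * D.x F (D.neg s) 1) j (Sum.inr ⟨s, hs⟩) = c * 4 := by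
    rw [Finset.sum_eq_single (Sum.inr ⟨s, hs⟩)]
    · rw [hrow, if_pos rfl, entry hD ⟨s, hs⟩ 1 1]
      norm_num
    · intro b _ hb
      rw [hrow, if_neg hb, zero_mul]
    · intro h
      exact absurd (Finset.mem_univ _) h
  have l2 : ∑ j : D.Idx, (D.x F (D.reflectRoot i s) η * D.x F (D.neg (D.reflectRoot i s)) η') (Sum.inr w) j *
      D.nMat F (D.simple i) 1 j (Sum.inr ⟨s, hs⟩) = 0 := by
    rw [Finset.sum_eq_single (Sum.inr w)]
    · have := entry hD (F := F) w η η'
      rw [hprod] at this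
      have e : (D.x F (D.reflectRoot i s) η * D.x F (D.neg (D.reflectRoot i s)) η') (Sum.inr w) (Sum.inr w) = 0 := by
        refine Eq.trans this ?_
        ring
      rw [e, zero_mul]
    · intro b _ hb
      rw [hcol, if_neg hb, mul_zero]
    · intro h
      exact absurd (Finset.mem_univ _) h
  rw [l1, l2] at k1
  have h4 : (4 : F) ≠ 0 := by
    have : (4 : F) = 2 * 2 := by norm_num
    rw [this]
    exact mul_ne_zero h20 h20
  exact mul_ne_zero hc h4 k1

end sign

/-! ### Consequences in the general linear group -/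

section gl

variable {D : ChevalleyDatum} (hD : InList D) {F : Type u} [Field F]

/-- the element `n_{p_{i+1}}` -/
abbrev nS (F : Type u) [Field F] (i : ℕ) : GL D.Idx F := nG hD (D.simple i) 1

theorem nG_inv (r : ℕ) (t : F) : (nG hD r t)⁻¹ = nG hD r (-t) := by
  rw [nG_def, nG_def, mul_inv_rev, mul_inv_rev, xG_inv, xG_inv, inv_neg, neg_neg, mul_assoc]

theorem hG_eq (r : ℕ) (t : F) : hG hD r t = nG hD r t * (nG hD r 1)⁻¹ := by
  rw [hG_def, nG_inv]

theorem nG_eq (r : ℕ) (t : F) : nG hD r t = hG hD r t * nG hD r 1 := by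
  rw [hG_eq, inv_mul_cancel_right]

theorem hG_one (r : ℕ) : hG hD r (1 : F) = 1 := by
  rw [hG_eq, mul_inv_cancel]

theorem hG_neg_one (r : ℕ) : hG hD r (-1 : F) = (nG hD r 1)⁻¹ * (nG hD r 1)⁻¹ := by
  rw [hG_eq, ← nG_inv]

theorem nG_one_mul_self (r : ℕ) : nG hD r (1 : F) * nG hD r 1 = (hG hD r (-1))⁻¹ := by
  rw [hG_neg_one, mul_inv_rev, inv_inv]

/-- The key identity `x_{-r}(-t⁻¹) = x_r(-t) n_r(t) x_r(-t)`. -/
theorem xG_neg_eq (r : ℕ) (t : F) :
    xG hD (D.neg r) (-t⁻¹) = xG hD r (-t) * nG hD r t * xG hD r (-t) := by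
  rw [nG_def, ← xG_inv hD r t]
  group

theorem nG_mem_monomial {r : ℕ} (hr : r < D.nroots) {t : F} (ht : t ≠ 0) :
    nG hD r t ∈ D.monomialSubgroup F := by
  rw [nG_eq]
  exact mul_mem (diagonal_le_monomial D F (hG_mem_diagonal hD hr ht)) (nG_one_mem_monomial hD hr)

theorem nG_one_sq_mem {r : ℕ} (hr : r < D.nroots) :
    nG hD r (1 : F) * nG hD r 1 ∈ D.diagonalSubgroup F := by
  rw [nG_one_mul_self]
  exact inv_mem (hG_mem_diagonal hD hr (neg_ne_zero.2 one_ne_zero))

/-- `n_p x_s(t) n_p⁻¹ = x_{w_p(s)}(η t)` and `n_p x_{-s}(t) n_p⁻¹ = x_{-w_p(s)}(η t)` with the same sign `η`. -/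
theorem conj_x {i s : ℕ} (hi : i < D.rank) (hs : s < D.nroots) :
    ∃ η : F, (η = 1 ∨ η = -1) ∧
      (∀ t : F, nS hD F i * xG hD s t * (nS hD F i)⁻¹ = xG hD (D.reflectRoot i s) (η * t)) ∧
      (∀ t : F, nS hD F i * xG hD (D.neg s) t * (nS hD F i)⁻¹ =
        xG hD (D.neg (D.reflectRoot i s)) (η * t)) := by
  obtain ⟨η, h1, h2⟩ := S1031.result (F := F) D hD i s hi hs
  obtain ⟨η', h1', h2'⟩ := S1031.result (F := F) D hD i (D.neg s) hi (Reach.neg_lt hD hs)
  have hη : ((η : ℤ) : F) = 1 ∨ ((η : ℤ) : F) = -1 := by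
    rcases h1 with h | h <;> rw [h] <;> simp
  have hη' : ((η' : ℤ) : F) = 1 ∨ ((η' : ℤ) : F) = -1 := by
    rcases h1' with h | h <;> rw [h] <;> simp
  have he := sign_eq hD hi hs hη hη' h2 h2'
  refine ⟨η, hη, fun t => ?_, fun t => ?_⟩
  · rw [mul_inv_eq_iff_eq_mul]
    refine Units.ext ?_
    rw [Units.val_mul, Units.val_mul, coe_nG, coe_xG, coe_xG]
    exact h2 t
  · rw [mul_inv_eq_iff_eq_mul, ← Reach.reflect_neg hD hi hs, ← he]
    refine Units.ext ?_
    rw [Units.val_mul, Units.val_mul, coe_nG, coe_xG, coe_xG]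
    exact h2' t

/-- `n_p n_s(t) n_p⁻¹ = n_{w_p(s)}(η t)` for all `t`. -/
theorem conj_n {i s : ℕ} (hi : i < D.rank) (hs : s < D.nroots) :
    ∃ η : F, (η = 1 ∨ η = -1) ∧
      (∀ t : F, nS hD F i * xG hD s t * (nS hD F i)⁻¹ = xG hD (D.reflectRoot i s) (η * t)) ∧
      (∀ t : F, nS hD F i * xG hD (D.neg s) t * (nS hD F i)⁻¹ =
        xG hD (D.neg (D.reflectRoot i s)) (η * t)) ∧
      (∀ t : F, nS hD F i * nG hD s t * (nS hD F i)⁻¹ = nG hD (D.reflectRoot i s) (η * t)) := by
  obtain ⟨η, hη, h1, h2⟩ := conj_x (F := F) hD hi hs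
  refine ⟨η, hη, h1, h2, fun t => ?_⟩
  have hηi : η⁻¹ = η := by
    rcases hη with h | h <;> rw [h]
    · exact inv_one
    · rw [inv_neg, inv_one]
  have e : nS hD F i * nG hD s t * (nS hD F i)⁻¹ =
      (nS hD F i * xG hD s t * (nS hD F i)⁻¹) * ((nS hD F i * xG hD (D.neg s) (-t⁻¹) * (nS hD F i)⁻¹) *
        (nS hD F i * xG hD s t * (nS hD F i)⁻¹)) := by
    rw [nG_def]; group
  rw [e, h1, h2, nG_def, mul_inv, hηi, mul_neg]

/-- `n_p h_s(t) n_p⁻¹ = h_{w_p(s)}(η t) h_{w_p(s)}(η)⁻¹`. -/
theorem conj_h {i s : ℕ} (hi : i < D.rank) (hs : s < D.nroots) :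
    ∃ η : F, (η = 1 ∨ η = -1) ∧ ∀ t : F, nS hD F i * hG hD s t * (nS hD F i)⁻¹ =
      hG hD (D.reflectRoot i s) (η * t) * (hG hD (D.reflectRoot i s) η)⁻¹ := by
  obtain ⟨η, hη, -, -, h3⟩ := conj_n (F := F) hD hi hs
  refine ⟨η, hη, fun t => ?_⟩
  have e : nS hD F i * hG hD s t * (nS hD F i)⁻¹ =
      (nS hD F i * nG hD s t * (nS hD F i)⁻¹) * (nS hD F i * nG hD s 1 * (nS hD F i)⁻¹)⁻¹ := by
    rw [hG_eq]; group
  rw [e, h3, h3, mul_one, hG_eq, hG_eq]
  group

theorem sign_ne_zero {η : F} (h : η = 1 ∨ η = -1) : η ≠ 0 := by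
  rcases h with h | h <;> rw [h] <;> simp

theorem sign_mul_self {η : F} (h : η = 1 ∨ η = -1) : η * η = 1 := by
  rcases h with h | h <;> rw [h] <;> ring

/-- `n_p H n_p⁻¹ ≤ H`. -/
theorem conj_nS_mem_diagonal {i : ℕ} (hi : i < D.rank) {h : GL D.Idx F}
    (hh : h ∈ D.diagonalSubgroup F) : nS hD F i * h * (nS hD F i)⁻¹ ∈ D.diagonalSubgroup F := by
  have hle : D.diagonalSubgroup F ≤
      (D.diagonalSubgroup F).comap (MulAut.conj (nS hD F i)).toMonoidHom := by
    rw [diagonal_le_iff hD]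
    intro r hr t ht
    obtain ⟨η, hη, h1⟩ := conj_h (F := F) hD hi hr
    show nS hD F i * hG hD r t * (nS hD F i)⁻¹ ∈ D.diagonalSubgroup F
    rw [h1 t]
    have hlt := Reach.reflect_lt hD hi hr
    exact mul_mem (hG_mem_diagonal hD hlt (mul_ne_zero (sign_ne_zero hη) ht))
      (inv_mem (hG_mem_diagonal hD hlt (sign_ne_zero hη)))
  exact hle hh

/-- Every `n_r(t)`, `t ≠ 0`, lies in every subgroup containing `H` and the `n_p`, `p` simple. -/
theorem nG_mem_of_simple {K : Subgroup (GL D.Idx F)} (hH : D.diagonalSubgroup F ≤ K)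
    (hn : ∀ i < D.rank, nS hD F i ∈ K) {r : ℕ} (hr : r < D.nroots) {t : F} (ht : t ≠ 0) :
    nG hD r t ∈ K := by
  have key : ∀ s < D.nroots, ∀ t : F, t ≠ 0 → nG hD s t ∈ K := by
    refine Reach.reach hD (fun s => ∀ t : F, t ≠ 0 → nG hD s t ∈ K) ?_ ?_
    · intro i hi t ht
      rw [nG_eq]
      exact mul_mem (hH (hG_mem_diagonal hD (by
        have := (RootComb.good_of_mem hD).simple_lt hi
        exact this) ht)) (hn i hi)
    · intro i hi s hs ih t ht
      obtain ⟨η, hη, -, -, h3⟩ := conj_n (F := F) hD hi hs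
      have e : nG hD (D.reflectRoot i s) t = nS hD F i * nG hD s (η * t) * (nS hD F i)⁻¹ := by
        rw [h3, ← mul_assoc, sign_mul_self hη, one_mul]
      rw [e]
      exact mul_mem (mul_mem (hn i hi) (ih _ (mul_ne_zero (sign_ne_zero hη) ht))) (inv_mem (hn i hi))
  exact key r hr t ht

/-- `N = ⟨H, n_p : p simple⟩`. -/
theorem monomial_eq (F : Type u) [Field F] :
    D.monomialSubgroup F = D.diagonalSubgroup F ⊔ Subgroup.closure {g | ∃ i < D.rank, g = nS hD F i} := by
  apply le_antisymm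
  · rw [monomial_le_iff hD]
    have hn : ∀ i < D.rank, nS hD F i ∈
        D.diagonalSubgroup F ⊔ Subgroup.closure {g | ∃ i < D.rank, g = nS hD F i} := fun i hi =>
      Subgroup.mem_sup_right (Subgroup.subset_closure ⟨i, hi, rfl⟩)
    exact ⟨fun r hr t ht => Subgroup.mem_sup_left (hG_mem_diagonal hD hr ht),
      fun r hr => nG_mem_of_simple hD le_sup_left hn hr one_ne_zero⟩
  · refine sup_le (diagonal_le_monomial D F) ?_
    rw [Subgroup.closure_le]
    rintro g ⟨i, hi, rfl⟩
    exact nG_one_mem_monomial hD ((RootComb.good_of_mem hD).simple_lt hi)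

/-- Induction principle for `N`: closed under products and inverses, contains `H` and the `n_p`. -/
theorem monomial_le_of {K : Subgroup (GL D.Idx F)} (hH : D.diagonalSubgroup F ≤ K)
    (hn : ∀ i < D.rank, nS hD F i ∈ K) : D.monomialSubgroup F ≤ K := by
  rw [monomial_eq hD]
  refine sup_le hH ?_
  rw [Subgroup.closure_le]
  rintro g ⟨i, hi, rfl⟩
  exact hn i hi

include hD in
/-- `N` normalises `H`. -/
theorem monomial_le_normalizer (F : Type u) [Field F] :
    D.monomialSubgroup F ≤ Subgroup.normalizer (D.diagonalSubgroup F : Set (GL D.Idx F)) := by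
  refine monomial_le_of hD Subgroup.le_normalizer fun i hi => ?_
  rw [Subgroup.mem_normalizer_iff]
  intro h
  constructor
  · intro hh
    exact conj_nS_mem_diagonal hD hi hh
  · intro hh
    -- `n⁻¹ = n · (n²)⁻¹` with `n² ∈ H`
    have hsq : nS hD F i * nS hD F i ∈ D.diagonalSubgroup F :=
      nG_one_sq_mem hD ((RootComb.good_of_mem hD).simple_lt hi)
    have h1 := conj_nS_mem_diagonal hD hi hh
    have h2 : h = (nS hD F i * nS hD F i)⁻¹ *
        (nS hD F i * (nS hD F i * h * (nS hD F i)⁻¹) * (nS hD F i)⁻¹) * (nS hD F i * nS hD F i) := by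
      group
    rw [h2]
    exact mul_mem (mul_mem (inv_mem hsq) h1) hsq

include hD in
theorem conj_mem_diagonal {m h : GL D.Idx F} (hm : m ∈ D.monomialSubgroup F)
    (hh : h ∈ D.diagonalSubgroup F) : m * h * m⁻¹ ∈ D.diagonalSubgroup F :=
  (Subgroup.mem_normalizer_iff.1 (monomial_le_normalizer hD F hm) h).1 hh

include hD in
/-- `H` is normal in `N`. -/
theorem diagonal_normal (F : Type u) [Field F] :
    ((D.diagonalSubgroup F).subgroupOf (D.monomialSubgroup F)).Normal where
  conj_mem := by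
    rintro ⟨h, hh1⟩ hh ⟨m, hm⟩
    rw [Subgroup.mem_subgroupOf] at hh ⊢
    exact conj_mem_diagonal hD hm hh

end gl

end Cfsg.Agent.ChevalleyStructure.NConj
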