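import Cfsg.Agent.ChevalleyStructure.NSimpleAll
import Cfsg.Agent.ChevalleyStructure.XColumns
import Cfsg.Agent.ChevalleyStructure.RootComb
import Cfsg.Agent.ChevalleyStructure.Good
import Cfsg.Agent.ChevalleyStructure.CommTransport

/-!
Conjugation of root elements by `n_p(1)`, `p` fundamental, from the explicit monomial form of `n_p(1)` and the
compatibility of the chain table with the reflection `w_p` (signs `NSimple.eta`).
-/

set_option autoImplicit false

namespace Cfsg.Agent.ChevalleyStructure.NConjSharp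

open Cfsg.Lie
open Cfsg.Agent.ChevalleyStructure.NSimple
open Cfsg.Agent.ChevalleyStructure.XColumns
open Cfsg.Agent.ChevalleyStructure.RootCombGood
open Cfsg.Agent.ChevalleyStructure.CommTransport
open scoped Matrix

universe u

variable {D : ChevalleyDatum} {F : Type u} [Field F] {i : ℕ}

theorem nodup_of_sorted : ∀ (es : List (ℕ × Array (ℕ × ℤ))) (b : ℕ), Columns.sortedFrom b es = true →
    (es.map Prod.fst).Nodup
  | [], _, _ => by simp
  | e :: es, b, h => by
    simp only [Columns.sortedFrom, Bool.and_eq_true] at h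
    rw [List.map_cons, List.nodup_cons]
    refine ⟨?_, nodup_of_sorted es _ h.2⟩
    intro hmem
    rw [List.mem_map] at hmem
    obtain ⟨e', he', heq⟩ := hmem
    have := Columns.lt_of_sortedFrom es _ h.2 e' he'
    omega

theorem nodup_row {r : ℕ} (h : Additive.GoodAt D r) : ((row D r).map Prod.fst).Nodup :=
  nodup_of_sorted _ _ h.sorted

theorem N_ev (h : Facts D i) {q : ℕ} (hq : q < D.nroots) :
    D.nMat F (D.simple i) 1 *ᵥ ev D F q = ((eta D i q : ℤ) : F) • ev D F (D.reflectRoot i q) := by
  funext a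
  rw [mulVec_ev _ hq, nMat_apply_inr F h]
  rcases a with j | v
  · simp
  · simp

theorem N_hv (h : Facts D i) (hi : i < D.rank) {j : ℕ} (hj : j < D.rank) :
    D.nMat F (D.simple i) 1 *ᵥ hv D F j = hv D F j - ((D.cartan j (D.simple i) : ℤ) : F) • hv D F i := by
  funext a
  rw [mulVec_hv _ hj, nMat_apply_inl F h]
  rcases a with j' | v
  · simp [Fin.ext_iff]
  · simp

theorem corv_eq_sum (r : ℕ) : corv D F r = ∑ j ∈ Finset.range D.rank, ((co D r j : ℤ) : F) • hv D F j := by
  funext a
  rw [Finset.sum_apply]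
  rcases a with i' | v
  · simp only [corv_inl, Pi.smul_apply, hv_inl, smul_eq_mul, mul_ite, mul_one, mul_zero]
    rw [Finset.sum_ite_eq (Finset.range D.rank) i'.val (fun j => ((co D r j : ℤ) : F)),
      if_pos (Finset.mem_range.2 i'.2)]
    rfl
  · simp

theorem N_corv (h : Facts D i) (G : Good D) (hi : i < D.rank) {s : ℕ} (hs : s < D.nroots) :
    D.nMat F (D.simple i) 1 *ᵥ corv D F s = corv D F (D.reflectRoot i s) := by
  rw [corv_eq_sum, Matrix.mulVec_sum]
  have h1 : ∀ j ∈ Finset.range D.rank, D.nMat F (D.simple i) 1 *ᵥ (((co D s j : ℤ) : F) • hv D F j) =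
      ((co D s j : ℤ) : F) • hv D F j - (((co D s j * D.cartan j (D.simple i) : ℤ) : F)) • hv D F i := by
    intro j hj
    rw [Matrix.mulVec_smul, N_hv h hi (Finset.mem_range.1 hj), smul_sub, smul_smul]
    push_cast
    rfl
  rw [Finset.sum_congr rfl h1, Finset.sum_sub_distrib, ← Finset.sum_smul, corv_eq_sum]
  have h2 : ∀ j ∈ Finset.range D.rank, ((co D (D.reflectRoot i s) j : ℤ) : F) • hv D F j =
      ((co D s j : ℤ) : F) • hv D F j - (if j = i then ((car D s (D.simple i) : ℤ) : F) • hv D F i else 0) := by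
    intro j hj
    rw [G.co_reflect hi hs (Finset.mem_range.1 hj)]
    by_cases hji : j = i
    · subst hji
      rw [if_pos rfl, if_pos rfl, Int.cast_sub, sub_smul]
    · rw [if_neg hji, if_neg hji, sub_zero, sub_zero]
  rw [Finset.sum_congr rfl h2, Finset.sum_sub_distrib, Finset.sum_ite_eq', if_pos (Finset.mem_range.2 hi)]
  congr 2
  unfold car
  push_cast
  rfl

theorem mulVec_list_sum (M : Matrix D.Idx D.Idx F) (l : List (D.Idx → F)) :
    M *ᵥ l.sum = (l.map fun v => M *ᵥ v).sum := by
  induction l with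
  | nil => simp
  | cons a l ih => rw [List.sum_cons, Matrix.mulVec_add, ih, List.map_cons, List.sum_cons]

theorem mapIdx_zipIdx_aux {α β : Type*} (f : ℕ → α → β) : ∀ (l : List α) (n : ℕ),
    (l.mapIdx fun k a => f (n + k) a).zipIdx n = (l.zipIdx n).map fun q => (f q.2 q.1, q.2)
  | [], _ => by simp
  | a :: l, n => by
    rw [List.mapIdx_cons, List.zipIdx_cons, List.zipIdx_cons, List.map_cons]
    have := mapIdx_zipIdx_aux f l (n + 1)
    have e : (fun k a => f (n + (k + 1)) a) = fun k a => f (n + 1 + k) a := by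
      funext k a
      congr 1
      omega
    rw [e, this]
    rfl

/-- **Conjugation by `n_p(1)` with the sharp sign.** -/
theorem conj (h : Facts D i) (G : Good D) (hgood : ∀ r < D.nroots, Additive.GoodAt D r) (hi : i < D.rank) {s : ℕ}
    (hs : s < D.nroots)
    (hT : ∀ q < D.nroots, q ≠ s → q ≠ D.neg s → ChainCompat D (D.reflectRoot i) (eta D i) s q) (t : F) :
    D.nMat F (D.simple i) 1 * D.x F s t =
      D.x F (D.reflectRoot i s) (((eta D i s : ℤ) : F) * t) * D.nMat F (D.simple i) 1 := by
  set N := D.nMat F (D.simple i) 1 with hN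
  set w := D.reflectRoot i with hw
  have hws : w s < D.nroots := h.reflect_lt s hs
  have hnegs : D.neg s < D.nroots := by
    rw [G.neg_eq hs]
    omega
  have hnegne : D.neg s ≠ s := by
    have := (hgood s hs).neg_ne
    exact this
  have hnegws : D.neg (w s) < D.nroots := by
    rw [G.neg_eq hws]
    omega
  have hnegwne : D.neg (w s) ≠ w s := (hgood (w s) hws).neg_ne
  have eta2 : ∀ q < D.nroots, ((eta D i q : ℤ) : F) * ((eta D i q : ℤ) : F) = 1 := by
    intro q hq
    rcases h.eta_one q hq with h1 | h1 <;> rw [h1] <;> simp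
  have winj : ∀ a < D.nroots, ∀ b < D.nroots, w a = w b → a = b := by
    intro a ha b hb hab
    rw [← G.reflect_reflect hi ha, ← G.reflect_reflect hi hb]
    exact congrArg (D.reflectRoot i) hab
  have key_ev : ∀ q < D.nroots, (N * D.x F s t) *ᵥ ev D F q =
      (D.x F (w s) (((eta D i s : ℤ) : F) * t) * N) *ᵥ ev D F q := by
    intro q hq
    rw [← Matrix.mulVec_mulVec, ← Matrix.mulVec_mulVec, N_ev h hq, Matrix.mulVec_smul]
    by_cases h1 : q = s
    · subst h1
      rw [x_mulVec_ev_self hs, N_ev h hs]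
      show _ = _ • (D.x F (w q) _ *ᵥ ev D F (w q))
      rw [x_mulVec_ev_self hws]
    by_cases h2 : q = D.neg s
    · subst h2
      rw [x_mulVec_ev_neg hs hnegs hnegne]
      have e1 : D.reflectRoot i (D.neg s) = D.neg (w s) := G.reflect_neg hi hs
      rw [e1, x_mulVec_ev_neg hws hnegws hnegwne, Matrix.mulVec_sub, Matrix.mulVec_add, N_ev h hnegs,
        Matrix.mulVec_smul, N_corv h G hi hs, Matrix.mulVec_smul, N_ev h hs, e1]
      have e2 : ((eta D i s : ℤ) : F) * ((eta D i (D.neg s) : ℤ) : F) = 1 := by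
        have := h.eta_mul_neg s hs
        rw [← Int.cast_mul, this, Int.cast_one]
      have e3 : ((eta D i (D.neg s) : ℤ) : F) = ((eta D i s : ℤ) : F) := by
        calc ((eta D i (D.neg s) : ℤ) : F) = (((eta D i s : ℤ) : F) * ((eta D i s : ℤ) : F)) *
              ((eta D i (D.neg s) : ℤ) : F) := by rw [eta2 s hs, one_mul]
          _ = ((eta D i s : ℤ) : F) * (((eta D i s : ℤ) : F) * ((eta D i (D.neg s) : ℤ) : F)) := by ring
          _ = _ := by rw [e2, mul_one]
      rw [e3, smul_sub, smul_add, smul_smul, smul_smul, smul_smul]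
      have e4 : ((eta D i s : ℤ) : F) * (((eta D i s : ℤ) : F) * t) = t := by
        rw [← mul_assoc, eta2 s hs, one_mul]
      have e5 : ((eta D i s : ℤ) : F) * (((eta D i s : ℤ) : F) * t) ^ 2 = t ^ 2 * ((eta D i s : ℤ) : F) := by
        rw [mul_pow, pow_two (((eta D i s : ℤ) : F)), eta2 s hs, one_mul, mul_comm]
      rw [e4, e5]
    · have hTq := hT q hq h1 h2
      have hwq : w q < D.nroots := h.reflect_lt q hq
      have h1' : w q ≠ w s := fun e => h1 (winj q hq s hs e)
      have h2' : w q ≠ D.neg (w s) := by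
        intro e
        rw [← G.reflect_neg hi hs] at e
        exact h2 (winj q hq _ hnegs e)
      rw [x_mulVec_ev hs hq h1 h2 (nodup_row (hgood s hs)), Matrix.mulVec_add, N_ev h hq, mulVec_list_sum,
        List.map_map]
      have hx := x_mulVec_ev (F := F) hws hwq h1' h2' (nodup_row (hgood (w s) hws)) (((eta D i s : ℤ) : F) * t)
      show _ = _ • (D.x F (w s) _ *ᵥ ev D F (w q))
      rw [hx, smul_add]
      congr 1
      have hTq' : D.chainEntry (w s) (w q) = (D.chainEntry s q).mapIdx fun k c =>
          (w c.1, eta D i s ^ (0 + k + 1) * eta D i q * eta D i c.1 * c.2) := by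
        rw [hTq]
        simp only [Nat.zero_add]
      rw [hTq', mapIdx_zipIdx_aux (fun k c =>
          (w c.1, eta D i s ^ (k + 1) * eta D i q * eta D i c.1 * c.2)) (D.chainEntry s q) 0,
        List.map_map, List.smul_sum, List.map_map]
      congr 1
      apply List.map_congr_left
      intro c hc
      have hclt : c.1.1 < D.nroots := by
        have hmem : c.1 ∈ D.chainEntry s q := by
          obtain ⟨⟨u, m⟩, k⟩ := c
          exact List.fst_mem_of_mem_zipIdx hc
        exact (hgood s hs).lt q _ hmem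
      simp only [Function.comp_apply]
      rw [Matrix.mulVec_smul, N_ev h hclt, smul_smul, smul_smul]
      congr 1
      push_cast
      have a1 := eta2 q hq
      have a2 := eta2 s hs
      have a3 : (((eta D i s : ℤ) : F) ^ (c.2 + 1)) * (((eta D i s : ℤ) : F) ^ (c.2 + 1)) = 1 := by
        rw [← mul_pow, a2, one_pow]
      calc (c.1.2 : F) * t ^ (c.2 + 1) * (eta D i c.1.1 : F)
          = (((eta D i q : ℤ) : F) * ((eta D i q : ℤ) : F)) *
            ((((eta D i s : ℤ) : F) ^ (c.2 + 1)) * (((eta D i s : ℤ) : F) ^ (c.2 + 1))) *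
            ((c.1.2 : F) * t ^ (c.2 + 1) * (eta D i c.1.1 : F)) := by rw [a1, a3, one_mul, one_mul]
        _ = _ := by rw [mul_pow]; ring
  have key_hv : ∀ j < D.rank, (N * D.x F s t) *ᵥ hv D F j =
      (D.x F (w s) (((eta D i s : ℤ) : F) * t) * N) *ᵥ hv D F j := by
    intro j hj
    rw [← Matrix.mulVec_mulVec, ← Matrix.mulVec_mulVec, N_hv h hi hj, x_mulVec_hv hs hj, Matrix.mulVec_sub,
      Matrix.mulVec_sub, N_hv h hi hj, Matrix.mulVec_smul, N_ev h hs, Matrix.mulVec_smul, x_mulVec_hv hws hj,
      x_mulVec_hv hws hi]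
    have hc : D.cartan j s = D.cartan j (w s) - D.cartan i (w s) * D.cartan j (D.simple i) := by
      have := G.cartan_reflect (i := i) (s := w s) (j := j) hi hws hj
      rwa [show D.reflectRoot i (w s) = s from G.reflect_reflect hi hs] at this
    rw [hc]
    push_cast
    rw [smul_smul, smul_sub, smul_smul]
    module
  ext a b
  rcases b with j | q
  · have := congrFun (key_hv j j.2) a
    rwa [mulVec_hv _ j.2, mulVec_hv _ j.2] at this
  · have := congrFun (key_ev q q.2) a
    rwa [mulVec_ev _ q.2, mulVec_ev _ q.2] at this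

end Cfsg.Agent.ChevalleyStructure.NConjSharp
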