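import Cfsg.Agent.ChevalleyStructure.W0Small
import Cfsg.Agent.ChevalleyStructure.W0E6
import Cfsg.Agent.ChevalleyStructure.W0E7
import Cfsg.Agent.ChevalleyStructure.W0E8

/-!
Words in the simple reflections leading from a few starting roots to every root, for all types.
`wordsX` lists, for each root index in order, a starting root and a word carrying it there.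
-/

set_option autoImplicit false
set_option maxRecDepth 100000

namespace Cfsg.Agent.ChevalleyStructure.OrbitWords

open Cfsg.Lie
open Cfsg.Agent.ChevalleyStructure.W0Core
open Cfsg.Agent.ChevalleyStructure.W0Small Cfsg.Agent.ChevalleyStructure.W0E6
open Cfsg.Agent.ChevalleyStructure.W0E7 Cfsg.Agent.ChevalleyStructure.W0E8

/-- The table check: the words `ws`, each applied to its starting root in `st`, give every root. -/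
def orbitOK (T : ℕ → ℕ) (st : List ℕ) (ws : List (ℕ × List ℕ)) (l n : ℕ) : Bool :=
  (st.all fun s => Nat.blt s n) && (ws.all fun w => (st.any fun s => Nat.beq w.1 s) && w.2.all fun i => Nat.blt i l) &&
    ((ws.map fun w => actT T w.2 w.1) == List.range n)

/-- words reaching every root of type G2 -/
def wordsG2 : List (ℕ × List ℕ) := [
  (11, [1, 0, 1, 0, 1]), (11, [0, 1, 0, 1]), (7, [0, 1, 0]), (7, [1, 0]), (7, [0]), (11, [1, 0, 1]), 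
  (11, [0, 1]), (7, []), (7, [1]), (7, [0, 1]), (11, [1]), (11, [])]

theorem orbitG2 : orbitOK tabG2 [7, 11] wordsG2 2 12 = true := by decide +kernel

/-- words reaching every root of type B2 -/
def wordsB2 : List (ℕ × List ℕ) := [
  (7, [0, 1, 0]), (5, [1, 0]), (5, [0]), (7, [1, 0]), (7, [0]), (5, []), (5, [1]), (7, [])]

theorem orbitB2 : orbitOK tabB2 [5, 7] wordsB2 2 8 = true := by decide +kernel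

/-- words reaching every root of type D4 -/
def wordsD4 : List (ℕ × List ℕ) := [
  (19, [1, 3, 2, 0, 1, 0]), (19, [3, 2, 0, 1, 0]), (19, [2, 0, 1, 0]), (19, [3, 0, 1, 0]), (19, [0, 1, 0]), 
  (19, [0, 1]), (19, [3, 2, 1, 0]), (19, [2, 1, 0]), (19, [3, 1, 0]), (19, [1, 0]), (19, [1, 2, 1, 0]), 
  (19, [1, 3, 1, 0]), (19, [1, 3, 0]), (19, [1, 2, 0]), (19, [0]), (19, [3, 0]), (19, [2, 0]), (19, [3, 2, 0]), 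
  (19, [1]), (19, []), (19, [3]), (19, [2]), (19, [3, 2]), (19, [1, 3, 2])]

theorem orbitD4 : orbitOK tabD4 [19] wordsD4 4 24 = true := by decide +kernel

/-- words reaching every root of type F4 -/
def wordsF4 : List (ℕ × List ℕ) := [
  (26, [3, 2, 1, 2, 0, 1, 2, 3, 2]), (26, [2, 1, 2, 0, 1, 2, 3, 2]), (26, [1, 2, 0, 1, 2, 3, 2]), 
  (34, [0, 1, 2, 3, 1, 2, 0, 1, 0]), (26, [2, 0, 1, 2, 3, 2]), (26, [0, 1, 2, 3, 2]), (26, [0, 1, 2, 3]), 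
  (34, [1, 2, 3, 1, 2, 0, 1, 0]), (34, [2, 3, 1, 2, 0, 1, 0]), (34, [3, 1, 2, 0, 1, 0]), (34, [1, 2, 0, 1, 0]), 
  (34, [3, 2, 0, 1, 0]), (34, [2, 0, 1, 0]), (34, [0, 1, 0]), (34, [0, 1]), (26, [2, 1, 2, 3, 2]), 
  (26, [1, 2, 3, 2]), (26, [1, 2, 3]), (34, [3, 2, 1, 0]), (34, [2, 1, 0]), (34, [1, 0]), (26, [2, 3, 2]), 
  (26, [2, 3]), (26, [3, 2]), (26, [2]), (26, [3]), (26, []), (34, [0]), (34, [2, 0]), (34, [3, 2, 0]), 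
  (26, [3, 1]), (26, [1]), (26, [2, 1]), (34, [1]), (34, []), (34, [2]), (34, [3, 2]), (34, [1, 2]), 
  (34, [3, 1, 2]), (34, [2, 3, 1, 2]), (34, [1, 2, 3, 1, 2]), (26, [3, 0, 1]), (26, [0, 1]), (26, [2, 0, 1]), 
  (34, [0, 1, 2, 3, 1, 2]), (26, [1, 2, 0, 1]), (26, [2, 1, 2, 0, 1]), (26, [3, 2, 1, 2, 0, 1])]

theorem orbitF4 : orbitOK tabF4 [34, 26] wordsF4 4 48 = true := by decide +kernel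

/-- words reaching every root of type E6 -/
def wordsE6 : List (ℕ × List ℕ) := [
  (57, [1, 3, 4, 5, 2, 3, 4, 1, 3, 0, 2, 0]), (57, [3, 4, 5, 2, 3, 4, 1, 3, 0, 2, 0]), 
  (57, [4, 5, 2, 3, 4, 1, 3, 0, 2, 0]), (57, [5, 2, 3, 4, 1, 3, 0, 2, 0]), (57, [2, 3, 4, 1, 3, 0, 2, 0]), 
  (57, [4, 5, 3, 4, 1, 3, 0, 2, 0]), (57, [5, 3, 4, 1, 3, 0, 2, 0]), (57, [3, 4, 1, 3, 0, 2, 0]), 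
  (57, [5, 4, 1, 3, 0, 2, 0]), (57, [4, 1, 3, 0, 2, 0]), (57, [1, 3, 0, 2, 0]), (57, [5, 4, 3, 0, 2, 0]), 
  (57, [4, 3, 0, 2, 0]), (57, [3, 0, 2, 0]), (57, [0, 2, 0]), (57, [0, 2]), (57, [4, 5, 3, 4, 1, 3, 2, 0]), 
  (57, [5, 3, 4, 1, 3, 2, 0]), (57, [3, 4, 1, 3, 2, 0]), (57, [5, 4, 1, 3, 2, 0]), (57, [4, 1, 3, 2, 0]), 
  (57, [1, 3, 2, 0]), (57, [5, 4, 2, 1, 3, 2, 0]), (57, [4, 2, 1, 3, 2, 0]), (57, [2, 1, 3, 2, 0]), 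
  (57, [3, 2, 1, 3, 2, 0]), (57, [5, 4, 3, 2, 0]), (57, [4, 3, 2, 0]), (57, [3, 2, 0]), (57, [2, 0]), 
  (57, [5, 4, 2, 3, 2, 0]), (57, [4, 2, 3, 2, 0]), (57, [2, 3, 2, 0]), (57, [5, 3, 4, 2, 3, 2, 0]), 
  (57, [3, 4, 2, 3, 2, 0]), (57, [4, 5, 3, 4, 2, 3, 2, 0]), (57, [4, 5, 3, 4, 2, 3, 0]), (57, [3, 4, 2, 3, 0]), 
  (57, [5, 3, 4, 2, 3, 0]), (57, [2, 3, 0]), (57, [4, 2, 3, 0]), (57, [5, 4, 2, 3, 0]), (57, [0]), 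
  (57, [3, 0]), (57, [4, 3, 0]), (57, [5, 4, 3, 0]), (57, [3, 2, 1, 3, 0]), (57, [2, 1, 3, 0]), 
  (57, [4, 2, 1, 3, 0]), (57, [5, 4, 2, 1, 3, 0]), (57, [1, 3, 0]), (57, [4, 1, 3, 0]), (57, [5, 4, 1, 3, 0]), 
  (57, [3, 4, 1, 3, 0]), (57, [5, 3, 4, 1, 3, 0]), (57, [4, 5, 3, 4, 1, 3, 0]), (57, [2]), (57, []), (57, [3]), 
  (57, [4, 3]), (57, [5, 4, 3]), (57, [1, 3]), (57, [4, 1, 3]), (57, [5, 4, 1, 3]), (57, [3, 4, 1, 3]), 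
  (57, [5, 3, 4, 1, 3]), (57, [4, 5, 3, 4, 1, 3]), (57, [2, 3, 4, 1, 3]), (57, [5, 2, 3, 4, 1, 3]), 
  (57, [4, 5, 2, 3, 4, 1, 3]), (57, [3, 4, 5, 2, 3, 4, 1, 3]), (57, [1, 3, 4, 5, 2, 3, 4, 1, 3])]

theorem orbitE6 : orbitOK tabE6 [57] wordsE6 6 72 = true := by decide +kernel

/-- words reaching every root of type E7 -/
def wordsE7 : List (ℕ × List ℕ) := [
  (94, [0, 2, 3, 4, 5, 6, 1, 3, 4, 5, 2, 3, 4, 1, 3, 0, 2, 0]), 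
  (94, [2, 3, 4, 5, 6, 1, 3, 4, 5, 2, 3, 4, 1, 3, 0, 2, 0]), 
  (94, [3, 4, 5, 6, 1, 3, 4, 5, 2, 3, 4, 1, 3, 0, 2, 0]), (94, [4, 5, 6, 1, 3, 4, 5, 2, 3, 4, 1, 3, 0, 2, 0]), 
  (94, [5, 6, 1, 3, 4, 5, 2, 3, 4, 1, 3, 0, 2, 0]), (94, [6, 1, 3, 4, 5, 2, 3, 4, 1, 3, 0, 2, 0]), 
  (94, [1, 3, 4, 5, 2, 3, 4, 1, 3, 0, 2, 0]), (94, [4, 5, 6, 3, 4, 5, 2, 3, 4, 1, 3, 0, 2, 0]), 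
  (94, [5, 6, 3, 4, 5, 2, 3, 4, 1, 3, 0, 2, 0]), (94, [6, 3, 4, 5, 2, 3, 4, 1, 3, 0, 2, 0]), 
  (94, [3, 4, 5, 2, 3, 4, 1, 3, 0, 2, 0]), (94, [5, 6, 4, 5, 2, 3, 4, 1, 3, 0, 2, 0]), 
  (94, [6, 4, 5, 2, 3, 4, 1, 3, 0, 2, 0]), (94, [4, 5, 2, 3, 4, 1, 3, 0, 2, 0]), 
  (94, [6, 5, 2, 3, 4, 1, 3, 0, 2, 0]), (94, [5, 2, 3, 4, 1, 3, 0, 2, 0]), (94, [2, 3, 4, 1, 3, 0, 2, 0]), 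
  (94, [5, 6, 4, 5, 3, 4, 1, 3, 0, 2, 0]), (94, [6, 4, 5, 3, 4, 1, 3, 0, 2, 0]), 
  (94, [4, 5, 3, 4, 1, 3, 0, 2, 0]), (94, [6, 5, 3, 4, 1, 3, 0, 2, 0]), (94, [5, 3, 4, 1, 3, 0, 2, 0]), 
  (94, [3, 4, 1, 3, 0, 2, 0]), (94, [6, 5, 4, 1, 3, 0, 2, 0]), (94, [5, 4, 1, 3, 0, 2, 0]), 
  (94, [4, 1, 3, 0, 2, 0]), (94, [1, 3, 0, 2, 0]), (94, [6, 5, 4, 3, 0, 2, 0]), (94, [5, 4, 3, 0, 2, 0]), 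
  (94, [4, 3, 0, 2, 0]), (94, [3, 0, 2, 0]), (94, [0, 2, 0]), (94, [0, 2]), 
  (94, [5, 6, 4, 5, 3, 4, 1, 3, 2, 0]), (94, [6, 4, 5, 3, 4, 1, 3, 2, 0]), (94, [4, 5, 3, 4, 1, 3, 2, 0]), 
  (94, [6, 5, 3, 4, 1, 3, 2, 0]), (94, [5, 3, 4, 1, 3, 2, 0]), (94, [3, 4, 1, 3, 2, 0]), 
  (94, [6, 5, 4, 1, 3, 2, 0]), (94, [5, 4, 1, 3, 2, 0]), (94, [4, 1, 3, 2, 0]), (94, [1, 3, 2, 0]), 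
  (94, [6, 5, 4, 2, 1, 3, 2, 0]), (94, [5, 4, 2, 1, 3, 2, 0]), (94, [4, 2, 1, 3, 2, 0]), (94, [2, 1, 3, 2, 0]), 
  (94, [3, 2, 1, 3, 2, 0]), (94, [6, 5, 4, 3, 2, 0]), (94, [5, 4, 3, 2, 0]), (94, [4, 3, 2, 0]), 
  (94, [3, 2, 0]), (94, [2, 0]), (94, [6, 5, 4, 2, 3, 2, 0]), (94, [5, 4, 2, 3, 2, 0]), (94, [4, 2, 3, 2, 0]), 
  (94, [2, 3, 2, 0]), (94, [6, 5, 3, 4, 2, 3, 2, 0]), (94, [5, 3, 4, 2, 3, 2, 0]), (94, [3, 4, 2, 3, 2, 0]), 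
  (94, [6, 4, 5, 3, 4, 2, 3, 2, 0]), (94, [4, 5, 3, 4, 2, 3, 2, 0]), (94, [5, 6, 4, 5, 3, 4, 2, 3, 2, 0]), 
  (94, [5, 6, 4, 5, 3, 4, 2, 3, 0]), (94, [4, 5, 3, 4, 2, 3, 0]), (94, [6, 4, 5, 3, 4, 2, 3, 0]), 
  (94, [3, 4, 2, 3, 0]), (94, [5, 3, 4, 2, 3, 0]), (94, [6, 5, 3, 4, 2, 3, 0]), (94, [2, 3, 0]), 
  (94, [4, 2, 3, 0]), (94, [5, 4, 2, 3, 0]), (94, [6, 5, 4, 2, 3, 0]), (94, [0]), (94, [3, 0]), 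
  (94, [4, 3, 0]), (94, [5, 4, 3, 0]), (94, [6, 5, 4, 3, 0]), (94, [3, 2, 1, 3, 0]), (94, [2, 1, 3, 0]), 
  (94, [4, 2, 1, 3, 0]), (94, [5, 4, 2, 1, 3, 0]), (94, [6, 5, 4, 2, 1, 3, 0]), (94, [1, 3, 0]), 
  (94, [4, 1, 3, 0]), (94, [5, 4, 1, 3, 0]), (94, [6, 5, 4, 1, 3, 0]), (94, [3, 4, 1, 3, 0]), 
  (94, [5, 3, 4, 1, 3, 0]), (94, [6, 5, 3, 4, 1, 3, 0]), (94, [4, 5, 3, 4, 1, 3, 0]), 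
  (94, [6, 4, 5, 3, 4, 1, 3, 0]), (94, [5, 6, 4, 5, 3, 4, 1, 3, 0]), (94, [2]), (94, []), (94, [3]), 
  (94, [4, 3]), (94, [5, 4, 3]), (94, [6, 5, 4, 3]), (94, [1, 3]), (94, [4, 1, 3]), (94, [5, 4, 1, 3]), 
  (94, [6, 5, 4, 1, 3]), (94, [3, 4, 1, 3]), (94, [5, 3, 4, 1, 3]), (94, [6, 5, 3, 4, 1, 3]), 
  (94, [4, 5, 3, 4, 1, 3]), (94, [6, 4, 5, 3, 4, 1, 3]), (94, [5, 6, 4, 5, 3, 4, 1, 3]), (94, [2, 3, 4, 1, 3]), 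
  (94, [5, 2, 3, 4, 1, 3]), (94, [6, 5, 2, 3, 4, 1, 3]), (94, [4, 5, 2, 3, 4, 1, 3]), 
  (94, [6, 4, 5, 2, 3, 4, 1, 3]), (94, [5, 6, 4, 5, 2, 3, 4, 1, 3]), (94, [3, 4, 5, 2, 3, 4, 1, 3]), 
  (94, [6, 3, 4, 5, 2, 3, 4, 1, 3]), (94, [5, 6, 3, 4, 5, 2, 3, 4, 1, 3]), 
  (94, [4, 5, 6, 3, 4, 5, 2, 3, 4, 1, 3]), (94, [1, 3, 4, 5, 2, 3, 4, 1, 3]), 
  (94, [6, 1, 3, 4, 5, 2, 3, 4, 1, 3]), (94, [5, 6, 1, 3, 4, 5, 2, 3, 4, 1, 3]), 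
  (94, [4, 5, 6, 1, 3, 4, 5, 2, 3, 4, 1, 3]), (94, [3, 4, 5, 6, 1, 3, 4, 5, 2, 3, 4, 1, 3]), 
  (94, [2, 3, 4, 5, 6, 1, 3, 4, 5, 2, 3, 4, 1, 3]), (94, [0, 2, 3, 4, 5, 6, 1, 3, 4, 5, 2, 3, 4, 1, 3])]

theorem orbitE7 : orbitOK tabE7 [94] wordsE7 7 126 = true := by decide +kernel

/-- words reaching every root of type E8 -/
def wordsE8 : List (ℕ × List ℕ) := [
  (163, [7, 6, 5, 4, 3, 2, 1, 3, 4, 5, 6, 7, 0, 2, 3, 4, 5, 6, 1, 3, 4, 5, 2, 3, 4, 1, 3, 0, 2, 0]), 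
  (163, [6, 5, 4, 3, 2, 1, 3, 4, 5, 6, 7, 0, 2, 3, 4, 5, 6, 1, 3, 4, 5, 2, 3, 4, 1, 3, 0, 2, 0]), 
  (163, [5, 4, 3, 2, 1, 3, 4, 5, 6, 7, 0, 2, 3, 4, 5, 6, 1, 3, 4, 5, 2, 3, 4, 1, 3, 0, 2, 0]), 
  (163, [4, 3, 2, 1, 3, 4, 5, 6, 7, 0, 2, 3, 4, 5, 6, 1, 3, 4, 5, 2, 3, 4, 1, 3, 0, 2, 0]), 
  (163, [3, 2, 1, 3, 4, 5, 6, 7, 0, 2, 3, 4, 5, 6, 1, 3, 4, 5, 2, 3, 4, 1, 3, 0, 2, 0]), 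
  (163, [2, 1, 3, 4, 5, 6, 7, 0, 2, 3, 4, 5, 6, 1, 3, 4, 5, 2, 3, 4, 1, 3, 0, 2, 0]), 
  (163, [1, 3, 4, 5, 6, 7, 0, 2, 3, 4, 5, 6, 1, 3, 4, 5, 2, 3, 4, 1, 3, 0, 2, 0]), 
  (163, [2, 3, 4, 5, 6, 7, 0, 2, 3, 4, 5, 6, 1, 3, 4, 5, 2, 3, 4, 1, 3, 0, 2, 0]), 
  (163, [3, 4, 5, 6, 7, 0, 2, 3, 4, 5, 6, 1, 3, 4, 5, 2, 3, 4, 1, 3, 0, 2, 0]), 
  (163, [4, 5, 6, 7, 0, 2, 3, 4, 5, 6, 1, 3, 4, 5, 2, 3, 4, 1, 3, 0, 2, 0]), 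
  (163, [5, 6, 7, 0, 2, 3, 4, 5, 6, 1, 3, 4, 5, 2, 3, 4, 1, 3, 0, 2, 0]), 
  (163, [6, 7, 0, 2, 3, 4, 5, 6, 1, 3, 4, 5, 2, 3, 4, 1, 3, 0, 2, 0]), 
  (163, [7, 0, 2, 3, 4, 5, 6, 1, 3, 4, 5, 2, 3, 4, 1, 3, 0, 2, 0]), 
  (163, [0, 2, 3, 4, 5, 6, 1, 3, 4, 5, 2, 3, 4, 1, 3, 0, 2, 0]), 
  (163, [1, 3, 4, 5, 6, 7, 2, 3, 4, 5, 6, 1, 3, 4, 5, 2, 3, 4, 1, 3, 0, 2, 0]), 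
  (163, [3, 4, 5, 6, 7, 2, 3, 4, 5, 6, 1, 3, 4, 5, 2, 3, 4, 1, 3, 0, 2, 0]), 
  (163, [4, 5, 6, 7, 2, 3, 4, 5, 6, 1, 3, 4, 5, 2, 3, 4, 1, 3, 0, 2, 0]), 
  (163, [5, 6, 7, 2, 3, 4, 5, 6, 1, 3, 4, 5, 2, 3, 4, 1, 3, 0, 2, 0]), 
  (163, [6, 7, 2, 3, 4, 5, 6, 1, 3, 4, 5, 2, 3, 4, 1, 3, 0, 2, 0]), 
  (163, [7, 2, 3, 4, 5, 6, 1, 3, 4, 5, 2, 3, 4, 1, 3, 0, 2, 0]), 
  (163, [2, 3, 4, 5, 6, 1, 3, 4, 5, 2, 3, 4, 1, 3, 0, 2, 0]), 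
  (163, [4, 5, 6, 7, 3, 4, 5, 6, 1, 3, 4, 5, 2, 3, 4, 1, 3, 0, 2, 0]), 
  (163, [5, 6, 7, 3, 4, 5, 6, 1, 3, 4, 5, 2, 3, 4, 1, 3, 0, 2, 0]), 
  (163, [6, 7, 3, 4, 5, 6, 1, 3, 4, 5, 2, 3, 4, 1, 3, 0, 2, 0]), 
  (163, [7, 3, 4, 5, 6, 1, 3, 4, 5, 2, 3, 4, 1, 3, 0, 2, 0]), 
  (163, [3, 4, 5, 6, 1, 3, 4, 5, 2, 3, 4, 1, 3, 0, 2, 0]), 
  (163, [5, 6, 7, 4, 5, 6, 1, 3, 4, 5, 2, 3, 4, 1, 3, 0, 2, 0]), 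
  (163, [6, 7, 4, 5, 6, 1, 3, 4, 5, 2, 3, 4, 1, 3, 0, 2, 0]), 
  (163, [7, 4, 5, 6, 1, 3, 4, 5, 2, 3, 4, 1, 3, 0, 2, 0]), 
  (163, [4, 5, 6, 1, 3, 4, 5, 2, 3, 4, 1, 3, 0, 2, 0]), 
  (163, [6, 7, 5, 6, 1, 3, 4, 5, 2, 3, 4, 1, 3, 0, 2, 0]), 
  (163, [7, 5, 6, 1, 3, 4, 5, 2, 3, 4, 1, 3, 0, 2, 0]), (163, [5, 6, 1, 3, 4, 5, 2, 3, 4, 1, 3, 0, 2, 0]), 
  (163, [7, 6, 1, 3, 4, 5, 2, 3, 4, 1, 3, 0, 2, 0]), (163, [6, 1, 3, 4, 5, 2, 3, 4, 1, 3, 0, 2, 0]), 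
  (163, [1, 3, 4, 5, 2, 3, 4, 1, 3, 0, 2, 0]), (163, [5, 6, 7, 4, 5, 6, 3, 4, 5, 2, 3, 4, 1, 3, 0, 2, 0]), 
  (163, [6, 7, 4, 5, 6, 3, 4, 5, 2, 3, 4, 1, 3, 0, 2, 0]), 
  (163, [7, 4, 5, 6, 3, 4, 5, 2, 3, 4, 1, 3, 0, 2, 0]), (163, [4, 5, 6, 3, 4, 5, 2, 3, 4, 1, 3, 0, 2, 0]), 
  (163, [6, 7, 5, 6, 3, 4, 5, 2, 3, 4, 1, 3, 0, 2, 0]), (163, [7, 5, 6, 3, 4, 5, 2, 3, 4, 1, 3, 0, 2, 0]), 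
  (163, [5, 6, 3, 4, 5, 2, 3, 4, 1, 3, 0, 2, 0]), (163, [7, 6, 3, 4, 5, 2, 3, 4, 1, 3, 0, 2, 0]), 
  (163, [6, 3, 4, 5, 2, 3, 4, 1, 3, 0, 2, 0]), (163, [3, 4, 5, 2, 3, 4, 1, 3, 0, 2, 0]), 
  (163, [6, 7, 5, 6, 4, 5, 2, 3, 4, 1, 3, 0, 2, 0]), (163, [7, 5, 6, 4, 5, 2, 3, 4, 1, 3, 0, 2, 0]), 
  (163, [5, 6, 4, 5, 2, 3, 4, 1, 3, 0, 2, 0]), (163, [7, 6, 4, 5, 2, 3, 4, 1, 3, 0, 2, 0]), 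
  (163, [6, 4, 5, 2, 3, 4, 1, 3, 0, 2, 0]), (163, [4, 5, 2, 3, 4, 1, 3, 0, 2, 0]), 
  (163, [7, 6, 5, 2, 3, 4, 1, 3, 0, 2, 0]), (163, [6, 5, 2, 3, 4, 1, 3, 0, 2, 0]), 
  (163, [5, 2, 3, 4, 1, 3, 0, 2, 0]), (163, [2, 3, 4, 1, 3, 0, 2, 0]), 
  (163, [6, 7, 5, 6, 4, 5, 3, 4, 1, 3, 0, 2, 0]), (163, [7, 5, 6, 4, 5, 3, 4, 1, 3, 0, 2, 0]), 
  (163, [5, 6, 4, 5, 3, 4, 1, 3, 0, 2, 0]), (163, [7, 6, 4, 5, 3, 4, 1, 3, 0, 2, 0]), 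
  (163, [6, 4, 5, 3, 4, 1, 3, 0, 2, 0]), (163, [4, 5, 3, 4, 1, 3, 0, 2, 0]), 
  (163, [7, 6, 5, 3, 4, 1, 3, 0, 2, 0]), (163, [6, 5, 3, 4, 1, 3, 0, 2, 0]), (163, [5, 3, 4, 1, 3, 0, 2, 0]), 
  (163, [3, 4, 1, 3, 0, 2, 0]), (163, [7, 6, 5, 4, 1, 3, 0, 2, 0]), (163, [6, 5, 4, 1, 3, 0, 2, 0]), 
  (163, [5, 4, 1, 3, 0, 2, 0]), (163, [4, 1, 3, 0, 2, 0]), (163, [1, 3, 0, 2, 0]), 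
  (163, [7, 6, 5, 4, 3, 0, 2, 0]), (163, [6, 5, 4, 3, 0, 2, 0]), (163, [5, 4, 3, 0, 2, 0]), 
  (163, [4, 3, 0, 2, 0]), (163, [3, 0, 2, 0]), (163, [0, 2, 0]), (163, [0, 2]), 
  (163, [6, 7, 5, 6, 4, 5, 3, 4, 1, 3, 2, 0]), (163, [7, 5, 6, 4, 5, 3, 4, 1, 3, 2, 0]), 
  (163, [5, 6, 4, 5, 3, 4, 1, 3, 2, 0]), (163, [7, 6, 4, 5, 3, 4, 1, 3, 2, 0]), 
  (163, [6, 4, 5, 3, 4, 1, 3, 2, 0]), (163, [4, 5, 3, 4, 1, 3, 2, 0]), (163, [7, 6, 5, 3, 4, 1, 3, 2, 0]), 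
  (163, [6, 5, 3, 4, 1, 3, 2, 0]), (163, [5, 3, 4, 1, 3, 2, 0]), (163, [3, 4, 1, 3, 2, 0]), 
  (163, [7, 6, 5, 4, 1, 3, 2, 0]), (163, [6, 5, 4, 1, 3, 2, 0]), (163, [5, 4, 1, 3, 2, 0]), 
  (163, [4, 1, 3, 2, 0]), (163, [1, 3, 2, 0]), (163, [7, 6, 5, 4, 2, 1, 3, 2, 0]), 
  (163, [6, 5, 4, 2, 1, 3, 2, 0]), (163, [5, 4, 2, 1, 3, 2, 0]), (163, [4, 2, 1, 3, 2, 0]), 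
  (163, [2, 1, 3, 2, 0]), (163, [3, 2, 1, 3, 2, 0]), (163, [7, 6, 5, 4, 3, 2, 0]), (163, [6, 5, 4, 3, 2, 0]), 
  (163, [5, 4, 3, 2, 0]), (163, [4, 3, 2, 0]), (163, [3, 2, 0]), (163, [2, 0]), 
  (163, [7, 6, 5, 4, 2, 3, 2, 0]), (163, [6, 5, 4, 2, 3, 2, 0]), (163, [5, 4, 2, 3, 2, 0]), 
  (163, [4, 2, 3, 2, 0]), (163, [2, 3, 2, 0]), (163, [7, 6, 5, 3, 4, 2, 3, 2, 0]), 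
  (163, [6, 5, 3, 4, 2, 3, 2, 0]), (163, [5, 3, 4, 2, 3, 2, 0]), (163, [3, 4, 2, 3, 2, 0]), 
  (163, [7, 6, 4, 5, 3, 4, 2, 3, 2, 0]), (163, [6, 4, 5, 3, 4, 2, 3, 2, 0]), (163, [4, 5, 3, 4, 2, 3, 2, 0]), 
  (163, [7, 5, 6, 4, 5, 3, 4, 2, 3, 2, 0]), (163, [5, 6, 4, 5, 3, 4, 2, 3, 2, 0]), 
  (163, [6, 7, 5, 6, 4, 5, 3, 4, 2, 3, 2, 0]), (163, [6, 7, 5, 6, 4, 5, 3, 4, 2, 3, 0]), 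
  (163, [5, 6, 4, 5, 3, 4, 2, 3, 0]), (163, [7, 5, 6, 4, 5, 3, 4, 2, 3, 0]), (163, [4, 5, 3, 4, 2, 3, 0]), 
  (163, [6, 4, 5, 3, 4, 2, 3, 0]), (163, [7, 6, 4, 5, 3, 4, 2, 3, 0]), (163, [3, 4, 2, 3, 0]), 
  (163, [5, 3, 4, 2, 3, 0]), (163, [6, 5, 3, 4, 2, 3, 0]), (163, [7, 6, 5, 3, 4, 2, 3, 0]), (163, [2, 3, 0]), 
  (163, [4, 2, 3, 0]), (163, [5, 4, 2, 3, 0]), (163, [6, 5, 4, 2, 3, 0]), (163, [7, 6, 5, 4, 2, 3, 0]), 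
  (163, [0]), (163, [3, 0]), (163, [4, 3, 0]), (163, [5, 4, 3, 0]), (163, [6, 5, 4, 3, 0]), 
  (163, [7, 6, 5, 4, 3, 0]), (163, [3, 2, 1, 3, 0]), (163, [2, 1, 3, 0]), (163, [4, 2, 1, 3, 0]), 
  (163, [5, 4, 2, 1, 3, 0]), (163, [6, 5, 4, 2, 1, 3, 0]), (163, [7, 6, 5, 4, 2, 1, 3, 0]), (163, [1, 3, 0]), 
  (163, [4, 1, 3, 0]), (163, [5, 4, 1, 3, 0]), (163, [6, 5, 4, 1, 3, 0]), (163, [7, 6, 5, 4, 1, 3, 0]), 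
  (163, [3, 4, 1, 3, 0]), (163, [5, 3, 4, 1, 3, 0]), (163, [6, 5, 3, 4, 1, 3, 0]), 
  (163, [7, 6, 5, 3, 4, 1, 3, 0]), (163, [4, 5, 3, 4, 1, 3, 0]), (163, [6, 4, 5, 3, 4, 1, 3, 0]), 
  (163, [7, 6, 4, 5, 3, 4, 1, 3, 0]), (163, [5, 6, 4, 5, 3, 4, 1, 3, 0]), 
  (163, [7, 5, 6, 4, 5, 3, 4, 1, 3, 0]), (163, [6, 7, 5, 6, 4, 5, 3, 4, 1, 3, 0]), (163, [2]), (163, []), 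
  (163, [3]), (163, [4, 3]), (163, [5, 4, 3]), (163, [6, 5, 4, 3]), (163, [7, 6, 5, 4, 3]), (163, [1, 3]), 
  (163, [4, 1, 3]), (163, [5, 4, 1, 3]), (163, [6, 5, 4, 1, 3]), (163, [7, 6, 5, 4, 1, 3]), 
  (163, [3, 4, 1, 3]), (163, [5, 3, 4, 1, 3]), (163, [6, 5, 3, 4, 1, 3]), (163, [7, 6, 5, 3, 4, 1, 3]), 
  (163, [4, 5, 3, 4, 1, 3]), (163, [6, 4, 5, 3, 4, 1, 3]), (163, [7, 6, 4, 5, 3, 4, 1, 3]), 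
  (163, [5, 6, 4, 5, 3, 4, 1, 3]), (163, [7, 5, 6, 4, 5, 3, 4, 1, 3]), (163, [6, 7, 5, 6, 4, 5, 3, 4, 1, 3]), 
  (163, [2, 3, 4, 1, 3]), (163, [5, 2, 3, 4, 1, 3]), (163, [6, 5, 2, 3, 4, 1, 3]), 
  (163, [7, 6, 5, 2, 3, 4, 1, 3]), (163, [4, 5, 2, 3, 4, 1, 3]), (163, [6, 4, 5, 2, 3, 4, 1, 3]), 
  (163, [7, 6, 4, 5, 2, 3, 4, 1, 3]), (163, [5, 6, 4, 5, 2, 3, 4, 1, 3]), 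
  (163, [7, 5, 6, 4, 5, 2, 3, 4, 1, 3]), (163, [6, 7, 5, 6, 4, 5, 2, 3, 4, 1, 3]), 
  (163, [3, 4, 5, 2, 3, 4, 1, 3]), (163, [6, 3, 4, 5, 2, 3, 4, 1, 3]), (163, [7, 6, 3, 4, 5, 2, 3, 4, 1, 3]), 
  (163, [5, 6, 3, 4, 5, 2, 3, 4, 1, 3]), (163, [7, 5, 6, 3, 4, 5, 2, 3, 4, 1, 3]), 
  (163, [6, 7, 5, 6, 3, 4, 5, 2, 3, 4, 1, 3]), (163, [4, 5, 6, 3, 4, 5, 2, 3, 4, 1, 3]), 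
  (163, [7, 4, 5, 6, 3, 4, 5, 2, 3, 4, 1, 3]), (163, [6, 7, 4, 5, 6, 3, 4, 5, 2, 3, 4, 1, 3]), 
  (163, [5, 6, 7, 4, 5, 6, 3, 4, 5, 2, 3, 4, 1, 3]), (163, [1, 3, 4, 5, 2, 3, 4, 1, 3]), 
  (163, [6, 1, 3, 4, 5, 2, 3, 4, 1, 3]), (163, [7, 6, 1, 3, 4, 5, 2, 3, 4, 1, 3]), 
  (163, [5, 6, 1, 3, 4, 5, 2, 3, 4, 1, 3]), (163, [7, 5, 6, 1, 3, 4, 5, 2, 3, 4, 1, 3]), 
  (163, [6, 7, 5, 6, 1, 3, 4, 5, 2, 3, 4, 1, 3]), (163, [4, 5, 6, 1, 3, 4, 5, 2, 3, 4, 1, 3]), 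
  (163, [7, 4, 5, 6, 1, 3, 4, 5, 2, 3, 4, 1, 3]), (163, [6, 7, 4, 5, 6, 1, 3, 4, 5, 2, 3, 4, 1, 3]), 
  (163, [5, 6, 7, 4, 5, 6, 1, 3, 4, 5, 2, 3, 4, 1, 3]), (163, [3, 4, 5, 6, 1, 3, 4, 5, 2, 3, 4, 1, 3]), 
  (163, [7, 3, 4, 5, 6, 1, 3, 4, 5, 2, 3, 4, 1, 3]), (163, [6, 7, 3, 4, 5, 6, 1, 3, 4, 5, 2, 3, 4, 1, 3]), 
  (163, [5, 6, 7, 3, 4, 5, 6, 1, 3, 4, 5, 2, 3, 4, 1, 3]), 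
  (163, [4, 5, 6, 7, 3, 4, 5, 6, 1, 3, 4, 5, 2, 3, 4, 1, 3]), 
  (163, [2, 3, 4, 5, 6, 1, 3, 4, 5, 2, 3, 4, 1, 3]), (163, [7, 2, 3, 4, 5, 6, 1, 3, 4, 5, 2, 3, 4, 1, 3]), 
  (163, [6, 7, 2, 3, 4, 5, 6, 1, 3, 4, 5, 2, 3, 4, 1, 3]), 
  (163, [5, 6, 7, 2, 3, 4, 5, 6, 1, 3, 4, 5, 2, 3, 4, 1, 3]), 
  (163, [4, 5, 6, 7, 2, 3, 4, 5, 6, 1, 3, 4, 5, 2, 3, 4, 1, 3]), 
  (163, [3, 4, 5, 6, 7, 2, 3, 4, 5, 6, 1, 3, 4, 5, 2, 3, 4, 1, 3]), 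
  (163, [1, 3, 4, 5, 6, 7, 2, 3, 4, 5, 6, 1, 3, 4, 5, 2, 3, 4, 1, 3]), 
  (163, [0, 2, 3, 4, 5, 6, 1, 3, 4, 5, 2, 3, 4, 1, 3]), 
  (163, [7, 0, 2, 3, 4, 5, 6, 1, 3, 4, 5, 2, 3, 4, 1, 3]), 
  (163, [6, 7, 0, 2, 3, 4, 5, 6, 1, 3, 4, 5, 2, 3, 4, 1, 3]), 
  (163, [5, 6, 7, 0, 2, 3, 4, 5, 6, 1, 3, 4, 5, 2, 3, 4, 1, 3]), 
  (163, [4, 5, 6, 7, 0, 2, 3, 4, 5, 6, 1, 3, 4, 5, 2, 3, 4, 1, 3]), 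
  (163, [3, 4, 5, 6, 7, 0, 2, 3, 4, 5, 6, 1, 3, 4, 5, 2, 3, 4, 1, 3]), 
  (163, [2, 3, 4, 5, 6, 7, 0, 2, 3, 4, 5, 6, 1, 3, 4, 5, 2, 3, 4, 1, 3]), 
  (163, [1, 3, 4, 5, 6, 7, 0, 2, 3, 4, 5, 6, 1, 3, 4, 5, 2, 3, 4, 1, 3]), 
  (163, [2, 1, 3, 4, 5, 6, 7, 0, 2, 3, 4, 5, 6, 1, 3, 4, 5, 2, 3, 4, 1, 3]), 
  (163, [3, 2, 1, 3, 4, 5, 6, 7, 0, 2, 3, 4, 5, 6, 1, 3, 4, 5, 2, 3, 4, 1, 3]), 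
  (163, [4, 3, 2, 1, 3, 4, 5, 6, 7, 0, 2, 3, 4, 5, 6, 1, 3, 4, 5, 2, 3, 4, 1, 3]), 
  (163, [5, 4, 3, 2, 1, 3, 4, 5, 6, 7, 0, 2, 3, 4, 5, 6, 1, 3, 4, 5, 2, 3, 4, 1, 3]), 
  (163, [6, 5, 4, 3, 2, 1, 3, 4, 5, 6, 7, 0, 2, 3, 4, 5, 6, 1, 3, 4, 5, 2, 3, 4, 1, 3]), 
  (163, [7, 6, 5, 4, 3, 2, 1, 3, 4, 5, 6, 7, 0, 2, 3, 4, 5, 6, 1, 3, 4, 5, 2, 3, 4, 1, 3])]

theorem orbitE8 : orbitOK tabE8 [163] wordsE8 8 240 = true := by decide +kernel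

end Cfsg.Agent.ChevalleyStructure.OrbitWords
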