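import Cfsg.Agent.ChevalleyStructure.WeylDatum
import Cfsg.Agent.ChevalleyStructure.WeylTables
import Cfsg.Agent.ChevalleyStructure.RootComb
import Cfsg.Prelude.Def_LieChev
import Cfsg.Prelude.Def_ChevB2
import Cfsg.Prelude.Def_ChevD4

/-!
Poincare polynomials of the Weyl groups of the Chevalley data of types G2, B2, D4, F4, E6, E7, E8.
-/

set_option autoImplicit false

namespace Cfsg.Agent.ChevalleyStructure.WeylPoincare

open Cfsg.Lie Cfsg.Agent.ChevalleyStructure.WeylStep Cfsg.Agent.ChevalleyStructure.WeylDatum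
  Cfsg.Agent.ChevalleyStructure.WeylTables Cfsg.Agent.ChevalleyStructure.RootComb

theorem rokG2 : rowsOK chevG2 rowsG2 = true := by decide +kernel
theorem rokB2 : rowsOK chevB2 rowsB2 = true := by decide +kernel
theorem rokD4 : rowsOK chevD4 rowsD4 = true := by decide +kernel
theorem rokF4 : rowsOK chevF4 rowsF4 = true := by decide +kernel
theorem rokE6 : rowsOK chevE6 rowsE6 = true := by decide +kernel
theorem rokE7 : rowsOK chevE7 rowsE7 = true := by decide +kernel
theorem rokE8 : rowsOK chevE8 rowsE8 = true := by decide +kernel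

theorem cokG2 : clsOK chevG2 rclsG2 = true := by decide +kernel
theorem cokB2 : clsOK chevB2 rclsB2 = true := by decide +kernel
theorem cokF4 : clsOK chevF4 rclsF4 = true := by decide +kernel

theorem chG2 : chainOK 2 clsG2 rowsG2 2 chainG2 = true := by decide +kernel
theorem chB2 : chainOK 2 clsB2 rowsB2 2 chainB2 = true := by decide +kernel
theorem chD4 : chainOK 4 clsD4 rowsD4 4 chainD4 = true := by decide +kernel
theorem chF4 : chainOK 4 clsF4 rowsF4 4 chainF4 = true := by decide +kernel
theorem chE6 : chainOK 6 clsE6 rowsE6 6 chainE6 = true := by decide +kernel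
theorem chE7 : chainOK 7 clsE7 rowsE7 7 chainE7 = true := by decide +kernel
theorem chE8 : chainOK 8 clsE8 rowsE8 8 chainE8 = true := by decide +kernel

theorem prod_degrees (q : ℕ) (ds : List ℕ) :
    (ds.map fun d => ∑ k ∈ Finset.range d, q ^ k).prod =
      pe q (pprod (ds.map fun d => List.replicate d 1)) := by
  rw [pe_prod, List.map_map]
  congr 1
  apply List.map_congr_left
  intro d _
  exact (pe_replicate q d).symm

/-- the polynomial computed from the tables -/
def poly (al be : ℕ) (Ls : List (List Node)) : List ℕ :=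
  pprod (Ls.map fun L => psum (L.map fun nd => pmon (al * nd.a + be * nd.b)))

theorem polyG2 : poly 1 1 chainG2 = pprod ([2, 6].map fun d => List.replicate d 1) := by
  decide +kernel
theorem polyB2 : poly 1 1 chainB2 = pprod ([2, 4].map fun d => List.replicate d 1) := by
  decide +kernel
theorem polyD4 : poly 1 1 chainD4 = pprod ([2, 4, 4, 6].map fun d => List.replicate d 1) := by
  decide +kernel
theorem polyF4 : poly 1 1 chainF4 = pprod ([2, 6, 8, 12].map fun d => List.replicate d 1) := by
  decide +kernel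
theorem polyE6 : poly 1 1 chainE6 =
    pprod ([2, 5, 6, 8, 9, 12].map fun d => List.replicate d 1) := by
  decide +kernel
theorem polyE7 : poly 1 1 chainE7 =
    pprod ([2, 6, 8, 10, 12, 14, 18].map fun d => List.replicate d 1) := by
  decide +kernel
theorem polyE8 : poly 1 1 chainE8 =
    pprod ([2, 8, 12, 14, 18, 20, 24, 30].map fun d => List.replicate d 1) := by
  decide +kernel

/-- The Poincare polynomials of the Weyl groups. -/
theorem poincare (q : ℕ) (p : ChevalleyDatum × List ℕ)
    (hp : p ∈ [(chevG2, [2, 6]), (chevB2, [2, 4]), (chevD4, [2, 4, 4, 6]), (chevF4, [2, 6, 8, 12]),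
      (chevE6, [2, 5, 6, 8, 9, 12]), (chevE7, [2, 6, 8, 10, 12, 14, 18]),
      (chevE8, [2, 8, 12, 14, 18, 20, 24, 30])]) :
    ∑ᶠ w ∈ (weyl p.1 : Set (Equiv.Perm (Fin p.1.nroots))), q ^ inv p.1 w =
      (p.2.map fun d => ∑ k ∈ Finset.range d, q ^ k).prod := by
  rw [prod_degrees]
  simp only [List.mem_cons, List.not_mem_nil, or_false] at hp
  rcases hp with rfl | rfl | rfl | rfl | rfl | rfl | rfl
  · rw [← polyG2]; exact sum_equal goodG2 rokG2 cokG2 clsG2 (by decide) chainG2 chG2 q
  · rw [← polyB2]; exact sum_equal goodB2 rokB2 cokB2 clsB2 (by decide) chainB2 chB2 q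
  · rw [← polyD4]; exact sum_equal goodD4 rokD4 (clsOK_nil _) clsD4 (by decide) chainD4 chD4 q
  · rw [← polyF4]; exact sum_equal goodF4 rokF4 cokF4 clsF4 (by decide) chainF4 chF4 q
  · rw [← polyE6]; exact sum_equal goodE6 rokE6 (clsOK_nil _) clsE6 (by decide) chainE6 chE6 q
  · rw [← polyE7]; exact sum_equal goodE7 rokE7 (clsOK_nil _) clsE7 (by decide) chainE7 chE7 q
  · rw [← polyE8]; exact sum_equal goodE8 rokE8 (clsOK_nil _) clsE8 (by decide) chainE8 chE8 q

/-- The product form with `(q - 1) ^ rank`, for any choice of the reflection permutations. -/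
theorem poincare_of_refl (p : ChevalleyDatum × List ℕ)
    (hp : p ∈ [(chevG2, [2, 6]), (chevB2, [2, 4]), (chevD4, [2, 4, 4, 6]), (chevF4, [2, 6, 8, 12]),
      (chevE6, [2, 5, 6, 8, 9, 12]), (chevE7, [2, 6, 8, 10, 12, 14, 18]),
      (chevE8, [2, 8, 12, 14, 18, 20, 24, 30])])
    (s : Fin p.1.rank → Equiv.Perm (Fin p.1.nroots))
    (hs : ∀ i r, ((s i r : Fin p.1.nroots) : ℕ) = p.1.reflectRoot i r) (q : ℕ) :
    (q - 1) ^ p.1.rank *
      ∑ᶠ w ∈ (Subgroup.closure (Set.range s) : Set (Equiv.Perm (Fin p.1.nroots))),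
        q ^ (Finset.univ.filter fun r : Fin p.1.nroots =>
          p.1.IsPosRoot r ∧ p.1.IsNegRoot (w r : ℕ)).card =
      (p.2.map fun d => q ^ d - 1).prod := by
  have h := poincare q p hp
  rw [weyl_eq_of_refl s hs] at h
  unfold inv at h
  rw [h]
  have hlen : p.1.rank = p.2.length ∧ ∀ d ∈ p.2, 0 < d := by
    simp only [List.mem_cons, List.not_mem_nil, or_false] at hp
    rcases hp with rfl | rfl | rfl | rfl | rfl | rfl | rfl <;> decide
  rw [hlen.1]
  have h2 := hlen.2
  clear h hlen hs hp s
  generalize p.2 = ds at h2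
  have hg : ∀ d, 0 < d → (q - 1) * ∑ k ∈ Finset.range d, q ^ k = q ^ d - 1 := by
    intro d hd
    rcases Nat.eq_zero_or_pos q with hq | hq
    · subst hq
      simp [Nat.pos_iff_ne_zero.1 hd]
    · obtain ⟨x, rfl⟩ : ∃ x, q = x + 1 := ⟨q - 1, by omega⟩
      have h3 := geom_sum_mul_add x d
      rw [Nat.add_sub_cancel, mul_comm]
      omega
  induction ds with
  | nil => simp
  | cons d ds ih =>
    rw [List.length_cons, pow_succ, List.map_cons, List.prod_cons, List.map_cons, List.prod_cons,
      ← ih fun d' hd' => h2 d' (List.mem_cons_of_mem _ hd'), ← hg d (h2 d List.mem_cons_self)]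
    ring

end Cfsg.Agent.ChevalleyStructure.WeylPoincare
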