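import Cfsg.Agent.ChevalleyStructure.CardBruhat
import Cfsg.Agent.ChevalleyStructure.WeylPoincare

/-!
The orders of the Chevalley groups in closed form: `d |G| = q^N ∏ (q^{d_i} - 1)`, from the order
formula of `CardBruhat` and the Poincaré polynomial of `WeylPoincare`.
-/

set_option autoImplicit false

namespace Cfsg.Agent.ChevalleyStructure.OrderFinal

open Cfsg Cfsg.Lie Cfsg.Agent.ChevalleyStructure.Elts Cfsg.Agent.ChevalleyStructure.CardComb
  Cfsg.Agent.ChevalleyStructure.CardBruhat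

universe u

theorem pow_mul_prod {q : ℕ} (hq : 1 ≤ q) (l : List ℕ) :
    (q - 1) ^ l.length * (l.map fun d => ∑ k ∈ Finset.range d, q ^ k).prod =
      (l.map fun d => q ^ d - 1).prod := by
  induction l with
  | nil => simp
  | cons a l ih =>
    rw [List.map_cons, List.map_cons, List.prod_cons, List.prod_cons, List.length_cons, ← ih,
      ← geom_sum_mul_of_one_le hq a, pow_succ]
    ring

/-- `d |G| = q^N ∏ (q^{d_i} - 1)`. -/
theorem order_formula {F : Type u} [Field F] [Fintype F] {q : ℕ} (hq : Fintype.card F = q)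
    (D : ChevalleyDatum) (d : ℕ) (degs : List ℕ)
    (hp : (D, d) ∈ [(chevG2, 1), (chevF4, 1), (chevE8, 1), (chevE6, Nat.gcd 3 (q - 1)),
      (chevE7, Nat.gcd 2 (q - 1)), (chevB2, Nat.gcd 2 (q - 1)), (chevD4, Nat.gcd 2 (q - 1) ^ 2)])
    (hD : InList D) (hc : Comb D)
    (hdegs : (D, degs) ∈ [(chevG2, [2, 6]), (chevB2, [2, 4]), (chevD4, [2, 4, 4, 6]),
      (chevF4, [2, 6, 8, 12]), (chevE6, [2, 5, 6, 8, 9, 12]), (chevE7, [2, 6, 8, 10, 12, 14, 18]),
      (chevE8, [2, 8, 12, 14, 18, 20, 24, 30])])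
    (hlen : degs.length = D.rank) :
    d * Nat.card (D.group F) = q ^ (D.nroots / 2) * (degs.map fun k => q ^ k - 1).prod := by
  have h1 := card_group_formula hq (D, d) hp hD hc
  have h2 := Cfsg.Agent.ChevalleyStructure.WeylPoincare.poincare q (D, degs) hdegs
  have hq1 : 1 ≤ q := by
    rw [← hq]
    exact Fintype.card_pos
  have h3 : (∑ᶠ w ∈ (weyl D : Set (Equiv.Perm (Fin D.nroots))), q ^ CardComb.inv D w)
      = (degs.map fun d => ∑ k ∈ Finset.range d, q ^ k).prod := h2
  have h4 : d * Nat.card (D.group F) = q ^ (D.nroots / 2) * (q - 1) ^ D.rank *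
      ∑ᶠ w ∈ (weyl D : Set (Equiv.Perm (Fin D.nroots))), q ^ CardComb.inv D w := h1
  rw [h4, h3, mul_assoc, ← hlen, pow_mul_prod hq1]

end Cfsg.Agent.ChevalleyStructure.OrderFinal
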