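/-
Orthogonal groups of quadratic forms with hyperbolic pairs of coordinate vectors, over any field and in any
characteristic: elementary Siegel transformations, transitivity on singular vectors, and the commutator subgroup.
-/
import Mathlib
import Cfsg.Prelude.Def_Classical

set_option autoImplicit false

namespace Cfsg.Agent.ChevalleyStructure.OrthHyp

open Matrix
open scoped commutatorElement

variable {ι : Type} [Fintype ι] [DecidableEq ι] {F : Type*} [Field F]

/-! ### The action of `GL` on column vectors -/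

theorem act_mul (g h : GL ι F) (v : ι → F) :
    ((g * h : GL ι F) : Matrix ι ι F) *ᵥ v = (g : Matrix ι ι F) *ᵥ ((h : Matrix ι ι F) *ᵥ v) := by
  rw [Units.val_mul, ← Matrix.mulVec_mulVec]

theorem act_one (v : ι → F) : ((1 : GL ι F) : Matrix ι ι F) *ᵥ v = v := by
  simp

theorem act_inv_act (g : GL ι F) (v : ι → F) :
    ((g⁻¹ : GL ι F) : Matrix ι ι F) *ᵥ ((g : Matrix ι ι F) *ᵥ v) = v := by
  rw [← act_mul, inv_mul_cancel, act_one]

theorem act_act_inv (g : GL ι F) (v : ι → F) :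
    (g : Matrix ι ι F) *ᵥ (((g⁻¹ : GL ι F) : Matrix ι ι F) *ᵥ v) = v := by
  rw [← act_mul, mul_inv_cancel, act_one]

theorem ext_act {g h : GL ι F} (H : ∀ v, (g : Matrix ι ι F) *ᵥ v = (h : Matrix ι ι F) *ᵥ v) : g = h :=
  Units.ext (Matrix.ext_of_mulVec_single fun _ => H _)

theorem ext_single {g h : GL ι F}
    (H : ∀ i, (g : Matrix ι ι F) *ᵥ Pi.single i 1 = (h : Matrix ι ι F) *ᵥ Pi.single i 1) : g = h :=
  Units.ext (Matrix.ext_of_mulVec_single H)

theorem act_ne_zero (g : GL ι F) {v : ι → F} (hv : v ≠ 0) : (g : Matrix ι ι F) *ᵥ v ≠ 0 := by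
  intro h
  apply hv
  rw [← act_inv_act g v, h, Matrix.mulVec_zero]

/-- A quadratic form on `ι → F` with polar form `B` and a set `P` of indices which form hyperbolic pairs
`i, bar i`. The form is anisotropic on the span of the other coordinate vectors. -/
structure HypForm (ι : Type) [Fintype ι] [DecidableEq ι] (F : Type*) [Field F] where
  Q : (ι → F) → F
  B : (ι → F) → (ι → F) → F
  P : Set ι
  bar : ι → ι
  Q_add : ∀ u v, Q (u + v) = Q u + Q v + B u v
  Q_smul : ∀ (c : F) (v : ι → F), Q (c • v) = c ^ 2 * Q v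
  B_add : ∀ u v w, B (u + v) w = B u w + B v w
  B_smul : ∀ (c : F) (u v : ι → F), B (c • u) v = c * B u v
  B_comm : ∀ u v, B u v = B v u
  bar_mem : ∀ i ∈ P, bar i ∈ P
  bar_bar : ∀ i ∈ P, bar (bar i) = i
  bar_ne : ∀ i ∈ P, bar i ≠ i
  Q_single : ∀ i ∈ P, Q (Pi.single i 1) = 0
  B_single : ∀ i ∈ P, ∀ v, B (Pi.single i 1) v = v (bar i)
  aniso : ∀ v, (∀ i ∈ P, v i = 0) → Q v = 0 → v = 0

namespace HypForm

variable (H : HypForm ι F)

theorem B_add' (u v w : ι → F) : H.B u (v + w) = H.B u v + H.B u w := by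
  rw [H.B_comm, H.B_add, H.B_comm v, H.B_comm w]

theorem B_smul' (c : F) (u v : ι → F) : H.B u (c • v) = c * H.B u v := by
  rw [H.B_comm, H.B_smul, H.B_comm v]

theorem B_zero (v : ι → F) : H.B 0 v = 0 := by
  have := H.B_smul 0 0 v
  simpa using this

theorem B_zero' (v : ι → F) : H.B v 0 = 0 := by
  rw [H.B_comm, H.B_zero]

theorem B_neg (u v : ι → F) : H.B (-u) v = - H.B u v := by
  have := H.B_smul (-1) u v
  simpa using this

theorem B_neg' (u v : ι → F) : H.B u (-v) = - H.B u v := by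
  rw [H.B_comm, H.B_neg, H.B_comm]

theorem B_sub (u v w : ι → F) : H.B (u - v) w = H.B u w - H.B v w := by
  rw [sub_eq_add_neg, H.B_add, H.B_neg, sub_eq_add_neg]

theorem B_sub' (u v w : ι → F) : H.B u (v - w) = H.B u v - H.B u w := by
  rw [sub_eq_add_neg, H.B_add', H.B_neg', sub_eq_add_neg]

theorem Q_zero : H.Q 0 = 0 := by
  have := H.Q_smul 0 0
  simpa using this

theorem Q_neg (v : ι → F) : H.Q (-v) = H.Q v := by
  have := H.Q_smul (-1) v
  simpa using this

theorem B_self (v : ι → F) : H.B v v = 2 * H.Q v := by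
  have h1 := H.Q_add v v
  have h2 := H.Q_smul 2 v
  rw [two_smul] at h2
  rw [h2] at h1
  linear_combination (-1 : F) * h1

theorem Q_sub (u v : ι → F) : H.Q (u - v) = H.Q u + H.Q v - H.B u v := by
  rw [sub_eq_add_neg, H.Q_add, H.Q_neg, H.B_neg', sub_eq_add_neg]

theorem B_single' {i : ι} (hi : i ∈ H.P) (v : ι → F) : H.B v (Pi.single i 1) = v (H.bar i) := by
  rw [H.B_comm, H.B_single i hi]

theorem B_single_bar {i : ι} (hi : i ∈ H.P) (v : ι → F) : H.B (Pi.single (H.bar i) 1) v = v i := by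
  rw [H.B_single _ (H.bar_mem i hi), H.bar_bar i hi]

/-- The isometry group. -/
abbrev O : Subgroup (GL ι F) := isometryGroup F H.Q

theorem mem_O {g : GL ι F} : g ∈ H.O ↔ ∀ v, H.Q ((g : Matrix ι ι F) *ᵥ v) = H.Q v :=
  ⟨fun h v => h v v, fun h v _ => h v⟩

theorem B_act {g : GL ι F} (hg : g ∈ H.O) (u v : ι → F) :
    H.B ((g : Matrix ι ι F) *ᵥ u) ((g : Matrix ι ι F) *ᵥ v) = H.B u v := by
  have h := H.mem_O.1 hg
  have h1 := H.Q_add ((g : Matrix ι ι F) *ᵥ u) ((g : Matrix ι ι F) *ᵥ v)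
  rw [← Matrix.mulVec_add, h, h, h] at h1
  have h2 := H.Q_add u v
  linear_combination h2 - h1

/-! ### Siegel transformations -/

/-- The Siegel transformation as a function. -/
def sgl (e u v : ι → F) : ι → F :=
  v + H.B e v • u - H.B u v • e - (H.Q u * H.B e v) • e

theorem sgl_def (e u v : ι → F) :
    H.sgl e u v = v + H.B e v • u - H.B u v • e - (H.Q u * H.B e v) • e := rfl

theorem Q_sgl {e u : ι → F} (he : H.Q e = 0) (hu : H.B e u = 0) (v : ι → F) :
    H.Q (H.sgl e u v) = H.Q v := by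
  have hee : H.B e e = 0 := by rw [H.B_self, he, mul_zero]
  have hue : H.B u e = 0 := by rw [H.B_comm, hu]
  rw [H.sgl_def]
  simp only [H.Q_sub, H.Q_add, H.Q_smul, H.B_add, H.B_sub, H.B_smul, H.B_smul', he, hee, hue]
  rw [H.B_comm v u, H.B_comm v e]
  ring

theorem sgl_add {e u w : ι → F} (he : H.Q e = 0) (hu : H.B e u = 0) (hw : H.B e w = 0) (v : ι → F) :
    H.sgl e u (H.sgl e w v) = H.sgl e (u + w) v := by
  have hee : H.B e e = 0 := by rw [H.B_self, he, mul_zero]
  have hue : H.B u e = 0 := by rw [H.B_comm, hu]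
  simp only [H.sgl_def, H.B_add', H.B_sub', H.B_smul', H.Q_add, H.B_add, hee, hue, hw]
  ext i
  simp only [Pi.add_apply, Pi.sub_apply, Pi.smul_apply, smul_eq_mul]
  ring

theorem sgl_zero (e v : ι → F) : H.sgl e 0 v = v := by
  simp [H.sgl_def, H.B_zero, H.Q_zero]

theorem sgl_add_smul_self {e u : ι → F} (he : H.Q e = 0) (hu : H.B e u = 0) (c : F) (v : ι → F) :
    H.sgl e (u + c • e) v = H.sgl e u v := by
  have hue : H.B u e = 0 := by rw [H.B_comm, hu]
  simp only [H.sgl_def, H.Q_add, H.B_add, H.Q_smul, H.B_smul, H.B_smul', he, hue]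
  ext i
  simp only [Pi.add_apply, Pi.sub_apply, Pi.smul_apply, smul_eq_mul]
  ring

theorem sgl_smul (a : F) (e u v : ι → F) : H.sgl (a • e) u v = H.sgl e (a • u) v := by
  simp only [H.sgl_def, H.B_smul, H.Q_smul]
  ext i
  simp only [Pi.add_apply, Pi.sub_apply, Pi.smul_apply, smul_eq_mul]
  ring

theorem act_sgl {g : GL ι F} (hg : g ∈ H.O) (e u v : ι → F) :
    (g : Matrix ι ι F) *ᵥ (H.sgl e u v) =
      H.sgl ((g : Matrix ι ι F) *ᵥ e) ((g : Matrix ι ι F) *ᵥ u) ((g : Matrix ι ι F) *ᵥ v) := by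
  simp only [H.sgl_def, H.B_act hg, H.mem_O.1 hg, Matrix.mulVec_add, Matrix.mulVec_sub,
    Matrix.mulVec_smul]

/-- The Siegel transformation as a linear map. -/
def sglLin (e u : ι → F) : (ι → F) →ₗ[F] (ι → F) where
  toFun v := H.sgl e u v
  map_add' v w := by
    simp only [H.sgl_def, H.B_add']
    ext i
    simp only [Pi.add_apply, Pi.sub_apply, Pi.smul_apply, smul_eq_mul]
    ring
  map_smul' c v := by
    simp only [H.sgl_def, H.B_smul']
    ext i
    simp only [Pi.add_apply, Pi.sub_apply, Pi.smul_apply, smul_eq_mul, RingHom.id_apply]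
    ring

theorem exists_sgl {e u : ι → F} (he : H.Q e = 0) (hu : H.B e u = 0) :
    ∃ g : GL ι F, ∀ v, (g : Matrix ι ι F) *ᵥ v = H.sgl e u v := by
  have hu' : H.B e (-u) = 0 := by rw [H.B_neg', hu, neg_zero]
  have h1 : H.sglLin e u * H.sglLin e (-u) = 1 := by
    apply LinearMap.ext
    intro v
    show H.sgl e u (H.sgl e (-u) v) = v
    rw [H.sgl_add he hu hu', add_neg_cancel, H.sgl_zero]
  have h2 : H.sglLin e (-u) * H.sglLin e u = 1 := by
    apply LinearMap.ext
    intro v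
    show H.sgl e (-u) (H.sgl e u v) = v
    rw [H.sgl_add he hu' hu, neg_add_cancel, H.sgl_zero]
  refine ⟨⟨LinearMap.toMatrix' (H.sglLin e u), LinearMap.toMatrix' (H.sglLin e (-u)), ?_, ?_⟩, ?_⟩
  · rw [← LinearMap.toMatrix'_mul, h1, LinearMap.toMatrix'_one]
  · rw [← LinearMap.toMatrix'_mul, h2, LinearMap.toMatrix'_one]
  · intro v
    exact LinearMap.toMatrix'_mulVec _ _

/-- The Siegel transformation as an element of `GL`. -/
noncomputable def sieg (e u : ι → F) (he : H.Q e = 0) (hu : H.B e u = 0) : GL ι F :=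
  (H.exists_sgl he hu).choose

theorem sieg_act {e u : ι → F} (he : H.Q e = 0) (hu : H.B e u = 0) (v : ι → F) :
    (H.sieg e u he hu : Matrix ι ι F) *ᵥ v = H.sgl e u v :=
  (H.exists_sgl he hu).choose_spec v

theorem sieg_mem_O {e u : ι → F} (he : H.Q e = 0) (hu : H.B e u = 0) : H.sieg e u he hu ∈ H.O := by
  rw [H.mem_O]
  intro v
  rw [H.sieg_act, H.Q_sgl he hu]

theorem sieg_mul {e u w : ι → F} (he : H.Q e = 0) (hu : H.B e u = 0) (hw : H.B e w = 0)
    (huw : H.B e (u + w) = 0) :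
    H.sieg e u he hu * H.sieg e w he hw = H.sieg e (u + w) he huw := by
  apply ext_act
  intro v
  rw [act_mul, H.sieg_act, H.sieg_act, H.sieg_act, H.sgl_add he hu hw]

theorem conj_sieg {g : GL ι F} (hg : g ∈ H.O) {e u : ι → F} (he : H.Q e = 0) (hu : H.B e u = 0)
    (he' : H.Q ((g : Matrix ι ι F) *ᵥ e) = 0)
    (hu' : H.B ((g : Matrix ι ι F) *ᵥ e) ((g : Matrix ι ι F) *ᵥ u) = 0) :
    g * H.sieg e u he hu * g⁻¹ = H.sieg ((g : Matrix ι ι F) *ᵥ e) ((g : Matrix ι ι F) *ᵥ u) he' hu' := by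
  rw [mul_inv_eq_iff_eq_mul]
  apply ext_act
  intro v
  rw [act_mul, act_mul, H.sieg_act, H.sieg_act, H.act_sgl hg]

/-! ### The elementary group -/

/-- Elementary Siegel transformations with both indices outside `S`. -/
def gens (S : Set ι) : Set (GL ι F) :=
  {g | ∃ i ∈ H.P, i ∉ S ∧ ∃ j, j ∉ S ∧ j ≠ i ∧ j ≠ H.bar i ∧
    ∃ t : F, ∀ v, (g : Matrix ι ι F) *ᵥ v = H.sgl (Pi.single i 1) (t • Pi.single j 1) v}

/-- The group generated by the elementary Siegel transformations with both indices outside `S`. -/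
def ES (S : Set ι) : Subgroup (GL ι F) := Subgroup.closure (H.gens S)

/-- The elementary group. -/
def E : Subgroup (GL ι F) := H.ES ∅

theorem ES_mono {S S' : Set ι} (h : S ⊆ S') : H.ES S' ≤ H.ES S := by
  apply Subgroup.closure_mono
  rintro g ⟨i, hi, hiS, j, hjS, hji, hji', t, hg⟩
  exact ⟨i, hi, fun hh => hiS (h hh), j, fun hh => hjS (h hh), hji, hji', t, hg⟩

theorem ES_le_E (S : Set ι) : H.ES S ≤ H.E := H.ES_mono (Set.empty_subset S)

theorem B_single_smul_single {i j : ι} (hi : i ∈ H.P) (hj : j ≠ H.bar i) (t : F) :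
    H.B (Pi.single i 1) (t • Pi.single j 1) = 0 := by
  rw [H.B_single i hi]
  simp [hj.symm]

theorem ES_le_O (S : Set ι) : H.ES S ≤ H.O := by
  rw [ES, Subgroup.closure_le]
  rintro g ⟨i, hi, hiS, j, hjS, hji, hji', t, hg⟩
  rw [SetLike.mem_coe, H.mem_O]
  intro v
  rw [hg, H.Q_sgl (H.Q_single i hi) (H.B_single_smul_single hi hji' t)]

theorem E_le_O : H.E ≤ H.O := H.ES_le_O ∅

/-- `S` is a set of indices of `P` closed under `bar`. -/
def Closed (S : Set ι) : Prop := ∀ s ∈ S, s ∈ H.P ∧ H.bar s ∈ S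

theorem bar_notMem {S : Set ι} (hS : H.Closed S) {i : ι} (hi : i ∈ H.P) (hiS : i ∉ S) : H.bar i ∉ S := by
  intro h
  apply hiS
  have := (hS _ h).2
  rwa [H.bar_bar i hi] at this

theorem ES_fix {S : Set ι} (hS : H.Closed S) {g : GL ι F} (hg : g ∈ H.ES S) {s : ι} (hs : s ∈ S) :
    (g : Matrix ι ι F) *ᵥ Pi.single s 1 = Pi.single s 1 := by
  induction hg using Subgroup.closure_induction with
  | mem g hg =>
    obtain ⟨i, hi, hiS, j, hjS, hji, hji', t, hg⟩ := hg
    have hsP := (hS s hs).1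
    have h1 : H.B (Pi.single i 1) (Pi.single s 1) = 0 := by
      rw [H.B_single i hi, Pi.single_apply, if_neg]
      rintro rfl
      exact H.bar_notMem hS hi hiS hs
    have h2 : H.B (t • Pi.single j 1) (Pi.single s 1) = 0 := by
      rw [H.B_single' hsP]
      have : H.bar s ≠ j := by
        rintro rfl
        exact hjS (hS s hs).2
      simp [this]
    rw [hg, H.sgl_def, h1, h2]
    simp
  | one => exact act_one _
  | mul a b _ _ ha hb => rw [act_mul, hb, ha]
  | inv a _ ha =>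
    rw [← ha, act_inv_act, ha]

theorem sieg_smul_single_mem {S : Set ι} {i : ι} (hi : i ∈ H.P) (hiS : i ∉ S) (j : ι)
    (t : F) (hj : j ∈ S → t = 0) (hj' : j = H.bar i → t = 0)
    (hB : H.B (Pi.single i 1) (t • Pi.single j 1) = 0) :
    H.sieg (Pi.single i 1) (t • Pi.single j 1) (H.Q_single i hi) hB ∈ H.ES S := by
  by_cases ht : t = 0
  · have : H.sieg (Pi.single i 1) (t • Pi.single j 1) (H.Q_single i hi) hB = 1 := by
      apply ext_act
      intro v
      rw [H.sieg_act, ht, zero_smul, H.sgl_zero, act_one]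
    rw [this]
    exact one_mem _
  · by_cases hji : j = i
    · subst hji
      have : H.sieg (Pi.single j 1) (t • Pi.single j 1) (H.Q_single j hi) hB = 1 := by
        apply ext_act
        intro v
        rw [H.sieg_act, ← zero_add (t • (Pi.single j 1 : ι → F)),
          H.sgl_add_smul_self (H.Q_single j hi) (H.B_zero' _), H.sgl_zero, act_one]
      rw [this]
      exact one_mem _
    · apply Subgroup.subset_closure
      exact ⟨i, hi, hiS, j, fun h => ht (hj h), hji, fun h => ht (hj' h), t, fun v => H.sieg_act _ _ v⟩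

theorem sieg_mem_ES {S : Set ι} {i : ι} (hi : i ∈ H.P) (hiS : i ∉ S) (u : ι → F)
    (huS : ∀ s ∈ S, u s = 0) (hu : H.B (Pi.single i 1) u = 0) :
    H.sieg (Pi.single i 1) u (H.Q_single i hi) hu ∈ H.ES S := by
  have hubar : u (H.bar i) = 0 := by rw [← H.B_single i hi u, hu]
  have hB : ∀ j, H.B (Pi.single i 1) (u j • Pi.single j 1) = 0 := by
    intro j
    rw [H.B_single i hi]
    by_cases hj : j = H.bar i
    · subst hj; simp [hubar]
    · simp [Ne.symm hj]
  have key : ∀ s : Finset ι, ∃ h : H.B (Pi.single i 1) (∑ j ∈ s, u j • (Pi.single j 1 : ι → F)) = 0,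
      H.sieg (Pi.single i 1) (∑ j ∈ s, u j • (Pi.single j 1 : ι → F)) (H.Q_single i hi) h ∈ H.ES S := by
    intro s
    induction s using Finset.induction_on with
    | empty =>
      refine ⟨by rw [Finset.sum_empty, H.B_zero'], ?_⟩
      have : H.sieg (Pi.single i 1) (∑ j ∈ (∅ : Finset ι), u j • (Pi.single j 1 : ι → F)) (H.Q_single i hi)
          (by rw [Finset.sum_empty, H.B_zero']) = 1 := by
        apply ext_act
        intro v
        rw [H.sieg_act, Finset.sum_empty, H.sgl_zero, act_one]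
      rw [this]
      exact one_mem _
    | insert a s has ih =>
      obtain ⟨h, ih⟩ := ih
      have h' : H.B (Pi.single i 1) (u a • Pi.single a 1 + ∑ j ∈ s, u j • (Pi.single j 1 : ι → F)) = 0 := by
        rw [H.B_add', hB, h, add_zero]
      have h'' : H.B (Pi.single i 1) (∑ j ∈ insert a s, u j • (Pi.single j 1 : ι → F)) = 0 := by
        rw [Finset.sum_insert has]; exact h'
      refine ⟨h'', ?_⟩
      have e1 : H.sieg (Pi.single i 1) (∑ j ∈ insert a s, u j • (Pi.single j 1 : ι → F)) (H.Q_single i hi) h'' =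
          H.sieg (Pi.single i 1) (u a • Pi.single a 1) (H.Q_single i hi) (hB a) *
          H.sieg (Pi.single i 1) (∑ j ∈ s, u j • (Pi.single j 1 : ι → F)) (H.Q_single i hi) h := by
        rw [H.sieg_mul _ _ _ h']
        apply ext_act
        intro v
        rw [H.sieg_act, H.sieg_act, Finset.sum_insert has]
      rw [e1]
      exact mul_mem (H.sieg_smul_single_mem hi hiS a (u a) (fun h => huS a h)
        (fun h => by rw [h]; exact hubar) (hB a)) ih
  obtain ⟨h, hk⟩ := key Finset.univ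
  have hsum : ∑ j, u j • (Pi.single j 1 : ι → F) = u := by
    ext k
    simp [Finset.sum_apply, Pi.single_apply]
  have e2 : H.sieg (Pi.single i 1) u (H.Q_single i hi) hu =
      H.sieg (Pi.single i 1) (∑ j, u j • (Pi.single j 1 : ι → F)) (H.Q_single i hi) h := by
    apply ext_act
    intro v
    rw [H.sieg_act, H.sieg_act, hsum]
  rw [e2]
  exact hk

/-! ### Transitivity -/

theorem exists_kill {S : Set ι} (hS : H.Closed S) {k : ι} (hk : k ∈ H.P) (hkS : k ∉ S) {v : ι → F}
    (hv : ∀ s ∈ S, v s = 0) (hQ : H.Q v = 0) (hvk : v k = 1) :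
    ∃ g ∈ H.ES S, (g : Matrix ι ι F) *ᵥ v = Pi.single k 1 ∧
      (g : Matrix ι ι F) *ᵥ Pi.single (H.bar k) 1 = Pi.single (H.bar k) 1 := by
  have hkb := H.bar_mem k hk
  have hkbS := H.bar_notMem hS hk hkS
  have hkk : H.bar k ≠ k := H.bar_ne k hk
  set u : ι → F := Pi.single k 1 + v (H.bar k) • Pi.single (H.bar k) 1 - v with hu
  have huk : u k = 0 := by
    simp [hu, hvk, hkk.symm]
  have hB : H.B (Pi.single (H.bar k) 1) u = 0 := by
    rw [H.B_single_bar hk, huk]
  have huS : ∀ s ∈ S, u s = 0 := by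
    intro s hs
    have h1 : s ≠ k := by rintro rfl; exact hkS hs
    have h2 : s ≠ H.bar k := by rintro rfl; exact hkbS hs
    simp [hu, hv s hs, h1, h2]
  refine ⟨H.sieg (Pi.single (H.bar k) 1) u (H.Q_single _ hkb) hB, H.sieg_mem_ES hkb hkbS u huS hB, ?_, ?_⟩
  · have hc : ∃ c : F, H.sgl (Pi.single (H.bar k) 1) u v = Pi.single k 1 + c • Pi.single (H.bar k) 1 := by
      refine ⟨v (H.bar k) - H.B u v - H.Q u, ?_⟩
      rw [H.sgl_def, H.B_single_bar hk, hvk]
      ext i
      simp only [hu, Pi.add_apply, Pi.sub_apply, Pi.smul_apply, smul_eq_mul]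
      ring
    obtain ⟨c, hc⟩ := hc
    rw [H.sieg_act, hc]
    have h1 := H.Q_sgl (H.Q_single _ hkb) hB v
    rw [hc, hQ, H.Q_add, H.Q_smul, H.Q_single k hk, H.Q_single _ hkb, H.B_smul', H.B_single k hk] at h1
    have : c = 0 := by simpa using h1
    rw [this, zero_smul, add_zero]
  · rw [H.sieg_act, H.sgl_def, H.B_single_bar hk, H.B_single' hkb, H.bar_bar k hk, huk]
    simp [hkk.symm]

theorem exists_transitive {S : Set ι} (hS : H.Closed S) {k l : ι} (hk : k ∈ H.P) (hkS : k ∉ S)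
    (hl : l ∈ H.P) (hlS : l ∉ S) (hlk : l ≠ k) (hlk' : l ≠ H.bar k) {v : ι → F}
    (hv : ∀ s ∈ S, v s = 0) (hQ : H.Q v = 0) (hv0 : v ≠ 0) :
    ∃ g ∈ H.ES S, (g : Matrix ι ι F) *ᵥ v = Pi.single k 1 := by
  have hkb := H.bar_mem k hk
  have hkbS := H.bar_notMem hS hk hkS
  have hkk : H.bar k ≠ k := H.bar_ne k hk
  -- case (a)
  have ha : ∀ w : ι → F, (∀ s ∈ S, w s = 0) → H.Q w = 0 → (∃ j ∈ H.P, j ≠ k ∧ j ≠ H.bar k ∧ w j ≠ 0) →
      ∃ g ∈ H.ES S, (g : Matrix ι ι F) *ᵥ w = Pi.single k 1 := by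
    rintro w hw hQw ⟨j, hj, hjk, hjk', hwj⟩
    have hjS : j ∉ S := fun h => hwj (hw j h)
    have hjb := H.bar_mem j hj
    have hjbS := H.bar_notMem hS hj hjS
    have hjbk : H.bar j ≠ k := by
      rintro rfl
      exact hjk' (H.bar_bar j hj).symm
    have hjbk' : H.bar j ≠ H.bar k := by
      intro h
      apply hjk
      rw [← H.bar_bar j hj, h, H.bar_bar k hk]
    set t : F := (w k - 1) / w j with ht
    have hB := H.B_single_smul_single hk hjbk' t
    have hmem : H.sieg (Pi.single k 1) (t • Pi.single (H.bar j) 1) (H.Q_single k hk) hB ∈ H.ES S :=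
      H.sieg_smul_single_mem hk hkS (H.bar j) t (fun h => absurd h hjbS) (fun h => absurd h hjbk') hB
    set w' := H.sgl (Pi.single k 1) (t • Pi.single (H.bar j) 1) w with hw'
    have hw'S : ∀ s ∈ S, w' s = 0 := by
      intro s hs
      have h1 : s ≠ k := by rintro rfl; exact hkS hs
      have h2 : s ≠ H.bar j := by rintro rfl; exact hjbS hs
      simp [hw', H.sgl_def, hw s hs, h1, h2]
    have hw'k : w' k = 1 := by
      rw [hw', H.sgl_def, H.B_smul, H.B_single_bar hj, H.Q_smul, H.Q_single _ hjb, H.B_single k hk]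
      simp only [Pi.add_apply, Pi.sub_apply, Pi.smul_apply, smul_eq_mul, Pi.single_apply, if_neg hjbk.symm,
        if_true]
      rw [ht]
      field_simp
      ring
    have hQw' : H.Q w' = 0 := by rw [hw', H.Q_sgl (H.Q_single k hk) hB, hQw]
    obtain ⟨g, hg, hg1, -⟩ := H.exists_kill hS hk hkS hw'S hQw' hw'k
    refine ⟨g * H.sieg (Pi.single k 1) (t • Pi.single (H.bar j) 1) (H.Q_single k hk) hB,
      mul_mem hg hmem, ?_⟩
    rw [act_mul, H.sieg_act, ← hw', hg1]
  by_cases hcase : ∃ j ∈ H.P, j ≠ k ∧ j ≠ H.bar k ∧ v j ≠ 0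
  · exact ha v hv hQ hcase
  · push Not at hcase
    have hvl : v l = 0 := hcase l hl hlk hlk'
    have hlb : H.bar l ≠ k := by
      rintro rfl
      exact hlk' (H.bar_bar l hl).symm
    by_cases h1 : v (H.bar k) = 0
    · by_cases h2 : v k = 0
      · exfalso
        apply hv0
        apply H.aniso v _ hQ
        intro i hi
        by_cases hik : i = k
        · rw [hik, h2]
        · by_cases hik' : i = H.bar k
          · rw [hik', h1]
          · exact hcase i hi hik hik'
      · -- v k ≠ 0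
        have hB : H.B (Pi.single (H.bar k) 1) ((1 : F) • Pi.single l 1) = 0 :=
          H.B_single_smul_single hkb (by rw [H.bar_bar k hk]; exact hlk) 1
        have hmem : H.sieg (Pi.single (H.bar k) 1) ((1 : F) • Pi.single l 1) (H.Q_single _ hkb) hB ∈ H.ES S :=
          H.sieg_smul_single_mem hkb hkbS l 1 (fun h => absurd h hlS)
            (fun h => absurd h (by rw [H.bar_bar k hk]; exact hlk)) hB
        set w' := H.sgl (Pi.single (H.bar k) 1) ((1 : F) • Pi.single l 1) v with hw'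
        have hw'S : ∀ s ∈ S, w' s = 0 := by
          intro s hs
          have h1 : s ≠ H.bar k := by rintro rfl; exact hkbS hs
          have h2 : s ≠ l := by rintro rfl; exact hlS hs
          simp [hw', H.sgl_def, hv s hs, h1, h2]
        have hw'l : w' l ≠ 0 := by
          rw [hw', H.sgl_def, H.B_single_bar hk]
          simp only [Pi.add_apply, Pi.sub_apply, Pi.smul_apply, smul_eq_mul, Pi.single_apply, if_neg hlk',
            if_true, hvl]
          simpa using h2
        obtain ⟨g, hg, hg1⟩ := ha w' hw'S (by rw [hw', H.Q_sgl (H.Q_single _ hkb) hB, hQ])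
          ⟨l, hl, hlk, hlk', hw'l⟩
        refine ⟨g * H.sieg (Pi.single (H.bar k) 1) ((1 : F) • Pi.single l 1) (H.Q_single _ hkb) hB,
          mul_mem hg hmem, ?_⟩
        rw [act_mul, H.sieg_act, ← hw', hg1]
    · have hB : H.B (Pi.single k 1) ((1 : F) • Pi.single l 1) = 0 :=
        H.B_single_smul_single hk hlk' 1
      have hmem : H.sieg (Pi.single k 1) ((1 : F) • Pi.single l 1) (H.Q_single _ hk) hB ∈ H.ES S :=
        H.sieg_smul_single_mem hk hkS l 1 (fun h => absurd h hlS) (fun h => absurd h hlk') hB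
      set w' := H.sgl (Pi.single k 1) ((1 : F) • Pi.single l 1) v with hw'
      have hw'S : ∀ s ∈ S, w' s = 0 := by
        intro s hs
        have h1 : s ≠ k := by rintro rfl; exact hkS hs
        have h2 : s ≠ l := by rintro rfl; exact hlS hs
        simp [hw', H.sgl_def, hv s hs, h1, h2]
      have hw'l : w' l ≠ 0 := by
        rw [hw', H.sgl_def, H.B_single k hk]
        simp only [Pi.add_apply, Pi.sub_apply, Pi.smul_apply, smul_eq_mul, Pi.single_apply, if_neg hlk,
          if_true, hvl]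
        simpa using h1
      obtain ⟨g, hg, hg1⟩ := ha w' hw'S (by rw [hw', H.Q_sgl (H.Q_single _ hk) hB, hQ])
        ⟨l, hl, hlk, hlk', hw'l⟩
      refine ⟨g * H.sieg (Pi.single k 1) ((1 : F) • Pi.single l 1) (H.Q_single _ hk) hB,
        mul_mem hg hmem, ?_⟩
      rw [act_mul, H.sieg_act, ← hw', hg1]

/-! ### Reduction of isometries -/

theorem exists_reduce {S : Set ι} (hS : H.Closed S) {k l : ι} (hk : k ∈ H.P) (hkS : k ∉ S)
    (hl : l ∈ H.P) (hlS : l ∉ S) (hlk : l ≠ k) (hlk' : l ≠ H.bar k) {g : GL ι F} (hg : g ∈ H.O)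
    (hfix : ∀ s ∈ S, (g : Matrix ι ι F) *ᵥ Pi.single s 1 = Pi.single s 1) :
    ∃ e ∈ H.ES S, (∀ s ∈ S, ((e * g : GL ι F) : Matrix ι ι F) *ᵥ Pi.single s 1 = Pi.single s 1) ∧
      ((e * g : GL ι F) : Matrix ι ι F) *ᵥ Pi.single k 1 = Pi.single k 1 ∧
      ((e * g : GL ι F) : Matrix ι ι F) *ᵥ Pi.single (H.bar k) 1 = Pi.single (H.bar k) 1 := by
  have hkb := H.bar_mem k hk
  have hkbS := H.bar_notMem hS hk hkS
  have hkk : H.bar k ≠ k := H.bar_ne k hk
  -- support of images
  have hsupp : ∀ (h : GL ι F), h ∈ H.O → (∀ s ∈ S, (h : Matrix ι ι F) *ᵥ Pi.single s 1 = Pi.single s 1) →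
      ∀ i, i ∉ S → ∀ s ∈ S, ((h : Matrix ι ι F) *ᵥ Pi.single i 1) s = 0 := by
    intro h hh hf i hi s hs
    obtain ⟨hsP, hsb⟩ := hS s hs
    have h1 := H.B_act hh (Pi.single (H.bar s) 1) (Pi.single i 1)
    rw [hf _ hsb, H.B_single_bar hsP, H.B_single_bar hsP] at h1
    have : s ≠ i := by rintro rfl; exact hi hs
    rw [h1]
    simp [this]
  set v := (g : Matrix ι ι F) *ᵥ Pi.single k 1 with hv
  have hv0 : v ≠ 0 := act_ne_zero g (by
    intro h
    have := congrFun h k
    simp at this)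
  obtain ⟨e1, he1, h1⟩ := H.exists_transitive hS hk hkS hl hlS hlk hlk' (v := v) (hsupp g hg hfix k hkS)
    (by rw [hv, H.mem_O.1 hg, H.Q_single k hk]) hv0
  have hO1 : e1 * g ∈ H.O := mul_mem (H.ES_le_O S he1) hg
  have hfix1 : ∀ s ∈ S, ((e1 * g : GL ι F) : Matrix ι ι F) *ᵥ Pi.single s 1 = Pi.single s 1 := by
    intro s hs
    rw [act_mul, hfix s hs, H.ES_fix hS he1 hs]
  have hk1 : ((e1 * g : GL ι F) : Matrix ι ι F) *ᵥ Pi.single k 1 = Pi.single k 1 := by
    rw [act_mul, ← hv, h1]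
  set w := ((e1 * g : GL ι F) : Matrix ι ι F) *ᵥ Pi.single (H.bar k) 1 with hw
  have hwk : w (H.bar k) = 1 := by
    have h1 := H.B_act hO1 (Pi.single k 1) (Pi.single (H.bar k) 1)
    rw [hk1, ← hw, H.B_single k hk, H.B_single k hk] at h1
    rw [h1]
    simp
  obtain ⟨e2, he2, h2, h3⟩ := H.exists_kill hS hkb hkbS (v := w) (hsupp _ hO1 hfix1 _ hkbS)
    (by rw [hw, H.mem_O.1 hO1, H.Q_single _ hkb]) hwk
  rw [H.bar_bar k hk] at h3
  refine ⟨e2 * e1, mul_mem he2 he1, ?_, ?_, ?_⟩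
  · intro s hs
    rw [mul_assoc, act_mul, hfix1 s hs, H.ES_fix hS he2 hs]
  · rw [mul_assoc, act_mul, hk1, h3]
  · rw [mul_assoc, act_mul, ← hw, h2]

/-- Isometries fixing all coordinate vectors of `P` except possibly those with index `k, bar k`. -/
def Fix (k : ι) : Set (GL ι F) :=
  {g | g ∈ H.O ∧ ∀ s ∈ H.P, s ≠ k → s ≠ H.bar k → (g : Matrix ι ι F) *ᵥ Pi.single s 1 = Pi.single s 1}

theorem exists_mul_mem_Fix {k : ι} (hk : k ∈ H.P) {g : GL ι F} (hg : g ∈ H.O) :
    ∃ e ∈ H.E, e * g ∈ H.Fix k := by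
  classical
  have key : ∀ n : ℕ, ∀ S : Finset ι, H.Closed (S : Set ι) → k ∉ S → (Finset.univ \ S).card = n →
      ∀ g ∈ H.O, (∀ s ∈ S, (g : Matrix ι ι F) *ᵥ Pi.single s 1 = Pi.single s 1) →
      ∃ e ∈ H.E, e * g ∈ H.Fix k := by
    intro n
    induction n using Nat.strong_induction_on with
    | _ n ih =>
      intro S hS hkS hn g hg hfix
      by_cases hex : ∃ m ∈ H.P, m ∉ S ∧ m ≠ k ∧ m ≠ H.bar k
      · obtain ⟨m, hm, hmS, hmk, hmk'⟩ := hex
        have hkm : k ≠ H.bar m := by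
          rintro rfl
          exact hmk' (H.bar_bar m hm).symm
        have hmb : H.bar m ≠ k := hkm.symm
        obtain ⟨e, he, h1, h2, h3⟩ := H.exists_reduce hS hm (by simpa using hmS) hk (by simpa using hkS)
          hmk.symm hkm hg (by simpa using hfix)
        have hS' : H.Closed ((insert m (insert (H.bar m) S) : Finset ι) : Set ι) := by
          intro s hs
          simp only [Finset.coe_insert, Set.mem_insert_iff, Finset.mem_coe] at hs ⊢
          rcases hs with rfl | rfl | hs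
          · exact ⟨hm, Or.inr (Or.inl rfl)⟩
          · exact ⟨H.bar_mem m hm, Or.inl (H.bar_bar m hm)⟩
          · exact ⟨(hS s hs).1, Or.inr (Or.inr (hS s hs).2)⟩
        have hkS' : k ∉ insert m (insert (H.bar m) S) := by
          simp only [Finset.mem_insert, not_or]
          exact ⟨hmk.symm, hkm, hkS⟩
        have hlt : (Finset.univ \ (insert m (insert (H.bar m) S))).card < n := by
          rw [← hn]
          apply Finset.card_lt_card
          rw [Finset.ssubset_iff_of_subset]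
          · exact ⟨m, by simpa using hmS, by simp⟩
          · intro x hx
            simp only [Finset.mem_sdiff, Finset.mem_univ, true_and, Finset.mem_insert, not_or] at hx ⊢
            exact hx.2.2
        obtain ⟨e', he', hF⟩ := ih _ hlt _ hS' hkS' rfl (e * g) (mul_mem (H.ES_le_O _ he) hg) (by
          intro s hs
          simp only [Finset.mem_insert] at hs
          rcases hs with rfl | rfl | hs
          · exact h2
          · exact h3
          · exact h1 s hs)
        exact ⟨e' * e, mul_mem he' (H.ES_le_E _ he), by rwa [mul_assoc]⟩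
      · push Not at hex
        refine ⟨1, one_mem _, ?_⟩
        rw [one_mul]
        refine ⟨hg, fun s hs hsk hsk' => hfix s ?_⟩
        by_contra hsS
        exact hsk' (hex s hs hsS hsk)
  exact key _ ∅ (by intro s hs; simp at hs) (by simp) rfl g hg (by simp)

/-! ### Normality -/

theorem closed_empty : H.Closed (∅ : Set ι) := fun s hs => absurd hs (Set.notMem_empty s)

theorem sieg_mem_E {k l : ι} (hk : k ∈ H.P) (hl : l ∈ H.P) (hlk : l ≠ k) (hlk' : l ≠ H.bar k)
    {e u : ι → F} (he : H.Q e = 0) (hu : H.B e u = 0) : H.sieg e u he hu ∈ H.E := by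
  by_cases he0 : e = 0
  · have : H.sieg e u he hu = 1 := by
      apply ext_act
      intro v
      rw [H.sieg_act, H.sgl_def, he0, act_one, H.B_zero]
      simp
    rw [this]
    exact one_mem _
  · obtain ⟨g, hg, h1⟩ := H.exists_transitive H.closed_empty hk (Set.notMem_empty k) hl
      (Set.notMem_empty l) hlk hlk' (v := e) (fun s hs => absurd hs (Set.notMem_empty s)) he he0
    have hgO : g ∈ H.O := H.ES_le_O _ hg
    have he' : H.Q ((g : Matrix ι ι F) *ᵥ e) = 0 := by rw [H.mem_O.1 hgO, he]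
    have hu' : H.B ((g : Matrix ι ι F) *ᵥ e) ((g : Matrix ι ι F) *ᵥ u) = 0 := by rw [H.B_act hgO, hu]
    have h2 := H.conj_sieg hgO he hu he' hu'
    have hu'' : H.B (Pi.single k 1) ((g : Matrix ι ι F) *ᵥ u) = 0 := by rw [← h1]; exact hu'
    have h3 : H.sieg ((g : Matrix ι ι F) *ᵥ e) ((g : Matrix ι ι F) *ᵥ u) he' hu' =
        H.sieg (Pi.single k 1) ((g : Matrix ι ι F) *ᵥ u) (H.Q_single k hk) hu'' := by
      apply ext_act
      intro v
      rw [H.sieg_act, H.sieg_act, h1]
    have h4 : H.sieg e u he hu = g⁻¹ * H.sieg (Pi.single k 1) ((g : Matrix ι ι F) *ᵥ u)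
        (H.Q_single k hk) hu'' * g := by
      rw [← h3, ← h2]
      group
    rw [h4]
    exact mul_mem (mul_mem (inv_mem hg) (H.sieg_mem_ES hk (Set.notMem_empty k) _
      (fun s hs => absurd hs (Set.notMem_empty s)) hu'')) hg

theorem conj_mem_E {k l : ι} (hk : k ∈ H.P) (hl : l ∈ H.P) (hlk : l ≠ k) (hlk' : l ≠ H.bar k)
    {g : GL ι F} (hg : g ∈ H.O) {e : GL ι F} (he : e ∈ H.E) : g * e * g⁻¹ ∈ H.E := by
  unfold E ES at he
  induction he using Subgroup.closure_induction with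
  | mem x hx =>
    obtain ⟨i, hi, -, j, -, hji, hji', t, hx⟩ := hx
    have hB := H.B_single_smul_single hi hji' t
    have hQ := H.Q_single i hi
    have : x = H.sieg (Pi.single i 1) (t • Pi.single j 1) hQ hB := by
      apply ext_act
      intro v
      rw [hx, H.sieg_act]
    rw [this, H.conj_sieg hg hQ hB (by rw [H.mem_O.1 hg, hQ]) (by rw [H.B_act hg, hB])]
    exact H.sieg_mem_E hk hl hlk hlk' _ _
  | one => simp
  | mul a b _ _ ha hb =>
    have : g * (a * b) * g⁻¹ = (g * a * g⁻¹) * (g * b * g⁻¹) := by group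
    rw [this]
    exact mul_mem ha hb
  | inv a _ ha =>
    have : g * a⁻¹ * g⁻¹ = (g * a * g⁻¹)⁻¹ := by group
    rw [this]
    exact inv_mem ha

/-! ### The commutator subgroup -/

/-- `E` as a subgroup of the isometry group. -/
def EO : Subgroup H.O := H.E.subgroupOf H.O

theorem mem_EO {g : H.O} : g ∈ H.EO ↔ (g : GL ι F) ∈ H.E := Iff.rfl

theorem EO_normal {k l : ι} (hk : k ∈ H.P) (hl : l ∈ H.P) (hlk : l ≠ k) (hlk' : l ≠ H.bar k) :
    H.EO.Normal := by
  constructor
  intro n hn g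
  rw [mem_EO] at hn ⊢
  exact H.conj_mem_E hk hl hlk hlk' g.2 hn

/-- A criterion for `[O, O] ≤ E`. -/
theorem commutator_le {k l : ι} (hk : k ∈ H.P) (hl : l ∈ H.P) (hlk : l ≠ k) (hlk' : l ≠ H.bar k)
    (A B : Set (GL ι F)) (hA : ∀ g ∈ H.O, ∃ e ∈ H.E, e * g ∈ A) (hB : ∀ g ∈ H.O, ∃ e ∈ H.E, e * g ∈ B)
    (hAB : ∀ a ∈ A, ∀ b ∈ B, a * b = b * a) : commutator H.O ≤ H.EO := by
  have hn : H.EO.Normal := H.EO_normal hk hl hlk hlk'
  rw [commutator_def, Subgroup.commutator_le]
  intro a _ b _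
  obtain ⟨e, he, hea⟩ := hA a a.2
  obtain ⟨f, hf, hfb⟩ := hB b b.2
  have hc := hAB _ hea _ hfb
  let e' : H.O := ⟨e, H.E_le_O he⟩
  let f' : H.O := ⟨f, H.E_le_O hf⟩
  have he' : e' ∈ H.EO := he
  have hf' : f' ∈ H.EO := hf
  have hc' : (e' * a) * (f' * b) = (f' * b) * (e' * a) := Subtype.ext hc
  rw [commutatorElement_def, ← QuotientGroup.eq_one_iff]
  have he1 : ((e' : H.O) : H.O ⧸ H.EO) = 1 := (QuotientGroup.eq_one_iff e').2 he'
  have hf1 : ((f' : H.O) : H.O ⧸ H.EO) = 1 := (QuotientGroup.eq_one_iff f').2 hf'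
  have hc2 := congrArg (fun x : H.O => (x : H.O ⧸ H.EO)) hc'
  simp only [QuotientGroup.mk_mul, he1, hf1, one_mul] at hc2
  simp only [QuotientGroup.mk_mul, QuotientGroup.mk_inv]
  rw [hc2]
  group

/-- Isometries in `Fix k` map the plane of `k` to itself if there is no anisotropic part. -/
theorem Fix_act {k : ι} (hk : k ∈ H.P) (hP : ∀ i, i ∈ H.P) {g : GL ι F} (hg : g ∈ H.Fix k) {j : ι}
    (hj : j = k ∨ j = H.bar k) : (g : Matrix ι ι F) *ᵥ Pi.single j 1 =
      ((g : Matrix ι ι F) *ᵥ Pi.single j 1) k • Pi.single k 1 +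
      ((g : Matrix ι ι F) *ᵥ Pi.single j 1) (H.bar k) • Pi.single (H.bar k) 1 := by
  obtain ⟨hgO, hfix⟩ := hg
  have hkk : H.bar k ≠ k := H.bar_ne k hk
  ext s
  by_cases hsk : s = k
  · subst hsk
    simp [hkk.symm]
  · by_cases hsk' : s = H.bar k
    · subst hsk'
      simp [hkk]
    · have hs := hP s
      have hsb := H.bar_mem s hs
      have h1 : H.bar s ≠ k := by
        rintro rfl
        exact hsk' (H.bar_bar s hs).symm
      have h2 : H.bar s ≠ H.bar k := by
        intro h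
        apply hsk
        rw [← H.bar_bar s hs, h, H.bar_bar k hk]
      have h3 := H.B_act hgO (Pi.single (H.bar s) 1) (Pi.single j 1)
      rw [hfix _ hsb h1 h2, H.B_single_bar hs, H.B_single_bar hs] at h3
      have h4 : s ≠ j := by
        rcases hj with rfl | rfl
        · exact hsk
        · exact hsk'
      rw [h3]
      simp [h4, hsk, hsk']

theorem Fix_comm {k l : ι} (hk : k ∈ H.P) (hl : l ∈ H.P) (hlk : l ≠ k) (hlk' : l ≠ H.bar k)
    (hP : ∀ i, i ∈ H.P) {g h : GL ι F} (hg : g ∈ H.Fix k) (hh : h ∈ H.Fix l) : g * h = h * g := by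
  have key : ∀ {k l : ι} (_ : k ∈ H.P) (_ : l ∈ H.P) (_ : l ≠ k) (_ : l ≠ H.bar k)
    {g h : GL ι F} (_ : g ∈ H.Fix k) (_ : h ∈ H.Fix l) (j : ι), (j = k ∨ j = H.bar k) →
    ((g * h : GL ι F) : Matrix ι ι F) *ᵥ Pi.single j 1 = ((h * g : GL ι F) : Matrix ι ι F) *ᵥ Pi.single j 1 := by
    intro k l hk hl hlk hlk' g h hg hh j hj
    have h1 : k ≠ H.bar l := by
      rintro rfl
      exact hlk' (H.bar_bar l hl).symm
    have h2 : H.bar k ≠ H.bar l := by
      intro h
      apply hlk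
      rw [← H.bar_bar k hk, h, H.bar_bar l hl]
    have hk1 : (h : Matrix ι ι F) *ᵥ Pi.single k 1 = Pi.single k 1 := hh.2 k hk hlk.symm h1
    have hk2 : (h : Matrix ι ι F) *ᵥ Pi.single (H.bar k) 1 = Pi.single (H.bar k) 1 :=
      hh.2 _ (H.bar_mem k hk) hlk'.symm h2
    have hj1 : (h : Matrix ι ι F) *ᵥ Pi.single j 1 = Pi.single j 1 := by
      rcases hj with rfl | rfl
      · exact hk1
      · exact hk2
    rw [act_mul, act_mul, hj1, H.Fix_act hk hP hg hj, Matrix.mulVec_add, Matrix.mulVec_smul,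
      Matrix.mulVec_smul, hk1, hk2]
  apply ext_single
  intro j
  by_cases hj : j = k ∨ j = H.bar k
  · exact key hk hl hlk hlk' hg hh j hj
  · have h1 : k ≠ H.bar l := by
      rintro rfl
      exact hlk' (H.bar_bar l hl).symm
    by_cases hj' : j = l ∨ j = H.bar l
    · exact (key hl hk hlk.symm h1 hh hg j hj').symm
    · push Not at hj hj'
      rw [act_mul, act_mul, hh.2 j (hP j) hj'.1 hj'.2, hg.2 j (hP j) hj.1 hj.2, hh.2 j (hP j) hj'.1 hj'.2]

theorem commutator_le_of_univ {k l : ι} (hk : k ∈ H.P) (hl : l ∈ H.P) (hlk : l ≠ k) (hlk' : l ≠ H.bar k)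
    (hP : ∀ i, i ∈ H.P) : commutator H.O ≤ H.EO :=
  H.commutator_le hk hl hlk hlk' (H.Fix k) (H.Fix l) (fun _ hg => H.exists_mul_mem_Fix hk hg)
    (fun _ hg => H.exists_mul_mem_Fix hl hg) fun _ ha _ hb => H.Fix_comm hk hl hlk hlk' hP ha hb

/-- If every elementary Siegel transformation is a commutator of isometries then `E ≤ [O, O]`. -/
theorem EO_le_of_gens (h : ∀ x ∈ H.gens ∅, ∃ y ∈ commutator H.O, (y : GL ι F) = x) :
    H.EO ≤ commutator H.O := by
  have h1 : H.E ≤ (commutator H.O).map H.O.subtype := by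
    unfold E ES
    rw [Subgroup.closure_le]
    intro x hx
    obtain ⟨y, hy, hyx⟩ := h x hx
    exact ⟨y, hy, hyx⟩
  intro y hy
  obtain ⟨z, hz, hzy⟩ := h1 (H.mem_EO.1 hy)
  have : z = y := Subtype.ext hzy
  rwa [← this]

/-! ### One-dimensional anisotropic part -/

/-- Isometries that are diagonal in the coordinate basis. -/
def Diag : Set (GL ι F) := {g | g ∈ H.O ∧ ∀ i, ∃ c : F, (g : Matrix ι ι F) *ᵥ Pi.single i 1 = c • Pi.single i 1}

theorem Diag_comm {g h : GL ι F} (hg : g ∈ H.Diag) (hh : h ∈ H.Diag) : g * h = h * g := by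
  apply ext_single
  intro i
  obtain ⟨c, hc⟩ := hg.2 i
  obtain ⟨d, hd⟩ := hh.2 i
  rw [act_mul, act_mul, hc, hd, Matrix.mulVec_smul, Matrix.mulVec_smul, hc, hd, smul_comm]

/-- Coordinates of the image of a vector orthogonal to the fixed vectors. -/
theorem Fix_coord {k : ι} (hk : k ∈ H.P) {g : GL ι F} (hg : g ∈ H.Fix k) {j : ι}
    (hj : ∀ s ∈ H.P, s ≠ k → s ≠ H.bar k → s ≠ j) {s : ι} (hs : s ∈ H.P) (hsk : s ≠ k) (hsk' : s ≠ H.bar k) :
    ((g : Matrix ι ι F) *ᵥ Pi.single j 1) s = 0 := by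
  obtain ⟨hgO, hfix⟩ := hg
  have hsb := H.bar_mem s hs
  have h1 : H.bar s ≠ k := by
    rintro rfl
    exact hsk' (H.bar_bar s hs).symm
  have h2 : H.bar s ≠ H.bar k := by
    intro h
    apply hsk
    rw [← H.bar_bar s hs, h, H.bar_bar k hk]
  have h3 := H.B_act hgO (Pi.single (H.bar s) 1) (Pi.single j 1)
  rw [hfix _ hsb h1 h2, H.B_single_bar hs, H.B_single_bar hs] at h3
  rw [h3]
  have := hj s hs hsk hsk'
  simp [this]

/-- Killing the `z` coordinate of a singular vector with non-zero `k` coordinate. -/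
theorem exists_kill_z {z k : ι} (hk : k ∈ H.P) (hzP : z ∉ H.P) (hz : ∀ i, i ≠ z → i ∈ H.P) {v : ι → F}
    (hv : ∀ s ∈ H.P, s ≠ k → s ≠ H.bar k → v s = 0) (hQ : H.Q v = 0) (hvk : v k ≠ 0) :
    ∃ e ∈ H.ES {s | s ∈ H.P ∧ s ≠ k ∧ s ≠ H.bar k}, (e : Matrix ι ι F) *ᵥ v = v k • Pi.single k 1 ∧
      (e : Matrix ι ι F) *ᵥ Pi.single (H.bar k) 1 = Pi.single (H.bar k) 1 := by
  have hkb := H.bar_mem k hk
  have hkk : H.bar k ≠ k := H.bar_ne k hk
  have hzk : z ≠ k := by rintro rfl; exact hzP hk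
  have hzk' : z ≠ H.bar k := by rintro rfl; exact hzP hkb
  obtain ⟨t, ht⟩ : ∃ t : F, t = - v z / v k := ⟨_, rfl⟩
  have hB : H.B (Pi.single (H.bar k) 1) (t • Pi.single z 1) = 0 :=
    H.B_single_smul_single hkb (by rw [H.bar_bar k hk]; exact hzk) t
  have hmem : H.sieg (Pi.single (H.bar k) 1) (t • Pi.single z 1) (H.Q_single _ hkb) hB ∈
      H.ES {s | s ∈ H.P ∧ s ≠ k ∧ s ≠ H.bar k} := by
    apply Subgroup.subset_closure
    refine ⟨H.bar k, hkb, fun h => h.2.2 rfl, z, fun h => hzP h.1, hzk', ?_, t, fun v => H.sieg_act _ _ v⟩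
    rw [H.bar_bar k hk]; exact hzk
  refine ⟨_, hmem, ?_, ?_⟩
  · rw [H.sieg_act]
    have h1 : ∃ c : F, H.sgl (Pi.single (H.bar k) 1) (t • Pi.single z 1) v =
        v k • Pi.single k 1 + c • Pi.single (H.bar k) 1 := by
      refine ⟨H.sgl (Pi.single (H.bar k) 1) (t • Pi.single z 1) v (H.bar k), ?_⟩
      ext s
      by_cases hsk : s = k
      · subst hsk
        simp [H.sgl_def, hkk.symm, hzk.symm]
      · by_cases hsk' : s = H.bar k
        · subst hsk'
          simp [hkk]
        · by_cases hsz : s = z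
          · subst hsz
            simp only [H.sgl_def, H.B_single_bar hk, Pi.add_apply, Pi.sub_apply, Pi.smul_apply, smul_eq_mul,
              Pi.single_eq_same, Pi.single_eq_of_ne hsk, Pi.single_eq_of_ne hsk', ht]
            field_simp
            ring
          · have := hv s (hz s hsz) hsk hsk'
            simp [H.sgl_def, hsk, hsk', hsz, this]
    obtain ⟨c, hc⟩ := h1
    have h2 := H.Q_sgl (H.Q_single _ hkb) hB v
    rw [hc, hQ, H.Q_add, H.Q_smul, H.Q_smul, H.Q_single k hk, H.Q_single _ hkb, H.B_smul, H.B_smul',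
      H.B_single k hk] at h2
    have h3 : c = 0 := by
      simp only [mul_zero, Pi.single_eq_same, mul_one, zero_add, mul_eq_zero] at h2
      exact h2.resolve_left hvk
    rw [hc, h3, zero_smul, add_zero]
  · rw [H.sieg_act, H.sgl_def, H.B_single_bar hk, H.B_single' hkb, H.bar_bar k hk]
    simp [hkk.symm, hzk.symm]

theorem exists_mul_mem_Diag {z k : ι} (hk : k ∈ H.P) (hzP : z ∉ H.P) (hz : ∀ i, i ≠ z → i ∈ H.P)
    (hQz : H.Q (Pi.single z 1) ≠ 0) {g : GL ι F} (hg : g ∈ H.O) :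
    ∃ e ∈ H.E, e * g ∈ H.Diag := by
  have hkb := H.bar_mem k hk
  have hkk : H.bar k ≠ k := H.bar_ne k hk
  have hzk : z ≠ k := by rintro rfl; exact hzP hk
  have hzk' : z ≠ H.bar k := by rintro rfl; exact hzP hkb
  have hclosed : H.Closed {s | s ∈ H.P ∧ s ≠ k ∧ s ≠ H.bar k} := by
    rintro s ⟨hs, hsk, hsk'⟩
    refine ⟨hs, H.bar_mem s hs, ?_, ?_⟩
    · rintro rfl
      exact hsk' (H.bar_bar s hs).symm
    · intro h
      apply hsk
      rw [← H.bar_bar s hs, h, H.bar_bar k hk]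
  -- multiplication by the small group preserves `Fix k`
  have hmulFix : ∀ e ∈ H.ES {s | s ∈ H.P ∧ s ≠ k ∧ s ≠ H.bar k}, ∀ g ∈ H.Fix k, e * g ∈ H.Fix k := by
    rintro e he g ⟨hgO, hfix⟩
    refine ⟨mul_mem (H.ES_le_O _ he) hgO, fun s hs hsk hsk' => ?_⟩
    rw [act_mul, hfix s hs hsk hsk', H.ES_fix hclosed he ⟨hs, hsk, hsk'⟩]
  have hjk : ∀ s ∈ H.P, s ≠ k → s ≠ H.bar k → s ≠ k := fun _ _ h _ => h
  have hjk' : ∀ s ∈ H.P, s ≠ k → s ≠ H.bar k → s ≠ H.bar k := fun _ _ _ h => h
  have hjz : ∀ s ∈ H.P, s ≠ k → s ≠ H.bar k → s ≠ z := by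
    rintro s hs _ _ rfl
    exact hzP hs
  -- step 0
  obtain ⟨e0, he0, hF0⟩ := H.exists_mul_mem_Fix hk hg
  -- step 1 : make the `k` coordinate of the image of `x_k` non-zero
  have step1 : ∀ g ∈ H.Fix k, ∃ e ∈ H.ES {s | s ∈ H.P ∧ s ≠ k ∧ s ≠ H.bar k},
      (((e * g : GL ι F) : Matrix ι ι F) *ᵥ Pi.single k 1) k ≠ 0 := by
    intro g hgF
    by_cases h1 : ((g : Matrix ι ι F) *ᵥ Pi.single k 1) k = 0
    · set v := (g : Matrix ι ι F) *ᵥ Pi.single k 1 with hv
      have hvQ : H.Q v = 0 := by rw [hv, H.mem_O.1 hgF.1, H.Q_single k hk]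
      have hvs : ∀ s ∈ H.P, s ≠ k → s ≠ H.bar k → v s = 0 := fun s hs hsk hsk' =>
        H.Fix_coord hk hgF hjk hs hsk hsk'
      have hvdec : v = v z • Pi.single z 1 + v (H.bar k) • Pi.single (H.bar k) 1 := by
        ext s
        by_cases hsk : s = k
        · subst hsk
          simp [h1, hzk.symm, hkk.symm]
        · by_cases hsk' : s = H.bar k
          · subst hsk'
            simp [hzk'.symm]
          · by_cases hsz : s = z
            · subst hsz
              simp [hsk']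
            · simp [hsz, hsk', hvs s (hz s hsz) hsk hsk']
      have hvz : v z = 0 := by
        have h2 := hvQ
        rw [hvdec, H.Q_add, H.Q_smul, H.Q_smul, H.Q_single _ hkb, H.B_smul, H.B_smul',
          H.B_single' hkb, H.bar_bar k hk, Pi.single_eq_of_ne hzk.symm] at h2
        simp only [mul_zero, add_zero, mul_eq_zero, ne_eq, OfNat.ofNat_ne_zero, not_false_eq_true,
          pow_eq_zero_iff, hQz, or_false] at h2
        exact h2
      rw [hvz, zero_smul, zero_add] at hvdec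
      have hvkb : v (H.bar k) ≠ 0 := by
        intro h2
        rw [h2, zero_smul] at hvdec
        refine act_ne_zero g (v := Pi.single k 1) ?_ (by rw [← hv]; exact hvdec)
        intro h
        have := congrFun h k
        simp at this
      have hB : H.B (Pi.single k 1) ((1 : F) • Pi.single z 1) = 0 :=
        H.B_single_smul_single hk hzk' 1
      refine ⟨H.sieg (Pi.single k 1) ((1 : F) • Pi.single z 1) (H.Q_single _ hk) hB, ?_, ?_⟩
      · apply Subgroup.subset_closure
        exact ⟨k, hk, fun h => h.2.1 rfl, z, fun h => hzP h.1, hzk, hzk', 1, fun v => H.sieg_act _ _ v⟩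
      · rw [act_mul, ← hv, H.sieg_act, H.sgl_def, H.B_single k hk, hvdec, one_smul, H.B_smul', H.B_single' hkb,
          H.bar_bar k hk]
        simp only [Pi.add_apply, Pi.sub_apply, Pi.smul_apply, smul_eq_mul, Pi.single_eq_same,
          Pi.single_eq_of_ne hkk.symm, Pi.single_eq_of_ne hzk.symm, mul_zero, mul_one, zero_add, sub_zero,
          zero_sub, neg_ne_zero]
        exact mul_ne_zero hQz hvkb
    · exact ⟨1, one_mem _, by rw [one_mul]; exact h1⟩
  obtain ⟨e1, he1, h1⟩ := step1 _ hF0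
  have hF1 := hmulFix e1 he1 _ hF0
  -- step 2 : `x_k ↦ a x_k`
  obtain ⟨e2, he2, h2, -⟩ := H.exists_kill_z hk hzP hz
    (fun s hs hsk hsk' => H.Fix_coord hk hF1 hjk hs hsk hsk')
    (by rw [H.mem_O.1 hF1.1, H.Q_single k hk]) h1
  rw [← act_mul] at h2
  have hF2 := hmulFix e2 he2 _ hF1
  set a := (((e1 * (e0 * g) : GL ι F) : Matrix ι ι F) *ᵥ Pi.single k 1) k with ha
  -- step 3 : `x_{bar k} ↦ a⁻¹ x_{bar k}`
  have h3 : a * (((e2 * (e1 * (e0 * g)) : GL ι F) : Matrix ι ι F) *ᵥ Pi.single (H.bar k) 1) (H.bar k) = 1 := by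
    have h := H.B_act hF2.1 (Pi.single k 1) (Pi.single (H.bar k) 1)
    rw [h2, H.B_smul, H.B_single k hk, H.B_single k hk, Pi.single_eq_same] at h
    exact h
  have hne : (((e2 * (e1 * (e0 * g)) : GL ι F) : Matrix ι ι F) *ᵥ Pi.single (H.bar k) 1) (H.bar k) ≠ 0 := by
    intro h
    rw [h, mul_zero] at h3
    exact zero_ne_one h3
  obtain ⟨e3, he3, h4, h5⟩ := H.exists_kill_z hkb hzP hz
    (fun s hs hsk hsk' => H.Fix_coord hk hF2 hjk' hs (by rw [H.bar_bar k hk] at hsk'; exact hsk') hsk)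
    (by rw [H.mem_O.1 hF2.1, H.Q_single _ hkb]) hne
  rw [← act_mul] at h4
  rw [H.bar_bar k hk] at h5
  have hset : {s | s ∈ H.P ∧ s ≠ H.bar k ∧ s ≠ H.bar (H.bar k)} = {s | s ∈ H.P ∧ s ≠ k ∧ s ≠ H.bar k} := by
    ext s
    rw [H.bar_bar k hk]
    simp only [Set.mem_ofPred_eq]
    tauto
  rw [hset] at he3
  have hF3 := hmulFix e3 he3 _ hF2
  refine ⟨e3 * e2 * e1 * e0, mul_mem (mul_mem (mul_mem (H.ES_le_E _ he3) (H.ES_le_E _ he2))
    (H.ES_le_E _ he1)) he0, ?_⟩
  have hassoc : e3 * e2 * e1 * e0 * g = e3 * (e2 * (e1 * (e0 * g))) := by group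
  rw [hassoc]
  have h6 : ((e3 * (e2 * (e1 * (e0 * g))) : GL ι F) : Matrix ι ι F) *ᵥ Pi.single k 1 = a • Pi.single k 1 := by
    rw [act_mul, h2, Matrix.mulVec_smul, h5]
  refine ⟨hF3.1, fun i => ?_⟩
  by_cases hik : i = k
  · subst hik
    exact ⟨_, h6⟩
  · by_cases hik' : i = H.bar k
    · subst hik'
      exact ⟨_, h4⟩
    · by_cases hiz : i = z
      · subst hiz
        refine ⟨(((e3 * (e2 * (e1 * (e0 * g))) : GL ι F) : Matrix ι ι F) *ᵥ Pi.single i 1) i, ?_⟩
        ext s
        by_cases hsi : s = i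
        · subst hsi; simp
        · have hsP := hz s hsi
          simp only [Pi.smul_apply, smul_eq_mul, Pi.single_eq_of_ne hsi, mul_zero]
          by_cases hsk : s = k
          · subst hsk
            have h := H.B_act hF3.1 (Pi.single (H.bar s) 1) (Pi.single i 1)
            rw [h4, H.B_smul, H.B_single_bar hk, H.B_single_bar hk, Pi.single_eq_of_ne hsi] at h
            exact (mul_eq_zero.1 h).resolve_left hne
          · by_cases hsk' : s = H.bar k
            · subst hsk'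
              have h := H.B_act hF3.1 (Pi.single k 1) (Pi.single i 1)
              rw [h6, H.B_smul, H.B_single k hk, H.B_single k hk, Pi.single_eq_of_ne hsi] at h
              exact (mul_eq_zero.1 h).resolve_left h1
            · exact H.Fix_coord hk hF3 hjz hsP hsk hsk'
      · exact ⟨1, by rw [one_smul]; exact hF3.2 i (hz i hiz) hik hik'⟩

theorem commutator_le_of_one {z k l : ι} (hk : k ∈ H.P) (hl : l ∈ H.P) (hlk : l ≠ k) (hlk' : l ≠ H.bar k)
    (hzP : z ∉ H.P) (hz : ∀ i, i ≠ z → i ∈ H.P) (hQz : H.Q (Pi.single z 1) ≠ 0) :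
    commutator H.O ≤ H.EO :=
  H.commutator_le hk hl hlk hlk' H.Diag H.Diag (fun _ hg => H.exists_mul_mem_Diag hk hzP hz hQz hg)
    (fun _ hg => H.exists_mul_mem_Diag hk hzP hz hQz hg) fun _ ha _ hb => H.Diag_comm ha hb

/-- `E ≤ [O, O]` if there are three hyperbolic pairs (in the sense that any two indices leave a third). -/
theorem le_commutator_of_three (hP : ∀ i, i ∈ H.P)
    (h3 : ∀ i j, ∃ k, k ≠ i ∧ k ≠ H.bar i ∧ k ≠ j ∧ k ≠ H.bar j) :
    H.EO ≤ commutator H.O := by
  apply H.EO_le_of_gens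
  rintro x ⟨i, hi, -, j, -, hji, hji', t, hx⟩
  obtain ⟨k, hki, hki', hkj, hkj'⟩ := h3 i j
  have hk := hP k
  have hj := hP j
  have hkb := H.bar_mem k hk
  have hkib : H.bar k ≠ i := by
    rintro rfl
    exact hki' (H.bar_bar k hk).symm
  have hkib' : H.bar k ≠ H.bar i := by
    intro h
    apply hki
    rw [← H.bar_bar k hk, h, H.bar_bar i hi]
  have hB1 : H.B (Pi.single i 1) (t • Pi.single k 1) = 0 := H.B_single_smul_single hi hki' t
  have hB2 : H.B (Pi.single i 1) (t • Pi.single j 1) = 0 := H.B_single_smul_single hi hji' t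
  have hB3 : H.B (Pi.single (H.bar k) 1) ((1 : F) • Pi.single j 1) = 0 :=
    H.B_single_smul_single hkb (by rw [H.bar_bar k hk]; exact hkj.symm) 1
  obtain ⟨a', ha'⟩ : ∃ a', a' = H.sieg (Pi.single i 1) (t • Pi.single k 1) (H.Q_single i hi) hB1 := ⟨_, rfl⟩
  obtain ⟨b', hb'⟩ : ∃ b', b' = H.sieg (Pi.single (H.bar k) 1) ((1 : F) • Pi.single j 1)
    (H.Q_single _ hkb) hB3 := ⟨_, rfl⟩
  have haO : a' ∈ H.O := by rw [ha']; exact H.sieg_mem_O _ _
  have hbO : b' ∈ H.O := by rw [hb']; exact H.sieg_mem_O _ _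
  let a : H.O := ⟨a', haO⟩
  let b : H.O := ⟨b', hbO⟩
  refine ⟨a⁻¹ * b * a * b⁻¹, ?_, ?_⟩
  · have : a⁻¹ * b * a * b⁻¹ = ⁅a⁻¹, b⁆ := by rw [commutatorElement_def, inv_inv]
    rw [this]
    exact Subgroup.commutator_mem_commutator (Subgroup.mem_top _) (Subgroup.mem_top _)
  · -- b a b⁻¹ = sieg i (t (x_k + x_j))
    have hbi : b'.1 *ᵥ Pi.single i 1 = Pi.single i 1 := by
      rw [hb', H.sieg_act, H.sgl_def, H.B_single_bar hk, H.B_single' hi]
      simp [hki, hji'.symm]
    have hbk : b'.1 *ᵥ Pi.single k 1 = Pi.single k 1 + Pi.single j 1 := by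
      rw [hb', H.sieg_act, H.sgl_def, H.B_single_bar hk, one_smul, H.Q_single j hj, H.B_single j hj]
      simp [hkj'.symm]
    have hB4 : H.B (Pi.single i 1) (t • Pi.single k 1 + t • Pi.single j 1) = 0 := by
      rw [H.B_add', hB1, hB2, add_zero]
    have h1 : b' * a' * b'⁻¹ = a' * H.sieg (Pi.single i 1) (t • Pi.single j 1) (H.Q_single i hi) hB2 := by
      rw [ha', H.conj_sieg hbO _ _ (by rw [hbi]; exact H.Q_single i hi) (by rw [H.B_act hbO, hB1]),
        H.sieg_mul _ _ _ hB4]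
      apply ext_act
      intro v
      rw [H.sieg_act, H.sieg_act, hbi, Matrix.mulVec_smul, hbk, smul_add]
    have h2 : x = H.sieg (Pi.single i 1) (t • Pi.single j 1) (H.Q_single i hi) hB2 := by
      apply ext_act
      intro v
      rw [hx, H.sieg_act]
    show a'⁻¹ * b' * a' * b'⁻¹ = x
    rw [h2, mul_assoc, mul_assoc, ← mul_assoc b', h1, inv_mul_cancel_left]

/-- The torus element `x_i ↦ a x_i`, `x_{bar i} ↦ a⁻¹ x_{bar i}` as a function. -/
def tor (i : ι) (a : F) (v : ι → F) : ι → F :=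
  v + ((a - 1) * v i) • Pi.single i 1 + ((a⁻¹ - 1) * v (H.bar i)) • Pi.single (H.bar i) 1

theorem tor_def (i : ι) (a : F) (v : ι → F) : H.tor i a v =
  v + ((a - 1) * v i) • Pi.single i 1 + ((a⁻¹ - 1) * v (H.bar i)) • Pi.single (H.bar i) 1 := rfl

theorem tor_apply_self {i : ι} (hi : i ∈ H.P) (a : F) (v : ι → F) : H.tor i a v i = a * v i := by
  have : H.bar i ≠ i := H.bar_ne i hi
  simp [H.tor_def, this.symm]
  ring

theorem tor_apply_bar {i : ι} (hi : i ∈ H.P) (a : F) (v : ι → F) :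
    H.tor i a v (H.bar i) = a⁻¹ * v (H.bar i) := by
  have : H.bar i ≠ i := H.bar_ne i hi
  simp [H.tor_def, this]
  ring

theorem tor_apply_of_ne {i : ι} (a : F) (v : ι → F) {j : ι} (hj : j ≠ i) (hj' : j ≠ H.bar i) :
    H.tor i a v j = v j := by
  simp [H.tor_def, hj, hj']

theorem tor_tor {i : ι} (hi : i ∈ H.P) {a : F} (ha : a ≠ 0) (v : ι → F) :
    H.tor i a (H.tor i a⁻¹ v) = v := by
  ext j
  by_cases hj : j = i
  · subst hj
    rw [H.tor_apply_self hi, H.tor_apply_self hi, mul_inv_cancel_left₀ ha]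
  · by_cases hj' : j = H.bar i
    · subst hj'
      rw [H.tor_apply_bar hi, H.tor_apply_bar hi, inv_inv, inv_mul_cancel_left₀ ha]
    · rw [H.tor_apply_of_ne _ _ hj hj', H.tor_apply_of_ne _ _ hj hj']

theorem Q_tor {i : ι} (hi : i ∈ H.P) {a : F} (ha : a ≠ 0) (v : ι → F) : H.Q (H.tor i a v) = H.Q v := by
  have hib := H.bar_mem i hi
  rw [H.tor_def]
  simp only [H.Q_add, H.Q_smul, H.B_add, H.B_smul, H.B_smul', H.Q_single i hi, H.Q_single _ hib,
    H.B_single' hi, H.B_single' hib, H.bar_bar i hi, Pi.single_eq_same]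
  field_simp
  ring

/-- The torus element as a linear map. -/
def torLin (i : ι) (a : F) : (ι → F) →ₗ[F] (ι → F) where
  toFun v := H.tor i a v
  map_add' v w := by
    simp only [H.tor_def]
    ext j
    simp only [Pi.add_apply, Pi.smul_apply, smul_eq_mul]
    ring
  map_smul' c v := by
    simp only [H.tor_def]
    ext j
    simp only [Pi.add_apply, Pi.smul_apply, smul_eq_mul, RingHom.id_apply]
    ring

theorem exists_tor {i : ι} (hi : i ∈ H.P) {a : F} (ha : a ≠ 0) :
    ∃ g ∈ H.O, ∀ v, (g : Matrix ι ι F) *ᵥ v = H.tor i a v := by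
  have h1 : H.torLin i a * H.torLin i a⁻¹ = 1 := by
    apply LinearMap.ext
    intro v
    exact H.tor_tor hi ha v
  have h2 : H.torLin i a⁻¹ * H.torLin i a = 1 := by
    apply LinearMap.ext
    intro v
    have := H.tor_tor hi (inv_ne_zero ha) v
    rw [inv_inv] at this
    exact this
  let g : GL ι F := ⟨LinearMap.toMatrix' (H.torLin i a), LinearMap.toMatrix' (H.torLin i a⁻¹),
    by rw [← LinearMap.toMatrix'_mul, h1, LinearMap.toMatrix'_one],
    by rw [← LinearMap.toMatrix'_mul, h2, LinearMap.toMatrix'_one]⟩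
  have hg : ∀ v, (g : Matrix ι ι F) *ᵥ v = H.tor i a v := fun v => LinearMap.toMatrix'_mulVec _ _
  exact ⟨g, H.mem_O.2 fun v => by rw [hg, H.Q_tor hi ha], hg⟩

/-- `E ≤ [O, O]` if the field has more than two elements. -/
theorem le_commutator_of_field (hF : ∃ a : F, a ≠ 0 ∧ a ≠ 1) : H.EO ≤ commutator H.O := by
  obtain ⟨a, ha0, ha1⟩ := hF
  have ha1' : a - 1 ≠ 0 := sub_ne_zero.2 ha1
  apply H.EO_le_of_gens
  rintro x ⟨i, hi, -, j, -, hji, hji', t, hx⟩
  obtain ⟨d', hdO, hd⟩ := H.exists_tor hi ha0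
  have hB1 : H.B (Pi.single i 1) ((t / (a - 1)) • Pi.single j 1) = 0 := H.B_single_smul_single hi hji' _
  have hB2 : H.B (Pi.single i 1) (t • Pi.single j 1) = 0 := H.B_single_smul_single hi hji' t
  obtain ⟨b', hb'⟩ : ∃ b', b' = H.sieg (Pi.single i 1) ((t / (a - 1)) • Pi.single j 1)
    (H.Q_single i hi) hB1 := ⟨_, rfl⟩
  have hbO : b' ∈ H.O := by rw [hb']; exact H.sieg_mem_O _ _
  let d : H.O := ⟨d', hdO⟩
  let b : H.O := ⟨b', hbO⟩
  refine ⟨d * b * d⁻¹ * b⁻¹, ?_, ?_⟩
  · have : d * b * d⁻¹ * b⁻¹ = ⁅d, b⁆ := by rw [commutatorElement_def]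
    rw [this]
    exact Subgroup.commutator_mem_commutator (Subgroup.mem_top _) (Subgroup.mem_top _)
  · have hdi : d'.1 *ᵥ Pi.single i 1 = a • Pi.single i 1 := by
      rw [hd, H.tor_def]
      ext s
      have : H.bar i ≠ i := H.bar_ne i hi
      simp [this]
      ring
    have hdj : d'.1 *ᵥ Pi.single j 1 = Pi.single j 1 := by
      rw [hd, H.tor_def]
      simp [hji.symm, hji'.symm]
    have h1 : d' * b' * d'⁻¹ = H.sieg (Pi.single i 1) (t • Pi.single j 1) (H.Q_single i hi) hB2 * b' := by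
      have hB4 : H.B (Pi.single i 1) (t • Pi.single j 1 + (t / (a - 1)) • Pi.single j 1) = 0 := by
        rw [H.B_add', hB1, hB2, add_zero]
      rw [hb', H.conj_sieg hdO _ _ (by rw [H.mem_O.1 hdO]; exact H.Q_single i hi) (by rw [H.B_act hdO, hB1]),
        H.sieg_mul _ _ _ hB4]
      apply ext_act
      intro v
      rw [H.sieg_act, H.sieg_act, hdi, H.sgl_smul, Matrix.mulVec_smul, hdj, smul_smul, ← add_smul]
      congr 2
      field_simp
      ring
    have h2 : x = H.sieg (Pi.single i 1) (t • Pi.single j 1) (H.Q_single i hi) hB2 := by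
      apply ext_act
      intro v
      rw [hx, H.sieg_act]
    show d' * b' * d'⁻¹ * b'⁻¹ = x
    rw [h2, h1, mul_inv_cancel_right]

/-! ### The centralizer of `E` -/

theorem scalar_of_commute {k l : ι} (hk : k ∈ H.P) (hl : l ∈ H.P) (hlk : l ≠ k) (hlk' : l ≠ H.bar k)
    {g : GL ι F} (hg : g ∈ H.O) (hc : ∀ e ∈ H.gens ∅, g * e = e * g) :
    ∃ c : F, c ^ 2 = 1 ∧ ∀ v, (g : Matrix ι ι F) *ᵥ v = c • v := by
  -- `g x_j = (g x_ī)_ī x_j - (g x_ī)_j̄ x_i`
  have h1 : ∀ i ∈ H.P, ∀ j, j ≠ i → j ≠ H.bar i → ∀ v, (g : Matrix ι ι F) *ᵥ (H.sgl (Pi.single i 1) ((1 : F) • Pi.single j 1) v) =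
      H.sgl (Pi.single i 1) ((1 : F) • Pi.single j 1) ((g : Matrix ι ι F) *ᵥ v) := by
    intro i hi j hji hji' v
    have hB2 : H.B (Pi.single i 1) ((1 : F) • Pi.single j 1) = 0 := H.B_single_smul_single hi hji' 1
    have h2 := hc (H.sieg (Pi.single i 1) ((1 : F) • Pi.single j 1) (H.Q_single i hi) hB2)
      ⟨i, hi, Set.notMem_empty i, j, Set.notMem_empty j, hji, hji', 1, fun v => H.sieg_act _ _ v⟩
    rw [← H.sieg_act (H.Q_single i hi) hB2, ← H.sieg_act (H.Q_single i hi) hB2, ← act_mul, ← act_mul, h2]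
  have h2 : ∀ i ∈ H.P, ∀ j ∈ H.P, j ≠ i → j ≠ H.bar i → (g : Matrix ι ι F) *ᵥ Pi.single j 1 =
      ((g : Matrix ι ι F) *ᵥ Pi.single (H.bar i) 1) (H.bar i) • Pi.single j 1 -
      ((g : Matrix ι ι F) *ᵥ Pi.single (H.bar i) 1) (H.bar j) • Pi.single i 1 := by
    intro i hi j hj hji hji'
    have h3 := h1 i hi j hji hji' (Pi.single (H.bar i) 1)
    have hjb : H.bar j ≠ H.bar i := by
      intro h
      apply hji
      rw [← H.bar_bar j hj, h, H.bar_bar i hi]
    rw [H.sgl_def, H.sgl_def, H.B_single i hi, H.B_single i hi, one_smul, H.B_single j hj, H.B_single j hj,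
      H.Q_single j hj, Matrix.mulVec_sub, Matrix.mulVec_sub, Matrix.mulVec_add] at h3
    simp only [Pi.single_eq_same, Pi.single_eq_of_ne hjb, zero_mul, zero_smul, one_smul, Matrix.mulVec_zero, sub_zero] at h3
    have h4 := congrArg (fun w => w - (g : Matrix ι ι F) *ᵥ Pi.single (H.bar i) 1) h3
    simp only [add_sub_cancel_left] at h4
    rw [h4]
    abel
  have h3 : ∀ i ∈ H.P, ∀ j ∈ H.P, j ≠ i → j ≠ H.bar i → (g : Matrix ι ι F) *ᵥ Pi.single j 1 =
      ((g : Matrix ι ι F) *ᵥ Pi.single (H.bar i) 1) (H.bar i) • Pi.single j 1 := by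
    intro i hi j hj hji hji'
    have e1 := h2 i hi j hj hji hji'
    have e2 := h2 (H.bar i) (H.bar_mem i hi) j hj hji' (by rw [H.bar_bar i hi]; exact hji)
    have hii : H.bar i ≠ i := H.bar_ne i hi
    have e3 := congrFun e1 i
    rw [e2] at e3
    simp only [Pi.sub_apply, Pi.smul_apply, smul_eq_mul, Pi.single_eq_same, Pi.single_eq_of_ne hii.symm,
      Pi.single_eq_of_ne hji.symm, mul_zero, sub_zero, zero_sub, mul_one] at e3
    have e4 : ((g : Matrix ι ι F) *ᵥ Pi.single (H.bar i) 1) (H.bar j) = 0 := by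
      linear_combination e3
    rw [e1, e4, zero_smul, sub_zero]
  -- all eigenvalues on `P` are equal
  set c := ((g : Matrix ι ι F) *ᵥ Pi.single k 1) k with hcdef
  have hkb := H.bar_mem k hk
  have hkk : H.bar k ≠ k := H.bar_ne k hk
  have h4 : ∀ i ∈ H.P, ∀ j ∈ H.P, j ≠ i → j ≠ H.bar i → ((g : Matrix ι ι F) *ᵥ Pi.single j 1) j =
      ((g : Matrix ι ι F) *ᵥ Pi.single i 1) i := by
    intro i hi j hj hji hji'
    have := congrFun (h3 (H.bar i) (H.bar_mem i hi) j hj hji' (by rw [H.bar_bar i hi]; exact hji)) j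
    rw [H.bar_bar i hi] at this
    simpa using this
  have hl1 : k ≠ H.bar l := by
    rintro rfl
    exact hlk' (H.bar_bar l hl).symm
  have hl2 : H.bar k ≠ H.bar l := by
    intro h
    apply hlk
    rw [← H.bar_bar k hk, h, H.bar_bar l hl]
  have hcl : ((g : Matrix ι ι F) *ᵥ Pi.single l 1) l = c := h4 k hk l hl hlk hlk'
  have hckb : ((g : Matrix ι ι F) *ᵥ Pi.single (H.bar k) 1) (H.bar k) = c := by
    rw [h4 l hl (H.bar k) hkb hlk'.symm hl2, hcl]
  have h5 : ∀ j ∈ H.P, (g : Matrix ι ι F) *ᵥ Pi.single j 1 = c • Pi.single j 1 := by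
    intro j hj
    by_cases hjk : j = k
    · rw [hjk, h3 (H.bar l) (H.bar_mem l hl) k hk hl1 (by rw [H.bar_bar l hl]; exact hlk.symm), H.bar_bar l hl, hcl]
    · by_cases hjk' : j = H.bar k
      · rw [hjk', h3 (H.bar l) (H.bar_mem l hl) _ hkb hl2 (by rw [H.bar_bar l hl]; exact hlk'.symm),
          H.bar_bar l hl, hcl]
      · rw [h3 k hk j hj hjk hjk', hckb]
  have h6 : ∀ j, (g : Matrix ι ι F) *ᵥ Pi.single j 1 = c • Pi.single j 1 := by
    intro j
    by_cases hj : j ∈ H.P
    · exact h5 j hj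
    · have hjk : j ≠ k := by rintro rfl; exact hj hk
      have hjk' : j ≠ H.bar k := by rintro rfl; exact hj hkb
      have e1 := h1 k hk j hjk hjk' (Pi.single (H.bar k) 1)
      rw [h5 _ hkb, H.sgl_def, H.sgl_def] at e1
      simp only [H.B_smul', Matrix.mulVec_sub, Matrix.mulVec_add, Matrix.mulVec_smul, h5 k hk, h5 _ hkb,
        H.B_single k hk, Pi.single_eq_same, one_smul] at e1
      ext s
      have e2 := congrFun e1 s
      simp only [Pi.sub_apply, Pi.add_apply, Pi.smul_apply, smul_eq_mul] at e2 ⊢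
      linear_combination e2
  have h7 : ∀ v, (g : Matrix ι ι F) *ᵥ v = c • v := by
    have : (g : Matrix ι ι F) = c • (1 : Matrix ι ι F) := by
      apply Matrix.ext_of_mulVec_single
      intro i
      rw [h6, Matrix.smul_mulVec, Matrix.one_mulVec]
    intro v
    rw [this, Matrix.smul_mulVec, Matrix.one_mulVec]
  refine ⟨c, ?_, h7⟩
  have hQ : H.Q (Pi.single k 1 + Pi.single (H.bar k) 1) = 1 := by
    rw [H.Q_add, H.Q_single k hk, H.Q_single _ hkb, H.B_single k hk]
    simp
  have h8 := H.mem_O.1 hg (Pi.single k 1 + Pi.single (H.bar k) 1)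
  rw [h7, H.Q_smul, hQ, mul_one] at h8
  exact h8

end HypForm

/-! ### The two standard forms -/

/-- `quadFormPlus n F` as a `HypForm`. -/
def plusForm (n : ℕ) (F : Type*) [Field F] : HypForm (Fin n ⊕ Fin n) F where
  Q := Cfsg.quadFormPlus n F
  B u v := ∑ i : Fin n, (u (.inl i) * v (.inr i) + u (.inr i) * v (.inl i))
  P := Set.univ
  bar := Sum.elim Sum.inr Sum.inl
  Q_add u v := by
    simp only [Cfsg.quadFormPlus, Pi.add_apply, ← Finset.sum_add_distrib]
    exact Finset.sum_congr rfl fun i _ => by ring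
  Q_smul c v := by
    simp only [Cfsg.quadFormPlus, Pi.smul_apply, smul_eq_mul, Finset.mul_sum]
    exact Finset.sum_congr rfl fun i _ => by ring
  B_add u v w := by
    simp only [Pi.add_apply, ← Finset.sum_add_distrib]
    exact Finset.sum_congr rfl fun i _ => by ring
  B_smul c u v := by
    simp only [Pi.smul_apply, smul_eq_mul, Finset.mul_sum]
    exact Finset.sum_congr rfl fun i _ => by ring
  B_comm u v := Finset.sum_congr rfl fun i _ => by ring
  bar_mem _ _ := Set.mem_univ _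
  bar_bar i _ := by rcases i with i | i <;> rfl
  bar_ne i _ := by rcases i with i | i <;> simp
  Q_single i _ := by rcases i with i | i <;> simp [Cfsg.quadFormPlus, Pi.single_apply]
  B_single i _ v := by rcases i with i | i <;> simp [Pi.single_apply]
  aniso v hv _ := funext fun i => hv i (Set.mem_univ i)

theorem plusForm_Q (n : ℕ) (F : Type*) [Field F] : (plusForm n F).Q = Cfsg.quadFormPlus n F := rfl

/-- `quadFormOdd n F` as a `HypForm`. -/
def oddForm (n : ℕ) (F : Type*) [Field F] : HypForm (Unit ⊕ (Fin n ⊕ Fin n)) F where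
  Q := Cfsg.quadFormOdd n F
  B u v := 2 * (u (.inl ()) * v (.inl ())) +
    ∑ i : Fin n, (u (.inr (.inl i)) * v (.inr (.inr i)) + u (.inr (.inr i)) * v (.inr (.inl i)))
  P := {i | i ≠ .inl ()}
  bar := Sum.elim Sum.inl (fun i => Sum.inr (Sum.elim Sum.inr Sum.inl i))
  Q_add u v := by
    simp only [Cfsg.quadFormOdd, Pi.add_apply]
    have : ∑ i : Fin n, (u (.inr (.inl i)) + v (.inr (.inl i))) * (u (.inr (.inr i)) + v (.inr (.inr i))) =
        ∑ i : Fin n, u (.inr (.inl i)) * u (.inr (.inr i)) + ∑ i : Fin n, v (.inr (.inl i)) * v (.inr (.inr i)) +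
        ∑ i : Fin n, (u (.inr (.inl i)) * v (.inr (.inr i)) + u (.inr (.inr i)) * v (.inr (.inl i))) := by
      simp only [← Finset.sum_add_distrib]
      exact Finset.sum_congr rfl fun i _ => by ring
    rw [this]
    ring
  Q_smul c v := by
    simp only [Cfsg.quadFormOdd, Pi.smul_apply, smul_eq_mul, mul_add, Finset.mul_sum]
    congr 1
    · ring
    · exact Finset.sum_congr rfl fun i _ => by ring
  B_add u v w := by
    simp only [Pi.add_apply]
    have : ∑ i : Fin n, ((u (.inr (.inl i)) + v (.inr (.inl i))) * w (.inr (.inr i)) +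
        (u (.inr (.inr i)) + v (.inr (.inr i))) * w (.inr (.inl i))) =
        ∑ i : Fin n, (u (.inr (.inl i)) * w (.inr (.inr i)) + u (.inr (.inr i)) * w (.inr (.inl i))) +
        ∑ i : Fin n, (v (.inr (.inl i)) * w (.inr (.inr i)) + v (.inr (.inr i)) * w (.inr (.inl i))) := by
      simp only [← Finset.sum_add_distrib]
      exact Finset.sum_congr rfl fun i _ => by ring
    rw [this]
    ring
  B_smul c u v := by
    simp only [Pi.smul_apply, smul_eq_mul, mul_add, Finset.mul_sum]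
    congr 1
    · ring
    · exact Finset.sum_congr rfl fun i _ => by ring
  B_comm u v := by
    congr 1
    · ring
    · exact Finset.sum_congr rfl fun i _ => by ring
  bar_mem i hi := by
    rcases i with i | i
    · exact absurd rfl hi
    · simp
  bar_bar i _ := by rcases i with i | i | i <;> rfl
  bar_ne i hi := by
    rcases i with i | i | i
    · exact absurd rfl hi
    · simp
    · simp
  Q_single i hi := by
    rcases i with i | i | i
    · exact absurd rfl hi
    · simp [Cfsg.quadFormOdd, Pi.single_apply]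
    · simp [Cfsg.quadFormOdd, Pi.single_apply]
  B_single i hi v := by
    rcases i with i | i | i
    · exact absurd rfl hi
    · simp [Pi.single_apply]
    · simp [Pi.single_apply]
  aniso v hv hQ := by
    have h1 : ∀ i, v (.inr i) = 0 := fun i => hv (.inr i) (by simp)
    have h2 : v (.inl ()) = 0 := by
      simp only [Cfsg.quadFormOdd, h1, mul_zero, Finset.sum_const_zero, add_zero, ne_eq,
        OfNat.ofNat_ne_zero, not_false_eq_true, pow_eq_zero_iff] at hQ
      exact hQ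
    funext i
    rcases i with i | i
    · exact h2
    · exact h1 i

theorem oddForm_Q (n : ℕ) (F : Type*) [Field F] : (oddForm n F).Q = Cfsg.quadFormOdd n F := rfl

/-- The commutator subgroup of the orthogonal group of the split form in dimension `2n ≥ 6`, over any field, is
generated by the elementary Siegel transformations. -/
theorem omega_plus (n : ℕ) (hn : 3 ≤ n) (F : Type*) [Field F] :
    Cfsg.Omega F (Cfsg.quadFormPlus n F) = (plusForm n F).EO := by
  apply le_antisymm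
  · apply (plusForm n F).commutator_le_of_univ (k := .inl ⟨0, by omega⟩) (l := .inl ⟨1, by omega⟩)
      (Set.mem_univ _) (Set.mem_univ _)
    · simp
    · simp [plusForm]
    · exact Set.mem_univ
  · apply (plusForm n F).le_commutator_of_three (fun i => Set.mem_univ i)
    intro i j
    -- choose an index different from the ones of `i` and `j`
    obtain ⟨a, ha⟩ : ∃ a : Fin n, i = .inl a ∨ i = .inr a := by
      rcases i with a | a
      · exact ⟨a, Or.inl rfl⟩
      · exact ⟨a, Or.inr rfl⟩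
    obtain ⟨b, hb⟩ : ∃ b : Fin n, j = .inl b ∨ j = .inr b := by
      rcases j with b | b
      · exact ⟨b, Or.inl rfl⟩
      · exact ⟨b, Or.inr rfl⟩
    obtain ⟨c, hca, hcb⟩ : ∃ c : Fin n, c ≠ a ∧ c ≠ b := by
      by_contra hcon
      push Not at hcon
      have h1 : (Finset.univ : Finset (Fin n)) ⊆ {a, b} := by
        intro c _
        by_cases hca : c = a
        · simp [hca]
        · simp [hcon c hca]
      have h2 := Finset.card_le_card h1
      have h3 : ({a, b} : Finset (Fin n)).card ≤ 2 := Finset.card_le_two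
      rw [Finset.card_univ, Fintype.card_fin] at h2
      omega
    refine ⟨.inl c, ?_⟩
    rcases ha with rfl | rfl <;> rcases hb with rfl | rfl <;> simp [plusForm, hca, hcb]

/-- The commutator subgroup of the orthogonal group of `x₀² + Σ xᵢ yᵢ` in dimension `2n + 1 ≥ 5`, over any field with
more than two elements, is generated by the elementary Siegel transformations. -/
theorem omega_odd (n : ℕ) (hn : 2 ≤ n) (F : Type*) [Field F] (hF : ∃ a : F, a ≠ 0 ∧ a ≠ 1) :
    Cfsg.Omega F (Cfsg.quadFormOdd n F) = (oddForm n F).EO := by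
  apply le_antisymm
  · apply (oddForm n F).commutator_le_of_one (z := .inl ()) (k := .inr (.inl ⟨0, by omega⟩))
      (l := .inr (.inl ⟨1, by omega⟩))
    · simp [oddForm]
    · simp [oddForm]
    · simp
    · simp [oddForm]
    · simp [oddForm]
    · intro i hi
      simpa [oddForm] using hi
    · simp [oddForm, Cfsg.quadFormOdd]
  · exact (oddForm n F).le_commutator_of_field hF

end Cfsg.Agent.ChevalleyStructure.OrthHyp
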