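/-
The action of orthogonal groups on the Chevalley Lie algebra over a field, realised as a subquotient of the tensor
square of the natural module: a kernel-checkable criterion relating Siegel transformations to the matrices `xMat`.
-/
import Cfsg.Agent.ChevalleyStructure.OrthHyp
import Cfsg.Prelude.Def_Chevalley

set_option autoImplicit false
set_option linter.unusedSectionVars false
set_option linter.unusedVariables false
set_option linter.unusedSimpArgs false

namespace Cfsg.Agent.ChevalleyStructure.OrthLie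

open Matrix Cfsg.Lie Cfsg.Agent.ChevalleyStructure.OrthHyp

/-! ### Sparse polynomials -/

section sparse

variable {F : Type*} [Field F]

/-- The value of a sparse integer polynomial (list of pairs coefficient, degree). -/
def ev (l : List (ℤ × ℕ)) (t : F) : F := (l.map fun p => (p.1 : F) * t ^ p.2).sum

theorem ev_nil (t : F) : ev [] t = 0 := rfl

theorem ev_cons (p : ℤ × ℕ) (l : List (ℤ × ℕ)) (t : F) : ev (p :: l) t = (p.1 : F) * t ^ p.2 + ev l t := by
  simp [ev]

theorem ev_append (l l' : List (ℤ × ℕ)) (t : F) : ev (l ++ l') t = ev l t + ev l' t := by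
  simp [ev]

theorem ev_flatMap {α : Type*} (l : List α) (f : α → List (ℤ × ℕ)) (t : F) :
    ev (l.flatMap f) t = (l.map fun x => ev (f x) t).sum := by
  induction l with
  | nil => simp [ev]
  | cons a l ih => rw [List.flatMap_cons, ev_append, ih, List.map_cons, List.sum_cons]

/-- The coefficient of degree `d`. -/
def coef (l : List (ℤ × ℕ)) (d : ℕ) : ℤ := (l.map fun p => if p.2 = d then p.1 else 0).sum

/-- Check that a sparse polynomial of degree less than five is zero. -/
def isZ (l : List (ℤ × ℕ)) : Bool :=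
  l.all (fun p => decide (p.2 < 5)) && (List.range 5).all fun d => decide (coef l d = 0)

theorem ev_eq_sum (l : List (ℤ × ℕ)) (hl : ∀ p ∈ l, p.2 < 5) (t : F) :
    ev l t = ∑ d ∈ Finset.range 5, (coef l d : F) * t ^ d := by
  induction l with
  | nil => simp [ev, coef]
  | cons p l ih =>
    rw [ev_cons, ih fun q hq => hl q (List.mem_cons_of_mem _ hq)]
    have h1 : ∀ d, (coef (p :: l) d : F) = (if p.2 = d then (p.1 : F) else 0) + (coef l d : F) := by
      intro d
      simp only [coef, List.map_cons, List.sum_cons]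
      push_cast
      rfl
    simp only [h1, add_mul, Finset.sum_add_distrib, ite_mul, zero_mul]
    rw [Finset.sum_ite_eq, if_pos (Finset.mem_range.2 (hl p List.mem_cons_self))]

theorem ev_of_isZ {l : List (ℤ × ℕ)} (h : isZ l = true) (t : F) : ev l t = 0 := by
  simp only [isZ, Bool.and_eq_true, List.all_eq_true, decide_eq_true_eq, List.mem_range] at h
  rw [ev_eq_sum l h.1]
  apply Finset.sum_eq_zero
  intro d hd
  rw [h.2 d (Finset.mem_range.1 hd)]
  simp

end sparse

/-! ### The entries of `xMat` -/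

/-- The entry of `x_r(t)` as a sparse polynomial in `t`. -/
def xE (D : ChevalleyDatum) (r : ℕ) (row col : D.Idx) : List (ℤ × ℕ) :=
  match col with
  | Sum.inl i =>
    (match row with
     | Sum.inl i' => if i' = i then [(1, 0)] else []
     | Sum.inr u => if u.val = r then [(-((D.cartanSR.getD i.val #[]).getD r 0), 1)] else [])
  | Sum.inr s =>
    if s.val = r then (match row with | Sum.inr u => if u.val = r then [(1, 0)] else [] | Sum.inl _ => [])
    else if s.val = D.negIdx.getD r 0 then
      (match row with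
       | Sum.inl i => [((D.coroot.getD r #[]).getD i.val 0, 1)]
       | Sum.inr u => if u = s then [(1, 0)] else if u.val = r then [(-1, 2)] else [])
    else
      (match row with
       | Sum.inl _ => []
       | Sum.inr u => (if u = s then [(1, 0)] else []) ++
           (D.chainCoeff r s.val u.val).map fun km => (km.2, km.1))

theorem xMat_apply (D : ChevalleyDatum) {F : Type*} [Field F] (r : Fin D.nroots) (t : F) (row col : D.Idx) :
    D.xMat F r t row col = ev (xE D r.val row col) t := by
  rcases col with i | s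
  · rcases row with i' | u
    · simp only [ChevalleyDatum.xMat, Matrix.of_apply, xE]
      split_ifs <;> simp [ev]
    · simp only [ChevalleyDatum.xMat, Matrix.of_apply, xE, Fin.ext_iff]
      split_ifs <;> simp [ev]
  · simp only [ChevalleyDatum.xMat, Matrix.of_apply, xE, Fin.ext_iff]
    by_cases h1 : s.val = r.val
    · rw [if_pos h1, if_pos h1]
      rcases row with i' | u
      · simp [ev]
      · dsimp only
        split_ifs <;> simp [ev]
    · rw [if_neg h1, if_neg h1]
      by_cases h2 : s.val = D.negIdx.getD r.val 0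
      · rw [if_pos h2, if_pos h2]
        rcases row with i' | u
        · simp [ev]
        · dsimp only
          split_ifs <;> simp [ev]
      · rw [if_neg h2, if_neg h2]
        rcases row with i' | u
        · simp [ev]
        · dsimp only
          rw [ev_append]
          congr 1
          · split_ifs <;> simp [ev]
          · simp [ev, List.map_map, Function.comp_def]

/-! ### Tables -/

/-- Integer tables describing the bilinear map from the natural module to the Chevalley Lie algebra. -/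
structure Tab (D : ChevalleyDatum) (ι : Type) where
  gram : ι → ι → ℤ
  qf : ι → ℤ
  /-- the image of `x_p ⊗ x_q` as a sparse vector -/
  pv : ι → ι → List (D.Idx × ℤ)
  /-- the root element of index `r` is the Siegel transformation `T_i(s t x_j)`, `(i, j, s) = rt r` -/
  rt : ℕ → ι × ι × ℤ
  /-- the correction term -/
  lam : ℕ → D.Idx → List (ℤ × ℕ)

namespace Tab

variable {D : ChevalleyDatum} {ι : Type} (T : Tab D ι)

/-- The image of the coordinate vector `x_p` under the root element as a sparse vector. -/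
def tv (r : ℕ) (p : ι) : List (ι × ℤ × ℕ) :=
  [(p, 1, 0), ((T.rt r).2.1, (T.rt r).2.2 * T.gram (T.rt r).1 p, 1),
   ((T.rt r).1, -((T.rt r).2.2 * T.gram (T.rt r).2.1 p), 1),
   ((T.rt r).1, -((T.rt r).2.2 * (T.rt r).2.2 * T.qf (T.rt r).2.1 * T.gram (T.rt r).1 p), 2)].filter
  fun x => decide (x.2.1 ≠ 0)

/-- Left-hand side of the intertwining relation at the coordinate `a`. -/
def lhs (r : ℕ) (p q : ι) (a : D.Idx) : List (ℤ × ℕ) :=
  (T.tv r p).flatMap fun x => (T.tv r q).flatMap fun y =>
    ((T.pv x.1 y.1).filter fun ck => decide (ck.1 = a)).map fun ck => (x.2.1 * y.2.1 * ck.2, x.2.2 + y.2.2)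

/-- Right-hand side of the intertwining relation at the coordinate `a`, negated. -/
def rhs (r : ℕ) (p q : ι) (a : D.Idx) : List (ℤ × ℕ) :=
  ((T.pv p q).flatMap fun ck => (xE D r a ck.1).map fun md => (-(ck.2 * md.1), md.2)) ++
    (T.lam r a).map fun ld => (-(ld.1 * T.gram p q), ld.2)

/-- The whole check. -/
def Ok : Prop := ∀ (r : Fin D.nroots) (p q : ι) (a : D.Idx), isZ (T.lhs r p q a ++ T.rhs r p q a) = true

section field

variable {F : Type*} [Field F]

/-- The vector of a sparse vector. -/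
def sv (F : Type*) [Field F] (l : List (D.Idx × ℤ)) : D.Idx → F :=
  fun a => (l.map fun ck => if ck.1 = a then (ck.2 : F) else 0).sum

theorem mulVec_sv (A : Matrix D.Idx D.Idx F) (l : List (D.Idx × ℤ)) (a : D.Idx) :
    (A *ᵥ sv F l) a = (l.map fun ck => (ck.2 : F) * A a ck.1).sum := by
  induction l with
  | nil => simp [sv, Matrix.mulVec, dotProduct]
  | cons ck l ih =>
    have : sv F (ck :: l) = (ck.2 : F) • Pi.single ck.1 1 + sv F l := by
      ext b
      simp only [sv, List.map_cons, List.sum_cons, Pi.add_apply, Pi.smul_apply, smul_eq_mul, Pi.single_apply,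
        eq_comm (a := b)]
      congr 1
      split_ifs <;> simp
    rw [this, Matrix.mulVec_add, Pi.add_apply, ih, Matrix.mulVec_smul, List.map_cons, List.sum_cons]
    simp

variable [Fintype ι] [DecidableEq ι]

/-- The bilinear map from the natural module to the Lie algebra. -/
noncomputable def pi (F : Type*) [Field F] : (ι → F) →ₗ[F] (ι → F) →ₗ[F] (D.Idx → F) :=
  LinearMap.mk₂ F (fun u v => ∑ p, ∑ q, (u p * v q) • sv F (T.pv p q))
    (fun u v w => by simp only [Pi.add_apply, add_mul, add_smul, Finset.sum_add_distrib])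
    (fun c u v => by simp only [Pi.smul_apply, smul_eq_mul, mul_assoc, mul_smul, Finset.smul_sum])
    (fun u v w => by simp only [Pi.add_apply, mul_add, add_smul, Finset.sum_add_distrib])
    (fun c u v => by
      simp only [Pi.smul_apply, smul_eq_mul, Finset.smul_sum]
      refine Finset.sum_congr rfl fun p _ => Finset.sum_congr rfl fun q _ => ?_
      rw [smul_smul]
      congr 1
      ring)

theorem pi_apply (u v : ι → F) : T.pi F u v = ∑ p, ∑ q, (u p * v q) • sv F (T.pv p q) := rfl

theorem pi_single (p q : ι) : T.pi F (Pi.single p 1) (Pi.single q 1) = sv F (T.pv p q) := by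
  rw [pi_apply, Finset.sum_eq_single p, Finset.sum_eq_single q]
  · simp
  · intro b _ hb; simp [hb]
  · simp
  · intro b _ hb; simp [hb]
  · simp

/-- The vector of a sparse vector with polynomial coefficients. -/
def pvec (l : List (ι × ℤ × ℕ)) (t : F) : ι → F :=
  (l.map fun x => ((x.2.1 : F) * t ^ x.2.2) • (Pi.single x.1 1 : ι → F)).sum

theorem pvec_filter (l : List (ι × ℤ × ℕ)) (t : F) :
    pvec (l.filter fun x => decide (x.2.1 ≠ 0)) t = pvec l t := by
  induction l with
  | nil => rfl
  | cons x l ih =>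
    by_cases h : x.2.1 = 0
    · rw [List.filter_cons_of_neg (by simp [h]), ih]
      simp [pvec, h]
    · rw [List.filter_cons_of_pos (by simp [h])]
      simp only [pvec, List.map_cons, List.sum_cons] at ih ⊢
      rw [ih]

theorem pi_single_pvec (p : ι) (l' : List (ι × ℤ × ℕ)) (t : F) (a : D.Idx) :
    T.pi F (Pi.single p 1) (pvec l' t) a =
      (l'.map fun y => ((y.2.1 : F) * t ^ y.2.2) * sv F (T.pv p y.1) a).sum := by
  induction l' with
  | nil => simp [pvec]
  | cons y l ih =>
    simp only [pvec, List.map_cons, List.sum_cons, map_add, map_smul,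
      Pi.add_apply, Pi.smul_apply, smul_eq_mul, pi_single] at ih ⊢
    rw [ih]

theorem pi_pvec_aux (l : List (ι × ℤ × ℕ)) (w : ι → F) (t : F) (a : D.Idx) :
    T.pi F (pvec l t) w a =
      (l.map fun x => ((x.2.1 : F) * t ^ x.2.2) * T.pi F (Pi.single x.1 1) w a).sum := by
  induction l with
  | nil => simp [pvec]
  | cons x l ih =>
    simp only [pvec, List.map_cons, List.sum_cons, map_add, map_smul, LinearMap.add_apply,
      LinearMap.smul_apply, Pi.add_apply, Pi.smul_apply, smul_eq_mul] at ih ⊢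
    rw [ih]

omit [Fintype ι] [DecidableEq ι] in
theorem ev_filter_pv (x y : ι × ℤ × ℕ) (m : List (D.Idx × ℤ)) (t : F) (a : D.Idx) :
    ev ((m.filter fun ck => decide (ck.1 = a)).map fun ck => (x.2.1 * y.2.1 * ck.2, x.2.2 + y.2.2)) t =
      (x.2.1 : F) * t ^ x.2.2 * ((y.2.1 : F) * t ^ y.2.2 * sv F m a) := by
  induction m with
  | nil => simp [ev, sv]
  | cons ck m ih =>
    by_cases h : ck.1 = a
    · rw [List.filter_cons_of_pos (by simp [h]), List.map_cons, ev_cons, ih]
      simp only [sv, List.map_cons, List.sum_cons, if_pos h]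
      push_cast
      ring
    · rw [List.filter_cons_of_neg (by simp [h]), ih]
      simp only [sv, List.map_cons, List.sum_cons, if_neg h, zero_add]

theorem pi_pvec (l l' : List (ι × ℤ × ℕ)) (t : F) (a : D.Idx) :
    T.pi F (pvec l t) (pvec l' t) a =
      ev (l.flatMap fun x => l'.flatMap fun y =>
        ((T.pv x.1 y.1).filter fun ck => decide (ck.1 = a)).map fun ck =>
          (x.2.1 * y.2.1 * ck.2, x.2.2 + y.2.2)) t := by
  rw [ev_flatMap, pi_pvec_aux]
  congr 1
  apply List.map_congr_left
  intro x _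
  rw [ev_flatMap, pi_single_pvec, ← List.sum_map_mul_left]
  congr 1
  apply List.map_congr_left
  intro y _
  rw [ev_filter_pv]

variable (H : HypForm ι F)

/-- Compatibility of the tables with the quadratic form. -/
structure Compat : Prop where
  gram : ∀ i j, H.B (Pi.single i 1) (Pi.single j 1) = (T.gram i j : F)
  qf : ∀ j, H.Q (Pi.single j 1) = (T.qf j : F)
  mem : ∀ r : Fin D.nroots, (T.rt r).1 ∈ H.P
  ne : ∀ r : Fin D.nroots, (T.rt r).2.1 ≠ (T.rt r).1
  ne_bar : ∀ r : Fin D.nroots, (T.rt r).2.1 ≠ H.bar (T.rt r).1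
  sgn : ∀ r : Fin D.nroots, (T.rt r).2.2 = 1 ∨ (T.rt r).2.2 = -1
  surj : ∀ i ∈ H.P, ∀ j, j ≠ i → j ≠ H.bar i → ∃ r : Fin D.nroots, ∃ s : ℤ, (s = 1 ∨ s = -1) ∧
    (T.rt r = (i, j, s) ∨ (j ∈ H.P ∧ T.rt r = (j, i, s)))

variable {T H}

theorem sgl_single (hc : T.Compat H) (r : Fin D.nroots) (t : F) (p : ι) :
    H.sgl (Pi.single (T.rt r).1 1) ((((T.rt r).2.2 : F) * t) • Pi.single (T.rt r).2.1 1) (Pi.single p 1) =
      pvec (T.tv r p) t := by
  rw [tv, pvec_filter, H.sgl_def, H.Q_smul, H.B_smul, hc.gram, hc.gram, hc.qf]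
  simp only [pvec, List.map_cons, List.map_nil, List.sum_cons, List.sum_nil]
  ext b
  simp only [Pi.add_apply, Pi.sub_apply, Pi.smul_apply, smul_eq_mul, Pi.zero_apply]
  push_cast
  ring

/-- The polar form as a bilinear map. -/
noncomputable def Bl (H : HypForm ι F) : (ι → F) →ₗ[F] (ι → F) →ₗ[F] F :=
  LinearMap.mk₂ F H.B H.B_add H.B_smul H.B_add' H.B_smul'

theorem Bl_apply (H : HypForm ι F) (u v : ι → F) : Bl H u v = H.B u v := rfl

omit [DecidableEq ι] in
/-- Two bilinear expressions which agree on coordinate vectors agree. -/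
theorem bil_ext [DecidableEq ι] {M : Type*} [AddCommGroup M] [Module F M] (L R : (ι → F) →ₗ[F] (ι → F) →ₗ[F] M)
    (h : ∀ p q, L (Pi.single p 1) (Pi.single q 1) = R (Pi.single p 1) (Pi.single q 1)) (u v : ι → F) :
    L u v = R u v := by
  have : L = R := by
    apply LinearMap.ext_basis (Pi.basisFun F ι) (Pi.basisFun F ι)
    intro p q
    rw [Pi.basisFun_apply, Pi.basisFun_apply, h]
  rw [this]

/-- The abstract form of the intertwining relation on coordinate vectors. -/
theorem rel_of_single {Idx : Type} [Fintype Idx] (pi : (ι → F) →ₗ[F] (ι → F) →ₗ[F] (Idx → F))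
    (H : HypForm ι F) (g : (ι → F) →ₗ[F] (ι → F)) (A : Matrix Idx Idx F) (lam : Idx → F)
    (h : ∀ p q, pi (g (Pi.single p 1)) (g (Pi.single q 1)) = A *ᵥ pi (Pi.single p 1) (Pi.single q 1) +
      H.B (Pi.single p 1) (Pi.single q 1) • lam) (u v : ι → F) :
    pi (g u) (g v) = A *ᵥ pi u v + H.B u v • lam := by
  have := bil_ext (pi.compl₁₂ g g) (pi.compr₂ (Matrix.mulVecLin A) +
      (Bl H).compr₂ (LinearMap.toSpanSingleton F (Idx → F) lam)) (by
    intro p q
    simp only [LinearMap.compl₁₂_apply, LinearMap.add_apply, LinearMap.compr₂_apply, Matrix.mulVecLin_apply,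
      LinearMap.toSpanSingleton_apply, Bl_apply]
    exact h p q) u v
  simpa only [LinearMap.compl₁₂_apply, LinearMap.add_apply, LinearMap.compr₂_apply, Matrix.mulVecLin_apply,
      LinearMap.toSpanSingleton_apply, Bl_apply] using this

theorem ev_rhs (r : ℕ) (p q : ι) (a : D.Idx) (t : F) (A : Matrix D.Idx D.Idx F)
    (hA : ∀ row col, A row col = ev (xE D r row col) t) :
    ev (T.rhs r p q a) t = - ((T.pv p q).map fun ck => (ck.2 : F) * A a ck.1).sum
        - (T.gram p q : F) * ev (T.lam r a) t := by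
  rw [rhs, ev_append, ev_flatMap, sub_eq_add_neg]
  congr 1
  · generalize T.pv p q = m
    induction m with
    | nil => simp
    | cons ck m ih =>
      rw [List.map_cons, List.sum_cons, ih, List.map_cons, List.sum_cons, neg_add, hA]
      congr 1
      generalize xE D r a ck.1 = m
      induction m with
      | nil => simp [ev]
      | cons x m ih =>
        rw [List.map_cons, ev_cons, ih, ev_cons]
        push_cast
        ring
  · generalize T.lam r a = m
    induction m with
    | nil => simp [ev]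
    | cons x m ih =>
      rw [List.map_cons, ev_cons, ih, ev_cons]
      push_cast
      ring

/-- The intertwining relation for a root element. -/
theorem rel_root (hc : T.Compat H) (hok : T.Ok) (r : Fin D.nroots) (t : F) (u v : ι → F) :
    T.pi F (H.sgl (Pi.single (T.rt r).1 1) ((((T.rt r).2.2 : F) * t) • Pi.single (T.rt r).2.1 1) u)
      (H.sgl (Pi.single (T.rt r).1 1) ((((T.rt r).2.2 : F) * t) • Pi.single (T.rt r).2.1 1) v) =
      D.xMat F r t *ᵥ T.pi F u v + H.B u v • fun a => ev (T.lam r a) t := by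
  refine rel_of_single (T.pi F) H
    (H.sglLin (Pi.single (T.rt r).1 1) ((((T.rt r).2.2 : F) * t) • Pi.single (T.rt r).2.1 1))
    (D.xMat F r t) (fun a => ev (T.lam r a) t) ?_ u v
  intro p q
  have e1 : ∀ p : ι, H.sglLin (Pi.single (T.rt r).1 1) ((((T.rt r).2.2 : F) * t) • Pi.single (T.rt r).2.1 1)
    (Pi.single p 1) = pvec (T.tv r p) t := fun p => sgl_single hc r t p
  rw [e1, e1, pi_single, hc.gram]
  ext a
  rw [pi_pvec, Pi.add_apply, mulVec_sv, Pi.smul_apply, smul_eq_mul]
  have h1 := ev_of_isZ (hok r p q a) t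
  rw [ev_append, ev_rhs r p q a t (D.xMat F r t) (fun row col => xMat_apply D r t row col), lhs] at h1
  linear_combination h1

/-! ### The relation -/

/-- `g` on the natural module and `A` on the Lie algebra are intertwined. -/
def Rel (T : Tab D ι) (H : HypForm ι F) (g : GL ι F) (A : Matrix D.Idx D.Idx F) : Prop :=
  g ∈ H.O ∧ ∃ lam : D.Idx → F, ∀ u v : ι → F,
    T.pi F ((g : Matrix ι ι F) *ᵥ u) ((g : Matrix ι ι F) *ᵥ v) = A *ᵥ T.pi F u v + H.B u v • lam

theorem Rel.one : T.Rel H 1 1 :=
  ⟨one_mem _, 0, fun u v => by simp⟩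

theorem Rel.mul {g h : GL ι F} {A B : Matrix D.Idx D.Idx F} (hg : T.Rel H g A) (hh : T.Rel H h B) :
    T.Rel H (g * h) (A * B) := by
  obtain ⟨hgO, l, hl⟩ := hg
  obtain ⟨hhO, m, hm⟩ := hh
  refine ⟨mul_mem hgO hhO, A *ᵥ m + l, fun u v => ?_⟩
  rw [act_mul, act_mul, hl, hm, H.B_act hhO, Matrix.mulVec_add, Matrix.mulVec_smul, Matrix.mulVec_mulVec,
    smul_add, add_assoc]

/-- The tables determine the Lie algebra: every basis vector is the image of a tensor of trace zero. -/
def Span (T : Tab D ι) : Prop :=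
  ∀ a : D.Idx, ∃ l : List (ι × ι × ℤ), (l.map fun x => x.2.2 * T.gram x.1 x.2.1).sum = 0 ∧
    ∀ b : D.Idx, (l.map fun x => x.2.2 * ((T.pv x.1 x.2.1).map fun ck => if ck.1 = b then ck.2 else 0).sum).sum =
      if b = a then 1 else 0

theorem sv_eq_cast (l : List (D.Idx × ℤ)) (b : D.Idx) :
    sv F l b = (((l.map fun ck => if ck.1 = b then ck.2 else 0).sum : ℤ) : F) := by
  induction l with
  | nil => simp [sv]
  | cons x l ih =>
    simp only [sv, List.map_cons, List.sum_cons] at ih ⊢
    rw [ih]
    push_cast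
    rfl

theorem Rel.unique (hc : T.Compat H) (hs : T.Span) {g : GL ι F} {A B : Matrix D.Idx D.Idx F}
    (hA : T.Rel H g A) (hB : T.Rel H g B) : A = B := by
  obtain ⟨-, l, hl⟩ := hA
  obtain ⟨-, m, hm⟩ := hB
  have h1 : ∀ p q : ι, (A - B) *ᵥ T.pi F (Pi.single p 1) (Pi.single q 1) = (T.gram p q : F) • (m - l) := by
    intro p q
    have e1 := hl (Pi.single p 1) (Pi.single q 1)
    rw [hm, hc.gram] at e1
    rw [Matrix.sub_mulVec, smul_sub, sub_eq_sub_iff_add_eq_add, ← e1, add_comm]
  apply Matrix.ext_of_mulVec_single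
  intro a
  rw [← sub_eq_zero, ← Matrix.sub_mulVec]
  obtain ⟨L, h2, h3⟩ := hs a
  have h4 : (Pi.single a 1 : D.Idx → F) =
      (L.map fun x => (x.2.2 : F) • T.pi F (Pi.single x.1 1) (Pi.single x.2.1 1)).sum := by
    ext b
    have h5 : ∀ L : List (ι × ι × ℤ), (L.map fun x => (x.2.2 : F) • T.pi F (Pi.single x.1 1) (Pi.single x.2.1 1)).sum b =
        (((L.map fun x => x.2.2 * ((T.pv x.1 x.2.1).map fun ck => if ck.1 = b then ck.2 else 0).sum).sum : ℤ) : F) := by
      intro L
      induction L with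
      | nil => simp
      | cons x L ih =>
        rw [List.map_cons, List.sum_cons, Pi.add_apply, ih, List.map_cons, List.sum_cons, pi_single,
          Pi.smul_apply, sv_eq_cast, smul_eq_mul]
        push_cast
        rfl
    rw [h5, h3, Pi.single_apply]
    split_ifs <;> simp
  have h6 : ∀ L : List (ι × ι × ℤ), (A - B) *ᵥ
      (L.map fun x => (x.2.2 : F) • T.pi F (Pi.single x.1 1) (Pi.single x.2.1 1)).sum =
      (((L.map fun x => x.2.2 * T.gram x.1 x.2.1).sum : ℤ) : F) • (m - l) := by
    intro L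
    induction L with
    | nil => simp
    | cons x L ih =>
      rw [List.map_cons, List.sum_cons, Matrix.mulVec_add, ih, List.map_cons, List.sum_cons,
        Matrix.mulVec_smul, h1, smul_smul, ← add_smul]
      push_cast
      rfl
  rw [h4, h6, h2]
  simp

theorem Rel.mul_eq_one (hc : T.Compat H) (hs : T.Span) {g h : GL ι F} {A B : Matrix D.Idx D.Idx F}
    (hA : T.Rel H g A) (hB : T.Rel H h B) (hgh : g * h = 1) : A * B = 1 := by
  have := hA.mul hB
  rw [hgh] at this
  exact this.unique hc hs Rel.one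

/-- All two by two minors are determined by the Lie algebra element and the polar form. -/
def Min (T : Tab D ι) : Prop :=
  ∀ p q : ι, ∃ (l : List (D.Idx × ℤ)) (m : ℤ), ∀ p' q' : ι,
    ((if p' = p ∧ q' = q then 1 else 0) - (if p' = q ∧ q' = p then 1 else 0) : ℤ) =
      (l.map fun ck => ck.2 * ((T.pv p' q').map fun dk => if dk.1 = ck.1 then dk.2 else 0).sum).sum +
        m * T.gram p' q'

theorem minor_eq (hc : T.Compat H) (hm : T.Min) {u v u' v' : ι → F} (h1 : T.pi F u v = T.pi F u' v')
    (h2 : H.B u v = H.B u' v') (p q : ι) : u p * v q - u q * v p = u' p * v' q - u' q * v' p := by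
  obtain ⟨l, m, h⟩ := hm p q
  -- the bilinear identity
  let pr : ι → ((ι → F) →ₗ[F] F) := fun i => LinearMap.proj i
  have key : ∀ u v : ι → F, u p * v q - u q * v p = (l.map fun ck => (ck.2 : F) * T.pi F u v ck.1).sum + m * H.B u v := by
    have hbl : ∀ l : List (D.Idx × ℤ), ∃ R : (ι → F) →ₗ[F] (ι → F) →ₗ[F] F, ∀ u v,
        R u v = (l.map fun ck => (ck.2 : F) * T.pi F u v ck.1).sum := by
      intro l
      induction l with
      | nil => exact ⟨0, fun u v => by simp⟩
      | cons ck l ih =>
        obtain ⟨R, hR⟩ := ih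
        refine ⟨(ck.2 : F) • (T.pi F).compr₂ (LinearMap.proj ck.1) + R, fun u v => ?_⟩
        rw [LinearMap.add_apply, LinearMap.add_apply, hR, List.map_cons, List.sum_cons]
        rfl
    obtain ⟨R, hR⟩ := hbl l
    let L : (ι → F) →ₗ[F] (ι → F) →ₗ[F] F :=
      (LinearMap.mul F F).compl₁₂ (pr p) (pr q) - (LinearMap.mul F F).compl₁₂ (pr q) (pr p)
    have hL : ∀ u v, L u v = u p * v q - u q * v p := fun u v => rfl
    have := bil_ext L (R + (m : F) • Bl H) (by
      intro p' q'
      rw [hL, LinearMap.add_apply, LinearMap.add_apply, hR, LinearMap.smul_apply, LinearMap.smul_apply, Bl_apply,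
        hc.gram, pi_single, smul_eq_mul]
      have h4 : (((l.map fun ck => ck.2 * ((T.pv p' q').map fun dk => if dk.1 = ck.1 then dk.2 else 0).sum).sum : ℤ) : F) =
          (l.map fun ck => (ck.2 : F) * sv F (T.pv p' q') ck.1).sum := by
        generalize l = l
        induction l with
        | nil => simp
        | cons x l ih =>
          rw [List.map_cons, List.sum_cons, List.map_cons, List.sum_cons, Int.cast_add, ih, sv_eq_cast]
          push_cast
          rfl
      rw [← h4]
      have h5 : ((Pi.single p' 1 : ι → F) p * (Pi.single q' 1 : ι → F) q - (Pi.single p' 1 : ι → F) q * (Pi.single q' 1 : ι → F) p) =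
          (((if p' = p ∧ q' = q then 1 else 0) - (if p' = q ∧ q' = p then 1 else 0) : ℤ) : F) := by
        simp only [Pi.single_apply, eq_comm (b := p'), eq_comm (b := q')]
        push_cast
        simp only [mul_ite, mul_one, mul_zero]
        split_ifs <;> simp_all
      rw [h5, h p' q', Int.cast_add, Int.cast_mul])
    intro u v
    have h6 := this u v
    rw [hL, LinearMap.add_apply, LinearMap.add_apply, hR] at h6
    exact h6
  rw [key, key, h1, h2]

/-- Every index pair leaves a third index orthogonal to the first one. -/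
def Third (T : Tab D ι) : Prop := ∀ i a : ι, a ≠ i → ∃ j : ι, j ≠ i ∧ j ≠ a ∧ T.gram i j = 0

/-- An isometry acting trivially on the Lie algebra commutes with the elementary Siegel transformations. -/
theorem commute_of_rel_one (hc : T.Compat H) (hm : T.Min) (h3 : T.Third) {g : GL ι F} (hg : T.Rel H g 1)
    {e : GL ι F} (he : e ∈ H.gens ∅) : g * e = e * g := by
  obtain ⟨hgO, l, hl⟩ := hg
  have hmin : ∀ i j : ι, T.gram i j = 0 → ∀ p q : ι,
      ((g : Matrix ι ι F) *ᵥ Pi.single i 1) p * ((g : Matrix ι ι F) *ᵥ Pi.single j 1) q -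
        ((g : Matrix ι ι F) *ᵥ Pi.single i 1) q * ((g : Matrix ι ι F) *ᵥ Pi.single j 1) p =
      (Pi.single i 1 : ι → F) p * (Pi.single j 1 : ι → F) q - (Pi.single i 1 : ι → F) q * (Pi.single j 1 : ι → F) p := by
    intro i j hij p q
    apply minor_eq hc hm
    · rw [hl, hc.gram, hij]
      simp
    · rw [H.B_act hgO]
  have hdiag : ∀ i a : ι, a ≠ i → ((g : Matrix ι ι F) *ᵥ Pi.single i 1) a = 0 := by
    intro i a hai
    obtain ⟨j, hji, hja, hij⟩ := h3 i a hai
    have e1 := hmin i j hij i j
    have e2 := hmin i j hij a j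
    have e3 := hmin i j hij a i
    simp only [Pi.single_eq_same, Pi.single_eq_of_ne hji, Pi.single_eq_of_ne hji.symm, Pi.single_eq_of_ne hai,
      Pi.single_eq_of_ne hja.symm, mul_zero, zero_mul, sub_zero, mul_one, sub_self] at e1 e2 e3
    set gi := (g : Matrix ι ι F) *ᵥ Pi.single i 1
    set gj := (g : Matrix ι ι F) *ᵥ Pi.single j 1
    linear_combination (-gi a) * e1 + gi i * e2 - gi j * e3
  have hprod : ∀ i j : ι, j ≠ i → T.gram i j = 0 →
      ((g : Matrix ι ι F) *ᵥ Pi.single i 1) i * ((g : Matrix ι ι F) *ᵥ Pi.single j 1) j = 1 := by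
    intro i j hji hij
    have e1 := hmin i j hij i j
    rw [hdiag i j hji, hdiag j i hji.symm] at e1
    simpa [hji, hji.symm] using e1
  have hsingle : ∀ i, (g : Matrix ι ι F) *ᵥ Pi.single i 1 = ((g : Matrix ι ι F) *ᵥ Pi.single i 1) i • Pi.single i 1 := by
    intro i
    ext a
    by_cases hai : a = i
    · subst hai; simp
    · rw [hdiag i a hai]; simp [hai]
  obtain ⟨i, hi, -, j, -, hji, hji', t, he⟩ := he
  have hgram : T.gram i j = 0 ∨ True := Or.inr trivial
  have hB : H.B (Pi.single i 1) (t • Pi.single j 1) = 0 := H.B_single_smul_single hi hji' t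
  have heq : e = H.sieg (Pi.single i 1) (t • Pi.single j 1) (H.Q_single i hi) hB := by
    apply ext_act
    intro v
    rw [he, H.sieg_act]
  have hB1 : (T.gram i j : F) = 0 := by
    rw [← hc.gram, H.B_single i hi]
    simp [hji'.symm]
  have hprod' : ((g : Matrix ι ι F) *ᵥ Pi.single i 1) i * ((g : Matrix ι ι F) *ᵥ Pi.single j 1) j = 1 := by
    have e1 := minor_eq hc hm (u := (g : Matrix ι ι F) *ᵥ Pi.single i 1) (v := (g : Matrix ι ι F) *ᵥ Pi.single j 1)
      (u' := Pi.single i 1) (v' := Pi.single j 1) (by rw [hl, hc.gram, hB1]; simp) (H.B_act hgO _ _) i j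
    rw [hdiag i j hji, hdiag j i hji.symm] at e1
    simpa [hji, hji.symm] using e1
  rw [← mul_inv_eq_iff_eq_mul, heq, H.conj_sieg hgO _ _ (by rw [H.mem_O.1 hgO]; exact H.Q_single i hi)
    (by rw [H.B_act hgO, hB])]
  apply ext_act
  intro v
  rw [H.sieg_act, H.sieg_act, Matrix.mulVec_smul, hsingle i, hsingle j, H.sgl_smul, smul_smul, smul_smul]
  congr 2
  linear_combination t * hprod'

theorem rel_one_of_commute (hc : T.Compat H) {k l : ι} (hk : k ∈ H.P) (hl : l ∈ H.P) (hlk : l ≠ k)
    (hlk' : l ≠ H.bar k) {g : GL ι F} (hg : g ∈ H.O) (he : ∀ e ∈ H.gens ∅, g * e = e * g) : T.Rel H g 1 := by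
  obtain ⟨c, hc2, hcv⟩ := H.scalar_of_commute hk hl hlk hlk' hg he
  refine ⟨hg, 0, fun u v => ?_⟩
  rw [hcv, hcv, map_smul, LinearMap.map_smul₂, smul_smul, ← sq, hc2]
  simp

/-! ### The isomorphism -/

theorem B_smul_single_rt (hc : T.Compat H) (r : Fin D.nroots) (t : F) :
    H.B (Pi.single (T.rt r).1 1) (t • Pi.single (T.rt r).2.1 1) = 0 :=
  H.B_single_smul_single (hc.mem r) (hc.ne_bar r) t

/-- The root element on the natural module. -/
noncomputable def rootV (hc : T.Compat H) (r : Fin D.nroots) (t : F) : GL ι F :=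
  H.sieg (Pi.single (T.rt r).1 1) ((((T.rt r).2.2 : F) * t) • Pi.single (T.rt r).2.1 1)
    (H.Q_single _ (hc.mem r)) (B_smul_single_rt hc r _)

theorem rootV_mem_gens (hc : T.Compat H) (r : Fin D.nroots) (t : F) : rootV hc r t ∈ H.gens ∅ :=
  ⟨_, hc.mem r, Set.notMem_empty _, _, Set.notMem_empty _, hc.ne r, hc.ne_bar r, _, fun _ => H.sieg_act _ _ _⟩

theorem rootV_mem_E (hc : T.Compat H) (r : Fin D.nroots) (t : F) : rootV hc r t ∈ H.E :=
  Subgroup.subset_closure (rootV_mem_gens hc r t)

theorem rel_rootV (hc : T.Compat H) (hok : T.Ok) (r : Fin D.nroots) (t : F) :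
    T.Rel H (rootV hc r t) (D.xMat F r t) := by
  refine ⟨H.E_le_O (rootV_mem_E hc r t), fun a => ev (T.lam r a) t, fun u v => ?_⟩
  rw [rootV, H.sieg_act, H.sieg_act, rel_root hc hok]

theorem rootV_mul_neg (hc : T.Compat H) (r : Fin D.nroots) (t : F) : rootV hc r t * rootV hc r (-t) = 1 := by
  apply ext_act
  intro v
  rw [act_mul, rootV, rootV, H.sieg_act, H.sieg_act, H.sgl_add (H.Q_single _ (hc.mem r))
    (B_smul_single_rt hc r _) (B_smul_single_rt hc r _), mul_neg, neg_smul, add_neg_cancel, H.sgl_zero, act_one]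

/-- The root element on the Lie algebra as an element of `GL`. -/
theorem exists_rootL (hc : T.Compat H) (hok : T.Ok) (hs : T.Span) (r : Fin D.nroots) (t : F) :
    ∃ A : GL D.Idx F, (A : Matrix D.Idx D.Idx F) = D.xMat F r t :=
  ⟨⟨D.xMat F r t, D.xMat F r (-t),
    (rel_rootV hc hok r t).mul_eq_one hc hs (rel_rootV hc hok r (-t)) (rootV_mul_neg hc r t),
    (rel_rootV hc hok r (-t)).mul_eq_one hc hs (rel_rootV hc hok r t) (by
      have := rootV_mul_neg hc r (-t)
      rwa [neg_neg] at this)⟩, rfl⟩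

/-- Every generator of `E` is a root element. -/
theorem gens_eq_rootV (hc : T.Compat H) {e : GL ι F} (he : e ∈ H.gens ∅) :
    ∃ (r : Fin D.nroots) (t : F), e = rootV hc r t := by
  obtain ⟨i, hi, -, j, -, hji, hji', t, he⟩ := he
  obtain ⟨r, s, hs, hr⟩ := hc.surj i hi j hji hji'
  have hs2 : (s : F) * s = 1 := by rcases hs with rfl | rfl <;> simp
  rcases hr with hr | ⟨hj, hr⟩
  · refine ⟨r, (s : F) * t, ?_⟩
    apply ext_act
    intro v
    rw [he, rootV, H.sieg_act, hr, ← mul_assoc, hs2, one_mul]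
  · refine ⟨r, -((s : F) * t), ?_⟩
    apply ext_act
    intro v
    have hB := H.B_single_smul_single hi hji' t
    rw [he, rootV, H.sieg_act, hr, mul_neg, ← mul_assoc, hs2, one_mul, H.sgl_def, H.sgl_def, H.Q_smul, H.Q_smul,
      H.Q_single i hi, H.Q_single j hj, H.B_smul, H.B_smul]
    ext b
    simp only [Pi.add_apply, Pi.sub_apply, Pi.smul_apply, smul_eq_mul]
    ring

theorem exists_of_mem_E (hc : T.Compat H) (hok : T.Ok) (hs : T.Span) {g : GL ι F} (hg : g ∈ H.E) :
    ∃ A ∈ D.group F, T.Rel H g (A : Matrix D.Idx D.Idx F) := by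
  unfold HypForm.E HypForm.ES at hg
  induction hg using Subgroup.closure_induction with
  | mem x hx =>
    obtain ⟨r, t, rfl⟩ := gens_eq_rootV hc hx
    obtain ⟨A, hA⟩ := exists_rootL hc hok hs r t
    exact ⟨A, Subgroup.subset_closure ⟨r, t, hA⟩, by rw [hA]; exact rel_rootV hc hok r t⟩
  | one => exact ⟨1, one_mem _, Rel.one⟩
  | mul a b _ _ ha hb =>
    obtain ⟨A, hA, hA'⟩ := ha
    obtain ⟨B, hB, hB'⟩ := hb
    exact ⟨A * B, mul_mem hA hB, by rw [Units.val_mul]; exact hA'.mul hB'⟩
  | inv a _ ha =>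
    obtain ⟨A, hA, hA'⟩ := ha
    refine ⟨A⁻¹, inv_mem hA, ?_⟩
    obtain ⟨hgO, l, hl⟩ := hA'
    refine ⟨inv_mem hgO, - (((A⁻¹ : GL D.Idx F) : Matrix D.Idx D.Idx F) *ᵥ l), fun u v => ?_⟩
    have h1 := hl (((a⁻¹ : GL ι F) : Matrix ι ι F) *ᵥ u) (((a⁻¹ : GL ι F) : Matrix ι ι F) *ᵥ v)
    rw [act_act_inv, act_act_inv, H.B_act (inv_mem hgO)] at h1
    rw [h1, Matrix.mulVec_add, Matrix.mulVec_mulVec, ← Units.val_mul, inv_mul_cancel, Units.val_one,
      Matrix.one_mulVec, Matrix.mulVec_smul, smul_neg, add_neg_cancel_right]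

theorem exists_of_mem_group (hc : T.Compat H) (hok : T.Ok) {A : GL D.Idx F} (hA : A ∈ D.group F) :
    ∃ g ∈ H.E, T.Rel H g (A : Matrix D.Idx D.Idx F) := by
  unfold ChevalleyDatum.group at hA
  induction hA using Subgroup.closure_induction with
  | mem x hx =>
    obtain ⟨r, t, hx⟩ := hx
    exact ⟨rootV hc r t, rootV_mem_E hc r t, by rw [hx]; exact rel_rootV hc hok r t⟩
  | one => exact ⟨1, one_mem _, Rel.one⟩
  | mul a b _ _ ha hb =>
    obtain ⟨A, hA, hA'⟩ := ha
    obtain ⟨B, hB, hB'⟩ := hb
    exact ⟨A * B, mul_mem hA hB, by rw [Units.val_mul]; exact hA'.mul hB'⟩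
  | inv a _ ha =>
    obtain ⟨g, hg, hg'⟩ := ha
    refine ⟨g⁻¹, inv_mem hg, ?_⟩
    obtain ⟨hgO, l, hl⟩ := hg'
    refine ⟨inv_mem hgO, - (((a⁻¹ : GL D.Idx F) : Matrix D.Idx D.Idx F) *ᵥ l), fun u v => ?_⟩
    have h1 := hl (((g⁻¹ : GL ι F) : Matrix ι ι F) *ᵥ u) (((g⁻¹ : GL ι F) : Matrix ι ι F) *ᵥ v)
    rw [act_act_inv, act_act_inv, H.B_act (inv_mem hgO)] at h1
    rw [h1, Matrix.mulVec_add, Matrix.mulVec_mulVec, ← Units.val_mul, inv_mul_cancel, Units.val_one,
      Matrix.one_mulVec, Matrix.mulVec_smul, smul_neg, add_neg_cancel_right]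

/-- The main theorem: the Chevalley group is the commutator subgroup of the orthogonal group modulo its centre. -/
theorem main (hc : T.Compat H) (hok : T.Ok) (hs : T.Span) (hm : T.Min) (h3 : T.Third) {k l : ι} (hk : k ∈ H.P)
    (hl : l ∈ H.P) (hlk : l ≠ k) (hlk' : l ≠ H.bar k) (hom : commutator H.O = H.EO) :
    Nonempty (↥(D.group F) ≃* (↥(commutator H.O) ⧸ Subgroup.center ↥(commutator H.O))) := by
  have hE : ∀ w : ↥(commutator H.O), ((w : H.O) : GL ι F) ∈ H.E := fun w => by
    have : (w : H.O) ∈ H.EO := by rw [← hom]; exact w.2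
    exact this
  have hex : ∀ w : ↥(commutator H.O), ∃ A : D.group F, T.Rel H ((w : H.O) : GL ι F) ((A : GL D.Idx F) : Matrix D.Idx D.Idx F) := by
    intro w
    obtain ⟨A, hA, hA'⟩ := exists_of_mem_E hc hok hs (hE w)
    exact ⟨⟨A, hA⟩, hA'⟩
  choose f hf using hex
  have hfu : ∀ (w : ↥(commutator H.O)) (A : D.group F),
      T.Rel H ((w : H.O) : GL ι F) ((A : GL D.Idx F) : Matrix D.Idx D.Idx F) → f w = A := by
    intro w A hA
    exact Subtype.ext (Units.ext ((hf w).unique hc hs hA))
  let φ : ↥(commutator H.O) →* ↥(D.group F) :=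
    { toFun := f
      map_one' := hfu 1 1 Rel.one
      map_mul' := fun a b => hfu (a * b) (f a * f b) ((hf a).mul (hf b)) }
  have hsurj : Function.Surjective φ := by
    intro A
    obtain ⟨g, hg, hgA⟩ := exists_of_mem_group hc hok A.2
    have hgO : g ∈ H.O := H.E_le_O hg
    have hgc : (⟨g, hgO⟩ : H.O) ∈ commutator H.O := by rw [hom]; exact hg
    exact ⟨⟨⟨g, hgO⟩, hgc⟩, hfu _ _ hgA⟩
  have hker : φ.ker = Subgroup.center ↥(commutator H.O) := by
    ext w
    rw [MonoidHom.mem_ker, Subgroup.mem_center_iff]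
    constructor
    · intro hw
      have h1 : T.Rel H ((w : H.O) : GL ι F) 1 := by
        have := hf w
        have hw' : f w = 1 := hw
        rw [hw'] at this
        exact this
      have h2 : H.E ≤ Subgroup.centralizer {((w : H.O) : GL ι F)} := by
        unfold HypForm.E HypForm.ES
        rw [Subgroup.closure_le]
        intro e he
        rw [SetLike.mem_coe, Subgroup.mem_centralizer_singleton_iff]
        exact (commute_of_rel_one hc hm h3 h1 he).symm
      intro x
      have h4 := h2 (hE x)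
      rw [Subgroup.mem_centralizer_singleton_iff] at h4
      exact Subtype.ext (Subtype.ext h4)
    · intro hw
      apply hfu w 1
      apply rel_one_of_commute hc hk hl hlk hlk' (w : H.O).2
      intro e he
      have heE : e ∈ H.E := Subgroup.subset_closure he
      have heO : e ∈ H.O := H.E_le_O heE
      have hec : (⟨e, heO⟩ : H.O) ∈ commutator H.O := by rw [hom]; exact heE
      have h5 := hw ⟨⟨e, heO⟩, hec⟩
      exact (congrArg (fun x : ↥(commutator H.O) => ((x : H.O) : GL ι F)) h5).symm
  exact ⟨((QuotientGroup.quotientMulEquivOfEq hker).symm.trans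
    (QuotientGroup.quotientKerEquivOfSurjective φ hsurj)).symm⟩

end field

end Tab

end Cfsg.Agent.ChevalleyStructure.OrthLie
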