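/-
Tables for the isomorphism of the Chevalley group of type B2 with the orthogonal group in dimension five.
-/
import Cfsg.Agent.ChevalleyStructure.OrthLie
import Cfsg.Prelude.Def_ChevB2

set_option autoImplicit false

namespace Cfsg.Agent.ChevalleyStructure.OrthB2Tab

open Matrix Cfsg.Lie Cfsg.Agent.ChevalleyStructure.OrthHyp Cfsg.Agent.ChevalleyStructure.OrthLie

/-- Coordinate number. -/
def code : Unit ⊕ (Fin 2 ⊕ Fin 2) → ℕ
  | .inl _ => 0
  | .inr (.inl i) => i.val + 1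
  | .inr (.inr i) => i.val + 3

/-- Inverse of `code`. -/
def decode (n : ℕ) : Unit ⊕ (Fin 2 ⊕ Fin 2) :=
  if n = 0 then .inl () else if h : n - 1 < 2 then .inr (.inl ⟨n - 1, h⟩)
  else if h : n - 3 < 2 then .inr (.inr ⟨n - 3, h⟩) else .inl ()

/-- Coordinates of the Lie algebra. -/
def dec (n : ℕ) : chevB2.Idx :=
  if h : n < 2 then .inl ⟨n, h⟩ else if h : n - 2 < 8 then .inr ⟨n - 2, h⟩ else .inl ⟨0, by decide⟩

/-- Number of a coordinate of the Lie algebra. -/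
def enc : chevB2.Idx → ℕ
  | .inl i => i.val
  | .inr i => i.val + 2

/-- Images of the tensors of coordinate vectors. -/
def pvTab : List (List (List (ℕ × ℤ))) :=
  [[[(0, -1)], [(8, -1)], [(7, 1)], [(3, 1)], [(4, -1)]], [[(8, 1)], [], [(9, -1)], [(1, 1)], [(6, -1)]], [[(7,
  -1)], [(9, 1)], [], [(5, -1)], []], [[(3, -1)], [(0, -1), (1, -1)], [(5, 1)], [], [(2, 1)]], [[(4, 1)], [(6,
  1)], [(0, -1)], [(2, -1)], []]]

/-- Root elements. -/
def rtTab : List (ℕ × ℕ × ℤ) :=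
  [(3, 4, -1), (3, 0, 1), (4, 0, -1), (3, 2, -1), (1, 4, 1), (2, 0, 1), (1, 0, -1), (1, 2, 1)]

/-- Correction terms. -/
def lamTab : List (ℕ × ℤ) :=
  [(0, 1), (2, 1), (3, -1), (4, 1), (5, -1), (7, -1)]

/-- Preimages of the basis vectors of the Lie algebra. -/
def spanTab : List (List (ℕ × ℕ × ℤ)) :=
  [[(2, 4, 1), (4, 2, -1)], [(1, 3, 1), (2, 4, -1)], [(4, 3, -1)], [(0, 3, 1)], [(0, 4, -1)], [(2, 3, -1)], [(4,
  1, 1)], [(0, 2, 1)], [(0, 1, -1)], [(2, 1, 1)]]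

/-- Minors in terms of the Lie algebra. -/
def minTab : List (List (List (ℕ × ℤ) × ℤ)) :=
  [[([], 0), ([(8, -1)], 0), ([(7, 1)], 0), ([(3, 1)], 0), ([(4, -1)], 0)], [([(8, 1)], 0), ([], 0), ([(9, -1)],
  0), ([(1, 1)], 0), ([(6, -1)], 0)], [([(7, -1)], 0), ([(9, 1)], 0), ([], 0), ([(5, -1)], 0), ([(0, 2), (1,
  -1)], 1)], [([(3, -1)], 0), ([(1, -1)], 0), ([(5, 1)], 0), ([], 0), ([(2, 1)], 0)], [([(4, 1)], 0), ([(6, 1)],
  0), ([(0, -2), (1, 1)], -1), ([(2, -1)], 0), ([], 0)]]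

/-- Gram matrix. -/
def gram : Unit ⊕ (Fin 2 ⊕ Fin 2) → Unit ⊕ (Fin 2 ⊕ Fin 2) → ℤ
  | .inl _, .inl _ => 2
  | .inr (.inl i), .inr (.inr j) => if i = j then 1 else 0
  | .inr (.inr i), .inr (.inl j) => if i = j then 1 else 0
  | .inl _, .inr _ => 0
  | .inr _, .inl _ => 0
  | .inr (.inl _), .inr (.inl _) => 0
  | .inr (.inr _), .inr (.inr _) => 0

/-- Values of the form on coordinate vectors. -/
def qf : Unit ⊕ (Fin 2 ⊕ Fin 2) → ℤ
  | .inl _ => 1
  | .inr _ => 0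

/-- The tables. -/
def tab : Tab chevB2 (Unit ⊕ (Fin 2 ⊕ Fin 2)) where
  gram := gram
  qf := qf
  pv p q := ((pvTab.getD (code p) []).getD (code q) []).map fun ck => (dec ck.1, ck.2)
  rt r := let x := rtTab.getD r (0, 0, 0); (decode x.1, decode x.2.1, x.2.2)
  lam r a := match a with
    | .inl _ => []
    | .inr u => if u.val = r then (lamTab.filter fun x => decide (x.1 = r)).map fun x => (x.2, 1) else []

theorem ok : tab.Ok := by
  unfold Tab.Ok
  decide +kernel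

theorem span : tab.Span := by
  have h : ∀ a : chevB2.Idx,
      ((((spanTab.getD (enc a) []).map fun x => (decode x.1, decode x.2.1, x.2.2)).map
        fun x => x.2.2 * tab.gram x.1 x.2.1).sum = 0 ∧
      ∀ b : chevB2.Idx, (((spanTab.getD (enc a) []).map fun x => (decode x.1, decode x.2.1, x.2.2)).map
        fun x => x.2.2 * ((tab.pv x.1 x.2.1).map fun ck => if ck.1 = b then ck.2 else 0).sum).sum =
        if b = a then 1 else 0) := by
    decide +kernel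
  exact fun a => ⟨_, h a⟩

theorem min : tab.Min := by
  have h : ∀ p q p' q' : Unit ⊕ (Fin 2 ⊕ Fin 2),
      ((if p' = p ∧ q' = q then 1 else 0) - (if p' = q ∧ q' = p then 1 else 0) : ℤ) =
      (((((minTab.getD (code p) []).getD (code q) ([], 0)).1.map fun ck => (dec ck.1, ck.2)).map
        fun ck => ck.2 * ((tab.pv p' q').map fun dk => if dk.1 = ck.1 then dk.2 else 0).sum).sum) +
        ((minTab.getD (code p) []).getD (code q) ([], 0)).2 * tab.gram p' q' := by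
    decide +kernel
  exact fun p q => ⟨_, _, h p q⟩

theorem third : tab.Third := by
  unfold Tab.Third
  decide +kernel

set_option synthInstance.maxSize 1000 in
theorem surj0 : ∀ i j : Unit ⊕ (Fin 2 ⊕ Fin 2), i ≠ .inl () → j ≠ i →
    j ≠ Sum.elim Sum.inl (fun i => Sum.inr (Sum.elim Sum.inr Sum.inl i)) i →
    ∃ r : Fin 8, (tab.rt r = (i, j, 1) ∨ tab.rt r = (i, j, -1)) ∨
      (j ≠ .inl () ∧ (tab.rt r = (j, i, 1) ∨ tab.rt r = (j, i, -1))) := by
  decide +kernel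

theorem rt0 : ∀ r : Fin 8, (tab.rt r).1 ≠ .inl () ∧ (tab.rt r).2.1 ≠ (tab.rt r).1 ∧
    (tab.rt r).2.1 ≠ Sum.elim Sum.inl (fun i => Sum.inr (Sum.elim Sum.inr Sum.inl i)) (tab.rt r).1 ∧
    ((tab.rt r).2.2 = 1 ∨ (tab.rt r).2.2 = -1) := by
  decide +kernel

theorem compat (F : Type*) [Field F] : tab.Compat (oddForm 2 F) where
  gram i j := by
    rcases i with i | i | i <;> rcases j with j | j | j <;>
      simp [oddForm, tab, gram, Pi.single_apply, Fin.sum_univ_two] <;> fin_cases i <;> fin_cases j <;> simp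
  qf j := by
    rcases j with j | j | j <;> simp [oddForm, tab, qf, Cfsg.quadFormOdd, Pi.single_apply]
  mem r := (rt0 r).1
  ne r := (rt0 r).2.1
  ne_bar r := (rt0 r).2.2.1
  sgn r := (rt0 r).2.2.2
  surj i hi j hji hji' := by
    obtain ⟨r, h⟩ := surj0 i j hi hji hji'
    rcases h with (h | h) | ⟨hj, h | h⟩
    · exact ⟨r, 1, Or.inl rfl, Or.inl h⟩
    · exact ⟨r, -1, Or.inr rfl, Or.inl h⟩
    · exact ⟨r, 1, Or.inl rfl, Or.inr ⟨hj, h⟩⟩
    · exact ⟨r, -1, Or.inr rfl, Or.inr ⟨hj, h⟩⟩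

end Cfsg.Agent.ChevalleyStructure.OrthB2Tab
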