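/-
Tables for the isomorphism of the Chevalley group of type D4 with the orthogonal group in dimension eight.
-/
import Cfsg.Agent.ChevalleyStructure.OrthLie
import Cfsg.Prelude.Def_ChevD4

set_option autoImplicit false

namespace Cfsg.Agent.ChevalleyStructure.OrthD4Def

open Matrix Cfsg.Lie Cfsg.Agent.ChevalleyStructure.OrthHyp Cfsg.Agent.ChevalleyStructure.OrthLie

/-- Coordinate number. -/
def code : Fin 4 ⊕ Fin 4 → ℕ
  | .inl i => i.val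
  | .inr i => i.val + 4

/-- Inverse of `code`. -/
def decode (n : ℕ) : Fin 4 ⊕ Fin 4 :=
  if h : n < 4 then .inl ⟨n, h⟩ else if h : n - 4 < 4 then .inr ⟨n - 4, h⟩ else .inl 0

/-- Coordinates of the Lie algebra. -/
def dec (n : ℕ) : chevD4.Idx :=
  if h : n < 4 then .inl ⟨n, h⟩ else if h : n - 4 < 24 then .inr ⟨n - 4, h⟩ else .inl ⟨0, by decide⟩

/-- Number of a coordinate of the Lie algebra. -/
def enc : chevD4.Idx → ℕ
  | .inl i => i.val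
  | .inr i => i.val + 4

/-- Images of the tensors of coordinate vectors. -/
def pvTab : List (List (List (ℕ × ℤ))) :=
  [[[], [(27, -1)], [(26, 1)], [(24, -1)], [(0, 1), (1, 1)], [(22, -1)], [(23, -1)], [(25, -1)]], [[(27, 1)],
  [], [(21, 1)], [(19, -1)], [(9, -1)], [(1, 1)], [(18, -1)], [(20, -1)]], [[(26, -1)], [(21, -1)], [], [(16,
  -1)], [(8, -1)], [(13, -1)], [], [(17, -1)]], [[(24, 1)], [(19, 1)], [(16, 1)], [], [(6, -1)], [(11, -1)],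
  [(14, -1)], [(2, -1)]], [[(0, -1), (1, -1), (2, -1), (3, -1)], [(9, 1)], [(8, 1)], [(6, 1)], [], [(4, 1)],
  [(5, -1)], [(7, 1)]], [[(22, 1)], [(1, -1), (2, -1), (3, -1)], [(13, 1)], [(11, 1)], [(4, -1)], [], [(10,
  -1)], [(12, 1)]], [[(23, 1)], [(18, 1)], [(2, -1), (3, -1)], [(14, 1)], [(5, 1)], [(10, 1)], [], [(15, 1)]],
  [[(25, 1)], [(20, 1)], [(17, 1)], [(3, -1)], [(7, -1)], [(12, -1)], [(15, -1)], []]]

/-- Root elements. -/
def rtTab : List (ℕ × ℕ × ℤ) :=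
  [(4, 5, -1), (4, 6, 1), (4, 3, -1), (4, 7, -1), (4, 2, -1), (4, 1, -1), (5, 6, 1), (5, 3, -1), (5, 7, -1), (5,
  2, -1), (6, 3, -1), (6, 7, -1), (2, 3, 1), (2, 7, 1), (1, 6, 1), (1, 3, 1), (1, 7, 1), (1, 2, -1), (0, 5, 1),
  (0, 6, 1), (0, 3, 1), (0, 7, 1), (0, 2, -1), (0, 1, 1)]

/-- Correction terms. -/
def lamTab : List (ℕ × ℤ) :=
  [(1, 1), (4, -1), (6, 1), (9, -1), (10, 1), (11, 1), (12, -1), (13, -1), (14, 1), (17, -1), (19, 1), (22, -1)]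

/-- Preimages of the basis vectors of the Lie algebra. -/
def spanTab : List (List (ℕ × ℕ × ℤ)) :=
  [[(0, 4, 1), (1, 5, -1)], [(1, 5, 1), (2, 6, -1)], [(2, 6, 1), (3, 7, -1)], [(2, 6, 1), (7, 3, -1)], [(5, 4,
  -1)], [(6, 4, 1)], [(3, 4, -1)], [(7, 4, -1)], [(2, 4, -1)], [(1, 4, -1)], [(6, 5, 1)], [(3, 5, -1)], [(7, 5,
  -1)], [(2, 5, -1)], [(3, 6, -1)], [(7, 6, -1)], [(3, 2, 1)], [(7, 2, 1)], [(6, 1, 1)], [(3, 1, 1)], [(7, 1,
  1)], [(2, 1, -1)], [(5, 0, 1)], [(6, 0, 1)], [(3, 0, 1)], [(7, 0, 1)], [(2, 0, -1)], [(1, 0, 1)]]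

/-- Minors in terms of the Lie algebra. -/
def minTab : List (List (List (ℕ × ℤ) × ℤ)) :=
  [[([], 0), ([(27, -1)], 0), ([(26, 1)], 0), ([(24, -1)], 0), ([(0, 1)], 0), ([(22, -1)], 0), ([(23, -1)], 0),
  ([(25, -1)], 0)], [([(27, 1)], 0), ([], 0), ([(21, 1)], 0), ([(19, -1)], 0), ([(9, -1)], 0), ([(1, 1), (0,
  -1)], 0), ([(18, -1)], 0), ([(20, -1)], 0)], [([(26, -1)], 0), ([(21, -1)], 0), ([], 0), ([(16, -1)], 0),
  ([(8, -1)], 0), ([(13, -1)], 0), ([(2, 1), (3, 1), (1, -1)], 1), ([(17, -1)], 0)], [([(24, 1)], 0), ([(19,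
  1)], 0), ([(16, 1)], 0), ([], 0), ([(6, -1)], 0), ([(11, -1)], 0), ([(14, -1)], 0), ([(3, 1), (2, -1)], 0)],
  [([(0, -1)], 0), ([(9, 1)], 0), ([(8, 1)], 0), ([(6, 1)], 0), ([], 0), ([(4, 1)], 0), ([(5, -1)], 0), ([(7,
  1)], 0)], [([(22, 1)], 0), ([(1, -1), (0, 1)], 0), ([(13, 1)], 0), ([(11, 1)], 0), ([(4, -1)], 0), ([], 0),
  ([(10, -1)], 0), ([(12, 1)], 0)], [([(23, 1)], 0), ([(18, 1)], 0), ([(2, -1), (3, -1), (1, 1)], -1), ([(14,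
  1)], 0), ([(5, 1)], 0), ([(10, 1)], 0), ([], 0), ([(15, 1)], 0)], [([(25, 1)], 0), ([(20, 1)], 0), ([(17, 1)],
  0), ([(3, -1), (2, 1)], 0), ([(7, -1)], 0), ([(12, -1)], 0), ([(15, -1)], 0), ([], 0)]]

/-- Gram matrix. -/
def gram : Fin 4 ⊕ Fin 4 → Fin 4 ⊕ Fin 4 → ℤ
  | .inl i, .inr j => if i = j then 1 else 0
  | .inr i, .inl j => if i = j then 1 else 0
  | .inl _, .inl _ => 0
  | .inr _, .inr _ => 0

/-- Values of the form on coordinate vectors. -/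
def qf (_ : Fin 4 ⊕ Fin 4) : ℤ := 0

/-- The tables. -/
def tab : Tab chevD4 (Fin 4 ⊕ Fin 4) where
  gram := gram
  qf := qf
  pv p q := ((pvTab.getD (code p) []).getD (code q) []).map fun ck => (dec ck.1, ck.2)
  rt r := let x := rtTab.getD r (0, 0, 0); (decode x.1, decode x.2.1, x.2.2)
  lam r a := match a with
    | .inl _ => []
    | .inr u => if u.val = r then (lamTab.filter fun x => decide (x.1 = r)).map fun x => (x.2, 1) else []

end Cfsg.Agent.ChevalleyStructure.OrthD4Def
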