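/-
Kernel checks for the table of type D4, part A.
-/
import Cfsg.Agent.ChevalleyStructure.OrthD4Def

set_option autoImplicit false

namespace Cfsg.Agent.ChevalleyStructure.OrthD4OkA

open Cfsg.Lie Cfsg.Agent.ChevalleyStructure.OrthLie Cfsg.Agent.ChevalleyStructure.OrthD4Def

theorem ok0 : ∀ (p q : Fin 4 ⊕ Fin 4) (a : chevD4.Idx),
    isZ (tab.lhs 0 p q a ++ tab.rhs 0 p q a) = true := by
  decide +kernel

theorem ok1 : ∀ (p q : Fin 4 ⊕ Fin 4) (a : chevD4.Idx),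
    isZ (tab.lhs 1 p q a ++ tab.rhs 1 p q a) = true := by
  decide +kernel

theorem ok2 : ∀ (p q : Fin 4 ⊕ Fin 4) (a : chevD4.Idx),
    isZ (tab.lhs 2 p q a ++ tab.rhs 2 p q a) = true := by
  decide +kernel

theorem ok3 : ∀ (p q : Fin 4 ⊕ Fin 4) (a : chevD4.Idx),
    isZ (tab.lhs 3 p q a ++ tab.rhs 3 p q a) = true := by
  decide +kernel

theorem ok4 : ∀ (p q : Fin 4 ⊕ Fin 4) (a : chevD4.Idx),
    isZ (tab.lhs 4 p q a ++ tab.rhs 4 p q a) = true := by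
  decide +kernel

theorem ok5 : ∀ (p q : Fin 4 ⊕ Fin 4) (a : chevD4.Idx),
    isZ (tab.lhs 5 p q a ++ tab.rhs 5 p q a) = true := by
  decide +kernel

theorem ok6 : ∀ (p q : Fin 4 ⊕ Fin 4) (a : chevD4.Idx),
    isZ (tab.lhs 6 p q a ++ tab.rhs 6 p q a) = true := by
  decide +kernel

theorem ok7 : ∀ (p q : Fin 4 ⊕ Fin 4) (a : chevD4.Idx),
    isZ (tab.lhs 7 p q a ++ tab.rhs 7 p q a) = true := by
  decide +kernel

end Cfsg.Agent.ChevalleyStructure.OrthD4OkA
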