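/-
Kernel checks for the table of type D4, part B.
-/
import Cfsg.Agent.ChevalleyStructure.OrthD4Def

set_option autoImplicit false

namespace Cfsg.Agent.ChevalleyStructure.OrthD4OkB

open Cfsg.Lie Cfsg.Agent.ChevalleyStructure.OrthLie Cfsg.Agent.ChevalleyStructure.OrthD4Def

theorem ok8 : ∀ (p q : Fin 4 ⊕ Fin 4) (a : chevD4.Idx),
    isZ (tab.lhs 8 p q a ++ tab.rhs 8 p q a) = true := by
  decide +kernel

theorem ok9 : ∀ (p q : Fin 4 ⊕ Fin 4) (a : chevD4.Idx),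
    isZ (tab.lhs 9 p q a ++ tab.rhs 9 p q a) = true := by
  decide +kernel

theorem ok10 : ∀ (p q : Fin 4 ⊕ Fin 4) (a : chevD4.Idx),
    isZ (tab.lhs 10 p q a ++ tab.rhs 10 p q a) = true := by
  decide +kernel

theorem ok11 : ∀ (p q : Fin 4 ⊕ Fin 4) (a : chevD4.Idx),
    isZ (tab.lhs 11 p q a ++ tab.rhs 11 p q a) = true := by
  decide +kernel

theorem ok12 : ∀ (p q : Fin 4 ⊕ Fin 4) (a : chevD4.Idx),
    isZ (tab.lhs 12 p q a ++ tab.rhs 12 p q a) = true := by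
  decide +kernel

theorem ok13 : ∀ (p q : Fin 4 ⊕ Fin 4) (a : chevD4.Idx),
    isZ (tab.lhs 13 p q a ++ tab.rhs 13 p q a) = true := by
  decide +kernel

theorem ok14 : ∀ (p q : Fin 4 ⊕ Fin 4) (a : chevD4.Idx),
    isZ (tab.lhs 14 p q a ++ tab.rhs 14 p q a) = true := by
  decide +kernel

theorem ok15 : ∀ (p q : Fin 4 ⊕ Fin 4) (a : chevD4.Idx),
    isZ (tab.lhs 15 p q a ++ tab.rhs 15 p q a) = true := by
  decide +kernel

end Cfsg.Agent.ChevalleyStructure.OrthD4OkB
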