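/-
Tables for the isomorphism of the Chevalley group of type D4 with the orthogonal group in dimension eight.
-/
import Cfsg.Agent.ChevalleyStructure.OrthD4OkA
import Cfsg.Agent.ChevalleyStructure.OrthD4OkB
import Cfsg.Agent.ChevalleyStructure.OrthD4OkC

set_option autoImplicit false

namespace Cfsg.Agent.ChevalleyStructure.OrthD4Tab

open Cfsg.Lie Cfsg.Agent.ChevalleyStructure.OrthHyp Cfsg.Agent.ChevalleyStructure.OrthLie
open Cfsg.Agent.ChevalleyStructure.OrthD4Def

theorem ok : tab.Ok := by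
  intro r
  change Fin 24 at r
  fin_cases r
  · exact OrthD4OkA.ok0
  · exact OrthD4OkA.ok1
  · exact OrthD4OkA.ok2
  · exact OrthD4OkA.ok3
  · exact OrthD4OkA.ok4
  · exact OrthD4OkA.ok5
  · exact OrthD4OkA.ok6
  · exact OrthD4OkA.ok7
  · exact OrthD4OkB.ok8
  · exact OrthD4OkB.ok9
  · exact OrthD4OkB.ok10
  · exact OrthD4OkB.ok11
  · exact OrthD4OkB.ok12
  · exact OrthD4OkB.ok13
  · exact OrthD4OkB.ok14
  · exact OrthD4OkB.ok15
  · exact OrthD4OkC.ok16
  · exact OrthD4OkC.ok17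
  · exact OrthD4OkC.ok18
  · exact OrthD4OkC.ok19
  · exact OrthD4OkC.ok20
  · exact OrthD4OkC.ok21
  · exact OrthD4OkC.ok22
  · exact OrthD4OkC.ok23

theorem span : tab.Span := by
  have h : ∀ a : chevD4.Idx,
      ((((spanTab.getD (enc a) []).map fun x => (decode x.1, decode x.2.1, x.2.2)).map
        fun x => x.2.2 * tab.gram x.1 x.2.1).sum = 0 ∧
      ∀ b : chevD4.Idx, (((spanTab.getD (enc a) []).map fun x => (decode x.1, decode x.2.1, x.2.2)).map
        fun x => x.2.2 * ((tab.pv x.1 x.2.1).map fun ck => if ck.1 = b then ck.2 else 0).sum).sum =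
        if b = a then 1 else 0) := by
    decide +kernel
  exact fun a => ⟨_, h a⟩

theorem min : tab.Min := by
  have h : ∀ p q p' q' : Fin 4 ⊕ Fin 4,
      ((if p' = p ∧ q' = q then 1 else 0) - (if p' = q ∧ q' = p then 1 else 0) : ℤ) =
      (((((minTab.getD (code p) []).getD (code q) ([], 0)).1.map fun ck => (dec ck.1, ck.2)).map
        fun ck => ck.2 * ((tab.pv p' q').map fun dk => if dk.1 = ck.1 then dk.2 else 0).sum).sum) +
        ((minTab.getD (code p) []).getD (code q) ([], 0)).2 * tab.gram p' q' := by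
    decide +kernel
  exact fun p q => ⟨_, _, h p q⟩

theorem third : tab.Third := by
  unfold Tab.Third
  decide +kernel

set_option synthInstance.maxSize 1000 in
theorem surj0 : ∀ i j : Fin 4 ⊕ Fin 4, j ≠ i → j ≠ Sum.elim Sum.inr Sum.inl i →
    ∃ r : Fin 24, (tab.rt r = (i, j, 1) ∨ tab.rt r = (i, j, -1)) ∨
      (tab.rt r = (j, i, 1) ∨ tab.rt r = (j, i, -1)) := by
  decide +kernel

theorem rt0 : ∀ r : Fin 24, (tab.rt r).2.1 ≠ (tab.rt r).1 ∧
    (tab.rt r).2.1 ≠ Sum.elim Sum.inr Sum.inl (tab.rt r).1 ∧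
    ((tab.rt r).2.2 = 1 ∨ (tab.rt r).2.2 = -1) := by
  decide +kernel

theorem compat (F : Type*) [Field F] : tab.Compat (plusForm 4 F) where
  gram i j := by
    rcases i with i | i <;> rcases j with j | j <;>
      simp [plusForm, tab, OrthD4Def.gram, Pi.single_apply, eq_comm]
  qf j := by
    rcases j with j | j <;> simp [plusForm, tab, qf, Cfsg.quadFormPlus, Pi.single_apply]
  mem r := Set.mem_univ _
  ne r := (rt0 r).1
  ne_bar r := (rt0 r).2.1
  sgn r := (rt0 r).2.2
  surj i hi j hji hji' := by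
    obtain ⟨r, h⟩ := surj0 i j hji hji'
    rcases h with (h | h) | (h | h)
    · exact ⟨r, 1, Or.inl rfl, Or.inl h⟩
    · exact ⟨r, -1, Or.inr rfl, Or.inl h⟩
    · exact ⟨r, 1, Or.inl rfl, Or.inr ⟨Set.mem_univ _, h⟩⟩
    · exact ⟨r, -1, Or.inr rfl, Or.inr ⟨Set.mem_univ _, h⟩⟩

end Cfsg.Agent.ChevalleyStructure.OrthD4Tab
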