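import Cfsg.Prelude.Def_CurtisTits
import Cfsg.Agent.ChevalleyStructure.W0Small
import Cfsg.Agent.ChevalleyStructure.W0E6
import Cfsg.Agent.ChevalleyStructure.W0E7
import Cfsg.Agent.ChevalleyStructure.W0E8

/-!
# Every pair of roots is conjugate under the Weyl group to a pair in a standard rank two subsystem

For each of the seven tabulated data, any two roots `r`, `s` are moved by a word in the reflections in the
fundamental roots into the subsystem spanned by two fundamental roots `p_i`, `p_j`.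
-/

set_option autoImplicit false
set_option maxRecDepth 100000

namespace Cfsg.Agent.ChevalleyStructure.PairReduction

open Cfsg.Lie
open Cfsg.Agent.ChevalleyStructure
open Cfsg.Agent.ChevalleyStructure.W0Core

/-- The action of a word in the reflections in the fundamental roots on root indices. -/
def act (D : ChevalleyDatum) (w : List ℕ) (s : ℕ) : ℕ := w.foldr (fun i s => D.reflectRoot i s) s

theorem act_nil (D : ChevalleyDatum) (s : ℕ) : act D [] s = s := rfl

theorem act_cons (D : ChevalleyDatum) (i : ℕ) (w : List ℕ) (s : ℕ) :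
    act D (i :: w) s = D.reflectRoot i (act D w s) := rfl

theorem act_append (D : ChevalleyDatum) (w v : List ℕ) (s : ℕ) :
    act D (w ++ v) s = act D w (act D v s) := List.foldr_append

/-- Any two roots are moved into a common standard rank two subsystem by a word in the simple reflections. -/
def PairRed (D : ChevalleyDatum) : Prop :=
  ∀ r < D.nroots, ∀ s < D.nroots, ∃ w : List ℕ, (∀ i ∈ w, i < D.rank) ∧
    ∃ i j : ℕ, D.InRankTwoSub i j (act D w r) ∧ D.InRankTwoSub i j (act D w s)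

/-- The descent part of the certificate. -/
def redOK (T : ℕ → ℕ) (n l : ℕ) (dat : List (ℕ × List (ℕ × List ℕ × ℕ × ℕ))) : Bool :=
  ((List.range n).all fun r => (dat.any fun e => Nat.beq e.1 r) ||
    (List.range l).any fun i => Nat.blt r (look (T i) r)) &&
  dat.all fun e => (List.range n).all fun s => (e.2.any fun f => Nat.beq f.1 s) ||
    (List.range l).any fun i => Nat.beq (look (T i) e.1) e.1 && Nat.blt s (look (T i) s)

/-- Boolean form of the membership in a standard rank two subsystem. -/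
def inSub (D : ChevalleyDatum) (i j r : ℕ) : Bool :=
  Nat.blt r D.nroots && Nat.blt i D.rank && Nat.blt j D.rank &&
    (List.range D.rank).all fun k => Nat.beq k i || Nat.beq k j ||
      decide ((D.coroot.getD r #[]).getD k 0 = 0)

theorem inSub_spec {D : ChevalleyDatum} {i j r : ℕ} (h : inSub D i j r = true) : D.InRankTwoSub i j r := by
  rw [inSub, Bool.and_eq_true, Bool.and_eq_true, Bool.and_eq_true, Nat.blt_eq, Nat.blt_eq, Nat.blt_eq] at h
  obtain ⟨⟨⟨h1, h2⟩, h3⟩, h4⟩ := h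
  refine ⟨h1, h2, h3, ?_⟩
  intro k hk hki hkj
  have h5 := List.all_eq_true.1 h4 k (List.mem_range.2 hk)
  rw [Bool.or_eq_true, Bool.or_eq_true, decide_eq_true_iff] at h5
  rcases h5 with (h5 | h5) | h5
  · exact absurd (Nat.eq_of_beq_eq_true h5) hki
  · exact absurd (Nat.eq_of_beq_eq_true h5) hkj
  · exact h5

/-- The final part of the certificate. -/
def finOK (D : ChevalleyDatum) (T : ℕ → ℕ) (dat : List (ℕ × List (ℕ × List ℕ × ℕ × ℕ))) : Bool :=
  dat.all fun e => e.2.all fun f => (f.2.1.all fun i => Nat.blt i D.rank) &&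
    inSub D f.2.2.1 f.2.2.2 (actT T f.2.1 e.1) && inSub D f.2.2.1 f.2.2.2 (actT T f.2.1 f.1)

section

variable {D : ChevalleyDatum} {T : ℕ → ℕ}

theorem actT_lt {n l : ℕ} (hrange : ∀ i < l, rangeOK (T i) n = true) {w : List ℕ} (hw : ∀ i ∈ w, i < l)
    {s : ℕ} (hs : s < n) : actT T w s < n := by
  induction w with
  | nil => exact hs
  | cons i w ih =>
    exact rangeOK_spec (hrange i (hw i List.mem_cons_self)) (ih fun j hj => hw j (List.mem_cons_of_mem _ hj))

theorem act_eq_actT (hT : ∀ i < D.rank, ∀ s < D.nroots, D.reflectRoot i s = look (T i) s)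
    (hrange : ∀ i < D.rank, rangeOK (T i) D.nroots = true) {w : List ℕ} (hw : ∀ i ∈ w, i < D.rank)
    {s : ℕ} (hs : s < D.nroots) : act D w s = actT T w s := by
  induction w with
  | nil => rfl
  | cons i w ih =>
    have hw' : ∀ j ∈ w, j < D.rank := fun j hj => hw j (List.mem_cons_of_mem _ hj)
    rw [act_cons, ih hw', hT i (hw i List.mem_cons_self) _ (actT_lt hrange hw' hs)]
    rfl

theorem actT_append (w v : List ℕ) (s : ℕ) : actT T (w ++ v) s = actT T w (actT T v s) :=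
  List.foldr_append

theorem reduce_one {n l : ℕ} {dat : List (ℕ × List (ℕ × List ℕ × ℕ × ℕ))}
    (hrange : ∀ i < l, rangeOK (T i) n = true)
    (h : redOK T n l dat = true) : ∀ k r, n - r ≤ k → r < n →
      ∃ w : List ℕ, (∀ i ∈ w, i < l) ∧ ∃ e ∈ dat, actT T w r = e.1 := by
  rw [redOK, Bool.and_eq_true] at h
  intro k
  induction k with
  | zero =>
    intro r h1 h2
    omega
  | succ k ih =>
    intro r h1 h2
    have h3 := List.all_eq_true.1 h.1 r (List.mem_range.2 h2)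
    rw [Bool.or_eq_true] at h3
    rcases h3 with h3 | h3
    · rw [List.any_eq_true] at h3
      obtain ⟨e, he, he'⟩ := h3
      exact ⟨[], by simp, e, he, (Nat.eq_of_beq_eq_true he').symm⟩
    · rw [List.any_eq_true] at h3
      obtain ⟨i, hi, hi'⟩ := h3
      rw [Nat.blt_eq] at hi'
      have hil := List.mem_range.1 hi
      have hlt := rangeOK_spec (hrange i hil) h2
      obtain ⟨w, hw, e, he, he'⟩ := ih (look (T i) r) (by omega) hlt
      refine ⟨w ++ [i], ?_, e, he, ?_⟩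
      · intro j hj
        rw [List.mem_append, List.mem_singleton] at hj
        rcases hj with hj | rfl
        · exact hw j hj
        · exact hil
      · rw [actT_append]
        exact he'

theorem reduce_two {n l : ℕ} {dat : List (ℕ × List (ℕ × List ℕ × ℕ × ℕ))}
    (hrange : ∀ i < l, rangeOK (T i) n = true)
    (h : redOK T n l dat = true) {e : ℕ × List (ℕ × List ℕ × ℕ × ℕ)} (he : e ∈ dat) :
    ∀ k s, n - s ≤ k → s < n →
      ∃ w : List ℕ, (∀ i ∈ w, i < l) ∧ actT T w e.1 = e.1 ∧ ∃ f ∈ e.2, actT T w s = f.1 := by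
  rw [redOK, Bool.and_eq_true] at h
  have h' := List.all_eq_true.1 h.2 e he
  intro k
  induction k with
  | zero =>
    intro s h1 h2
    omega
  | succ k ih =>
    intro s h1 h2
    have h3 := List.all_eq_true.1 h' s (List.mem_range.2 h2)
    rw [Bool.or_eq_true] at h3
    rcases h3 with h3 | h3
    · rw [List.any_eq_true] at h3
      obtain ⟨f, hf, hf'⟩ := h3
      exact ⟨[], by simp, rfl, f, hf, (Nat.eq_of_beq_eq_true hf').symm⟩
    · rw [List.any_eq_true] at h3
      obtain ⟨i, hi, hi'⟩ := h3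
      rw [Bool.and_eq_true, Nat.blt_eq] at hi'
      have hil := List.mem_range.1 hi
      have hlt := rangeOK_spec (hrange i hil) h2
      obtain ⟨w, hw, hwe, f, hf, hf'⟩ := ih (look (T i) s) (by omega) hlt
      refine ⟨w ++ [i], ?_, ?_, f, hf, ?_⟩
      · intro j hj
        rw [List.mem_append, List.mem_singleton] at hj
        rcases hj with hj | rfl
        · exact hw j hj
        · exact hil
      · rw [actT_append]
        have : actT T [i] e.1 = e.1 := Nat.eq_of_beq_eq_true hi'.1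
        rw [this, hwe]
      · rw [actT_append]
        exact hf'

theorem pairRed_of {dat : List (ℕ × List (ℕ × List ℕ × ℕ × ℕ))}
    (hT : ∀ i < D.rank, ∀ s < D.nroots, D.reflectRoot i s = look (T i) s)
    (hrange : ∀ i < D.rank, rangeOK (T i) D.nroots = true)
    (h : redOK T D.nroots D.rank dat = true) (hf : finOK D T dat = true) : PairRed D := by
  intro r hr s hs
  obtain ⟨w1, hw1, e, he, he1⟩ := reduce_one hrange h _ r le_rfl hr
  have hs1 : actT T w1 s < D.nroots := actT_lt hrange hw1 hs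
  obtain ⟨w2, hw2, hw2e, f, hf', hf1⟩ := reduce_two hrange h he _ (actT T w1 s) le_rfl hs1
  have h3 := List.all_eq_true.1 (List.all_eq_true.1 hf e he) f hf'
  rw [Bool.and_eq_true, Bool.and_eq_true] at h3
  obtain ⟨⟨h4, h5⟩, h6⟩ := h3
  have hw3 : ∀ i ∈ f.2.1, i < D.rank := by
    intro i hi
    have := List.all_eq_true.1 h4 i hi
    rwa [Nat.blt_eq] at this
  have hw : ∀ i ∈ f.2.1 ++ (w2 ++ w1), i < D.rank := by
    intro i hi
    rw [List.mem_append, List.mem_append] at hi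
    rcases hi with hi | hi | hi
    · exact hw3 i hi
    · exact hw2 i hi
    · exact hw1 i hi
  refine ⟨f.2.1 ++ (w2 ++ w1), hw, f.2.2.1, f.2.2.2, ?_, ?_⟩
  · rw [act_eq_actT hT hrange hw hr, actT_append, actT_append, he1, hw2e]
    exact inSub_spec h5
  · rw [act_eq_actT hT hrange hw hs, actT_append, actT_append, hf1]
    exact inSub_spec h6

end

/-! ### Type G2 -/

/-- certificate of the pair reduction for type G2 -/
def datG2 : List (ℕ × List (ℕ × List ℕ × ℕ × ℕ)) :=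
  [(9, [(1, [], 0, 1), (2, [], 0, 1), (4, [], 0, 1), (6, [], 0, 1), (8, [], 0, 1), (9, [], 0, 1), (11, [], 0, 1)]), (11, [(0, [], 0, 1), (3, [], 0, 1), (5, [], 0, 1), (7, [], 0, 1), (9, [], 0, 1), (10, [], 0, 1), (11, [], 0, 1)])]

theorem redG2 : redOK W0Small.tabG2 12 2 datG2 = true := by decide +kernel

theorem finG2 : finOK chevG2 W0Small.tabG2 datG2 = true := by decide +kernel

theorem pairG2 : PairRed chevG2 :=
  pairRed_of (T := W0Small.tabG2) (dat := datG2) W0Small.tabG2_ok W0Small.rangeG2 redG2 finG2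

/-! ### Type B2 -/

/-- certificate of the pair reduction for type B2 -/
def datB2 : List (ℕ × List (ℕ × List ℕ × ℕ × ℕ)) :=
  [(6, [(1, [], 0, 1), (3, [], 0, 1), (5, [], 0, 1), (6, [], 0, 1), (7, [], 0, 1)]), (7, [(0, [], 0, 1), (2, [], 0, 1), (4, [], 0, 1), (6, [], 0, 1), (7, [], 0, 1)])]

theorem redB2 : redOK W0Small.tabB2 8 2 datB2 = true := by decide +kernel

theorem finB2 : finOK chevB2 W0Small.tabB2 datB2 = true := by decide +kernel

theorem pairB2 : PairRed chevB2 :=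
  pairRed_of (T := W0Small.tabB2) (dat := datB2) W0Small.tabB2_ok W0Small.rangeB2 redB2 finB2

/-! ### Type D4 -/

/-- certificate of the pair reduction for type D4 -/
def datD4 : List (ℕ × List (ℕ × List ℕ × ℕ × ℕ)) :=
  [(23, [(0, [2, 0, 1], 1, 3), (9, [3, 2, 1, 0], 0, 1), (12, [1, 3, 0, 1], 0, 2), (13, [1, 2, 0, 1], 0, 3), (18, [1, 2, 0, 1], 2, 3), (22, [3, 2, 1, 0], 0, 1), (23, [2, 0, 1], 1, 3)])]

theorem redD4 : redOK W0Small.tabD4 24 4 datD4 = true := by decide +kernel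

theorem finD4 : finOK chevD4 W0Small.tabD4 datD4 = true := by decide +kernel

theorem pairD4 : PairRed chevD4 :=
  pairRed_of (T := W0Small.tabD4) (dat := datD4) W0Small.tabD4_ok W0Small.rangeD4 redD4 finD4

/-! ### Type F4 -/

/-- certificate of the pair reduction for type F4 -/
def datF4 : List (ℕ × List (ℕ × List ℕ × ℕ × ℕ)) :=
  [(44, [(3, [3, 0, 1, 2, 1, 0], 1, 2), (6, [3, 2, 0, 1, 2, 3, 1, 0], 1, 2), (14, [2, 3, 1, 2, 0, 1, 2, 0, 1], 0, 1), (29, [3, 2, 0, 1, 2, 3, 1, 0], 1, 2), (32, [1, 2, 3, 2, 1, 2, 0, 1, 2, 0], 0, 2), (40, [2, 3, 1, 2, 0, 1, 2, 0, 1], 0, 1), (44, [3, 0, 1, 2, 1, 0], 1, 2), (47, [3, 2, 0, 1, 2, 3, 1, 0], 1, 2)]), (47, [(0, [1, 2, 0, 1, 2, 3], 2, 3), (18, [3, 2, 0, 1, 2, 3, 1, 0], 1, 2), (23, [1, 2, 0, 1, 2, 3, 0, 1, 2], 2, 3), (37, [2, 1, 2, 0, 1, 2, 3, 2, 0, 1], 0, 3), (41, [3, 2, 0, 1, 2, 3, 1, 0], 1, 2), (44, [3, 2, 0, 1, 2, 3, 1, 0], 1, 2), (46, [1, 2, 0, 1, 2, 3, 0, 1, 2], 2, 3), (47, [1, 2, 0, 1, 2, 3],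 2, 3)])]

theorem redF4 : redOK W0Small.tabF4 48 4 datF4 = true := by decide +kernel

theorem finF4 : finOK chevF4 W0Small.tabF4 datF4 = true := by decide +kernel

theorem pairF4 : PairRed chevF4 :=
  pairRed_of (T := W0Small.tabF4) (dat := datF4) W0Small.tabF4_ok W0Small.rangeF4 redF4 finF4

/-! ### Type E6 -/

/-- certificate of the pair reduction for type E6 -/
def datE6 : List (ℕ × List (ℕ × List ℕ × ℕ × ℕ)) :=
  [(71, [(0, [3, 2, 1, 3, 4, 0, 2, 3, 1], 4, 5), (25, [3, 4, 5, 1, 3, 4, 2, 3, 0, 2, 1, 3], 0, 2), (60, [3, 4, 5, 0, 2, 3, 4, 0, 2, 1, 3, 2, 1, 0], 1, 2), (70, [3, 4, 5, 1, 3, 4, 2, 3, 0, 2, 1, 3], 0, 2), (71, [3, 2, 1, 3, 4, 0, 2, 3, 1], 4, 5)])]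

theorem redE6 : redOK W0E6.tabE6 72 6 datE6 = true := by decide +kernel

theorem finE6 : finOK chevE6 W0E6.tabE6 datE6 = true := by decide +kernel

theorem pairE6 : PairRed chevE6 :=
  pairRed_of (T := W0E6.tabE6) (dat := datE6) W0E6.tabE6_ok W0E6.rangeE6 redE6 finE6

/-! ### Type E7 -/

/-- certificate of the pair reduction for type E7 -/
def datE7 : List (ℕ × List (ℕ × List ℕ × ℕ × ℕ)) :=
  [(125, [(0, [4, 3, 2, 1, 3, 4, 5, 0, 2, 3, 4, 1, 3, 2, 0], 5, 6), (32, [4, 3, 2, 1, 3, 4, 5, 6, 0, 2, 3, 4, 5, 1, 3, 4, 2, 3, 0, 2], 5, 6), (92, [3, 4, 5, 6, 0, 2, 3, 4, 5, 1, 3, 4, 2, 3, 0, 2, 1, 3, 4, 5, 1, 3, 2, 0], 1, 2), (124, [4, 3, 2, 1, 3, 4, 5, 6, 0, 2, 3, 4, 5, 1, 3, 4, 2, 3, 0, 2], 5, 6), (125, [4, 3, 2, 1, 3, 4, 5, 0, 2, 3, 4, 1, 3, 2, 0], 5, 6)])]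

theorem redE7 : redOK W0E7.tabE7 126 7 datE7 = true := by decide +kernel

theorem finE7 : finOK chevE7 W0E7.tabE7 datE7 = true := by decide +kernel

theorem pairE7 : PairRed chevE7 :=
  pairRed_of (T := W0E7.tabE7) (dat := datE7) W0E7.tabE7_ok W0E7.rangeE7 redE7 finE7

/-! ### Type E8 -/

/-- certificate of the pair reduction for type E8 -/
def datE8 : List (ℕ × List (ℕ × List ℕ × ℕ × ℕ)) :=
  [(239, [(0, [5, 4, 3, 2, 1, 3, 4, 5, 6, 0, 2, 3, 4, 5, 1, 3, 4, 2, 3, 0, 2, 1, 3, 4, 5, 6, 7], 6, 7), (119, [5, 4, 3, 2, 1, 3, 4, 5, 6, 0, 2, 3, 4, 5, 1, 3, 4, 2, 3, 0, 2, 1, 3, 4, 5, 6, 7, 6, 5, 4, 3, 2, 1, 3, 4, 5, 6], 6, 7), (226, [3, 4, 5, 6, 7, 1, 3, 4, 5, 6, 0, 2, 3, 4, 5, 1, 3, 4, 2, 3, 0, 2, 1, 3, 4, 5, 6, 7, 5, 4, 3, 2, 1, 3, 4, 5, 0, 2, 3, 4, 1, 3, 2, 0], 1, 2), (238, [5, 4, 3, 2, 1, 3, 4, 5, 6, 0, 2, 3, 4, 5, 1, 3, 4, 2, 3, 0, 2, 1, 3, 4, 5, 6, 7, 6, 5, 4, 3, 2, 1, 3, 4, 5, 6], 6, 7), (239, [5, 4, 3, 2, 1, 3, 4, 5, 6, 0, 2, 3, 4, 5,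 1, 3, 4, 2, 3, 0, 2, 1, 3, 4, 5, 6, 7], 6, 7)])]

theorem redE8 : redOK W0E8.tabE8 240 8 datE8 = true := by decide +kernel

theorem finE8 : finOK chevE8 W0E8.tabE8 datE8 = true := by decide +kernel

theorem pairE8 : PairRed chevE8 :=
  pairRed_of (T := W0E8.tabE8) (dat := datE8) W0E8.tabE8_ok W0E8.rangeE8 redE8 finE8

/-- Any two roots of a tabulated datum are moved into a common standard rank two subsystem by a word in the
simple reflections. -/
theorem pair_reduction {D : ChevalleyDatum}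
    (hD : D ∈ [chevG2, chevB2, chevD4, chevF4, chevE6, chevE7, chevE8]) {r s : ℕ} (hr : r < D.nroots)
    (hs : s < D.nroots) : ∃ w : List ℕ, (∀ i ∈ w, i < D.rank) ∧
      ∃ i j : ℕ, D.InRankTwoSub i j (act D w r) ∧ D.InRankTwoSub i j (act D w s) := by
  simp only [List.mem_cons, List.not_mem_nil, or_false] at hD
  rcases hD with rfl | rfl | rfl | rfl | rfl | rfl | rfl
  · exact pairG2 r hr s hs
  · exact pairB2 r hr s hs
  · exact pairD4 r hr s hs
  · exact pairF4 r hr s hs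
  · exact pairE6 r hr s hs
  · exact pairE7 r hr s hs
  · exact pairE8 r hr s hs

end Cfsg.Agent.ChevalleyStructure.PairReduction
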