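import Cfsg.Agent.ChevalleyStructure.W0Main
import Cfsg.Agent.S1025
import Cfsg.Agent.S1032
import Cfsg.Agent.ChevalleyStructure.OrbitWords

/-!
# Root elements in the derived subgroup of a Chevalley group

Conditional on S1023, S1024, S1025, S1031 and S1032.
-/

set_option autoImplicit false

namespace Cfsg.Agent.ChevalleyStructure.Perfect

open Cfsg.Lie
open Cfsg.Agent.ChevalleyStructure.W0Core
open Cfsg.Agent.ChevalleyStructure.W0Main
open Cfsg.Agent.ChevalleyStructure.WeylConj
open Cfsg.Agent.ChevalleyStructure.Elts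
open Cfsg.Agent.ChevalleyStructure.OrbitWords
open scoped commutatorElement

universe u

variable {F : Type u} [Field F] {D : ChevalleyDatum}

/-- All root elements for the root `s` lie in the derived subgroup of the Chevalley group. -/
def InDer (hD : InList D) (F : Type u) [Field F] (s : ℕ) : Prop :=
  ∀ t : F, xG hD s t ∈ (⁅D.group F, D.group F⁆ : Subgroup (GL D.Idx F))

theorem conj_mem {g k : GL D.Idx F} (hg : g ∈ D.group F)
    (hk : k ∈ (⁅D.group F, D.group F⁆ : Subgroup (GL D.Idx F))) :
    g * k * g⁻¹ ∈ (⁅D.group F, D.group F⁆ : Subgroup (GL D.Idx F)) := by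
  have h1 : k ∈ D.group F := Subgroup.commutator_le_self _ hk
  have h2 : g * k * g⁻¹ = ⁅g, k⁆ * k := by
    rw [commutatorElement_def]; group
  rw [h2]
  exact Subgroup.mul_mem _ (Subgroup.commutator_mem_commutator hg h1) hk

theorem commutator_mem (hD : InList D) (r s : ℕ) (t u : F) :
    ⁅xG hD r t, xG hD s u⁆ ∈ (⁅D.group F, D.group F⁆ : Subgroup (GL D.Idx F)) :=
  Subgroup.commutator_mem_commutator (xG_mem_group hD r t) (xG_mem_group hD s u)

/-- The commutator formula puts the word of its right-hand side into the derived subgroup. -/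
theorem commWord_mem (hD : InList D) {r s : ℕ} (hr : r < D.nroots) (hs : s < D.nroots) (hrs : s ≠ r)
    (hneg : s ≠ D.neg r) (t u : F) :
    wordG hD (D.commWord F r s t u) ∈ (⁅D.group F, D.group F⁆ : Subgroup (GL D.Idx F)) := by
  have h := Cfsg.Agent.S1025.result (F := F) D hD r s hr hs hrs hneg t u
  have h' : xG hD s u * xG hD r t = xG hD r t * xG hD s u * wordG hD (D.commWord F r s t u) := by
    apply Units.ext
    rw [Units.val_mul, Units.val_mul, Units.val_mul, coe_wordG]
    exact h
  have h'' : wordG hD (D.commWord F r s t u) = ⁅(xG hD s u)⁻¹, (xG hD r t)⁻¹⁆ := by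
    rw [commutatorElement_def, inv_inv, inv_inv, mul_assoc _ (xG hD s u) (xG hD r t), h']
    group
  rw [h'']
  exact Subgroup.commutator_mem_commutator (inv_mem (xG_mem_group hD _ _)) (inv_mem (xG_mem_group hD _ _))

theorem inDer_of_single (hD : InList D) (F : Type u) [Field F] {r s k : ℕ} {c : ℤ} (hc : c * c = 1)
    (hr : r < D.nroots) (hs : s < D.nroots) (hrs : s ≠ r)
    (hneg : s ≠ D.neg r) (h : D.commTerms r s = [(k, c, 1, 1)]) : InDer hD F k := by
  intro v
  have h1 := commWord_mem hD hr hs hrs hneg (-((c : F) * v)) (1 : F)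
  have h2 : D.commWord F r s (-((c : F) * v)) 1 = [(k, v)] := by
    show (D.commTerms r s).map _ = _
    rw [h]
    simp only [List.map_cons, List.map_nil, neg_neg, pow_one, mul_one]
    rw [← mul_assoc, ← Int.cast_mul, hc, Int.cast_one, one_mul]
  rw [h2, wordG_cons, wordG_nil, mul_one] at h1
  exact h1

/-- Two terms, the first one already known to be in the derived subgroup. -/
theorem inDer_of_double (hD : InList D) (F : Type u) [Field F] {r s k l : ℕ} {c d : ℤ} (hd : d * d = 1)
    (hr : r < D.nroots) (hs : s < D.nroots) (hrs : s ≠ r)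
    (hneg : s ≠ D.neg r) (h : D.commTerms r s = [(k, c, 1, 1), (l, d, 2, 1)]) (hk : InDer hD F k) :
    InDer hD F l := by
  intro v
  have h1 := commWord_mem hD hr hs hrs hneg (1 : F) ((d : F) * v)
  have h2 : D.commWord F r s 1 ((d : F) * v) = [(k, (c : F) * (-1) ^ 1 * ((d : F) * v) ^ 1), (l, v)] := by
    show (D.commTerms r s).map _ = _
    rw [h]
    simp only [List.map_cons, List.map_nil]
    rw [pow_one ((d : F) * v), neg_one_sq, mul_one (d : F), ← mul_assoc (d : F), ← Int.cast_mul, hd,
      Int.cast_one, one_mul]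
  rw [h2, wordG_cons, wordG_cons, wordG_nil, mul_one] at h1
  exact (Subgroup.mul_mem_cancel_left _ (hk _)).1 h1

/-- Root elements on which some `h_p(c)` acts with a factor `≠ 1` are commutators. -/
theorem inDer_of_torus (hD : InList D) (F : Type u) [Field F] {i s : ℕ} (hi : i < D.rank) (hs : s < D.nroots)
    {c : F} (hc : c ≠ 0) (h : c ^ (D.cartan i s) ≠ 1) : InDer hD F s := by
  intro v
  have h0 : c ^ (D.cartan i s) - 1 ≠ 0 := sub_ne_zero.2 h
  set w : F := v / (c ^ (D.cartan i s) - 1) with hw
  have h1 := Cfsg.Agent.S1032.result (F := F) D hD i s hi hs c hc w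
  have h2 : hG hD (D.simple i) c * xG hD s w = xG hD s (c ^ (D.cartan i s) * w) * hG hD (D.simple i) c := by
    apply Units.ext
    rw [Units.val_mul, Units.val_mul, coe_hG]
    exact h1
  have h3 : xG hD s v = ⁅hG hD (D.simple i) c, xG hD s w⁆ := by
    rw [commutatorElement_def, h2, mul_inv_cancel_right, xG_inv, xG_add]
    congr 1
    rw [hw]
    field_simp
    ring
  rw [h3]
  exact Subgroup.commutator_mem_commutator (hG_mem_group hD _ _) (xG_mem_group hD _ _)

theorem inDer_actW (hD : InList D) (F : Type u) [Field F]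
    (hlt : ∀ i < D.rank, ∀ s < D.nroots, D.reflectRoot i s < D.nroots)
    {w : List ℕ} (hw : ∀ i ∈ w, i < D.rank) {s : ℕ} (hs : s < D.nroots) (h : InDer hD F s) :
    InDer hD F (actW D w s) := by
  obtain ⟨-, η, hη, h2⟩ := nW_conj hD F hlt w hw hs
  intro t
  have h3 : xG hD (actW D w s) t = nW hD F w * xG hD s ((η : F) * t) * (nW hD F w)⁻¹ := by
    rw [h2, ← mul_assoc]
    rcases hη with rfl | rfl <;> simp
  rw [h3]
  refine conj_mem ?_ (h _)
  clear h2 h3
  induction w with
  | nil => exact Subgroup.one_mem _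
  | cons i w ih =>
    rw [nW_cons]
    exact Subgroup.mul_mem _ (nG_mem_group hD _ _) (ih fun j hj => hw j (List.mem_cons_of_mem _ hj))

theorem commutator_eq_top_of_tables (hD : InList D) (F : Type u) [Field F]
    (T : ℕ → ℕ)
    (hT : ∀ i < D.rank, ∀ s < D.nroots, D.reflectRoot i s = look (T i) s)
    (hR : ∀ i < D.rank, rangeOK (T i) D.nroots = true)
    (st : List ℕ) (ws : List (ℕ × List ℕ)) (ho : orbitOK T st ws D.rank D.nroots = true)
    (hst : ∀ s ∈ st, InDer hD F s) :
    commutator ↥(D.group F) = ⊤ := by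
  have hlt : ∀ i < D.rank, ∀ s < D.nroots, D.reflectRoot i s < D.nroots := by
    intro i hi s hs
    rw [hT i hi s hs]
    exact rangeOK_spec (hR i hi) hs
  rw [orbitOK, Bool.and_eq_true, Bool.and_eq_true] at ho
  obtain ⟨⟨h1, h2⟩, h3⟩ := ho
  have key : D.group F ≤ ⁅D.group F, D.group F⁆ := by
    rw [group_le_iff hD]
    intro r hr
    have h4 : r ∈ ws.map fun w => actT T w.2 w.1 := by
      rw [eq_of_beq h3]
      exact List.mem_range.2 hr
    obtain ⟨w, hw, h6⟩ := List.mem_map.1 h4
    have h5 := List.all_eq_true.1 h2 w hw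
    rw [Bool.and_eq_true] at h5
    obtain ⟨s, hs, h8⟩ := List.any_eq_true.1 h5.1
    have h9 : w.1 = s := Nat.eq_of_beq_eq_true h8
    have hs' : w.1 < D.nroots := by
      have := List.all_eq_true.1 h1 s hs
      rwa [Nat.blt_eq, ← h9] at this
    have hw' : ∀ i ∈ w.2, i < D.rank := by
      intro i hi
      have := List.all_eq_true.1 h5.2 i hi
      rwa [Nat.blt_eq] at this
    have h7 : actW D w.2 w.1 = r := ((actW_eq hT hR w.2 hw' hs').1).trans h6
    rw [← h7]
    exact inDer_actW hD F hlt hw' hs' (h9 ▸ hst s hs)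
  rw [eq_top_iff]
  intro g _
  have hg : (g : GL D.Idx F) ∈ (⁅D.group F, D.group F⁆ : Subgroup (GL D.Idx F)) := key g.2
  rw [← Subgroup.map_subtype_commutator] at hg
  obtain ⟨g', hg', h⟩ := hg
  have : g' = g := Subtype.ext h
  rwa [← this]

end Cfsg.Agent.ChevalleyStructure.Perfect
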