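/-
A criterion for a (B,N)-pair of rank one.
-/
import Cfsg.Prelude.Def_LieExceptional

set_option autoImplicit false

namespace Cfsg.Agent.ChevalleyStructure.RankOneBN

open scoped Pointwise

variable {G : Type*} [Group G]

/-- If `G = B ∪ B n B` with `n ∈ N`, `n² ∈ B`, `n ∉ B`, `N = (B ∩ N) ∪ (B ∩ N) n`, `n (B ∩ N) n⁻¹ ≤ B` and
`n B n ⊄ B`, then `B` and `N` form a (B,N)-pair. -/
theorem exists_bnPair (B N : Subgroup G) (n : G) (hn : n ∈ N) (hnn : n * n ∈ B) (hnB : n ∉ B)
    (hG : ∀ g : G, g ∈ B ∨ ∃ b ∈ B, ∃ b' ∈ B, g = b * n * b')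
    (hN : ∀ g ∈ N, g ∈ B ∨ ∃ t ∈ B ⊓ N, g = t * n)
    (hc : ∀ t ∈ B ⊓ N, n * t * n⁻¹ ∈ B)
    (hne : ∃ b ∈ B, n * b * n ∉ B) :
    ∃ P : BNPair G, P.B = B ∧ P.N = N := by
  refine ⟨{ B := B, N := N, S := {n}, sup_eq_top := ?_, conj_mem := ?_, subset := ?_, sq_mem := ?_, inj := ?_,
            closure_sup := ?_, mul_mem_union := ?_, conj_ne := ?_ }, rfl, rfl⟩
  · rw [eq_top_iff]
    intro g _
    rcases hG g with h | ⟨b, hb, b', hb', rfl⟩
    · exact Subgroup.mem_sup_left h
    · exact mul_mem (mul_mem (Subgroup.mem_sup_left hb) (Subgroup.mem_sup_right hn)) (Subgroup.mem_sup_left hb')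
  · intro m hm t ht
    rcases hN m hm with h | ⟨t', ht', rfl⟩
    · exact mul_mem (mul_mem h ht.1) (inv_mem h)
    · have : t' * n * t * (t' * n)⁻¹ = t' * (n * t * n⁻¹) * t'⁻¹ := by group
      rw [this]
      exact mul_mem (mul_mem ht'.1 (hc t ht)) (inv_mem ht'.1)
  · intro s hs
    rw [Set.mem_singleton_iff] at hs
    rw [hs]; exact hn
  · intro s hs
    rw [Set.mem_singleton_iff] at hs
    rw [hs]; exact hnn
  · intro s hs s' hs' _
    rw [Set.mem_singleton_iff] at hs hs'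
    rw [hs, hs']
  · apply le_antisymm
    · refine sup_le ((Subgroup.closure_le _).2 ?_) inf_le_right
      intro s hs
      rw [Set.mem_singleton_iff] at hs
      rw [hs]; exact hn
    · intro g hg
      rcases hN g hg with h | ⟨t, ht, rfl⟩
      · exact Subgroup.mem_sup_right ⟨h, hg⟩
      · exact mul_mem (Subgroup.mem_sup_right ht) (Subgroup.mem_sup_left (Subgroup.subset_closure rfl))
  · intro s hs m hm b hb
    rw [Set.mem_singleton_iff] at hs
    subst hs
    rw [Set.mem_union, DoubleCoset.mem_doubleCoset, DoubleCoset.mem_doubleCoset]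
    rcases hN m hm with h | ⟨t, ht, rfl⟩
    · exact Or.inl ⟨1, one_mem B, m⁻¹ * b * m, mul_mem (mul_mem (inv_mem h) hb) h, by group⟩
    · rcases hG (s * b * (t * s)) with h | ⟨c, hc1, c', hc2, h⟩
      · refine Or.inl ⟨s * b * (t * s) * (s * (t * s))⁻¹, ?_, 1, one_mem B, by group⟩
        have h1 : s * (t * s) ∈ B := by
          have : s * (t * s) = (s * t * s⁻¹) * (s * s) := by group
          rw [this]
          exact mul_mem (hc t ht) hnn
        exact mul_mem h (inv_mem h1)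
      · refine Or.inr ⟨c * t⁻¹, mul_mem hc1 (inv_mem ht.1), c', hc2, ?_⟩
        rw [h]; group
  · intro s hs h
    rw [Set.mem_singleton_iff] at hs
    subst hs
    obtain ⟨b, hb, hb'⟩ := hne
    apply hb'
    have : s * b * s ∈ (fun b : G => s * b * s) '' (B : Set G) := ⟨b, hb, rfl⟩
    rw [h] at this
    exact this

end Cfsg.Agent.ChevalleyStructure.RankOneBN
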