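import Cfsg.Agent.ChevalleyStructure.Elts
import Cfsg.Prelude.Def_LieExceptional
import Cfsg.Agent.S1033
import Cfsg.Agent.S1034
import Cfsg.Agent.S1095

/-!
Irreducibility of the (B,N)-pair of the Chevalley groups of types G₂ and B₂: the commutator of the two
elements `n_p` is not in `B`, because it moves the line of the highest root vector.
-/

set_option autoImplicit false

namespace Cfsg.Agent.ChevalleyStructure.RankTwoIrred

open Cfsg Cfsg.Lie Cfsg.Agent.ChevalleyStructure.Elts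

variable {F : Type*} [Field F]

/-- the basis vector `e_s` -/
def ev (D : ChevalleyDatum) (F : Type*) [Field F] (s : Fin D.nroots) : D.Idx → F := Pi.single (Sum.inr s) 1

theorem ev_ne_zero (D : ChevalleyDatum) (s : Fin D.nroots) : ev D F s ≠ 0 := by
  intro h
  have := congrFun h (Sum.inr s)
  simp [ev] at this

theorem ev_apply_self (D : ChevalleyDatum) (s : Fin D.nroots) : ev D F s (Sum.inr s) = 1 := by
  simp [ev]

theorem ev_apply_ne (D : ChevalleyDatum) {s u : Fin D.nroots} (h : u ≠ s) : ev D F s (Sum.inr u) = 0 := by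
  simp [ev, h]

theorem mulVec_ev (D : ChevalleyDatum) (M : Matrix D.Idx D.Idx F) (s : Fin D.nroots) :
    M.mulVec (ev D F s) = fun row => M row (Sum.inr s) := by
  funext row
  simp [ev]

/-- The elements of `GL` that stabilise the line of `v`. -/
def lineStab (D : ChevalleyDatum) (v : D.Idx → F) : Subgroup (GL D.Idx F) where
  carrier := {g | ∃ c : F, c ≠ 0 ∧ (g : Matrix D.Idx D.Idx F).mulVec v = c • v}
  one_mem' := ⟨1, one_ne_zero, by simp⟩
  mul_mem' := by
    rintro a b ⟨c, hc, ha⟩ ⟨d, hd, hb⟩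
    refine ⟨d * c, mul_ne_zero hd hc, ?_⟩
    rw [Units.val_mul, ← Matrix.mulVec_mulVec, hb, Matrix.mulVec_smul, ha, smul_smul]
  inv_mem' := by
    rintro a ⟨c, hc, ha⟩
    refine ⟨c⁻¹, inv_ne_zero hc, ?_⟩
    have h1 : (↑(a⁻¹) : Matrix D.Idx D.Idx F).mulVec ((a : Matrix D.Idx D.Idx F).mulVec v) = v := by
      rw [Matrix.mulVec_mulVec, ← Units.val_mul, inv_mul_cancel, Units.val_one, Matrix.one_mulVec]
    rw [ha, Matrix.mulVec_smul] at h1
    calc (↑(a⁻¹) : Matrix D.Idx D.Idx F).mulVec v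
        = c⁻¹ • (c • (↑(a⁻¹) : Matrix D.Idx D.Idx F).mulVec v) := by
          rw [smul_smul, inv_mul_cancel₀ hc, one_smul]
      _ = c⁻¹ • v := by rw [h1]

theorem mem_lineStab (D : ChevalleyDatum) (v : D.Idx → F) (g : GL D.Idx F) :
    g ∈ lineStab D v ↔ ∃ c : F, c ≠ 0 ∧ (g : Matrix D.Idx D.Idx F).mulVec v = c • v := Iff.rfl

theorem hG_simple_mem (D : ChevalleyDatum) (hD : InList D) (s : Fin D.nroots) (i : ℕ) (hi : i < D.rank)
    (c : F) (hc : c ≠ 0) : hG hD (D.simple i) c ∈ lineStab D (ev D F s) := by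
  refine ⟨c ^ (D.cartan i s), zpow_ne_zero _ hc, ?_⟩
  rw [coe_hG, Cfsg.Agent.S1033.result D hD i hi c hc]
  funext row
  rw [Matrix.mulVec_diagonal]
  by_cases h : row = Sum.inr s
  · subst h
    simp [ev]
  · simp [ev, h]

theorem diagonal_le (D : ChevalleyDatum) (hD : InList D) (s : Fin D.nroots) :
    D.diagonalSubgroup F ≤ lineStab D (ev D F s) := by
  intro g hg
  obtain ⟨c, hc, hgc⟩ := Cfsg.Agent.S1034.result D hD g hg
  have hg' : g = wordG hD ((List.range D.rank).flatMap fun i => D.hWord (D.simple i) (c i)) :=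
    (eq_wordG_iff hD g _).2 hgc
  rw [hg']
  have key : ∀ l : List ℕ, (∀ i ∈ l, i < D.rank) →
      wordG hD (l.flatMap fun i => D.hWord (D.simple i) (c i)) ∈ lineStab D (ev D F s) := by
    intro l
    induction l with
    | nil => intro _; exact Subgroup.one_mem _
    | cons i l ih =>
      intro hl
      rw [List.flatMap_cons, wordG_append]
      refine Subgroup.mul_mem _ ?_ (ih fun j hj => hl j (List.mem_cons_of_mem _ hj))
      exact hG_simple_mem D hD s i (hl i List.mem_cons_self) (c i) (hc i (hl i List.mem_cons_self))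
  exact key _ (fun i hi => List.mem_range.1 hi)

/-- `B` stabilises the line of `e_s` if no positive root element moves `e_s`. -/
theorem borel_le (D : ChevalleyDatum) (hD : InList D) (s : Fin D.nroots)
    (hneg : ∀ r : Fin D.nroots, D.IsPosRoot r → s.val ≠ D.negIdx.getD r.val 0)
    (hchain : ∀ r : Fin D.nroots, D.IsPosRoot r → ∀ u : Fin D.nroots, D.chainCoeff r.val s.val u.val = []) :
    D.borelSubgroup F ≤ lineStab D (ev D F s) := by
  refine sup_le ?_ (diagonal_le D hD s)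
  rw [posUnipotent_le_iff hD]
  intro r hr t
  refine ⟨1, one_ne_zero, ?_⟩
  rw [coe_xG, x_of_lt hr.1, mulVec_ev, one_smul]
  funext row
  have h1 := hneg ⟨r, hr.1⟩ hr
  have h2 := hchain ⟨r, hr.1⟩ hr
  simp only at h1 h2
  simp only [ChevalleyDatum.xMat, Matrix.of_apply]
  by_cases hsr : s = ⟨r, hr.1⟩
  · rw [if_pos hsr]
    subst hsr
    rcases row with i | u
    · simp [ev]
    · by_cases hu : u = ⟨r, hr.1⟩
      · simp [ev, hu]
      · simp [ev, hu]
  · rw [if_neg hsr, if_neg h1]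
    rcases row with i | u
    · simp [ev]
    · by_cases hu : u = s
      · simp [ev, hu, h2]
      · simp [ev, hu, h2]

/-- `n_p e_s = ± e_{w_p s}` -/
theorem nG_mulVec (D : ChevalleyDatum) (hD : InList D) (i : ℕ) (hi : i < D.rank) (s u : Fin D.nroots)
    (hu : D.reflectRoot i s = u) :
    ∃ c : F, c ≠ 0 ∧ ((nG hD (D.simple i) (1 : F) : GL D.Idx F) : Matrix D.Idx D.Idx F).mulVec (ev D F s) =
      c • ev D F u := by
  obtain ⟨η, h1, -, -, -, hm⟩ := Cfsg.Agent.S1095.result (F := F) D hD i hi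
  refine ⟨((η s : ℤ) : F), ?_, ?_⟩
  · rcases h1 s s.2 with h | h <;> rw [h] <;> simp
  · rw [coe_nG, hm, mulVec_ev]
    funext row
    rcases row with j | v
    · simp [ev]
    · by_cases hv : v = u
      · subst hv
        simp [ev, hu]
      · have hv' : ¬ ((v : ℕ) = D.reflectRoot i s) := by
          rw [hu]
          exact fun h => hv (Fin.ext h)
        simp [ev, hv, hv']

/-- the commutator of two `n_p` is not in `B` -/
theorem comm_not_mem (D : ChevalleyDatum) (hD : InList D) (s : Fin D.nroots)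
    (hneg : ∀ r : Fin D.nroots, D.IsPosRoot r → s.val ≠ D.negIdx.getD r.val 0)
    (hchain : ∀ r : Fin D.nroots, D.IsPosRoot r → ∀ u : Fin D.nroots, D.chainCoeff r.val s.val u.val = [])
    (i j : ℕ) (hi : i < D.rank) (hj : j < D.rank) (a b c d : Fin D.nroots)
    (h1 : D.reflectRoot i a = b) (h2 : D.reflectRoot j b = s) (h3 : D.reflectRoot j a = c)
    (h4 : D.reflectRoot i c = d) (hds : d ≠ s) :
    nG hD (D.simple i) (1 : F) * nG hD (D.simple j) (1 : F) * (nG hD (D.simple i) (1 : F))⁻¹ *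
      (nG hD (D.simple j) (1 : F))⁻¹ ∉ D.borelSubgroup F := by
  intro hB
  obtain ⟨k, hk, hk'⟩ := borel_le D hD s hneg hchain hB
  obtain ⟨k1, hk1, hk1'⟩ := nG_mulVec (F := F) D hD i hi a b h1
  obtain ⟨k2, hk2, hk2'⟩ := nG_mulVec (F := F) D hD j hj b s h2
  obtain ⟨k3, hk3, hk3'⟩ := nG_mulVec (F := F) D hD j hj a c h3
  obtain ⟨k4, hk4, hk4'⟩ := nG_mulVec (F := F) D hD i hi c d h4
  set x := nG hD (D.simple i) (1 : F)
  set y := nG hD (D.simple j) (1 : F)
  have e1 : x * y = (x * y * x⁻¹ * y⁻¹) * (y * x) := by group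
  have e2 : (((x * y : GL D.Idx F) : Matrix D.Idx D.Idx F)).mulVec (ev D F a) = (k3 * k4) • ev D F d := by
    rw [Units.val_mul, ← Matrix.mulVec_mulVec, hk3', Matrix.mulVec_smul, hk4', smul_smul]
  have e3 : (((x * y : GL D.Idx F) : Matrix D.Idx D.Idx F)).mulVec (ev D F a) =
      (k1 * k2 * k) • ev D F s := by
    rw [e1, Units.val_mul, Units.val_mul y x, ← Matrix.mulVec_mulVec, ← Matrix.mulVec_mulVec, hk1',
      Matrix.mulVec_smul, hk2', Matrix.mulVec_smul, Matrix.mulVec_smul, hk', smul_smul, smul_smul]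
  rw [e2] at e3
  have e4 := congrFun e3 (Sum.inr s)
  rw [Pi.smul_apply, Pi.smul_apply, ev_apply_self, ev_apply_ne D hds.symm] at e4
  simp only [smul_eq_mul, mul_zero, mul_one] at e4
  exact mul_ne_zero (mul_ne_zero hk1 hk2) hk e4.symm

/-- irreducibility in rank two -/
theorem irreducible (D : ChevalleyDatum) (hD : InList D) (hrk : D.rank = 2)
    (h01 : nG hD (D.simple 0) (1 : F) * nG hD (D.simple 1) (1 : F) * (nG hD (D.simple 0) (1 : F))⁻¹ *
      (nG hD (D.simple 1) (1 : F))⁻¹ ∉ D.borelSubgroup F)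
    (h10 : nG hD (D.simple 1) (1 : F) * nG hD (D.simple 0) (1 : F) * (nG hD (D.simple 1) (1 : F))⁻¹ *
      (nG hD (D.simple 0) (1 : F))⁻¹ ∉ D.borelSubgroup F)
    (P : Cfsg.BNPair ↥(D.group F))
    (hB : P.B = (D.borelSubgroup F).subgroupOf (D.group F))
    (hS : P.S = {n : ↥(D.group F) | ∃ i < D.rank,
        ((n : GL D.Idx F) : Matrix D.Idx D.Idx F) = D.nMat F (D.simple i) 1}) : P.Irreducible := by
  intro J hJ hJ1 hJ2
  obtain ⟨x, hx⟩ := hJ1
  obtain ⟨y, hy⟩ := hJ2
  refine ⟨x, hx, y, hy, ?_⟩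
  have hxS := hJ hx
  have hyS := hy.1
  rw [hS] at hxS hyS
  obtain ⟨i, hi, hxi⟩ := hxS
  obtain ⟨j, hj, hyj⟩ := hyS
  have hxi' : (x : GL D.Idx F) = nG hD (D.simple i) 1 := (eq_nG_iff hD _ _ _).2 hxi
  have hyj' : (y : GL D.Idx F) = nG hD (D.simple j) 1 := (eq_nG_iff hD _ _ _).2 hyj
  have hij : i ≠ j := by
    rintro rfl
    apply hy.2
    have : x = y := Subtype.ext (hxi'.trans hyj'.symm)
    rwa [← this]
  intro hmem
  rw [hB, Subgroup.mem_subgroupOf] at hmem
  simp only [Subgroup.coe_mul, Subgroup.coe_inv, hxi', hyj'] at hmem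
  rw [hrk] at hi hj
  have : (i = 0 ∧ j = 1) ∨ (i = 1 ∧ j = 0) := by omega
  rcases this with ⟨rfl, rfl⟩ | ⟨rfl, rfl⟩
  · exact h01 hmem
  · exact h10 hmem

end Cfsg.Agent.ChevalleyStructure.RankTwoIrred
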