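/-
²G₂(q), q = 3^(2m+1): the elements of the twisted group satisfy the "fixed point" condition
θ(block on L/I) = (block on I), where I is the ideal spanned by the short roots in characteristic 3.
-/
import Cfsg.Agent.ChevalleyStructure.WordEntry
import Cfsg.Prelude.Def_LieTwisted
import Cfsg.Prelude.Def_ChevStructure

set_option autoImplicit false

namespace Cfsg.Agent.ChevalleyStructure.ReeFixed

open Cfsg.Lie Cfsg.Agent.ChevalleyStructure.WordCheck Cfsg.Agent.ChevalleyStructure.WordEntry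

/-- the coordinates of the ideal I spanned by h₁ and the short root vectors:
h₁, −2a−b, −a−b, −a, a, a+b, 2a+b -/
def sh : Fin 7 → chevG2.Idx :=
  ![Sum.inl (0 : Fin 2), Sum.inr (2 : Fin 12), Sum.inr (3 : Fin 12), Sum.inr (4 : Fin 12),
    Sum.inr (7 : Fin 12), Sum.inr (8 : Fin 12), Sum.inr (9 : Fin 12)]

/-- the corresponding coordinates outside I: h₂, −3a−2b, −3a−b, −b, b, 3a+b, 3a+2b -/
def lg : Fin 7 → chevG2.Idx :=
  ![Sum.inl (1 : Fin 2), Sum.inr (0 : Fin 12), Sum.inr (1 : Fin 12), Sum.inr (5 : Fin 12),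
    Sum.inr (6 : Fin 12), Sum.inr (10 : Fin 12), Sum.inr (11 : Fin 12)]

theorem bij : Function.Bijective (Sum.elim sh lg) := by
  constructor
  · decide
  · decide

/-- all coordinates are those of I and the others -/
noncomputable def idxEquiv : Fin 7 ⊕ Fin 7 ≃ chevG2.Idx := Equiv.ofBijective _ bij

section
variable {K : Type*} [Field K]

theorem sum_idx (f : chevG2.Idx → K) : ∑ k, f k = ∑ k, f (sh k) + ∑ k, f (lg k) := by
  rw [← Equiv.sum_comp idxEquiv, Fintype.sum_sum_type]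
  rfl

/-- `M` and `N` preserve I and the block of `M` on L/I is the block of `N` on I -/
def Rel (M N : Matrix chevG2.Idx chevG2.Idx K) : Prop :=
  (∀ i j, M (lg i) (sh j) = 0) ∧ (∀ i j, N (lg i) (sh j) = 0) ∧ ∀ i j, M (lg i) (lg j) = N (sh i) (sh j)

/-- `M` preserves I and applying `θ` to the block on L/I gives the block on I -/
def Fixed (θ : K →+* K) (M : Matrix chevG2.Idx chevG2.Idx K) : Prop :=
  (∀ i j, M (lg i) (sh j) = 0) ∧ ∀ i j, θ (M (lg i) (lg j)) = M (sh i) (sh j)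

theorem sh_ne_lg (i j : Fin 7) : sh i ≠ lg j := by revert i j; decide

theorem sh_inj (i j : Fin 7) : sh i = sh j ↔ i = j := by revert i j; decide

theorem lg_inj (i j : Fin 7) : lg i = lg j ↔ i = j := by revert i j; decide

theorem Rel.one : Rel (1 : Matrix chevG2.Idx chevG2.Idx K) 1 := by
  refine ⟨fun i j => ?_, fun i j => ?_, fun i j => ?_⟩
  · rw [Matrix.one_apply, if_neg (sh_ne_lg j i).symm]
  · rw [Matrix.one_apply, if_neg (sh_ne_lg j i).symm]
  · rw [Matrix.one_apply, Matrix.one_apply, if_congr (lg_inj i j) rfl rfl, if_congr (sh_inj i j) rfl rfl]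

theorem Rel.mul {M N M' N' : Matrix chevG2.Idx chevG2.Idx K} (h : Rel M N) (h' : Rel M' N') :
    Rel (M * M') (N * N') := by
  refine ⟨fun i j => ?_, fun i j => ?_, fun i j => ?_⟩
  · rw [Matrix.mul_apply, sum_idx]
    simp only [h.1, h'.1, zero_mul, mul_zero, Finset.sum_const_zero, add_zero]
  · rw [Matrix.mul_apply, sum_idx]
    simp only [h.2.1, h'.2.1, zero_mul, mul_zero, Finset.sum_const_zero, add_zero]
  · rw [Matrix.mul_apply, Matrix.mul_apply, sum_idx, sum_idx]
    simp only [h.1, h'.2.1, zero_mul, mul_zero, Finset.sum_const_zero, add_zero, zero_add]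
    exact Finset.sum_congr rfl fun k _ => by rw [h.2.2, h'.2.2]

theorem Fixed.one (θ : K →+* K) : Fixed θ (1 : Matrix chevG2.Idx chevG2.Idx K) := by
  refine ⟨fun i j => ?_, fun i j => ?_⟩
  · rw [Matrix.one_apply, if_neg (sh_ne_lg j i).symm]
  · rw [Matrix.one_apply, Matrix.one_apply, if_congr (lg_inj i j) rfl rfl, if_congr (sh_inj i j) rfl rfl]
    split <;> simp

theorem Fixed.mul {θ : K →+* K} {M M' : Matrix chevG2.Idx chevG2.Idx K} (h : Fixed θ M) (h' : Fixed θ M') :
    Fixed θ (M * M') := by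
  refine ⟨fun i j => ?_, fun i j => ?_⟩
  · rw [Matrix.mul_apply, sum_idx]
    simp only [h.1, h'.1, zero_mul, mul_zero, Finset.sum_const_zero, add_zero]
  · rw [Matrix.mul_apply, Matrix.mul_apply, sum_idx, sum_idx]
    simp only [h.1, h'.1, zero_mul, mul_zero, Finset.sum_const_zero, add_zero, zero_add, map_sum, map_mul]
    exact Finset.sum_congr rfl fun k _ => by rw [h.2, h'.2]

/-- the bar map on roots -/
def rbar (r : ℕ) : ℕ := [2, 3, 0, 1, 5, 4, 7, 6, 10, 11, 8, 9].getD r 0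

/-- 3 for short roots, 1 for long roots -/
def lam (r : ℕ) : ℕ := [1, 1, 3, 3, 3, 1, 1, 3, 3, 3, 1, 1].getD r 0

/-- the codes of the coordinates in I -/
def shc : List ℕ := [0, 4, 5, 6, 9, 10, 11]

/-- the codes of the corresponding coordinates outside I -/
def lgc : List ℕ := [1, 2, 3, 7, 8, 12, 13]

theorem code_sh (i : Fin 7) : code chevG2 (sh i) = shc.getD i.val 0 := by revert i; decide

theorem code_lg (i : Fin 7) : code chevG2 (lg i) = lgc.getD i.val 0 := by revert i; decide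

/-- check of the base relation for all roots -/
def baseCheck : Bool :=
  (List.range 12).all fun r => (List.range 7).all fun i => (List.range 7).all fun j =>
    entryZero chevG2 3 0 1 [.x r (.var 0)] (lgc.getD i 0) (shc.getD j 0) &&
    (entryZero chevG2 3 0 1 [.x (rbar r) (.pow (.var 0) (lam r))] (lgc.getD i 0) (shc.getD j 0) &&
    entryEq chevG2 3 0 1 [.x r (.var 0)] [.x (rbar r) (.pow (.var 0) (lam r))]
      (lgc.getD i 0) (lgc.getD j 0) (shc.getD i 0) (shc.getD j 0))

set_option maxRecDepth 100000 in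
theorem baseCheck_true : baseCheck = true := by decide +kernel

theorem rel_x (h3 : ((3 : ℕ) : K) = 0) (r : ℕ) (hr : r < 12) (t : K) :
    Rel (chevG2.x K r t) (chevG2.x K (rbar r) (t ^ lam r)) := by
  have hall : ∀ i j : Fin 7, _ := fun i j =>
    (List.all_eq_true.1 ((List.all_eq_true.1 ((List.all_eq_true.1 baseCheck_true) r (List.mem_range.2 hr))) i.val
      (List.mem_range.2 i.isLt))) j.val (List.mem_range.2 j.isLt)
  simp only [Bool.and_eq_true] at hall
  have hρ : ∀ i < 0, (fun _ => t : ℕ → K) (2 * i) * (fun _ => t : ℕ → K) (2 * i + 1) = 1 := fun i hi =>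
    absurd hi (Nat.not_lt_zero _)
  have e1 : chevG2.x K r t = wmat chevG2 (fun _ => t) [.x r (.var 0)] := by
    simp [wmat, Letter.mat, PExpr.denote]
  have e2 : chevG2.x K (rbar r) (t ^ lam r) = wmat chevG2 (fun _ => t) [.x (rbar r) (.pow (.var 0) (lam r))] := by
    simp [wmat, Letter.mat, PExpr.denote]
  rw [e1, e2]
  refine ⟨fun i j => ?_, fun i j => ?_, fun i j => ?_⟩
  · refine entryZero_sound (nv := 1) ?_ h3 hρ
    rw [code_sh, code_lg]; exact (hall i j).1
  · refine entryZero_sound (nv := 1) ?_ h3 hρ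
    rw [code_sh, code_lg]; exact (hall i j).2.1
  · refine entryEq_sound (nv := 1) ?_ h3 hρ
    rw [code_sh, code_lg, code_sh, code_lg]; exact (hall i j).2.2

/-- the barred word -/
def barWord (w : List (ℕ × K)) : List (ℕ × K) := w.map fun p => (rbar p.1, p.2 ^ lam p.1)

theorem rel_word (h3 : ((3 : ℕ) : K) = 0) (w : List (ℕ × K)) (hw : ∀ p ∈ w, p.1 < 12) :
    Rel (chevG2.wordMat K w) (chevG2.wordMat K (barWord w)) := by
  induction w with
  | nil => exact Rel.one
  | cons p w ih =>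
    have h1 : chevG2.wordMat K (p :: w) = chevG2.x K p.1 p.2 * chevG2.wordMat K w := by
      simp [ChevalleyDatum.wordMat]
    have h2 : chevG2.wordMat K (barWord (p :: w)) =
        chevG2.x K (rbar p.1) (p.2 ^ lam p.1) * chevG2.wordMat K (barWord w) := by
      simp [ChevalleyDatum.wordMat, barWord]
    rw [h1, h2]
    exact (rel_x h3 p.1 (hw p (List.mem_cons_self)) p.2).mul
      (ih fun q hq => hw q (List.mem_cons_of_mem _ hq))

/-- a word whose θ-barred word has the same matrix is fixed -/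
theorem fixed_word (h3 : ((3 : ℕ) : K) = 0) (θ : K →+* K) (w : List (ℕ × K)) (hw : ∀ p ∈ w, p.1 < 12)
    (h : chevG2.wordMat K (w.map fun p => (rbar p.1, θ (p.2) ^ lam p.1)) = chevG2.wordMat K w) :
    Fixed θ (chevG2.wordMat K w) := by
  have hr := rel_word h3 w hw
  refine ⟨hr.1, fun i j => ?_⟩
  rw [hr.2.2 i j]
  have hm := congrFun (congrFun (wordMat_map chevG2 θ (barWord w)) (sh i)) (sh j)
  rw [Matrix.map_apply] at hm
  rw [hm]
  have : (barWord w).map (fun p => (p.1, θ p.2)) = w.map fun p => (rbar p.1, θ (p.2) ^ lam p.1) := by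
    simp [barWord, List.map_map, Function.comp_def, map_pow]
  rw [this, h]

end

/-! ### The generators -/

section
variable {K : Type*} [Field K]

/-- variables: 0 = t, 1 = T, 2 = u, 3 = U, 4 = v, 5 = V -/
def wU1 : List (ℕ × PExpr) :=
  [(7, .var 1), (6, .var 0), (8, .add (.mul (.var 1) (.var 0)) (.var 3)),
   (9, .add (.mul (.pow (.var 1) 2) (.var 0)) (.var 5)), (10, .var 2), (11, .var 4)]

/-- the barred word -/
def wU2 : List (ℕ × PExpr) :=
  [(6, .var 0), (7, .var 1), (10, .add (.mul (.var 0) (.pow (.var 1) 3)) (.var 2)),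
   (11, .add (.mul (.pow (.var 0) 2) (.pow (.var 1) 3)) (.var 4)), (8, .var 3), (9, .var 5)]

/-- the negative word -/
def wV1 : List (ℕ × PExpr) :=
  [(4, .neg (.var 1)), (5, .neg (.var 0)), (3, .neg (.add (.mul (.var 1) (.var 0)) (.var 3))),
   (2, .neg (.add (.mul (.pow (.var 1) 2) (.var 0)) (.var 5))), (1, .neg (.var 2)), (0, .neg (.var 4))]

/-- the barred negative word -/
def wV2 : List (ℕ × PExpr) :=
  [(5, .neg (.var 0)), (4, .neg (.var 1)), (1, .neg (.add (.mul (.var 0) (.pow (.var 1) 3)) (.var 2))),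
   (0, .neg (.add (.mul (.pow (.var 0) 2) (.pow (.var 1) 3)) (.var 4))), (3, .neg (.var 3)), (2, .neg (.var 5))]

set_option maxRecDepth 100000 in
theorem checkU : check chevG2 3 0 6 (xw wU1) (xw wU2) = true := by decide +kernel

set_option maxRecDepth 100000 in
theorem checkV : check chevG2 3 0 6 (xw wV1) (xw wV2) = true := by decide +kernel

/-- valuation of the six variables -/
def val (t T u U v V : K) : ℕ → K := fun i => [t, T, u, U, v, V].getD i 0

/-- The properties of θ = (·)^(3^m) used below. -/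
structure IsTheta (θ : K →+* K) (e : ℕ) : Prop where
  eq_pow : ∀ x, θ x = x ^ e
  cube : ∀ x, θ (θ x) ^ 3 = x

theorem reeWordU_eq {θ : K →+* K} {e : ℕ} (hθ : IsTheta θ e) (t u v : K) :
    reeWordU e t u v = wval (val t (θ t) u (θ u) v (θ v)) wU1 := by
  simp only [wval, wU1, List.map_cons, List.map_nil, PExpr.denote, val, List.getD_cons_zero,
    List.getD_cons_succ, reeWordU, g2a, g2b, g2ab, g2aab, g2aaab, g2aaabb, hθ.eq_pow]
  rw [show t ^ (e + 1) = t ^ e * t from pow_succ _ _,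
    show t ^ (2 * e + 1) = (t ^ e) ^ 2 * t by rw [pow_succ, mul_comm 2 e, pow_mul]]

theorem cube_add (h3 : ((3 : ℕ) : K) = 0) (x y : K) : (x + y) ^ 3 = x ^ 3 + y ^ 3 := by
  have h3' : (3 : K) = 0 := by exact_mod_cast h3
  linear_combination (x ^ 2 * y + x * y ^ 2) * h3'

theorem reeWordU_bar (h3 : ((3 : ℕ) : K) = 0) {θ : K →+* K} {e : ℕ} (hθ : IsTheta θ e) (t u v : K) :
    (reeWordU e t u v).map (fun p => (rbar p.1, θ (p.2) ^ lam p.1)) =
      wval (val t (θ t) u (θ u) v (θ v)) wU2 := by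
  have h1 : ∀ x : K, θ (x ^ e) ^ 3 = x := fun x => by rw [← hθ.eq_pow]; exact hθ.cube x
  have h2 : θ (t ^ (e + 1) + u ^ e) ^ 3 = t * (θ t) ^ 3 + u := by
    rw [map_add, cube_add h3, pow_succ t e, map_mul, mul_pow, h1, h1]
  have h4 : θ (t ^ (2 * e + 1) + v ^ e) ^ 3 = t ^ 2 * (θ t) ^ 3 + v := by
    rw [map_add, cube_add h3, pow_succ t (2 * e), mul_comm 2 e, pow_mul, map_mul, map_pow, mul_pow, h1, ← pow_mul,
      mul_comm 2 3, pow_mul, h1]
  simp only [wval, wU2, List.map_cons, List.map_nil, PExpr.denote, val, List.getD_cons_zero,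
    List.getD_cons_succ, reeWordU]
  have r7 : rbar g2a = 6 := rfl
  have r6 : rbar g2b = 7 := rfl
  have r8 : rbar g2ab = 10 := rfl
  have r9 : rbar g2aab = 11 := rfl
  have r10 : rbar g2aaab = 8 := rfl
  have r11 : rbar g2aaabb = 9 := rfl
  have l7 : lam g2a = 3 := rfl
  have l6 : lam g2b = 1 := rfl
  have l8 : lam g2ab = 3 := rfl
  have l9 : lam g2aab = 3 := rfl
  have l10 : lam g2aaab = 1 := rfl
  have l11 : lam g2aaabb = 1 := rfl
  rw [r7, r6, r8, r9, r10, r11, l7, l6, l8, l9, l10, l11, h1, h2, h4, pow_one, pow_one, pow_one]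

theorem reeWordV_eq {θ : K →+* K} {e : ℕ} (hθ : IsTheta θ e) (t u v : K) :
    reeWordV e t u v = wval (val t (θ t) u (θ u) v (θ v)) wV1 := by
  unfold reeWordV ChevalleyDatum.negWord
  rw [reeWordU_eq hθ]
  rfl

theorem reeWordV_bar (h3 : ((3 : ℕ) : K) = 0) {θ : K →+* K} {e : ℕ} (hθ : IsTheta θ e) (t u v : K) :
    (reeWordV e t u v).map (fun p => (rbar p.1, θ (p.2) ^ lam p.1)) =
      wval (val t (θ t) u (θ u) v (θ v)) wV2 := by
  have h1 : ∀ x : K, θ (-(x ^ e)) ^ 3 = -x := fun x => by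
    rw [map_neg, ← hθ.eq_pow, neg_pow, hθ.cube x]; ring
  have h1' : ∀ x : K, θ (x ^ e) ^ 3 = x := fun x => by rw [← hθ.eq_pow]; exact hθ.cube x
  have h2 : θ (-(t ^ (e + 1) + u ^ e)) ^ 3 = -(t * (θ t) ^ 3 + u) := by
    rw [map_neg, map_add, neg_pow, cube_add h3, pow_succ t e, map_mul, mul_pow, h1', h1']; ring
  have h4 : θ (-(t ^ (2 * e + 1) + v ^ e)) ^ 3 = -(t ^ 2 * (θ t) ^ 3 + v) := by
    rw [map_neg, map_add, neg_pow, cube_add h3, pow_succ t (2 * e), mul_comm 2 e, pow_mul, map_mul, map_pow,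
      mul_pow, h1',
      ← pow_mul, mul_comm 2 3, pow_mul, h1']; ring
  simp only [wval, wV2, List.map_cons, List.map_nil, PExpr.denote, val, List.getD_cons_zero,
    List.getD_cons_succ, reeWordV, ChevalleyDatum.negWord, reeWordU]
  have r7 : chevG2.negIdx.getD g2a 0 = 4 := rfl
  have r6 : chevG2.negIdx.getD g2b 0 = 5 := rfl
  have r8 : chevG2.negIdx.getD g2ab 0 = 3 := rfl
  have r9 : chevG2.negIdx.getD g2aab 0 = 2 := rfl
  have r10 : chevG2.negIdx.getD g2aaab 0 = 1 := rfl
  have r11 : chevG2.negIdx.getD g2aaabb 0 = 0 := rfl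
  rw [r7, r6, r8, r9, r10, r11]
  have s4 : rbar 4 = 5 := rfl
  have s5 : rbar 5 = 4 := rfl
  have s3 : rbar 3 = 1 := rfl
  have s2 : rbar 2 = 0 := rfl
  have s1 : rbar 1 = 3 := rfl
  have s0 : rbar 0 = 2 := rfl
  have l4 : lam 4 = 3 := rfl
  have l5 : lam 5 = 1 := rfl
  have l3 : lam 3 = 3 := rfl
  have l2 : lam 2 = 3 := rfl
  have l1 : lam 1 = 1 := rfl
  have l0 : lam 0 = 1 := rfl
  rw [s4, s5, s3, s2, s1, s0, l4, l5, l3, l2, l1, l0, h1, h2, h4, pow_one, pow_one, pow_one,
    map_neg, map_neg, map_neg]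

omit [Field K] in
theorem fst_lt {w : List (ℕ × K)} {l : List ℕ} (h : w.map Prod.fst = l) (hl : ∀ n ∈ l, n < 12) :
    ∀ p ∈ w, p.1 < 12 := fun _ hp => hl _ (h ▸ List.mem_map_of_mem hp)

theorem fixed_reeWordU (h3 : ((3 : ℕ) : K) = 0) {θ : K →+* K} {e : ℕ} (hθ : IsTheta θ e) (t u v : K) :
    Fixed θ (chevG2.wordMat K (reeWordU e t u v)) := by
  apply fixed_word h3
  · exact fst_lt (l := [7, 6, 8, 9, 10, 11]) rfl (by decide)
  · rw [reeWordU_bar h3 hθ, reeWordU_eq hθ]
    exact (wordMat_eq_of_check chevG2 _ 3 0 6 wU1 wU2 checkU h3 (fun i hi => absurd hi (Nat.not_lt_zero _))).symm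

theorem fixed_reeWordV (h3 : ((3 : ℕ) : K) = 0) {θ : K →+* K} {e : ℕ} (hθ : IsTheta θ e) (t u v : K) :
    Fixed θ (chevG2.wordMat K (reeWordV e t u v)) := by
  apply fixed_word h3
  · exact fst_lt (l := [4, 5, 3, 2, 1, 0]) rfl (by decide)
  · rw [reeWordV_bar h3 hθ, reeWordV_eq hθ]
    exact (wordMat_eq_of_check chevG2 _ 3 0 6 wV1 wV2 checkV h3 (fun i hi => absurd hi (Nat.not_lt_zero _))).symm

/-- In the finite group GL the closure of a set of elements with the property `Fixed θ` has it. -/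
theorem fixed_closure [Finite K] (θ : K →+* K) (S : Set (GL chevG2.Idx K))
    (hS : ∀ g ∈ S, Fixed θ (g : Matrix chevG2.Idx chevG2.Idx K)) (g : GL chevG2.Idx K)
    (hg : g ∈ Subgroup.closure S) : Fixed θ (g : Matrix chevG2.Idx chevG2.Idx K) := by
  have hpow : ∀ (g : GL chevG2.Idx K) (n : ℕ), Fixed θ (g : Matrix chevG2.Idx chevG2.Idx K) →
      Fixed θ ((g ^ n : GL chevG2.Idx K) : Matrix chevG2.Idx chevG2.Idx K) := by
    intro g n h
    induction n with
    | zero => rw [pow_zero]; exact Fixed.one θ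
    | succ n ih => rw [pow_succ]; exact ih.mul h
  induction hg using Subgroup.closure_induction with
  | mem x hx => exact hS x hx
  | one => exact Fixed.one θ
  | mul x y _ _ hx hy => exact hx.mul hy
  | inv x _ hx =>
    have : x⁻¹ = x ^ (orderOf x - 1) := by
      rw [eq_comm, eq_inv_iff_mul_eq_one, ← pow_succ, Nat.sub_add_cancel (orderOf_pos x), pow_orderOf_eq_one]
    rw [this]; exact hpow x _ hx

/-- Every element of ²G₂ satisfies the fixed point condition. -/
theorem fixed_of_mem_twistedG2 [Finite K] (h3 : ((3 : ℕ) : K) = 0) {θ : K →+* K} {e : ℕ} (hθ : IsTheta θ e)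
    {g : GL chevG2.Idx K} (hg : g ∈ twistedG2 K e) : Fixed θ (g : Matrix chevG2.Idx chevG2.Idx K) := by
  apply fixed_closure θ _ _ g hg
  rintro g ⟨w, ⟨t, u, v, rfl | rfl⟩, hgw⟩
  · rw [hgw]; exact fixed_reeWordU h3 hθ t u v
  · rw [hgw]; exact fixed_reeWordV h3 hθ t u v

/-- over a field with 3^(2m+1) elements: characteristic 3 and the endomorphism θ -/
theorem exists_theta [Fintype K] {m : ℕ} (hK : Fintype.card K = 3 ^ (2 * m + 1)) :
    ((3 : ℕ) : K) = 0 ∧ ∃ θ : K →+* K, IsTheta θ (3 ^ m) := by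
  have : Fact (Nat.Prime 3) := ⟨Nat.prime_three⟩
  have : CharP K 3 := charP_of_card_eq_prime_pow hK
  have : ExpChar K 3 := ExpChar.prime Nat.prime_three
  refine ⟨CharP.cast_eq_zero K 3, iterateFrobenius K 3 m, fun x => iterateFrobenius_def 3 m x, fun x => ?_⟩
  rw [iterateFrobenius_def, iterateFrobenius_def, ← pow_mul, ← pow_mul]
  have : 3 ^ m * (3 ^ m * 3) = Fintype.card K := by rw [hK]; ring
  rw [this]
  exact FiniteField.pow_card x

end

end Cfsg.Agent.ChevalleyStructure.ReeFixed
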