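import Cfsg.Agent.ChevalleyStructure.ReeVec

/-!
# The Lie bracket of type G₂ (tables of Def_ChevG2) in explicit coordinates; the root elements `x_r(t)` are automorphisms.
Generated by a script.
-/

set_option autoImplicit false
set_option linter.unusedSimpArgs false
set_option linter.unusedVariables false
set_option linter.unusedSectionVars false

namespace Cfsg.Agent.ChevalleyStructure.ReeBr

open Cfsg.Lie Cfsg.Agent.ChevalleyStructure.WordCheck Cfsg.Agent.ChevalleyStructure.ReeVec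

variable {K : Type*} [Field K]

/-- the Lie bracket of the tables of type G₂ -/
def br (u v : chevG2.Idx → K) : chevG2.Idx → K :=
  vec (-u (E 0)*v (E 11) - u (E 1)*v (E 10) - 2*u (E 2)*v (E 9) - u (E 3)*v (E 8) - u (E 4)*v (E 7) + u (E 7)*v (E 4) + u (E 8)*v (E 3) + 2*u (E 9)*v (E 2) + u (E 10)*v (E 1) + u (E 11)*v (E 0))
    (-2*u (E 0)*v (E 11) - u (E 1)*v (E 10) - 3*u (E 2)*v (E 9) - 3*u (E 3)*v (E 8) - u (E 5)*v (E 6) + u (E 6)*v (E 5) + 3*u (E 8)*v (E 3) + 3*u (E 9)*v (E 2) + u (E 10)*v (E 1) + 2*u (E 11)*v (E 0))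
    (-u (H 1)*v (E 0) + u (E 0)*v (H 1) + u (E 1)*v (E 5) + 3*u (E 2)*v (E 3) - 3*u (E 3)*v (E 2) - u (E 5)*v (E 1))
    (-3*u (H 0)*v (E 1) + u (H 1)*v (E 1) + u (E 0)*v (E 6) + 3*u (E 1)*v (H 0) - u (E 1)*v (H 1) + 3*u (E 2)*v (E 4) - 3*u (E 4)*v (E 2) - u (E 6)*v (E 0))
    (-u (H 0)*v (E 2) + u (E 0)*v (E 8) + u (E 1)*v (E 7) + u (E 2)*v (H 0) - 2*u (E 3)*v (E 4) + 2*u (E 4)*v (E 3) - u (E 7)*v (E 1) - u (E 8)*v (E 0))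
    (u (H 0)*v (E 3) - u (H 1)*v (E 3) - u (E 0)*v (E 9) - 2*u (E 2)*v (E 7) - u (E 3)*v (H 0) + u (E 3)*v (H 1) + u (E 4)*v (E 5) - u (E 5)*v (E 4) + 2*u (E 7)*v (E 2) + u (E 9)*v (E 0))
    (-2*u (H 0)*v (E 4) + u (H 1)*v (E 4) - u (E 1)*v (E 9) + 2*u (E 2)*v (E 8) + u (E 3)*v (E 6) + 2*u (E 4)*v (H 0) - u (E 4)*v (H 1) - u (E 6)*v (E 3) - 2*u (E 8)*v (E 2) + u (E 9)*v (E 1))
    (3*u (H 0)*v (E 5) - 2*u (H 1)*v (E 5) - u (E 0)*v (E 10) - 3*u (E 3)*v (E 7) - 3*u (E 5)*v (H 0) + 2*u (E 5)*v (H 1) + 3*u (E 7)*v (E 3) + u (E 10)*v (E 0))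
    (-3*u (H 0)*v (E 6) + 2*u (H 1)*v (E 6) - u (E 1)*v (E 11) - 3*u (E 4)*v (E 8) + 3*u (E 6)*v (H 0) - 2*u (E 6)*v (H 1) + 3*u (E 8)*v (E 4) + u (E 11)*v (E 1))
    (2*u (H 0)*v (E 7) - u (H 1)*v (E 7) - u (E 2)*v (E 10) + 2*u (E 3)*v (E 9) + u (E 5)*v (E 8) - 2*u (E 7)*v (H 0) + u (E 7)*v (H 1) - u (E 8)*v (E 5) - 2*u (E 9)*v (E 3) + u (E 10)*v (E 2))
    (-u (H 0)*v (E 8) + u (H 1)*v (E 8) - u (E 2)*v (E 11) - 2*u (E 4)*v (E 9) + u (E 6)*v (E 7) - u (E 7)*v (E 6) + u (E 8)*v (H 0) - u (E 8)*v (H 1) + 2*u (E 9)*v (E 4) + u (E 11)*v (E 2))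
    (u (H 0)*v (E 9) + u (E 3)*v (E 11) + u (E 4)*v (E 10) - 2*u (E 7)*v (E 8) + 2*u (E 8)*v (E 7) - u (E 9)*v (H 0) - u (E 10)*v (E 4) - u (E 11)*v (E 3))
    (3*u (H 0)*v (E 10) - u (H 1)*v (E 10) + u (E 5)*v (E 11) + 3*u (E 7)*v (E 9) - 3*u (E 9)*v (E 7) - 3*u (E 10)*v (H 0) + u (E 10)*v (H 1) - u (E 11)*v (E 5))
    (u (H 1)*v (E 11) + u (E 6)*v (E 10) + 3*u (E 8)*v (E 9) - 3*u (E 9)*v (E 8) - u (E 10)*v (E 6) - u (E 11)*v (H 1))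

theorem br_vec (a b x0 x1 x2 x3 x4 x5 x6 x7 x8 x9 x10 x11 : K) (c d y0 y1 y2 y3 y4 y5 y6 y7 y8 y9 y10 y11 : K) :
    br (vec a b x0 x1 x2 x3 x4 x5 x6 x7 x8 x9 x10 x11) (vec c d y0 y1 y2 y3 y4 y5 y6 y7 y8 y9 y10 y11) =
    vec (-x0*y11 - x1*y10 - 2*x2*y9 - x3*y8 - x4*y7 + x7*y4 + x8*y3 + 2*x9*y2 + x10*y1 + x11*y0)
    (-2*x0*y11 - x1*y10 - 3*x2*y9 - 3*x3*y8 - x5*y6 + x6*y5 + 3*x8*y3 + 3*x9*y2 + x10*y1 + 2*x11*y0)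
    (-b*y0 + x0*d + x1*y5 + 3*x2*y3 - 3*x3*y2 - x5*y1)
    (-3*a*y1 + b*y1 + x0*y6 + 3*x1*c - x1*d + 3*x2*y4 - 3*x4*y2 - x6*y0)
    (-a*y2 + x0*y8 + x1*y7 + x2*c - 2*x3*y4 + 2*x4*y3 - x7*y1 - x8*y0)
    (a*y3 - b*y3 - x0*y9 - 2*x2*y7 - x3*c + x3*d + x4*y5 - x5*y4 + 2*x7*y2 + x9*y0)
    (-2*a*y4 + b*y4 - x1*y9 + 2*x2*y8 + x3*y6 + 2*x4*c - x4*d - x6*y3 - 2*x8*y2 + x9*y1)
    (3*a*y5 - 2*b*y5 - x0*y10 - 3*x3*y7 - 3*x5*c + 2*x5*d + 3*x7*y3 + x10*y0)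
    (-3*a*y6 + 2*b*y6 - x1*y11 - 3*x4*y8 + 3*x6*c - 2*x6*d + 3*x8*y4 + x11*y1)
    (2*a*y7 - b*y7 - x2*y10 + 2*x3*y9 + x5*y8 - 2*x7*c + x7*d - x8*y5 - 2*x9*y3 + x10*y2)
    (-a*y8 + b*y8 - x2*y11 - 2*x4*y9 + x6*y7 - x7*y6 + x8*c - x8*d + 2*x9*y4 + x11*y2)
    (a*y9 + x3*y11 + x4*y10 - 2*x7*y8 + 2*x8*y7 - x9*c - x10*y4 - x11*y3)
    (3*a*y10 - b*y10 + x5*y11 + 3*x7*y9 - 3*x9*y7 - 3*x10*c + x10*d - x11*y5)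
    (b*y11 + x6*y10 + 3*x8*y9 - 3*x9*y8 - x10*y6 - x11*d) := rfl

set_option maxHeartbeats 4000000 in
theorem x0_br (t : K) (u v : chevG2.Idx → K) :
    (chevG2.x K 0 t).mulVec (br u v) = br ((chevG2.x K 0 t).mulVec u) ((chevG2.x K 0 t).mulVec v) := by
  rw [vec_eta u, vec_eta v, br_vec, x0_vec, x0_vec, x0_vec, br_vec]
  refine vec_congr ?_ ?_ ?_ ?_ ?_ ?_ ?_ ?_ ?_ ?_ ?_ ?_ ?_ ?_ <;> ring

set_option maxHeartbeats 4000000 in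
theorem x1_br (t : K) (u v : chevG2.Idx → K) :
    (chevG2.x K 1 t).mulVec (br u v) = br ((chevG2.x K 1 t).mulVec u) ((chevG2.x K 1 t).mulVec v) := by
  rw [vec_eta u, vec_eta v, br_vec, x1_vec, x1_vec, x1_vec, br_vec]
  refine vec_congr ?_ ?_ ?_ ?_ ?_ ?_ ?_ ?_ ?_ ?_ ?_ ?_ ?_ ?_ <;> ring

set_option maxHeartbeats 4000000 in
theorem x2_br (t : K) (u v : chevG2.Idx → K) :
    (chevG2.x K 2 t).mulVec (br u v) = br ((chevG2.x K 2 t).mulVec u) ((chevG2.x K 2 t).mulVec v) := by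
  rw [vec_eta u, vec_eta v, br_vec, x2_vec, x2_vec, x2_vec, br_vec]
  refine vec_congr ?_ ?_ ?_ ?_ ?_ ?_ ?_ ?_ ?_ ?_ ?_ ?_ ?_ ?_ <;> ring

set_option maxHeartbeats 4000000 in
theorem x3_br (t : K) (u v : chevG2.Idx → K) :
    (chevG2.x K 3 t).mulVec (br u v) = br ((chevG2.x K 3 t).mulVec u) ((chevG2.x K 3 t).mulVec v) := by
  rw [vec_eta u, vec_eta v, br_vec, x3_vec, x3_vec, x3_vec, br_vec]
  refine vec_congr ?_ ?_ ?_ ?_ ?_ ?_ ?_ ?_ ?_ ?_ ?_ ?_ ?_ ?_ <;> ring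

set_option maxHeartbeats 4000000 in
theorem x4_br (t : K) (u v : chevG2.Idx → K) :
    (chevG2.x K 4 t).mulVec (br u v) = br ((chevG2.x K 4 t).mulVec u) ((chevG2.x K 4 t).mulVec v) := by
  rw [vec_eta u, vec_eta v, br_vec, x4_vec, x4_vec, x4_vec, br_vec]
  refine vec_congr ?_ ?_ ?_ ?_ ?_ ?_ ?_ ?_ ?_ ?_ ?_ ?_ ?_ ?_ <;> ring

set_option maxHeartbeats 4000000 in
theorem x5_br (t : K) (u v : chevG2.Idx → K) :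
    (chevG2.x K 5 t).mulVec (br u v) = br ((chevG2.x K 5 t).mulVec u) ((chevG2.x K 5 t).mulVec v) := by
  rw [vec_eta u, vec_eta v, br_vec, x5_vec, x5_vec, x5_vec, br_vec]
  refine vec_congr ?_ ?_ ?_ ?_ ?_ ?_ ?_ ?_ ?_ ?_ ?_ ?_ ?_ ?_ <;> ring

set_option maxHeartbeats 4000000 in
theorem x6_br (t : K) (u v : chevG2.Idx → K) :
    (chevG2.x K 6 t).mulVec (br u v) = br ((chevG2.x K 6 t).mulVec u) ((chevG2.x K 6 t).mulVec v) := by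
  rw [vec_eta u, vec_eta v, br_vec, x6_vec, x6_vec, x6_vec, br_vec]
  refine vec_congr ?_ ?_ ?_ ?_ ?_ ?_ ?_ ?_ ?_ ?_ ?_ ?_ ?_ ?_ <;> ring

set_option maxHeartbeats 4000000 in
theorem x7_br (t : K) (u v : chevG2.Idx → K) :
    (chevG2.x K 7 t).mulVec (br u v) = br ((chevG2.x K 7 t).mulVec u) ((chevG2.x K 7 t).mulVec v) := by
  rw [vec_eta u, vec_eta v, br_vec, x7_vec, x7_vec, x7_vec, br_vec]
  refine vec_congr ?_ ?_ ?_ ?_ ?_ ?_ ?_ ?_ ?_ ?_ ?_ ?_ ?_ ?_ <;> ring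

set_option maxHeartbeats 4000000 in
theorem x8_br (t : K) (u v : chevG2.Idx → K) :
    (chevG2.x K 8 t).mulVec (br u v) = br ((chevG2.x K 8 t).mulVec u) ((chevG2.x K 8 t).mulVec v) := by
  rw [vec_eta u, vec_eta v, br_vec, x8_vec, x8_vec, x8_vec, br_vec]
  refine vec_congr ?_ ?_ ?_ ?_ ?_ ?_ ?_ ?_ ?_ ?_ ?_ ?_ ?_ ?_ <;> ring

set_option maxHeartbeats 4000000 in
theorem x9_br (t : K) (u v : chevG2.Idx → K) :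
    (chevG2.x K 9 t).mulVec (br u v) = br ((chevG2.x K 9 t).mulVec u) ((chevG2.x K 9 t).mulVec v) := by
  rw [vec_eta u, vec_eta v, br_vec, x9_vec, x9_vec, x9_vec, br_vec]
  refine vec_congr ?_ ?_ ?_ ?_ ?_ ?_ ?_ ?_ ?_ ?_ ?_ ?_ ?_ ?_ <;> ring

set_option maxHeartbeats 4000000 in
theorem x10_br (t : K) (u v : chevG2.Idx → K) :
    (chevG2.x K 10 t).mulVec (br u v) = br ((chevG2.x K 10 t).mulVec u) ((chevG2.x K 10 t).mulVec v) := by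
  rw [vec_eta u, vec_eta v, br_vec, x10_vec, x10_vec, x10_vec, br_vec]
  refine vec_congr ?_ ?_ ?_ ?_ ?_ ?_ ?_ ?_ ?_ ?_ ?_ ?_ ?_ ?_ <;> ring

set_option maxHeartbeats 4000000 in
theorem x11_br (t : K) (u v : chevG2.Idx → K) :
    (chevG2.x K 11 t).mulVec (br u v) = br ((chevG2.x K 11 t).mulVec u) ((chevG2.x K 11 t).mulVec v) := by
  rw [vec_eta u, vec_eta v, br_vec, x11_vec, x11_vec, x11_vec, br_vec]
  refine vec_congr ?_ ?_ ?_ ?_ ?_ ?_ ?_ ?_ ?_ ?_ ?_ ?_ ?_ ?_ <;> ring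

end Cfsg.Agent.ChevalleyStructure.ReeBr
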