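import Cfsg.Agent.ChevalleyStructure.ReeTorus

/-!
# The order of the small Ree group
-/

set_option autoImplicit false
set_option linter.unusedVariables false
set_option linter.unusedSectionVars false

namespace Cfsg.Agent.ChevalleyStructure.ReeCount

open Cfsg.Lie Cfsg.Agent.ChevalleyStructure.WordCheck Cfsg.Agent.ChevalleyStructure.ReeVec
open Cfsg.Agent.ChevalleyStructure.ReeBr Cfsg.Agent.ChevalleyStructure.ReeRel
open Cfsg.Agent.ChevalleyStructure.ReeOvoid Cfsg.Agent.ChevalleyStructure.ReeWords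
open Cfsg.Agent.ChevalleyStructure.ReeGroup Cfsg.Agent.ChevalleyStructure.ReeMain
open Cfsg.Agent.ChevalleyStructure.ReeTorus
open scoped Matrix

variable {K : Type*} [Field K] [Fintype K] {m : ℕ}

theorem three_eq_zero (hK : Fintype.card K = 3 ^ (2 * m + 1)) : (3 : K) = 0 := by
  have h : ((Fintype.card K : ℕ) : K) = 0 := FiniteField.cast_card_eq_zero K
  rw [hK] at h
  push_cast at h
  exact (pow_eq_zero_iff (by omega)).1 h

/-- the field endomorphism `x ↦ x ^ (3 ^ (m + 1))` -/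
theorem exists_phi (hK : Fintype.card K = 3 ^ (2 * m + 1)) :
    ∃ φ : K →+* K, ∀ x, φ x = x ^ (3 ^ (m + 1)) := by
  have h3 := three_eq_zero hK
  have : Fact (Nat.Prime 3) := ⟨Nat.prime_three⟩
  have : CharP K 3 := (CharP.charP_iff_prime_eq_zero Nat.prime_three).2 (by exact_mod_cast h3)
  exact ⟨iterateFrobenius K 3 (m + 1), fun x => iterateFrobenius_def 3 (m + 1) x⟩

/-- the field endomorphism `x ↦ x ^ (3 ^ (m + 1))` -/
noncomputable def phi (hK : Fintype.card K = 3 ^ (2 * m + 1)) : K →+* K := Classical.choose (exists_phi hK)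

theorem phi_def (hK : Fintype.card K = 3 ^ (2 * m + 1)) (x : K) : phi hK x = x ^ (3 ^ (m + 1)) :=
  Classical.choose_spec (exists_phi hK) x

theorem phi_phi (hK : Fintype.card K = 3 ^ (2 * m + 1)) (x : K) : phi hK (phi hK x) = x ^ 3 := by
  have h : x ^ (3 ^ (2 * m + 1)) = x := by rw [← hK]; exact FiniteField.pow_card x
  rw [phi_def, phi_def, ← pow_mul, ← pow_add, show m + 1 + (m + 1) = (2 * m + 1) + 1 by ring, pow_succ, pow_mul, h]

theorem phi_pow (hK : Fintype.card K = 3 ^ (2 * m + 1)) (x : K) : phi hK (x ^ (3 ^ m)) = x := by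
  have h : x ^ (3 ^ (2 * m + 1)) = x := by rw [← hK]; exact FiniteField.pow_card x
  rw [phi_def, ← pow_mul, ← pow_add, show m + (m + 1) = 2 * m + 1 by ring, h]

theorem pow_phi (hK : Fintype.card K = 3 ^ (2 * m + 1)) (x : K) : (phi hK x) ^ (3 ^ m) = x := by
  rw [← map_pow, phi_pow]

theorem reeWordU_eq (hK : Fintype.card K = 3 ^ (2 * m + 1)) (t u v : K) :
    reeWordU (3 ^ m) t u v = uW (t ^ 3 ^ m) (phi hK (t ^ 3 ^ m)) (u ^ 3 ^ m) (phi hK (u ^ 3 ^ m))
      (v ^ 3 ^ m) (phi hK (v ^ 3 ^ m)) := by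
  simp only [phi_pow, reeWordU, uW, g2a, g2b, g2ab, g2aab, g2aaab, g2aaabb]
  rw [pow_succ, pow_succ, pow_mul', ← pow_mul, mul_comm (3 ^ m) 2, pow_mul' t]

theorem reeWordV_eq (hK : Fintype.card K = 3 ^ (2 * m + 1)) (t u v : K) :
    reeWordV (3 ^ m) t u v = vW (t ^ 3 ^ m) (phi hK (t ^ 3 ^ m)) (u ^ 3 ^ m) (phi hK (u ^ 3 ^ m))
      (v ^ 3 ^ m) (phi hK (v ^ 3 ^ m)) := by
  rw [reeWordV, reeWordU_eq hK]
  rfl

theorem good_of_mem (hK : Fintype.card K = 3 ^ (2 * m + 1)) {g : GL chevG2.Idx K}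
    (hg : g ∈ twistedG2 K (3 ^ m)) : Good (phi hK) g := by
  have h3 := three_eq_zero hK
  refine Subgroup.closure_induction (p := fun g _ => Good (phi hK) g) ?_ (Good.one _)
    (fun x y _ _ hx hy => hx.mul hy) (fun x _ hx => hx.inv) hg
  rintro x ⟨w, ⟨t, u, v, rfl | rfl⟩, hx⟩
  · rw [reeWordU_eq hK] at hx
    exact good_of_word (isRel_uW h3 (phi_phi hK) _ _ _) hx
  · rw [reeWordV_eq hK] at hx
    exact good_of_word (isRel_vW h3 (phi_phi hK) _ _ _) hx

theorem uG_mem (hK : Fintype.card K = 3 ^ (2 * m + 1)) (p q r : K) : uG (phi hK) p q r ∈ twistedG2 K (3 ^ m) := by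
  refine Subgroup.subset_closure ⟨_, ⟨phi hK p, phi hK q, phi hK r, Or.inl rfl⟩, ?_⟩
  rw [reeWordU_eq hK, pow_phi, pow_phi, pow_phi, uG, coe_wG]

theorem vG_mem (hK : Fintype.card K = 3 ^ (2 * m + 1)) (p q r : K) : vG (phi hK) p q r ∈ twistedG2 K (3 ^ m) := by
  refine Subgroup.subset_closure ⟨_, ⟨phi hK p, phi hK q, phi hK r, Or.inr rfl⟩, ?_⟩
  rw [reeWordV_eq hK, pow_phi, pow_phi, pow_phi, vG, coe_wG]

theorem nG_mem (hK : Fintype.card K = 3 ^ (2 * m + 1)) (q : K) : nG (phi hK) q ∈ twistedG2 K (3 ^ m) := by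
  rw [nG_eq]
  exact mul_mem (mul_mem (uG_mem hK _ _ _) (vG_mem hK _ _ _)) (uG_mem hK _ _ _)

/-- the involution `h(-1)` -/
noncomputable def hG (φ : K →+* K) : GL chevG2.Idx K :=
  uG φ 0 0 1 * vG φ 0 1 0 * uG φ 0 (-1) (-1) * vG φ 1 1 (-1)

theorem hG_mem (hK : Fintype.card K = 3 ^ (2 * m + 1)) : hG (phi hK) ∈ twistedG2 K (3 ^ m) :=
  mul_mem (mul_mem (mul_mem (uG_mem hK _ _ _) (vG_mem hK _ _ _)) (uG_mem hK _ _ _)) (vG_mem hK _ _ _)

theorem act_hG (h3 : (3 : K) = 0) (φ : K →+* K) (a b x0 x1 x2 x3 x4 x5 x6 x7 x8 x9 x10 x11 : K) :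
    act (hG φ) (vec a b x0 x1 x2 x3 x4 x5 x6 x7 x8 x9 x10 x11) =
      vec a b (-x0) x1 (-x2) x3 (-x4) (-x5) (-x6) (-x7) x8 (-x9) x10 (-x11) := by
  have := hW_mulVec h3 a b x0 x1 x2 x3 x4 x5 x6 x7 x8 x9 x10 x11
  rw [← this]
  simp only [act, hG, Units.val_mul, uG, vG, coe_wG, map_zero, map_one, map_neg]

/-! ### The two-point stabiliser -/

/-- fixing the line of `e_{-(2a+b)}` -/
def L2 (g : GL chevG2.Idx K) : Prop := ∃ c : K, c ≠ 0 ∧ act g e2 = c • e2
/-- fixing the line of `e_{2a+b}` -/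
def L9 (g : GL chevG2.Idx K) : Prop := ∃ c : K, c ≠ 0 ∧ act g e9 = c • e9

theorem L2.mul {g h : GL chevG2.Idx K} (hg : L2 g) (hh : L2 h) : L2 (g * h) := by
  obtain ⟨c, hc, hg⟩ := hg
  obtain ⟨d, hd, hh⟩ := hh
  exact ⟨d * c, mul_ne_zero hd hc, by rw [act_mul, hh, act_smul, hg, smul_smul]⟩

theorem L9.mul {g h : GL chevG2.Idx K} (hg : L9 g) (hh : L9 h) : L9 (g * h) := by
  obtain ⟨c, hc, hg⟩ := hg
  obtain ⟨d, hd, hh⟩ := hh
  exact ⟨d * c, mul_ne_zero hd hc, by rw [act_mul, hh, act_smul, hg, smul_smul]⟩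

theorem L2.inv {g : GL chevG2.Idx K} (hg : L2 g) : L2 g⁻¹ := by
  obtain ⟨c, hc, hg⟩ := hg
  exact ⟨c⁻¹, inv_ne_zero hc, act_inv_of hc hg⟩

theorem L9.inv {g : GL chevG2.Idx K} (hg : L9 g) : L9 g⁻¹ := by
  obtain ⟨c, hc, hg⟩ := hg
  exact ⟨c⁻¹, inv_ne_zero hc, act_inv_of hc hg⟩

theorem L9_uG (h3 : (3 : K) = 0) (φ : K →+* K) (p q r : K) : L9 (uG φ p q r) :=
  ⟨1, one_ne_zero, by rw [act_uG_e9 h3, one_smul]⟩

theorem smul_e2_inj {c d : K} (h : c • (e2 : chevG2.Idx → K) = d • e2) : c = d := by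
  have := congrFun h (E 2)
  rwa [e2, smul_vec, smul_vec, vec_E2, vec_E2, mul_one, mul_one] at this

/-- The eigenvalue on `e_{-(2a+b)}` takes every non-zero value on the two-point stabiliser. -/
theorem exists_torus (hK : Fintype.card K = 3 ^ (2 * m + 1)) {c : K} (hc : c ≠ 0) :
    ∃ g ∈ twistedG2 K (3 ^ m), L9 g ∧ act g e2 = c • e2 := by
  have h3 := three_eq_zero hK
  -- squares
  have hsq : ∀ s : K, s ≠ 0 → ∃ g ∈ twistedG2 K (3 ^ m), L9 g ∧ act g e2 = (s ^ 2) • e2 := by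
    intro s hs
    have hφs : phi hK s ≠ 0 := (map_ne_zero _).2 hs
    have hq : phi hK s / s ≠ 0 := div_ne_zero hφs hs
    have hφq : phi hK (phi hK s / s) ≠ 0 := (map_ne_zero _).2 hq
    have hval : phi hK s / s * phi hK (phi hK s / s) = s ^ 2 := by
      rw [map_div₀, phi_phi hK]
      field_simp
    refine ⟨(nG (phi hK) 1)⁻¹ * nG (phi hK) (phi hK s / s), mul_mem (inv_mem (nG_mem hK _)) (nG_mem hK _), ?_, ?_⟩
    · refine ⟨(phi hK s / s)⁻¹ * (phi hK (phi hK s / s))⁻¹, mul_ne_zero (inv_ne_zero hq) (inv_ne_zero hφq), ?_⟩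
      rw [act_mul, nG_e9 h3 _ hq, act_smul, n1inv_e2 h3, smul_smul]
      congr 1; ring
    · rw [act_mul, nG_e2 h3 _ hq, act_smul, n1inv_e9 h3, smul_smul, hval]
      congr 1; ring
  by_cases hcs : IsSquare c
  · obtain ⟨s, rfl⟩ := hcs
    have hs : s ≠ 0 := fun h => hc (by rw [h, mul_zero])
    simpa only [pow_two] using hsq s hs
  · have hneg : IsSquare (-c) := by
      classical
      have h1 : ¬ IsSquare (-1 : K) := by
        rw [FiniteField.isSquare_neg_one_iff, hK, not_not]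
        have : 3 ^ (2 * m + 1) = 9 ^ m * 3 := by rw [pow_succ, pow_mul]; norm_num
        rw [this, Nat.mul_mod, Nat.pow_mod]
        norm_num
      have hF : ringChar K ≠ 2 := by
        intro h2
        have : ((2 : ℕ) : K) = 0 := by rw [← h2]; exact ringChar.Nat.cast_ringChar
        have h21 : (1 : K) = 0 := by
          have e : (1 : K) = 3 - 2 := by norm_num
          rw [e, h3]
          push_cast at this
          rw [this, sub_zero]
        exact one_ne_zero h21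
      by_contra hnc
      have k1 := (quadraticChar_neg_one_iff_not_isSquare (F := K)).2 h1
      have k2 := (quadraticChar_neg_one_iff_not_isSquare (F := K)).2 hcs
      have k3 := (quadraticChar_neg_one_iff_not_isSquare (F := K)).2 hnc
      have : quadraticChar K (-c) = quadraticChar K (-1) * quadraticChar K c := by
        rw [← map_mul]; congr 1; ring
      rw [k1, k2, k3] at this
      norm_num at this
    obtain ⟨s, hs⟩ := hneg
    have hs0 : s ≠ 0 := by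
      rintro rfl
      rw [mul_zero, neg_eq_zero] at hs
      exact hc hs
    obtain ⟨g, hg, h9, h2⟩ := hsq s hs0
    refine ⟨g * hG (phi hK), mul_mem hg (hG_mem hK), h9.mul ⟨-1, neg_ne_zero.2 one_ne_zero, ?_⟩, ?_⟩
    · rw [e9, act_hG h3, smul_vec]
      simp only [mul_zero, mul_one, neg_zero]
    · have : act (hG (phi hK)) e2 = (-1 : K) • e2 := by
        rw [e2, act_hG h3, smul_vec]
        simp only [mul_zero, mul_one, neg_zero]
      rw [act_mul, this, act_smul, h2, smul_smul]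
      congr 1
      rw [pow_two, ← hs]; ring

/-- point stabiliser -/
abbrev S (K : Type*) [Field K] [Fintype K] (m : ℕ) : Type _ := {g : GL chevG2.Idx K // g ∈ twistedG2 K (3 ^ m) ∧ L2 g}
/-- two-point stabiliser -/
abbrev T (K : Type*) [Field K] [Fintype K] (m : ℕ) : Type _ :=
  {g : GL chevG2.Idx K // g ∈ twistedG2 K (3 ^ m) ∧ L2 g ∧ L9 g}

theorem card_T (hK : Fintype.card K = 3 ^ (2 * m + 1)) : Nat.card (T K m) = Nat.card Kˣ := by
  have h3 := three_eq_zero hK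
  refine Nat.card_congr (Equiv.ofBijective (fun g : T K m => Units.mk0 (Classical.choose g.2.2.1)
    (Classical.choose_spec g.2.2.1).1) ⟨?_, ?_⟩)
  · intro g g' h
    have h1 := (Classical.choose_spec g.2.2.1)
    have h2 := (Classical.choose_spec g'.2.2.1)
    have hcc : Classical.choose g.2.2.1 = Classical.choose g'.2.2.1 := by
      have := congrArg Units.val h
      exact this
    rw [hcc] at h1
    have hgg : Good (phi hK) (g.1⁻¹ * g'.1) := good_of_mem hK (mul_mem (inv_mem g.2.1) g'.2.1)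
    have e : act (g.1⁻¹ * g'.1) e2 = e2 := by
      rw [act_mul, h2.2, act_smul, act_inv_of h1.1 h1.2, smul_smul, mul_inv_cancel₀ h1.1, one_smul]
    obtain ⟨c, -, hc⟩ := g.2.2.2.inv.mul g'.2.2.2
    have := eq_one_of_fix_two h3 (phi_phi hK) hgg e hc
    exact Subtype.ext (inv_mul_eq_one.1 this)
  · intro c
    obtain ⟨g, hg, h9, h2⟩ := exists_torus hK (c := (c : K)) c.ne_zero
    refine ⟨⟨g, hg, ⟨c, c.ne_zero, h2⟩, h9⟩, ?_⟩
    apply Units.ext
    have := Classical.choose_spec (show L2 g from ⟨c, c.ne_zero, h2⟩)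
    exact smul_e2_inj (this.2.symm.trans h2)

theorem e9_not_e2 (h3 : (3 : K) = 0) {g : GL chevG2.Idx K} {c d : K} (hc : c ≠ 0) (hd : d ≠ 0)
    (h : act g e2 = c • e9) (h' : act g e9 = d • e9) : False := by
  have : act g (d • e2) = act g (c • e9) := by rw [act_smul, act_smul, h, h', smul_smul, smul_smul, mul_comm]
  have := congrFun (act_inj this) (E 2)
  rw [e2, e9, smul_vec, smul_vec, vec_E2, vec_E2, mul_one, mul_zero] at this
  exact hd this

theorem card_S (hK : Fintype.card K = 3 ^ (2 * m + 1)) : Nat.card (S K m) = Nat.card (K × K × K) * Nat.card (T K m) := by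
  have h3 := three_eq_zero hK
  set n := nG (phi hK) 1 with hn
  have hnm : n ∈ twistedG2 K (3 ^ m) := nG_mem hK 1
  rw [← Nat.card_prod]
  refine (Nat.card_congr (Equiv.ofBijective (fun a : (K × K × K) × T K m =>
    (⟨n⁻¹ * (uG (phi hK) a.1.1 a.1.2.1 a.1.2.2 * a.2.1) * n, ?_, ?_⟩ : S K m)) ⟨?_, ?_⟩)).symm
  · exact mul_mem (mul_mem (inv_mem hnm) (mul_mem (uG_mem hK _ _ _) a.2.2.1)) hnm
  · obtain ⟨c, hc, h⟩ := (L9_uG h3 (phi hK) a.1.1 a.1.2.1 a.1.2.2).mul a.2.2.2.2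
    refine ⟨c, hc, ?_⟩
    rw [act_mul, act_mul, n1_e2 h3, act_smul, h, act_smul, act_smul, n1inv_e9 h3, smul_smul, smul_smul]
    congr 1; ring
  · rintro ⟨⟨p, q, r⟩, g⟩ ⟨⟨p', q', r'⟩, g'⟩ h
    have h1 := congrArg Subtype.val h
    have h2 : uG (phi hK) p q r * g.1 = uG (phi hK) p' q' r' * g'.1 := by
      have := mul_right_cancel h1
      exact mul_left_cancel this
    obtain ⟨c, hc, hg⟩ := g.2.2.1
    obtain ⟨c', hc', hg'⟩ := g'.2.2.1
    have h4 : c • act (uG (phi hK) p q r) e2 = c' • act (uG (phi hK) p' q' r') e2 := by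
      rw [← act_smul, ← hg, ← act_mul, h2, act_mul, hg', act_smul]
    obtain ⟨rfl, rfl, rfl, -⟩ := uG_inj h3 _ h4 hc
    have := mul_left_cancel h2
    rw [Subtype.ext this]
  · rintro ⟨s, hs, h2⟩
    have hg9 : L9 (n * s * n⁻¹) := by
      obtain ⟨c, hc, h⟩ := h2
      refine ⟨c, hc, ?_⟩
      rw [act_mul, act_mul, n1inv_e9 h3, act_smul, h, act_smul, act_smul, n1_e2 h3, smul_smul, smul_smul]
      congr 1; ring
    have hgm : n * s * n⁻¹ ∈ twistedG2 K (3 ^ m) := mul_mem (mul_mem hnm hs) (inv_mem hnm)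
    rcases dichotomy h3 (phi_phi hK) (good_of_mem hK hgm) with ⟨c, hc, h⟩ | ⟨p, q, r, c, hc, h⟩
    · obtain ⟨d, hd, h'⟩ := hg9
      exact (e9_not_e2 h3 hc hd h h').elim
    · refine ⟨⟨⟨p, q, r⟩, ⟨(uG (phi hK) p q r)⁻¹ * (n * s * n⁻¹), mul_mem (inv_mem (uG_mem hK _ _ _)) hgm,
        ⟨c, hc, h⟩, (L9_uG h3 _ _ _ _).inv.mul hg9⟩⟩, ?_⟩
      apply Subtype.ext
      show n⁻¹ * (uG (phi hK) p q r * ((uG (phi hK) p q r)⁻¹ * (n * s * n⁻¹))) * n = s
      group

theorem card_G (hK : Fintype.card K = 3 ^ (2 * m + 1)) :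
    Nat.card (twistedG2 K (3 ^ m)) = Nat.card (S K m) + Nat.card (K × K × K) * Nat.card (S K m) := by
  have h3 := three_eq_zero hK
  have : Finite (Matrix chevG2.Idx chevG2.Idx K) := inferInstance
  have : Finite (GL chevG2.Idx K) := inferInstance
  set n := nG (phi hK) 1 with hn
  have hnm : n ∈ twistedG2 K (3 ^ m) := nG_mem hK 1
  rw [← Nat.card_prod, ← Nat.card_sum]
  refine (Nat.card_congr (Equiv.ofBijective (fun a : S K m ⊕ ((K × K × K) × S K m) => Sum.elim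
    (fun s : S K m => (⟨n * s.1, mul_mem hnm s.2.1⟩ : twistedG2 K (3 ^ m)))
    (fun a : (K × K × K) × S K m => (⟨uG (phi hK) a.1.1 a.1.2.1 a.1.2.2 * a.2.1,
      mul_mem (uG_mem hK _ _ _) a.2.2.1⟩ : twistedG2 K (3 ^ m))) a) ⟨?_, ?_⟩)).symm
  · have hmix : ∀ (s : S K m) (p q r : K) (s' : S K m), n * s.1 = uG (phi hK) p q r * s'.1 → False := by
      intro s p q r s' h
      obtain ⟨c, hc, hs⟩ := s.2.2
      obtain ⟨d, hd, hs'⟩ := s'.2.2
      obtain ⟨z7, z8, z9, hz⟩ := act_uG_e2 h3 (phi hK) p q r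
      have h1 : act (n * s.1) e2 = act (uG (phi hK) p q r * s'.1) e2 := by rw [h]
      rw [act_mul, act_mul, hs, hs', act_smul, act_smul, n1_e2 h3, hz, e9, smul_vec, smul_vec, smul_vec] at h1
      have := congrFun h1 (E 2)
      rw [vec_E2, vec_E2] at this
      exact hd (by linear_combination -this)
    rintro (s | ⟨⟨p, q, r⟩, s⟩) (s' | ⟨⟨p', q', r'⟩, s'⟩) h
    · have h1 : n * s.1 = n * s'.1 := congrArg Subtype.val h
      rw [Subtype.ext (mul_left_cancel h1)]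
    · exact (hmix _ _ _ _ _ (congrArg Subtype.val h)).elim
    · exact (hmix _ _ _ _ _ (congrArg Subtype.val h).symm).elim
    · have h2 : uG (phi hK) p q r * s.1 = uG (phi hK) p' q' r' * s'.1 := congrArg Subtype.val h
      obtain ⟨c, hc, hg⟩ := s.2.2
      obtain ⟨c', hc', hg'⟩ := s'.2.2
      have h4 : c • act (uG (phi hK) p q r) e2 = c' • act (uG (phi hK) p' q' r') e2 := by
        rw [← act_smul, ← hg, ← act_mul, h2, act_mul, hg', act_smul]
      obtain ⟨rfl, rfl, rfl, -⟩ := uG_inj h3 _ h4 hc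
      rw [Subtype.ext (mul_left_cancel h2)]
  · rintro ⟨g, hg⟩
    rcases dichotomy h3 (phi_phi hK) (good_of_mem hK hg) with ⟨c, hc, h⟩ | ⟨p, q, r, c, hc, h⟩
    · refine ⟨Sum.inl ⟨n⁻¹ * g, mul_mem (inv_mem hnm) hg, ⟨-c, neg_ne_zero.2 hc, ?_⟩⟩, ?_⟩
      · rw [act_mul, h, act_smul, n1inv_e9 h3, smul_smul]
        congr 1; ring
      · apply Subtype.ext
        show n * (n⁻¹ * g) = g
        group
    · refine ⟨Sum.inr ⟨⟨p, q, r⟩, ⟨(uG (phi hK) p q r)⁻¹ * g, mul_mem (inv_mem (uG_mem hK _ _ _)) hg,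
        ⟨c, hc, h⟩⟩⟩, ?_⟩
      apply Subtype.ext
      show uG (phi hK) p q r * ((uG (phi hK) p q r)⁻¹ * g) = g
      group

/-- The order of the small Ree group. -/
theorem card_twistedG2 (hK : Fintype.card K = 3 ^ (2 * m + 1)) :
    Nat.card (twistedG2 K (3 ^ m)) =
      (3 ^ (2 * m + 1)) ^ 3 * (3 ^ (2 * m + 1) - 1) * ((3 ^ (2 * m + 1)) ^ 3 + 1) := by
  classical
  have hq : Nat.card K = 3 ^ (2 * m + 1) := by rw [Nat.card_eq_fintype_card, hK]
  have hu : Nat.card Kˣ = 3 ^ (2 * m + 1) - 1 := by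
    rw [Nat.card_eq_fintype_card, Fintype.card_units, hK]
  rw [card_G hK, card_S hK, card_T hK, Nat.card_prod, Nat.card_prod, hq, hu]
  ring

end Cfsg.Agent.ChevalleyStructure.ReeCount
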