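import Cfsg.Agent.ChevalleyStructure.ReeRel

/-!
# The Ree words: `W = W̄` in characteristic 3, the element `n₀`, and the involution `h(-1)` as a word

All identities are checked by the kernel with the word checker.
-/

set_option autoImplicit false
set_option linter.unusedSimpArgs false

namespace Cfsg.Agent.ChevalleyStructure.ReeWords

open Cfsg.Lie Cfsg.Agent.ChevalleyStructure.WordCheck Cfsg.Agent.ChevalleyStructure.ReeVec

variable {K : Type*} [Field K]

/-- `x_a(p) x_b(P) x_{a+b}(pP+q) x_{2a+b}(p²P+r) x_{3a+b}(Q) x_{3a+2b}(R)` -/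
def uW (p P q Q r R : K) : List (ℕ × K) :=
  [(7, p), (6, P), (8, p * P + q), (9, p ^ 2 * P + r), (10, Q), (11, R)]

/-- the image of `uW` under the graph automorphism and Frobenius -/
def uW' (p P q Q r R : K) : List (ℕ × K) :=
  [(6, P), (7, p), (10, p ^ 3 * P + Q), (11, P ^ 2 * p ^ 3 + R), (8, q), (9, r)]

/-- image under `x_r(c) ↦ x_{-r}(-c)` -/
def vW (p P q Q r R : K) : List (ℕ × K) :=
  [(4, -p), (5, -P), (3, -(p * P + q)), (2, -(p ^ 2 * P + r)), (1, -Q), (0, -R)]

def vW' (p P q Q r R : K) : List (ℕ × K) :=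
  [(5, -P), (4, -p), (1, -(p ^ 3 * P + Q)), (0, -(P ^ 2 * p ^ 3 + R)), (3, -q), (2, -r)]


def val (a : List K) (i : ℕ) : K := a.getD i 0

set_option maxRecDepth 100000 in
theorem uW_eq (h3 : (3 : K) = 0) (p P q Q r R : K) :
    chevG2.wordMat K (uW p P q Q r R) = chevG2.wordMat K (uW' p P q Q r R) := by
  have h := wordMat_eq_of_check chevG2 (val [p, P, q, Q, r, R]) 3 0 6
    [(7, .var 0), (6, .var 1), (8, .add (.mul (.var 0) (.var 1)) (.var 2)),
      (9, .add (.mul (.pow (.var 0) 2) (.var 1)) (.var 4)), (10, .var 3), (11, .var 5)]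
    [(6, .var 1), (7, .var 0), (10, .add (.mul (.pow (.var 0) 3) (.var 1)) (.var 3)),
      (11, .add (.mul (.pow (.var 1) 2) (.pow (.var 0) 3)) (.var 5)), (8, .var 2), (9, .var 4)]
    (by decide +kernel) (by exact_mod_cast h3) (by intro i hi; omega)
  simpa [wval, PExpr.denote, val, uW, uW'] using h

set_option maxRecDepth 100000 in
theorem vW_eq (h3 : (3 : K) = 0) (p P q Q r R : K) :
    chevG2.wordMat K (vW p P q Q r R) = chevG2.wordMat K (vW' p P q Q r R) := by
  have h := wordMat_eq_of_check chevG2 (val [p, P, q, Q, r, R]) 3 0 6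
    [(4, .neg (.var 0)), (5, .neg (.var 1)), (3, .neg (.add (.mul (.var 0) (.var 1)) (.var 2))),
      (2, .neg (.add (.mul (.pow (.var 0) 2) (.var 1)) (.var 4))), (1, .neg (.var 3)), (0, .neg (.var 5))]
    [(5, .neg (.var 1)), (4, .neg (.var 0)), (1, .neg (.add (.mul (.pow (.var 0) 3) (.var 1)) (.var 3))),
      (0, .neg (.add (.mul (.pow (.var 1) 2) (.pow (.var 0) 3)) (.var 5))), (3, .neg (.var 2)), (2, .neg (.var 4))]
    (by decide +kernel) (by exact_mod_cast h3) (by intro i hi; omega)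
  simpa [wval, PExpr.denote, val, vW, vW'] using h

/-- columns of the monomial matrix n₀ -/
def nCol : ℕ → List (ℕ × PExpr)
  | 0 => [(0, .neg (.const 1))]
  | 1 => [(1, .neg (.const 1))]
  | 2 => [(13, .neg (.mul (.pow (.var 0) 3) (.var 2)))]
  | 3 => [(12, .neg (.pow (.var 2) 2))]
  | 4 => [(11, .neg (.mul (.var 0) (.var 2)))]
  | 5 => [(10, .neg (.pow (.var 0) 2))]
  | 6 => [(9, .neg (.mul (.var 1) (.var 2)))]
  | 7 => [(8, .neg (.mul (.pow (.var 0) 3) (.var 3)))]
  | 8 => [(7, .neg (.mul (.pow (.var 1) 3) (.var 2)))]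
  | 9 => [(6, .neg (.mul (.var 0) (.var 3)))]
  | 10 => [(5, .neg (.pow (.var 1) 2))]
  | 11 => [(4, .neg (.mul (.var 1) (.var 3)))]
  | 12 => [(3, .neg (.pow (.var 3) 2))]
  | 13 => [(2, .neg (.mul (.pow (.var 1) 3) (.var 3)))]
  | _ => []

/-- `n₀(q, Q) = x_{a+b}(q) x_{3a+b}(Q) x_{-a-b}(-q⁻¹) x_{-3a-b}(-Q⁻¹) x_{a+b}(q) x_{3a+b}(Q)` -/
def nW (q Q : K) : List (ℕ × K) := [(8, q), (10, Q), (3, -q⁻¹), (1, -Q⁻¹), (8, q), (10, Q)]

set_option maxRecDepth 100000 in
set_option maxHeartbeats 4000000 in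
theorem nW_mulVec (h3 : (3 : K) = 0) {q Q : K} (hq : q ≠ 0) (hQ : Q ≠ 0) (a b x0 x1 x2 x3 x4 x5 x6 x7 x8 x9 x10 x11 : K) :
    (chevG2.wordMat K (nW q Q)).mulVec (vec a b x0 x1 x2 x3 x4 x5 x6 x7 x8 x9 x10 x11) =
      vec (-(1 * a)) (-(1 * b)) (-((q⁻¹ ^ 3 * Q⁻¹) * x11)) (-((Q⁻¹ ^ 2) * x10)) (-((q⁻¹ * Q⁻¹) * x9)) (-((q⁻¹ ^ 2) * x8)) (-((q * Q⁻¹) * x7)) (-((q⁻¹ ^ 3 * Q) * x6)) (-((q ^ 3 * Q⁻¹) * x5)) (-((q⁻¹ * Q) * x4)) (-((q ^ 2) * x3)) (-((q * Q) * x2)) (-((Q ^ 2) * x1)) (-((q ^ 3 * Q) * x0)) := by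
  have h := wmat_eq_of_check chevG2 (val [q, q⁻¹, Q, Q⁻¹]) 3 2 4
    (xw [(8, .var 0), (10, .var 2), (3, .neg (.var 1)), (1, .neg (.var 3)), (8, .var 0), (10, .var 2)])
    [.gen nCol]
    (by decide +kernel) (by exact_mod_cast h3) (by
      intro i hi
      interval_cases i
      · simpa [val] using mul_inv_cancel₀ hq
      · simpa [val] using mul_inv_cancel₀ hQ)
  rw [wmat_xw] at h
  have h' : chevG2.wordMat K (nW q Q) = (Letter.gen nCol).mat chevG2 (val [q, q⁻¹, Q, Q⁻¹]) := by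
    have : wval (val [q, q⁻¹, Q, Q⁻¹])
        [(8, .var 0), (10, .var 2), (3, .neg (.var 1)), (1, .neg (.var 3)), (8, .var 0), (10, .var 2)] = nW q Q := by
      simp [wval, PExpr.denote, val, nW]
    rw [this] at h
    simpa [wmat] using h
  have key : ∀ i, ((chevG2.wordMat K (nW q Q)).mulVec (vec a b x0 x1 x2 x3 x4 x5 x6 x7 x8 x9 x10 x11)) i =
      colEntry (val [q, q⁻¹, Q, Q⁻¹]) (code chevG2 i) (nCol 0) * a
      + colEntry (val [q, q⁻¹, Q, Q⁻¹]) (code chevG2 i) (nCol 1) * b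
      + colEntry (val [q, q⁻¹, Q, Q⁻¹]) (code chevG2 i) (nCol 2) * x0
      + colEntry (val [q, q⁻¹, Q, Q⁻¹]) (code chevG2 i) (nCol 3) * x1
      + colEntry (val [q, q⁻¹, Q, Q⁻¹]) (code chevG2 i) (nCol 4) * x2
      + colEntry (val [q, q⁻¹, Q, Q⁻¹]) (code chevG2 i) (nCol 5) * x3
      + colEntry (val [q, q⁻¹, Q, Q⁻¹]) (code chevG2 i) (nCol 6) * x4
      + colEntry (val [q, q⁻¹, Q, Q⁻¹]) (code chevG2 i) (nCol 7) * x5
      + colEntry (val [q, q⁻¹, Q, Q⁻¹]) (code chevG2 i) (nCol 8) * x6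
      + colEntry (val [q, q⁻¹, Q, Q⁻¹]) (code chevG2 i) (nCol 9) * x7
      + colEntry (val [q, q⁻¹, Q, Q⁻¹]) (code chevG2 i) (nCol 10) * x8
      + colEntry (val [q, q⁻¹, Q, Q⁻¹]) (code chevG2 i) (nCol 11) * x9
      + colEntry (val [q, q⁻¹, Q, Q⁻¹]) (code chevG2 i) (nCol 12) * x10
      + colEntry (val [q, q⁻¹, Q, Q⁻¹]) (code chevG2 i) (nCol 13) * x11 := by
    intro i
    rw [h', Matrix.mulVec, dotProduct, sum_idx]
    rfl
  refine vec_ext ?_ ?_ ?_ ?_ ?_ ?_ ?_ ?_ ?_ ?_ ?_ ?_ ?_ ?_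
  · rw [key, show code chevG2 (H 0) = 0 from rfl, vec_H0]; simp [nCol, colEntry, PExpr.denote, val]
  · rw [key, show code chevG2 (H 1) = 1 from rfl, vec_H1]; simp [nCol, colEntry, PExpr.denote, val]
  · rw [key, show code chevG2 (E 0) = 2 from rfl, vec_E0]; simp [nCol, colEntry, PExpr.denote, val]
  · rw [key, show code chevG2 (E 1) = 3 from rfl, vec_E1]; simp [nCol, colEntry, PExpr.denote, val]
  · rw [key, show code chevG2 (E 2) = 4 from rfl, vec_E2]; simp [nCol, colEntry, PExpr.denote, val]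
  · rw [key, show code chevG2 (E 3) = 5 from rfl, vec_E3]; simp [nCol, colEntry, PExpr.denote, val]
  · rw [key, show code chevG2 (E 4) = 6 from rfl, vec_E4]; simp [nCol, colEntry, PExpr.denote, val]
  · rw [key, show code chevG2 (E 5) = 7 from rfl, vec_E5]; simp [nCol, colEntry, PExpr.denote, val]
  · rw [key, show code chevG2 (E 6) = 8 from rfl, vec_E6]; simp [nCol, colEntry, PExpr.denote, val]
  · rw [key, show code chevG2 (E 7) = 9 from rfl, vec_E7]; simp [nCol, colEntry, PExpr.denote, val]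
  · rw [key, show code chevG2 (E 8) = 10 from rfl, vec_E8]; simp [nCol, colEntry, PExpr.denote, val]
  · rw [key, show code chevG2 (E 9) = 11 from rfl, vec_E9]; simp [nCol, colEntry, PExpr.denote, val]
  · rw [key, show code chevG2 (E 10) = 12 from rfl, vec_E10]; simp [nCol, colEntry, PExpr.denote, val]
  · rw [key, show code chevG2 (E 11) = 13 from rfl, vec_E11]; simp [nCol, colEntry, PExpr.denote, val]

/-- columns of the diagonal matrix h(-1) -/
def hCol : ℕ → List (ℕ × PExpr)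
  | 0 => [(0, .const (1))]
  | 1 => [(1, .const (1))]
  | 2 => [(2, .const (-1))]
  | 3 => [(3, .const (1))]
  | 4 => [(4, .const (-1))]
  | 5 => [(5, .const (1))]
  | 6 => [(6, .const (-1))]
  | 7 => [(7, .const (-1))]
  | 8 => [(8, .const (-1))]
  | 9 => [(9, .const (-1))]
  | 10 => [(10, .const (1))]
  | 11 => [(11, .const (-1))]
  | 12 => [(12, .const (1))]
  | 13 => [(13, .const (-1))]
  | _ => []

set_option maxRecDepth 100000 in
set_option maxHeartbeats 4000000 in
/-- the involution `h(-1)` as a product of four generators with parameters in the prime field -/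
theorem hW_mulVec (h3 : (3 : K) = 0) (a b x0 x1 x2 x3 x4 x5 x6 x7 x8 x9 x10 x11 : K) :
    (chevG2.wordMat K (uW 0 0 0 0 1 1) * chevG2.wordMat K (vW 0 0 1 1 0 0) *
      chevG2.wordMat K (uW 0 0 (-1) (-1) (-1) (-1)) * chevG2.wordMat K (vW 1 1 1 1 (-1) (-1))).mulVec
        (vec a b x0 x1 x2 x3 x4 x5 x6 x7 x8 x9 x10 x11) =
      vec a b (-x0) x1 (-x2) x3 (-x4) (-x5) (-x6) (-x7) x8 (-x9) x10 (-x11) := by
  have h := wmat_eq_of_check chevG2 (val ([] : List K)) 3 0 0
    (xw [(7, .const 0), (6, .const 0), (8, .const 0), (9, .const 1), (10, .const 0), (11, .const 1),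
      (4, .const 0), (5, .const 0), (3, .const (-1)), (2, .const 0), (1, .const (-1)), (0, .const 0),
      (7, .const 0), (6, .const 0), (8, .const (-1)), (9, .const (-1)), (10, .const (-1)), (11, .const (-1)),
      (4, .const (-1)), (5, .const (-1)), (3, .const (-2)), (2, .const 0), (1, .const (-1)), (0, .const 1)])
    [.gen hCol]
    (by decide +kernel) (by exact_mod_cast h3) (by intro i hi; omega)
  rw [wmat_xw] at h
  have h' : chevG2.wordMat K (uW 0 0 0 0 1 1) * chevG2.wordMat K (vW 0 0 1 1 0 0) *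
      chevG2.wordMat K (uW 0 0 (-1) (-1) (-1) (-1)) * chevG2.wordMat K (vW 1 1 1 1 (-1) (-1)) =
      (Letter.gen hCol).mat chevG2 (val ([] : List K)) := by
    have : wval (val ([] : List K)) [(7, .const 0), (6, .const 0), (8, .const 0), (9, .const 1), (10, .const 0), (11, .const 1),
      (4, .const 0), (5, .const 0), (3, .const (-1)), (2, .const 0), (1, .const (-1)), (0, .const 0),
      (7, .const 0), (6, .const 0), (8, .const (-1)), (9, .const (-1)), (10, .const (-1)), (11, .const (-1)),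
      (4, .const (-1)), (5, .const (-1)), (3, .const (-2)), (2, .const 0), (1, .const (-1)), (0, .const 1)] =
      uW 0 0 0 0 1 1 ++ vW 0 0 1 1 0 0 ++ uW 0 0 (-1) (-1) (-1) (-1) ++ vW 1 1 1 1 (-1) (-1) := by
      simp [wval, PExpr.denote, uW, vW]
      norm_num
    rw [this] at h
    simpa [wmat, ChevalleyDatum.wordMat, List.map_append, List.prod_append, mul_assoc] using h
  have key : ∀ i, ((chevG2.wordMat K (uW 0 0 0 0 1 1) * chevG2.wordMat K (vW 0 0 1 1 0 0) *
      chevG2.wordMat K (uW 0 0 (-1) (-1) (-1) (-1)) * chevG2.wordMat K (vW 1 1 1 1 (-1) (-1))).mulVec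
        (vec a b x0 x1 x2 x3 x4 x5 x6 x7 x8 x9 x10 x11)) i =
      colEntry (val ([] : List K)) (code chevG2 i) (hCol 0) * a
      + colEntry (val ([] : List K)) (code chevG2 i) (hCol 1) * b
      + colEntry (val ([] : List K)) (code chevG2 i) (hCol 2) * x0
      + colEntry (val ([] : List K)) (code chevG2 i) (hCol 3) * x1
      + colEntry (val ([] : List K)) (code chevG2 i) (hCol 4) * x2
      + colEntry (val ([] : List K)) (code chevG2 i) (hCol 5) * x3
      + colEntry (val ([] : List K)) (code chevG2 i) (hCol 6) * x4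
      + colEntry (val ([] : List K)) (code chevG2 i) (hCol 7) * x5
      + colEntry (val ([] : List K)) (code chevG2 i) (hCol 8) * x6
      + colEntry (val ([] : List K)) (code chevG2 i) (hCol 9) * x7
      + colEntry (val ([] : List K)) (code chevG2 i) (hCol 10) * x8
      + colEntry (val ([] : List K)) (code chevG2 i) (hCol 11) * x9
      + colEntry (val ([] : List K)) (code chevG2 i) (hCol 12) * x10
      + colEntry (val ([] : List K)) (code chevG2 i) (hCol 13) * x11 := by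
    intro i
    rw [h', Matrix.mulVec, dotProduct, sum_idx]
    rfl
  refine vec_ext ?_ ?_ ?_ ?_ ?_ ?_ ?_ ?_ ?_ ?_ ?_ ?_ ?_ ?_
  · rw [key, show code chevG2 (H 0) = 0 from rfl, vec_H0]; simp [hCol, colEntry, PExpr.denote]
  · rw [key, show code chevG2 (H 1) = 1 from rfl, vec_H1]; simp [hCol, colEntry, PExpr.denote]
  · rw [key, show code chevG2 (E 0) = 2 from rfl, vec_E0]; simp [hCol, colEntry, PExpr.denote]
  · rw [key, show code chevG2 (E 1) = 3 from rfl, vec_E1]; simp [hCol, colEntry, PExpr.denote]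
  · rw [key, show code chevG2 (E 2) = 4 from rfl, vec_E2]; simp [hCol, colEntry, PExpr.denote]
  · rw [key, show code chevG2 (E 3) = 5 from rfl, vec_E3]; simp [hCol, colEntry, PExpr.denote]
  · rw [key, show code chevG2 (E 4) = 6 from rfl, vec_E4]; simp [hCol, colEntry, PExpr.denote]
  · rw [key, show code chevG2 (E 5) = 7 from rfl, vec_E5]; simp [hCol, colEntry, PExpr.denote]
  · rw [key, show code chevG2 (E 6) = 8 from rfl, vec_E6]; simp [hCol, colEntry, PExpr.denote]
  · rw [key, show code chevG2 (E 7) = 9 from rfl, vec_E7]; simp [hCol, colEntry, PExpr.denote]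
  · rw [key, show code chevG2 (E 8) = 10 from rfl, vec_E8]; simp [hCol, colEntry, PExpr.denote]
  · rw [key, show code chevG2 (E 9) = 11 from rfl, vec_E9]; simp [hCol, colEntry, PExpr.denote]
  · rw [key, show code chevG2 (E 10) = 12 from rfl, vec_E10]; simp [hCol, colEntry, PExpr.denote]
  · rw [key, show code chevG2 (E 11) = 13 from rfl, vec_E11]; simp [hCol, colEntry, PExpr.denote]

end Cfsg.Agent.ChevalleyStructure.ReeWords
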