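import Cfsg.Agent.ChevalleyStructure.ReeOvoid
import Cfsg.Agent.ChevalleyStructure.ReeWords

/-!
# Elements of the small Ree group: automorphisms of the Lie bracket compatible with `φ`
-/

set_option autoImplicit false
set_option linter.unusedVariables false
set_option linter.unusedSectionVars false

namespace Cfsg.Agent.ChevalleyStructure.ReeGroup

open Cfsg.Lie Cfsg.Agent.ChevalleyStructure.WordCheck Cfsg.Agent.ChevalleyStructure.ReeVec
open Cfsg.Agent.ChevalleyStructure.ReeBr Cfsg.Agent.ChevalleyStructure.ReeRel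
open Cfsg.Agent.ChevalleyStructure.ReeOvoid Cfsg.Agent.ChevalleyStructure.ReeWords
open scoped Matrix

variable {K : Type*} [Field K]

/-- a matrix preserves the bracket -/
def IsAut (M : Matrix chevG2.Idx chevG2.Idx K) : Prop :=
  ∀ u v, M *ᵥ (br u v) = br (M *ᵥ u) (M *ᵥ v)

/-- a matrix preserves the relation `Rel φ` -/
def IsRel (φ : K →+* K) (M : Matrix chevG2.Idx chevG2.Idx K) : Prop :=
  ∀ v X, Rel φ v X → Rel φ (M *ᵥ v) (M *ᵥ X)

theorem isAut_one : IsAut (1 : Matrix chevG2.Idx chevG2.Idx K) := by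
  intro u v; simp only [Matrix.one_mulVec]

theorem IsAut.mul {M N : Matrix chevG2.Idx chevG2.Idx K} (hM : IsAut M) (hN : IsAut N) : IsAut (M * N) := by
  intro u v
  simp only [← Matrix.mulVec_mulVec]
  rw [hN, hM]

theorem isRel_one (φ : K →+* K) : IsRel φ (1 : Matrix chevG2.Idx chevG2.Idx K) := by
  intro v X h; simpa only [Matrix.one_mulVec] using h

theorem IsRel.mul {φ : K →+* K} {M N : Matrix chevG2.Idx chevG2.Idx K} (hM : IsRel φ M) (hN : IsRel φ N) :
    IsRel φ (M * N) := by
  intro v X h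
  simp only [← Matrix.mulVec_mulVec]
  exact hM _ _ (hN _ _ h)

theorem x_of_le {r : ℕ} (hr : ¬ r < 12) (t : K) : chevG2.x K r t = 1 := by
  have : ¬ r < chevG2.nroots := hr
  rw [ChevalleyDatum.x, dif_neg this]

theorem isAut_x (r : ℕ) (t : K) : IsAut (chevG2.x K r t) := by
  by_cases hr : r < 12
  · interval_cases r
    exacts [x0_br t, x1_br t, x2_br t, x3_br t, x4_br t, x5_br t, x6_br t, x7_br t, x8_br t, x9_br t,
      x10_br t, x11_br t]
  · rw [x_of_le hr]; exact isAut_one

theorem isAut_word (w : List (ℕ × K)) : IsAut (chevG2.wordMat K w) := by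
  induction w with
  | nil => exact isAut_one
  | cons p w ih =>
    have : chevG2.wordMat K (p :: w) = chevG2.x K p.1 p.2 * chevG2.wordMat K w := by
      simp [ChevalleyDatum.wordMat]
    rw [this]
    exact (isAut_x _ _).mul ih

theorem wordMat_cons (p : ℕ × K) (w : List (ℕ × K)) :
    chevG2.wordMat K (p :: w) = chevG2.x K p.1 p.2 * chevG2.wordMat K w := by
  simp [ChevalleyDatum.wordMat]

theorem wordMat_nil : chevG2.wordMat K [] = 1 := by
  simp [ChevalleyDatum.wordMat]

theorem wordMat_cons_mulVec (p : ℕ × K) (w : List (ℕ × K)) (v : chevG2.Idx → K) :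
    chevG2.wordMat K (p :: w) *ᵥ v = chevG2.x K p.1 p.2 *ᵥ (chevG2.wordMat K w *ᵥ v) := by
  rw [wordMat_cons, Matrix.mulVec_mulVec]

theorem wordMat_nil_mulVec (v : chevG2.Idx → K) : chevG2.wordMat K [] *ᵥ v = v := by
  rw [wordMat_nil, Matrix.one_mulVec]

theorem isRel_uW (h3 : (3 : K) = 0) {φ : K →+* K} (hφ : ∀ x, φ (φ x) = x ^ 3) (p q r : K) :
    IsRel φ (chevG2.wordMat K (uW p (φ p) q (φ q) r (φ r))) := by
  intro v X h
  have e : chevG2.wordMat K (uW p (φ p) q (φ q) r (φ r)) *ᵥ X =
      chevG2.wordMat K (uW' p (φ p) q (φ q) r (φ r)) *ᵥ X := by rw [uW_eq h3]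
  rw [e]
  simp only [uW, uW', wordMat_cons_mulVec, wordMat_nil_mulVec]
  refine rel_x7 h3 rfl (rel_x6 h3 (hφ p) (rel_x8 h3 ?_ (rel_x9 h3 ?_ (rel_x10 h3 (hφ q) (rel_x11 h3 (hφ r) h)))))
  · simp only [map_add, map_mul, hφ]; ring
  · simp only [map_add, map_mul, map_pow, hφ]

theorem isRel_vW (h3 : (3 : K) = 0) {φ : K →+* K} (hφ : ∀ x, φ (φ x) = x ^ 3) (p q r : K) :
    IsRel φ (chevG2.wordMat K (vW p (φ p) q (φ q) r (φ r))) := by
  intro v X h
  have e : chevG2.wordMat K (vW p (φ p) q (φ q) r (φ r)) *ᵥ X =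
      chevG2.wordMat K (vW' p (φ p) q (φ q) r (φ r)) *ᵥ X := by rw [vW_eq h3]
  rw [e]
  simp only [vW, vW', wordMat_cons_mulVec, wordMat_nil_mulVec]
  refine rel_x4 h3 ?_ (rel_x5 h3 ?_ (rel_x3 h3 ?_ (rel_x2 h3 ?_ (rel_x1 h3 ?_ (rel_x0 h3 ?_ h)))))
  · simp only [map_neg]
  · simp only [map_neg, hφ]; ring
  · simp only [map_neg, map_add, map_mul, hφ]; ring
  · simp only [map_neg, map_add, map_mul, map_pow, hφ]
  · simp only [map_neg, hφ]; ring
  · simp only [map_neg, hφ]; ring

/-! ### Group elements -/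

set_option maxRecDepth 100000 in
theorem x_mul_neg (r : ℕ) (t : K) : chevG2.x K r t * chevG2.x K r (-t) = 1 := by
  by_cases hr : r < 12
  · have h := wordMat_eq_of_check chevG2 (val [t]) 0 0 1 [(r, .var 0), (r, .neg (.var 0))] []
      (by interval_cases r <;> decide +kernel) (by simp) (by intro i hi; omega)
    simpa [wval, PExpr.denote, val, ChevalleyDatum.wordMat] using h
  · rw [x_of_le hr, x_of_le hr, mul_one]

/-- root elements as group elements -/
def xG (r : ℕ) (t : K) : GL chevG2.Idx K :=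
  ⟨chevG2.x K r t, chevG2.x K r (-t), x_mul_neg r t, by simpa using x_mul_neg r (-t)⟩

/-- words as group elements -/
def wG (w : List (ℕ × K)) : GL chevG2.Idx K := (w.map fun p => xG p.1 p.2).prod

theorem coe_wG (w : List (ℕ × K)) : ((wG w : GL chevG2.Idx K) : Matrix _ _ K) = chevG2.wordMat K w := by
  induction w with
  | nil => simp [wG, ChevalleyDatum.wordMat]
  | cons p w ih =>
    rw [wordMat_cons, ← ih]
    simp [wG]
    rfl

/-- action of the general linear group on vectors -/
def act (g : GL chevG2.Idx K) (v : chevG2.Idx → K) : chevG2.Idx → K := (g : Matrix _ _ K) *ᵥ v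

theorem act_one (v : chevG2.Idx → K) : act 1 v = v := by simp [act]
theorem act_mul (g h : GL chevG2.Idx K) (v : chevG2.Idx → K) : act (g * h) v = act g (act h v) := by
  simp [act, Matrix.mulVec_mulVec]
theorem act_inv (g : GL chevG2.Idx K) (v : chevG2.Idx → K) : act g⁻¹ (act g v) = v := by
  rw [← act_mul, inv_mul_cancel, act_one]
theorem act_inv' (g : GL chevG2.Idx K) (v : chevG2.Idx → K) : act g (act g⁻¹ v) = v := by
  rw [← act_mul, mul_inv_cancel, act_one]
theorem act_smul (g : GL chevG2.Idx K) (c : K) (v : chevG2.Idx → K) : act g (c • v) = c • act g v := by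
  simp [act, Matrix.mulVec_smul]
theorem act_add (g : GL chevG2.Idx K) (u v : chevG2.Idx → K) : act g (u + v) = act g u + act g v := by
  simp [act, Matrix.mulVec_add]
theorem act_zero (g : GL chevG2.Idx K) : act g 0 = 0 := by
  simp [act]
theorem act_inj {g : GL chevG2.Idx K} {u v : chevG2.Idx → K} (h : act g u = act g v) : u = v := by
  rw [← act_inv g u, h, act_inv]

theorem ext_act {g h : GL chevG2.Idx K} (H : ∀ v, act g v = act h v) : g = h := by
  apply Units.ext
  apply Matrix.ext
  intro i j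
  have := congrFun (H (Pi.single j 1)) i
  simpa [act] using this

/-- automorphisms of the bracket compatible with `φ` -/
structure Good (φ : K →+* K) (g : GL chevG2.Idx K) : Prop where
  aut : ∀ u v, act g (br u v) = br (act g u) (act g v)
  rel : ∀ v X, Rel φ v X → Rel φ (act g v) (act g X)

theorem Good.one (φ : K →+* K) : Good φ 1 :=
  ⟨fun u v => by simp only [act_one], fun v X h => by simpa only [act_one] using h⟩

theorem Good.mul {φ : K →+* K} {g h : GL chevG2.Idx K} (hg : Good φ g) (hh : Good φ h) : Good φ (g * h) :=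
  ⟨fun u v => by rw [act_mul, hh.aut, hg.aut, act_mul, act_mul],
   fun v X H => by rw [act_mul, act_mul]; exact hg.rel _ _ (hh.rel _ _ H)⟩

theorem Good.pow {φ : K →+* K} {g : GL chevG2.Idx K} (hg : Good φ g) (n : ℕ) : Good φ (g ^ n) := by
  induction n with
  | zero => rw [pow_zero]; exact Good.one φ
  | succ n ih => rw [pow_succ]; exact ih.mul hg

theorem inv_eq_pow {G : Type*} [Group G] [Finite G] (g : G) : g⁻¹ = g ^ (orderOf g - 1) := by
  apply inv_eq_of_mul_eq_one_left
  rw [← pow_succ, Nat.sub_add_cancel (orderOf_pos g), pow_orderOf_eq_one]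

theorem Good.inv [Finite K] {φ : K →+* K} {g : GL chevG2.Idx K} (hg : Good φ g) : Good φ g⁻¹ := by
  have : Finite (Matrix chevG2.Idx chevG2.Idx K) := inferInstance
  have : Finite (GL chevG2.Idx K) := inferInstance
  rw [inv_eq_pow]
  exact hg.pow _

theorem good_of_word {φ : K →+* K} {w : List (ℕ × K)} (h : IsRel φ (chevG2.wordMat K w))
    {g : GL chevG2.Idx K} (hg : (g : Matrix _ _ K) = chevG2.wordMat K w) : Good φ g :=
  ⟨fun u v => by simp only [act, hg]; exact isAut_word w u v,
   fun v X H => by simp only [act, hg]; exact h v X H⟩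

end Cfsg.Agent.ChevalleyStructure.ReeGroup
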