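import Cfsg.Agent.ChevalleyStructure.ReeGroup

/-!
# The Ree ovoid dichotomy and the two-point stabiliser
-/

set_option autoImplicit false
set_option linter.unusedVariables false
set_option linter.unusedSectionVars false

namespace Cfsg.Agent.ChevalleyStructure.ReeMain

open Cfsg.Lie Cfsg.Agent.ChevalleyStructure.WordCheck Cfsg.Agent.ChevalleyStructure.ReeVec
open Cfsg.Agent.ChevalleyStructure.ReeBr Cfsg.Agent.ChevalleyStructure.ReeRel
open Cfsg.Agent.ChevalleyStructure.ReeOvoid Cfsg.Agent.ChevalleyStructure.ReeWords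
open Cfsg.Agent.ChevalleyStructure.ReeGroup
open scoped Matrix

variable {K : Type*} [Field K]

theorem smul_vec (c a b x0 x1 x2 x3 x4 x5 x6 x7 x8 x9 x10 x11 : K) :
    c • vec a b x0 x1 x2 x3 x4 x5 x6 x7 x8 x9 x10 x11 =
      vec (c * a) (c * b) (c * x0) (c * x1) (c * x2) (c * x3) (c * x4) (c * x5) (c * x6) (c * x7) (c * x8)
        (c * x9) (c * x10) (c * x11) :=
  vec_ext rfl rfl rfl rfl rfl rfl rfl rfl rfl rfl rfl rfl rfl rfl

theorem add_vec (a b x0 x1 x2 x3 x4 x5 x6 x7 x8 x9 x10 x11 c d y0 y1 y2 y3 y4 y5 y6 y7 y8 y9 y10 y11 : K) :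
    vec a b x0 x1 x2 x3 x4 x5 x6 x7 x8 x9 x10 x11 + vec c d y0 y1 y2 y3 y4 y5 y6 y7 y8 y9 y10 y11 =
      vec (a + c) (b + d) (x0 + y0) (x1 + y1) (x2 + y2) (x3 + y3) (x4 + y4) (x5 + y5) (x6 + y6) (x7 + y7)
        (x8 + y8) (x9 + y9) (x10 + y10) (x11 + y11) :=
  vec_ext rfl rfl rfl rfl rfl rfl rfl rfl rfl rfl rfl rfl rfl rfl

theorem zero_vec : (0 : chevG2.Idx → K) = vec 0 0 0 0 0 0 0 0 0 0 0 0 0 0 :=
  vec_ext rfl rfl rfl rfl rfl rfl rfl rfl rfl rfl rfl rfl rfl rfl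

/-- the basis vectors -/
def h1 : chevG2.Idx → K := vec 1 0 0 0 0 0 0 0 0 0 0 0 0 0
def e0 : chevG2.Idx → K := vec 0 0 1 0 0 0 0 0 0 0 0 0 0 0
def e2 : chevG2.Idx → K := vec 0 0 0 0 1 0 0 0 0 0 0 0 0 0
def e3 : chevG2.Idx → K := vec 0 0 0 0 0 1 0 0 0 0 0 0 0 0
def e4 : chevG2.Idx → K := vec 0 0 0 0 0 0 1 0 0 0 0 0 0 0
def e7 : chevG2.Idx → K := vec 0 0 0 0 0 0 0 0 0 1 0 0 0 0
def e8 : chevG2.Idx → K := vec 0 0 0 0 0 0 0 0 0 0 1 0 0 0
def e9 : chevG2.Idx → K := vec 0 0 0 0 0 0 0 0 0 0 0 1 0 0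
def e11 : chevG2.Idx → K := vec 0 0 0 0 0 0 0 0 0 0 0 0 0 1

theorem e2_ne_zero : (e2 : chevG2.Idx → K) ≠ 0 := by
  intro h
  have := congrFun h (E 2)
  rw [e2, vec_E2] at this
  exact one_ne_zero this

theorem e9_ne_zero : (e9 : chevG2.Idx → K) ≠ 0 := by
  intro h
  have := congrFun h (E 9)
  rw [e9, vec_E9] at this
  exact one_ne_zero this

theorem rel_e2_e0 (φ : K →+* K) : Rel φ e2 e0 := by
  have h := rel_vec φ (0 : K) 1 0 0 0 0 0 0 0 0 0 0 0 0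
  simp only [map_zero, map_one] at h
  exact h

/-! ### Unipotent elements -/

theorem uW_e2 (h3 : (3 : K) = 0) (p P q Q r R : K) :
    ∃ z7 z8 z9, chevG2.wordMat K (uW p P q Q r R) *ᵥ e2 = vec (p * q - r) 0 0 0 1 (-p) (p * P + q) 0 0 z7 z8 z9 0 0 := by
  simp only [uW, wordMat_cons_mulVec, wordMat_nil_mulVec, e2]
  rw [x11_vec3 h3, x10_vec3 h3, x9_vec3 h3, x8_vec3 h3, x6_vec3 h3, x7_vec3 h3]
  refine ⟨_, _, _, vec_congr ?_ ?_ ?_ ?_ ?_ ?_ ?_ ?_ ?_ rfl rfl rfl ?_ ?_⟩ <;> ring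

theorem uW_e9 (h3 : (3 : K) = 0) (p P q Q r R : K) :
    chevG2.wordMat K (uW p P q Q r R) *ᵥ e9 = e9 := by
  simp only [uW, wordMat_cons_mulVec, wordMat_nil_mulVec, e9]
  rw [x11_vec3 h3, x10_vec3 h3, x9_vec3 h3, x8_vec3 h3, x6_vec3 h3, x7_vec3 h3]
  refine vec_congr ?_ ?_ ?_ ?_ ?_ ?_ ?_ ?_ ?_ ?_ ?_ ?_ ?_ ?_ <;> ring

/-- span of `e_a, e_{a+b}, e_{2a+b}` -/
def Low (v : chevG2.Idx → K) : Prop := ∃ x7 x8 x9, v = vec 0 0 0 0 0 0 0 0 0 x7 x8 x9 0 0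

theorem low_uW (h3 : (3 : K) = 0) (p P q Q r R : K) {v : chevG2.Idx → K} (hv : Low v) :
    Low (chevG2.wordMat K (uW p P q Q r R) *ᵥ v) := by
  obtain ⟨x7, x8, x9, rfl⟩ := hv
  simp only [uW, wordMat_cons_mulVec, wordMat_nil_mulVec]
  rw [x11_vec3 h3, x10_vec3 h3, x9_vec3 h3, x8_vec3 h3, x6_vec3 h3, x7_vec3 h3]
  refine ⟨_, _, _, vec_congr ?_ ?_ ?_ ?_ ?_ ?_ ?_ ?_ ?_ rfl rfl rfl ?_ ?_⟩ <;> ring

/-- the elements of the unipotent group -/
def uG (φ : K →+* K) (p q r : K) : GL chevG2.Idx K := wG (uW p (φ p) q (φ q) r (φ r))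

theorem act_uG_e2 (h3 : (3 : K) = 0) (φ : K →+* K) (p q r : K) :
    ∃ z7 z8 z9, act (uG φ p q r) e2 = vec (p * q - r) 0 0 0 1 (-p) (p * φ p + q) 0 0 z7 z8 z9 0 0 := by
  rw [uG, act, coe_wG]; exact uW_e2 h3 _ _ _ _ _ _

theorem act_uG_e9 (h3 : (3 : K) = 0) (φ : K →+* K) (p q r : K) : act (uG φ p q r) e9 = e9 := by
  rw [uG, act, coe_wG]; exact uW_e9 h3 _ _ _ _ _ _

theorem low_pow {g : GL chevG2.Idx K} (h : ∀ v, Low v → Low (act g v)) (n : ℕ) {v : chevG2.Idx → K} (hv : Low v) :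
    Low (act (g ^ n) v) := by
  induction n with
  | zero => rwa [pow_zero, act_one]
  | succ n ih => rw [pow_succ', act_mul]; exact h _ ih

theorem low_uG_inv [Finite K] (h3 : (3 : K) = 0) (φ : K →+* K) (p q r : K) {v : chevG2.Idx → K} (hv : Low v) :
    Low (act (uG φ p q r)⁻¹ v) := by
  have : Finite (Matrix chevG2.Idx chevG2.Idx K) := inferInstance
  have : Finite (GL chevG2.Idx K) := inferInstance
  rw [inv_eq_pow]
  refine low_pow (fun v hv => ?_) _ hv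
  rw [uG, act, coe_wG]
  exact low_uW h3 _ _ _ _ _ _ hv

theorem good_uG (h3 : (3 : K) = 0) {φ : K →+* K} (hφ : ∀ x, φ (φ x) = x ^ 3) (p q r : K) : Good φ (uG φ p q r) :=
  good_of_word (isRel_uW h3 hφ p q r) (coe_wG _)

/-- The parameters of `u` are determined by the line spanned by `u e_{-(2a+b)}`. -/
theorem uG_inj (h3 : (3 : K) = 0) (φ : K →+* K) {p q r p' q' r' c c' : K}
    (h : c • act (uG φ p q r) e2 = c' • act (uG φ p' q' r') e2) (hc : c ≠ 0) :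
    p = p' ∧ q = q' ∧ r = r' ∧ c = c' := by
  obtain ⟨z7, z8, z9, hz⟩ := act_uG_e2 h3 φ p q r
  obtain ⟨w7, w8, w9, hw⟩ := act_uG_e2 h3 φ p' q' r'
  rw [hz, hw, smul_vec, smul_vec] at h
  obtain ⟨k0, -, -, -, k2, k3, k4, -⟩ := vec_inj h
  have hcc : c = c' := by linear_combination k2
  subst hcc
  have hp : p = p' := mul_left_cancel₀ hc (by linear_combination -k3)
  subst hp
  have hq : q = q' := mul_left_cancel₀ hc (by linear_combination k4)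
  subst hq
  have hr : r = r' := mul_left_cancel₀ hc (by linear_combination -k0)
  exact ⟨rfl, rfl, hr, rfl⟩

/-! ### Incidence -/

set_option maxHeartbeats 4000000 in
theorem inc_e2_e0 (h3 : (3 : K) = 0) : Inc (e2 : chevG2.Idx → K) e0 := by
  intro w hw
  rw [hw.eq_vec, e0, br_vec3 h3, e2, br_vec3 h3, zero_vec]
  refine vec_congr ?_ ?_ ?_ ?_ ?_ ?_ ?_ ?_ ?_ ?_ ?_ ?_ ?_ ?_ <;> ring

theorem good_inV {φ : K →+* K} {g : GL chevG2.Idx K} (hg : Good φ g) {w : chevG2.Idx → K} (hw : InV w) :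
    InV (act g w) := by
  have h : Rel φ w (vec 0 (φ (w (H 0))) (φ (w (E 2))) (φ (w (E 3))) 0 0 0 (φ (w (E 4)))
      (φ (w (E 7))) 0 0 0 (φ (w (E 8))) (φ (w (E 9)))) :=
    { toInV := hw, p0 := rfl, p1 := rfl, p2 := rfl, p3 := rfl, p4 := rfl, p5 := rfl, p6 := rfl }
  exact (hg.rel _ _ h).toInV

theorem inc_of_good (h3 : (3 : K) = 0) {φ : K →+* K} {g : GL chevG2.Idx K} (hg : Good φ g) (hg' : Good φ g⁻¹) :
    Inc (act g e2) (act g e0) := by
  intro w hw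
  have h1 := inc_e2_e0 h3 _ (good_inV hg' hw)
  rw [← act_inv' g w, ← hg.aut, ← hg.aut, h1, act_zero]

/-- Elements fixing the line of `e_{-(2a+b)}`. -/
theorem fix_e0 (h3 : (3 : K) = 0) {φ : K →+* K} {g : GL chevG2.Idx K} (hg : Good φ g) (hg' : Good φ g⁻¹)
    {c x7 x8 x9 : K} (hc : c ≠ 0) (h : act g e2 = vec 0 0 0 0 c 0 0 0 0 x7 x8 x9 0 0) :
    act g e2 = c • e2 ∧ act g e0 = φ c • e0 := by
  have hrel := hg.rel _ _ (rel_e2_e0 φ)
  have hinc := inc_of_good h3 hg hg'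
  have hX := hrel.eq_vec
  rw [h] at hX
  simp only [vec_H0, vec_E2, vec_E3, vec_E4, vec_E7, vec_E8, vec_E9, map_zero] at hX
  rw [h, hX] at hinc
  obtain ⟨k7, k8, k9, kc, l2, l3, l4, l7, l8, l9⟩ := caseA h3 hc ((map_ne_zero φ).2 hc) hinc
  subst k7 k8 k9
  constructor
  · rw [h, e2, smul_vec]
    simp only [mul_zero, mul_one]
  · rw [kc, l2, l3, l4, l7, l8, l9] at hX
    rw [hX, e0, smul_vec]
    simp only [mul_zero, mul_one, map_zero]

theorem dichotomy [Finite K] (h3 : (3 : K) = 0) {φ : K →+* K} (hφ : ∀ x, φ (φ x) = x ^ 3) {g : GL chevG2.Idx K}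
    (hg : Good φ g) :
    (∃ c : K, c ≠ 0 ∧ act g e2 = c • e9) ∨
      ∃ p q r c : K, c ≠ 0 ∧ act ((uG φ p q r)⁻¹ * g) e2 = c • e2 := by
  have hrel := hg.rel _ _ (rel_e2_e0 φ)
  have hinc := inc_of_good h3 hg hg.inv
  have hx := hrel.toInV.eq_vec
  have hX := hrel.eq_vec
  generalize act g e2 (H 0) = a at hx hX
  generalize act g e2 (E 2) = l at hx hX
  generalize act g e2 (E 3) = x3 at hx hX
  generalize act g e2 (E 4) = x4 at hx hX
  generalize act g e2 (E 7) = x7 at hx hX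
  generalize act g e2 (E 8) = x8 at hx hX
  generalize act g e2 (E 9) = x9 at hx hX
  generalize act g e0 (H 0) = c at hX
  generalize act g e0 (E 2) = y2 at hX
  generalize act g e0 (E 3) = y3 at hX
  generalize act g e0 (E 4) = y4 at hX
  generalize act g e0 (E 7) = y7 at hX
  generalize act g e0 (E 8) = y8 at hX
  generalize act g e0 (E 9) = y9 at hX
  by_cases hl : l = 0
  · left
    subst hl
    rw [map_zero] at hX
    rw [hx, hX] at hinc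
    obtain ⟨k0, k3, k4, k7, k8⟩ := caseB h3 φ hinc
    subst k0 k3 k4 k7 k8
    refine ⟨x9, ?_, ?_⟩
    · rintro rfl
      rw [← zero_vec, ← act_zero g] at hx
      exact e2_ne_zero (act_inj hx)
    · rw [hx, e9, smul_vec]
      simp only [mul_zero, mul_one]
  · right
    clear hX hinc hrel
    obtain ⟨p, hp⟩ : ∃ p, l * p = -x3 := ⟨-x3 / l, by field_simp⟩
    obtain ⟨q, hq⟩ : ∃ q, l * q = x4 - l * p * φ p := ⟨(x4 - l * p * φ p) / l, by field_simp⟩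
    obtain ⟨r, hr⟩ : ∃ r, l * r = l * p * q - a := ⟨(l * p * q - a) / l, by field_simp⟩
    refine ⟨p, q, r, l, hl, ?_⟩
    obtain ⟨z7, z8, z9, hz⟩ := act_uG_e2 h3 φ p q r
    have hsum : act g e2 = l • act (uG φ p q r) e2 + vec 0 0 0 0 0 0 0 0 0 (x7 - l * z7) (x8 - l * z8) (x9 - l * z9) 0 0 := by
      rw [hx, hz, smul_vec, add_vec]
      refine vec_congr ?_ ?_ ?_ ?_ ?_ ?_ ?_ ?_ ?_ ?_ ?_ ?_ ?_ ?_
      · linear_combination hr
      · ring
      · ring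
      · ring
      · ring
      · linear_combination hp
      · linear_combination -hq
      all_goals ring
    obtain ⟨w7, w8, w9, hw⟩ := low_uG_inv h3 φ p q r (v := vec 0 0 0 0 0 0 0 0 0 (x7 - l * z7) (x8 - l * z8) (x9 - l * z9) 0 0)
      ⟨_, _, _, rfl⟩
    have hact : act ((uG φ p q r)⁻¹ * g) e2 = vec 0 0 0 0 l 0 0 0 0 w7 w8 w9 0 0 := by
      rw [act_mul, hsum, act_add, act_smul, act_inv, hw, e2, smul_vec, add_vec]
      simp only [mul_zero, mul_one, zero_add, add_zero]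
    have hgood : Good φ ((uG φ p q r)⁻¹ * g) := (good_uG h3 hφ p q r).inv.mul hg
    exact (fix_e0 h3 hgood hgood.inv hl hact).1

end Cfsg.Agent.ChevalleyStructure.ReeMain
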