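import Cfsg.Agent.ChevalleyStructure.ReeRel

/-!
# The Ree ovoid equations

If `Rel φ x X` and `[x, [X, w]] = 0` for all `w` in the ideal, then either `x` is a multiple of `e_{2a+b}`, or the
coordinate of `x` at `e_{-(2a+b)}` is non-zero; and in the latter case, if the next three coordinates vanish, then `x` is a
multiple of `e_{-(2a+b)}` and `X` a multiple of `e_{-(3a+2b)}`.
-/

set_option autoImplicit false
set_option linter.unusedVariables false

namespace Cfsg.Agent.ChevalleyStructure.ReeOvoid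

open Cfsg.Lie Cfsg.Agent.ChevalleyStructure.WordCheck Cfsg.Agent.ChevalleyStructure.ReeVec
open Cfsg.Agent.ChevalleyStructure.ReeBr Cfsg.Agent.ChevalleyStructure.ReeRel

variable {K : Type*} [Field K]

/-- the incidence condition -/
def Inc (x X : chevG2.Idx → K) : Prop := ∀ w, InV w → br x (br X w) = 0

theorem Inc.apply {a x2 x3 x4 x7 x8 x9 c b z0 z1 y2 y3 y4 z5 z6 y7 y8 y9 z10 z11 : K} (h3 : (3 : K) = 0)
    (h : Inc (vec a 0 0 0 x2 x3 x4 0 0 x7 x8 x9 0 0) (vec c b z0 z1 y2 y3 y4 z5 z6 y7 y8 y9 z10 z11))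
    (w0 w2 w3 w4 w7 w8 w9 : K) (i : chevG2.Idx) :
    (br (vec a 0 0 0 x2 x3 x4 0 0 x7 x8 x9 0 0) (br (vec c b z0 z1 y2 y3 y4 z5 z6 y7 y8 y9 z10 z11)
      (vec w0 0 0 0 w2 w3 w4 0 0 w7 w8 w9 0 0))) i = 0 := by
  rw [h _ (inV_vec _ _ _ _ _ _ _)]; rfl

set_option maxHeartbeats 4000000 in
/-- Case A: the big cell. -/
theorem caseA (h3 : (3 : K) = 0) {l L c x7 x8 x9 X7 X8 X9 y2 y3 y4 y7 y8 y9 : K} (hl : l ≠ 0) (hL : L ≠ 0)
    (h : Inc (vec 0 0 0 0 l 0 0 0 0 x7 x8 x9 0 0) (vec c 0 L 0 y2 y3 y4 0 X7 y7 y8 y9 X8 X9)) :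
    x7 = 0 ∧ x8 = 0 ∧ x9 = 0 ∧ c = 0 ∧ y2 = 0 ∧ y3 = 0 ∧ y4 = 0 ∧ y7 = 0 ∧ y8 = 0 ∧ y9 = 0 := by
  have key : ∀ w0 w2 w3 w4 w7 w8 w9 : K, ∀ i, _ := fun w0 w2 w3 w4 w7 w8 w9 i => h.apply h3 w0 w2 w3 w4 w7 w8 w9 i
  simp only [br_vec3 h3] at key
  have a1 := key 0 0 0 0 0 0 1 (E 2)
  have a2 := key 0 0 0 0 0 0 1 (E 3)
  have a3 := key 0 0 0 0 0 0 1 (E 4)
  have a4 := key 0 0 0 0 1 0 0 (E 3)
  have a5 := key 0 0 0 0 0 1 0 (E 3)
  have a6 := key 0 0 0 0 0 1 0 (E 4)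
  have a7 := key 0 0 0 0 0 0 1 (E 7)
  have a8 := key 0 1 0 0 0 0 0 (E 2)
  have a9 := key 0 0 1 0 0 0 0 (E 2)
  have a10 := key 0 0 0 1 0 0 0 (E 2)
  rw [vec_E2] at a1 a8 a9 a10
  rw [vec_E3] at a2 a4 a5
  rw [vec_E4] at a3 a6
  rw [vec_E7] at a7
  clear key h
  have hy2 : y2 = 0 := (mul_eq_zero.1 (show l * y2 = 0 by linear_combination a1)).resolve_left hl
  have hy3 : y3 = 0 := (mul_eq_zero.1 (show l * y3 = 0 by linear_combination -a2)).resolve_left hl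
  have hy4 : y4 = 0 := (mul_eq_zero.1 (show l * y4 = 0 by linear_combination -a3)).resolve_left hl
  have hc : c = 0 := (mul_eq_zero.1 (show l * c = 0 by linear_combination -a4)).resolve_left hl
  have hx7 : x7 = 0 := (mul_eq_zero.1 (show L * x7 = 0 by linear_combination -a5)).resolve_left hL
  have hx8 : x8 = 0 := (mul_eq_zero.1 (show L * x8 = 0 by linear_combination a6 - l * hc)).resolve_left hL
  have hx9 : x9 = 0 := (mul_eq_zero.1 (show L * x9 = 0 by linear_combination -a7 + x7 * hy2)).resolve_left hL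
  have hy9 : y9 = 0 := (mul_eq_zero.1 (show l * y9 = 0 by linear_combination -a8)).resolve_left hl
  have hy8 : y8 = 0 := (mul_eq_zero.1 (show l * y8 = 0 by linear_combination a9)).resolve_left hl
  have hy7 : y7 = 0 := (mul_eq_zero.1 (show l * y7 = 0 by linear_combination a10)).resolve_left hl
  exact ⟨hx7, hx8, hx9, hc, hy2, hy3, hy4, hy7, hy8, hy9⟩

set_option maxHeartbeats 4000000 in
/-- Case B: the point at infinity. -/
theorem caseB (h3 : (3 : K) = 0) (φ : K →+* K) {a x3 x4 x7 x8 x9 c y2 y3 y4 y7 y8 y9 : K}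
    (h : Inc (vec a 0 0 0 0 x3 x4 0 0 x7 x8 x9 0 0)
      (vec c (φ a) 0 (φ x3) y2 y3 y4 (φ x4) (φ x7) y7 y8 y9 (φ x8) (φ x9))) :
    a = 0 ∧ x3 = 0 ∧ x4 = 0 ∧ x7 = 0 ∧ x8 = 0 := by
  have key : ∀ w0 w2 w3 w4 w7 w8 w9 : K, ∀ i, _ := fun w0 w2 w3 w4 w7 w8 w9 i => h.apply h3 w0 w2 w3 w4 w7 w8 w9 i
  simp only [br_vec3 h3] at key
  have hφ : ∀ x : K, x * φ x = 0 → x = 0 := by
    intro x hx
    rcases mul_eq_zero.1 hx with hx | hx
    · exact hx
    · exact (map_eq_zero φ).1 hx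
  have b1 := key 0 0 0 0 0 0 1 (E 2)
  have b2 := key 0 0 0 0 0 0 1 (H 0)
  have b3 := key 0 0 0 0 0 0 1 (E 4)
  have b4 := key 0 0 0 1 0 0 0 (E 2)
  have b5 := key 0 1 0 0 0 0 0 (E 2)
  have b6 := key 0 0 0 0 1 0 0 (E 3)
  have b7 := key 0 0 1 0 0 0 0 (E 2)
  have b8 := key 0 0 1 0 0 0 0 (E 3)
  have b9 := key 0 0 0 1 0 0 0 (E 3)
  have b10 := key 0 0 0 0 0 1 0 (H 0)
  have b11 := key 0 0 0 1 0 0 0 (H 0)
  have b12 := key 0 0 0 0 1 0 0 (E 9)
  have b13 := key 0 1 0 0 0 0 0 (E 9)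
  have b14 := key 0 0 1 0 0 0 0 (E 8)
  have b15 := key 0 0 1 0 0 0 0 (E 9)
  rw [vec_E2] at b1 b4 b5 b7
  rw [vec_H0] at b2 b10 b11
  rw [vec_E4] at b3
  rw [vec_E3] at b6 b8 b9
  rw [vec_E9] at b12 b13 b15
  rw [vec_E8] at b14
  clear key h
  have hx3 : x3 = 0 := hφ _ (by linear_combination -b1)
  subst hx3
  simp only [map_zero] at b2 b3 b4 b5 b6 b7 b8 b9 b10 b11 b12 b13 b14 b15
  have hx4 : x4 = 0 := by
    by_contra hx4
    have hy3 : y3 = 0 := (mul_eq_zero.1 (show x4 * y3 = 0 by linear_combination b2)).resolve_left hx4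
    exact hx4 (hφ _ (by linear_combination b4 + a * hy3))
  subst hx4
  simp only [map_zero] at b5 b6 b7 b8 b9 b10 b11 b12 b13 b14 b15
  have ha : a = 0 := by
    by_contra ha
    have hc : c = 0 := (mul_eq_zero.1 (show a * c = 0 by linear_combination b5)).resolve_left ha
    have hy4 : y4 = 0 := (mul_eq_zero.1 (show a * y4 = 0 by linear_combination b7)).resolve_left ha
    exact ha (hφ _ (by linear_combination -b8 + a * hc + x7 * hy4))
  subst ha
  simp only [map_zero] at b9 b10 b11 b12 b13 b14 b15 b8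
  have hx7 : x7 = 0 := by
    by_contra hx7
    have hy3 : y3 = 0 := (mul_eq_zero.1 (show x7 * y3 = 0 by linear_combination -b9)).resolve_left hx7
    have hc : c = 0 := (mul_eq_zero.1 (show x7 * c = 0 by linear_combination b11 + x9 * hy3)).resolve_left hx7
    have hy4 : y4 = 0 := (mul_eq_zero.1 (show x7 * y4 = 0 by linear_combination b8)).resolve_left hx7
    exact hx7 (hφ _ (by linear_combination b12 - x8 * hc - x9 * hy4))
  subst hx7
  simp only [map_zero] at b13 b14 b15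
  have hx8 : x8 = 0 := by
    by_contra hx8
    have hy8 : y8 = 0 := (mul_eq_zero.1 (show x8 * y8 = 0 by linear_combination b14)).resolve_left hx8
    have hy9 : y9 = 0 := (mul_eq_zero.1 (show x8 * y9 = 0 by linear_combination -b15 - x9 * hy8)).resolve_left hx8
    exact hx8 (hφ _ (by linear_combination -b13 + x9 * hy9))
  exact ⟨rfl, rfl, rfl, rfl, hx8⟩

end Cfsg.Agent.ChevalleyStructure.ReeOvoid
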