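import Cfsg.Agent.ChevalleyStructure.ReeBr

/-!
# Type G₂ in characteristic 3: reduced coordinates, and the relation `Rel φ v X`

`v` lies in the 7-dimensional ideal spanned by the short root vectors and `h_{p_1}`, and the coordinates of `X` modulo
this ideal are the images under `φ` of the coordinates of `v`. Generated by a script.
-/

set_option autoImplicit false
set_option linter.unusedSimpArgs false
set_option linter.unusedVariables false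
set_option linter.unusedSectionVars false

namespace Cfsg.Agent.ChevalleyStructure.ReeRel

open Cfsg.Lie Cfsg.Agent.ChevalleyStructure.WordCheck Cfsg.Agent.ChevalleyStructure.ReeVec
open Cfsg.Agent.ChevalleyStructure.ReeBr

variable {K : Type*} [Field K]

set_option maxHeartbeats 4000000 in
theorem x0_vec3 (h3 : (3 : K) = 0) (t a b x0 x1 x2 x3 x4 x5 x6 x7 x8 x9 x10 x11 : K) :
    (chevG2.x K 0 t).mulVec (vec a b x0 x1 x2 x3 x4 x5 x6 x7 x8 x9 x10 x11) =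
    vec (a - t*x11) (b + t*x11) (t*b + x0 - t^2*x11) (x1 + t*x6) (x2 + t*x8) (x3 - t*x9) (x4) (x5 - t*x10) (x6) (x7) (x8) (x9) (x10) (x11) := by
  rw [x0_vec]
  refine vec_congr ?_ ?_ ?_ ?_ ?_ ?_ ?_ ?_ ?_ ?_ ?_ ?_ ?_ ?_
  · rfl
  · linear_combination (-t*x11) * h3
  · rfl
  · rfl
  · rfl
  · rfl
  · rfl
  · rfl
  · rfl
  · rfl
  · rfl
  · rfl
  · rfl
  · rfl

set_option maxHeartbeats 4000000 in
theorem x1_vec3 (h3 : (3 : K) = 0) (t a b x0 x1 x2 x3 x4 x5 x6 x7 x8 x9 x10 x11 : K) :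
    (chevG2.x K 1 t).mulVec (vec a b x0 x1 x2 x3 x4 x5 x6 x7 x8 x9 x10 x11) =
    vec (a - t*x10) (b - t*x10) (x0 + t*x5) (-t*b + x1 - t^2*x10) (x2 + t*x7) (x3) (x4 - t*x9) (x5) (x6 - t*x11) (x7) (x8) (x9) (x10) (x11) := by
  rw [x1_vec]
  refine vec_congr ?_ ?_ ?_ ?_ ?_ ?_ ?_ ?_ ?_ ?_ ?_ ?_ ?_ ?_
  · rfl
  · rfl
  · rfl
  · linear_combination (t*a) * h3
  · rfl
  · rfl
  · rfl
  · rfl
  · rfl
  · rfl
  · rfl
  · rfl
  · rfl
  · rfl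

set_option maxHeartbeats 4000000 in
theorem x2_vec3 (h3 : (3 : K) = 0) (t a b x0 x1 x2 x3 x4 x5 x6 x7 x8 x9 x10 x11 : K) :
    (chevG2.x K 2 t).mulVec (vec a b x0 x1 x2 x3 x4 x5 x6 x7 x8 x9 x10 x11) =
    vec (a + t*x9) (b) (x0 + t^3*x10) (x1 - t^3*x11) (t*a + x2 - t^2*x9) (x3 + t*x7 + t^2*x10) (x4 - t*x8 - t^2*x11) (x5) (x6) (x7 - t*x10) (x8 - t*x11) (x9) (x10) (x11) := by
  rw [x2_vec]
  refine vec_congr ?_ ?_ ?_ ?_ ?_ ?_ ?_ ?_ ?_ ?_ ?_ ?_ ?_ ?_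
  · linear_combination (-t*x9) * h3
  · linear_combination (-t*x9) * h3
  · linear_combination (t*x3 - t^2*x7) * h3
  · linear_combination (t*x4 + t^2*x8) * h3
  · rfl
  · linear_combination (-t*x7) * h3
  · linear_combination (t*x8) * h3
  · rfl
  · rfl
  · rfl
  · rfl
  · rfl
  · rfl
  · rfl

set_option maxHeartbeats 4000000 in
theorem x3_vec3 (h3 : (3 : K) = 0) (t a b x0 x1 x2 x3 x4 x5 x6 x7 x8 x9 x10 x11 : K) :
    (chevG2.x K 3 t).mulVec (vec a b x0 x1 x2 x3 x4 x5 x6 x7 x8 x9 x10 x11) =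
    vec (a - t*x8) (b) (x0 + t^3*x6) (x1) (x2 + t*x4 - t^2*x6) (-t*a + t*b + x3 - t^2*x8) (x4 + t*x6) (x5 - t^3*x11) (x6) (x7 - t*x9 + t^2*x11) (x8) (x9 + t*x11) (x10) (x11) := by
  rw [x3_vec]
  refine vec_congr ?_ ?_ ?_ ?_ ?_ ?_ ?_ ?_ ?_ ?_ ?_ ?_ ?_ ?_
  · rfl
  · linear_combination (-t*x8) * h3
  · linear_combination (-t*x2 + t^2*x4) * h3
  · rfl
  · linear_combination (-t*x4) * h3
  · rfl
  · rfl
  · linear_combination (-t*x7 - t^2*x9) * h3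
  · rfl
  · linear_combination (t*x9) * h3
  · rfl
  · rfl
  · rfl
  · rfl

set_option maxHeartbeats 4000000 in
theorem x4_vec3 (h3 : (3 : K) = 0) (t a b x0 x1 x2 x3 x4 x5 x6 x7 x8 x9 x10 x11 : K) :
    (chevG2.x K 4 t).mulVec (vec a b x0 x1 x2 x3 x4 x5 x6 x7 x8 x9 x10 x11) =
    vec (a - t*x7) (b) (x0) (x1 - t^3*x5) (x2 - t*x3 + t^2*x5) (x3 + t*x5) (-t*a - t*b + x4 - t^2*x7) (x5) (x6 + t^3*x10) (x7) (x8 + t*x9 - t^2*x10) (x9 + t*x10) (x10) (x11) := by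
  rw [x4_vec]
  refine vec_congr ?_ ?_ ?_ ?_ ?_ ?_ ?_ ?_ ?_ ?_ ?_ ?_ ?_ ?_
  · rfl
  · rfl
  · rfl
  · linear_combination (-t*x2 - t^2*x3) * h3
  · linear_combination (t*x3) * h3
  · rfl
  · linear_combination (t*a) * h3
  · rfl
  · linear_combination (-t*x8 + t^2*x9) * h3
  · rfl
  · linear_combination (-t*x9) * h3
  · rfl
  · rfl
  · rfl

set_option maxHeartbeats 4000000 in
theorem x5_vec3 (h3 : (3 : K) = 0) (t a b x0 x1 x2 x3 x4 x5 x6 x7 x8 x9 x10 x11 : K) :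
    (chevG2.x K 5 t).mulVec (vec a b x0 x1 x2 x3 x4 x5 x6 x7 x8 x9 x10 x11) =
    vec (a) (b - t*x6) (x0 - t*x1) (x1) (x2) (x3 - t*x4) (x4) (-t*b + x5 - t^2*x6) (x6) (x7 + t*x8) (x8) (x9) (x10 + t*x11) (x11) := by
  rw [x5_vec]
  refine vec_congr ?_ ?_ ?_ ?_ ?_ ?_ ?_ ?_ ?_ ?_ ?_ ?_ ?_ ?_
  · rfl
  · rfl
  · rfl
  · rfl
  · rfl
  · rfl
  · rfl
  · linear_combination (-t*a + t*b) * h3
  · rfl
  · rfl
  · rfl
  · rfl
  · rfl
  · rfl

set_option maxHeartbeats 4000000 in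
theorem x6_vec3 (h3 : (3 : K) = 0) (t a b x0 x1 x2 x3 x4 x5 x6 x7 x8 x9 x10 x11 : K) :
    (chevG2.x K 6 t).mulVec (vec a b x0 x1 x2 x3 x4 x5 x6 x7 x8 x9 x10 x11) =
    vec (a) (b + t*x5) (x0) (-t*x0 + x1) (x2) (x3) (-t*x3 + x4) (x5) (t*b - t^2*x5 + x6) (x7) (t*x7 + x8) (x9) (x10) (t*x10 + x11) := by
  rw [x6_vec]
  refine vec_congr ?_ ?_ ?_ ?_ ?_ ?_ ?_ ?_ ?_ ?_ ?_ ?_ ?_ ?_
  · rfl
  · rfl
  · rfl
  · rfl
  · rfl
  · rfl
  · rfl
  · rfl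
  · linear_combination (t*a - t*b) * h3
  · rfl
  · rfl
  · rfl
  · rfl
  · rfl

set_option maxHeartbeats 4000000 in
theorem x7_vec3 (h3 : (3 : K) = 0) (t a b x0 x1 x2 x3 x4 x5 x6 x7 x8 x9 x10 x11 : K) :
    (chevG2.x K 7 t).mulVec (vec a b x0 x1 x2 x3 x4 x5 x6 x7 x8 x9 x10 x11) =
    vec (a + t*x4) (b) (x0) (x1) (-t*x1 + x2) (-t^2*x1 - t*x2 + x3) (x4) (-t^3*x1 + x5) (x6) (t*a + t*b - t^2*x4 + x7) (-t*x6 + x8) (t^2*x6 + t*x8 + x9) (t^3*x6 + x10) (x11) := by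
  rw [x7_vec]
  refine vec_congr ?_ ?_ ?_ ?_ ?_ ?_ ?_ ?_ ?_ ?_ ?_ ?_ ?_ ?_
  · rfl
  · rfl
  · rfl
  · rfl
  · rfl
  · linear_combination (t*x2) * h3
  · rfl
  · linear_combination (t^2*x2 + t*x3) * h3
  · rfl
  · linear_combination (-t*a) * h3
  · rfl
  · linear_combination (-t*x8) * h3
  · linear_combination (-t^2*x8 + t*x9) * h3
  · rfl

set_option maxHeartbeats 4000000 in
theorem x8_vec3 (h3 : (3 : K) = 0) (t a b x0 x1 x2 x3 x4 x5 x6 x7 x8 x9 x10 x11 : K) :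
    (chevG2.x K 8 t).mulVec (vec a b x0 x1 x2 x3 x4 x5 x6 x7 x8 x9 x10 x11) =
    vec (a + t*x3) (b) (x0) (x1) (-t*x0 + x2) (x3) (t^2*x0 + t*x2 + x4) (x5) (t^3*x0 + x6) (-t*x5 + x7) (t*a - t*b - t^2*x3 + x8) (-t^2*x5 - t*x7 + x9) (x10) (-t^3*x5 + x11) := by
  rw [x8_vec]
  refine vec_congr ?_ ?_ ?_ ?_ ?_ ?_ ?_ ?_ ?_ ?_ ?_ ?_ ?_ ?_
  · rfl
  · linear_combination (t*x3) * h3
  · rfl
  · rfl
  · rfl
  · rfl
  · linear_combination (-t*x2) * h3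
  · rfl
  · linear_combination (-t^2*x2 + t*x4) * h3
  · rfl
  · rfl
  · linear_combination (t*x7) * h3
  · rfl
  · linear_combination (t^2*x7 + t*x9) * h3

set_option maxHeartbeats 4000000 in
theorem x9_vec3 (h3 : (3 : K) = 0) (t a b x0 x1 x2 x3 x4 x5 x6 x7 x8 x9 x10 x11 : K) :
    (chevG2.x K 9 t).mulVec (vec a b x0 x1 x2 x3 x4 x5 x6 x7 x8 x9 x10 x11) =
    vec (a - t*x2) (b) (x0) (x1) (x2) (t*x0 + x3) (t*x1 + x4) (x5) (x6) (-t^2*x0 + t*x3 + x7) (t^2*x1 - t*x4 + x8) (-t*a - t^2*x2 + x9) (t^3*x0 + x10) (-t^3*x1 + x11) := by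
  rw [x9_vec]
  refine vec_congr ?_ ?_ ?_ ?_ ?_ ?_ ?_ ?_ ?_ ?_ ?_ ?_ ?_ ?_
  · linear_combination (t*x2) * h3
  · linear_combination (t*x2) * h3
  · rfl
  · rfl
  · rfl
  · rfl
  · rfl
  · rfl
  · rfl
  · linear_combination (-t*x3) * h3
  · linear_combination (t*x4) * h3
  · rfl
  · linear_combination (t^2*x3 - t*x7) * h3
  · linear_combination (-t^2*x4 - t*x8) * h3

set_option maxHeartbeats 4000000 in
theorem x10_vec3 (h3 : (3 : K) = 0) (t a b x0 x1 x2 x3 x4 x5 x6 x7 x8 x9 x10 x11 : K) :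
    (chevG2.x K 10 t).mulVec (vec a b x0 x1 x2 x3 x4 x5 x6 x7 x8 x9 x10 x11) =
    vec (a + t*x1) (b + t*x1) (x0) (x1) (x2) (x3) (x4) (t*x0 + x5) (x6) (t*x2 + x7) (x8) (-t*x4 + x9) (t*b - t^2*x1 + x10) (-t*x6 + x11) := by
  rw [x10_vec]
  refine vec_congr ?_ ?_ ?_ ?_ ?_ ?_ ?_ ?_ ?_ ?_ ?_ ?_ ?_ ?_
  · rfl
  · rfl
  · rfl
  · rfl
  · rfl
  · rfl
  · rfl
  · rfl
  · rfl
  · rfl
  · rfl
  · rfl
  · linear_combination (-t*a) * h3
  · rfl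

set_option maxHeartbeats 4000000 in
theorem x11_vec3 (h3 : (3 : K) = 0) (t a b x0 x1 x2 x3 x4 x5 x6 x7 x8 x9 x10 x11 : K) :
    (chevG2.x K 11 t).mulVec (vec a b x0 x1 x2 x3 x4 x5 x6 x7 x8 x9 x10 x11) =
    vec (a + t*x0) (b - t*x0) (x0) (x1) (x2) (x3) (x4) (x5) (t*x1 + x6) (x7) (t*x2 + x8) (-t*x3 + x9) (-t*x5 + x10) (-t*b - t^2*x0 + x11) := by
  rw [x11_vec]
  refine vec_congr ?_ ?_ ?_ ?_ ?_ ?_ ?_ ?_ ?_ ?_ ?_ ?_ ?_ ?_
  · rfl
  · linear_combination (t*x0) * h3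
  · rfl
  · rfl
  · rfl
  · rfl
  · rfl
  · rfl
  · rfl
  · rfl
  · rfl
  · rfl
  · rfl
  · rfl

set_option maxHeartbeats 4000000 in
theorem br_vec3 (h3 : (3 : K) = 0) (a b x0 x1 x2 x3 x4 x5 x6 x7 x8 x9 x10 x11 : K) (c d y0 y1 y2 y3 y4 y5 y6 y7 y8 y9 y10 y11 : K) :
    br (vec a b x0 x1 x2 x3 x4 x5 x6 x7 x8 x9 x10 x11) (vec c d y0 y1 y2 y3 y4 y5 y6 y7 y8 y9 y10 y11) =
    vec (-x0*y11 - x1*y10 + x2*y9 - x3*y8 - x4*y7 + x7*y4 + x8*y3 - x9*y2 + x10*y1 + x11*y0)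
    (x0*y11 - x1*y10 - x5*y6 + x6*y5 + x10*y1 - x11*y0)
    (-b*y0 + x0*d + x1*y5 - x5*y1)
    (b*y1 + x0*y6 - x1*d - x6*y0)
    (-a*y2 + x0*y8 + x1*y7 + x2*c + x3*y4 - x4*y3 - x7*y1 - x8*y0)
    (a*y3 - b*y3 - x0*y9 + x2*y7 - x3*c + x3*d + x4*y5 - x5*y4 - x7*y2 + x9*y0)
    (a*y4 + b*y4 - x1*y9 - x2*y8 + x3*y6 - x4*c - x4*d - x6*y3 + x8*y2 + x9*y1)
    (b*y5 - x0*y10 - x5*d + x10*y0)
    (-b*y6 - x1*y11 + x6*d + x11*y1)
    (-a*y7 - b*y7 - x2*y10 - x3*y9 + x5*y8 + x7*c + x7*d - x8*y5 + x9*y3 + x10*y2)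
    (-a*y8 + b*y8 - x2*y11 + x4*y9 + x6*y7 - x7*y6 + x8*c - x8*d - x9*y4 + x11*y2)
    (a*y9 + x3*y11 + x4*y10 + x7*y8 - x8*y7 - x9*c - x10*y4 - x11*y3)
    (-b*y10 + x5*y11 + x10*d - x11*y5)
    (b*y11 + x6*y10 - x10*y6 - x11*d) := by
  rw [br_vec]
  refine vec_congr ?_ ?_ ?_ ?_ ?_ ?_ ?_ ?_ ?_ ?_ ?_ ?_ ?_ ?_
  · linear_combination (-x2*y9 + x9*y2) * h3
  · linear_combination (-x0*y11 - x2*y9 - x3*y8 + x8*y3 + x9*y2 + x11*y0) * h3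
  · linear_combination (x2*y3 - x3*y2) * h3
  · linear_combination (-a*y1 + x1*c + x2*y4 - x4*y2) * h3
  · linear_combination (-x3*y4 + x4*y3) * h3
  · linear_combination (-x2*y7 + x7*y2) * h3
  · linear_combination (-a*y4 + x2*y8 + x4*c - x8*y2) * h3
  · linear_combination (a*y5 - b*y5 - x3*y7 - x5*c + x5*d + x7*y3) * h3
  · linear_combination (-a*y6 + b*y6 - x4*y8 + x6*c - x6*d + x8*y4) * h3
  · linear_combination (a*y7 + x3*y9 - x7*c - x9*y3) * h3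
  · linear_combination (-x4*y9 + x9*y4) * h3
  · linear_combination (-x7*y8 + x8*y7) * h3
  · linear_combination (a*y10 + x7*y9 - x9*y7 - x10*c) * h3
  · linear_combination (x8*y9 - x9*y8) * h3

/-- the 7-dimensional ideal -/
structure InV (v : chevG2.Idx → K) : Prop where
  z0 : v (H 1) = 0
  z1 : v (E 0) = 0
  z2 : v (E 1) = 0
  z3 : v (E 5) = 0
  z4 : v (E 6) = 0
  z5 : v (E 10) = 0
  z6 : v (E 11) = 0

/-- the relation -/
structure Rel (φ : K →+* K) (v X : chevG2.Idx → K) : Prop extends InV v where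
  p0 : X (H 1) = φ (v (H 0))
  p1 : X (E 0) = φ (v (E 2))
  p2 : X (E 1) = φ (v (E 3))
  p3 : X (E 5) = φ (v (E 4))
  p4 : X (E 6) = φ (v (E 7))
  p5 : X (E 10) = φ (v (E 8))
  p6 : X (E 11) = φ (v (E 9))

theorem InV.eq_vec {v : chevG2.Idx → K} (h : InV v) :
    v = vec (v (H 0)) 0 0 0 (v (E 2)) (v (E 3)) (v (E 4)) 0 0 (v (E 7)) (v (E 8)) (v (E 9)) 0 0 :=
  vec_ext rfl h.z0 h.z1 h.z2 rfl rfl rfl h.z3 h.z4 rfl rfl rfl h.z5 h.z6

theorem inV_vec (a x2 x3 x4 x7 x8 x9 : K) : InV (vec a 0 0 0 x2 x3 x4 0 0 x7 x8 x9 0 0) :=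
  ⟨rfl, rfl, rfl, rfl, rfl, rfl, rfl⟩

theorem Rel.eq_vec {φ : K →+* K} {v X : chevG2.Idx → K} (h : Rel φ v X) :
    X = vec (X (H 0)) (φ (v (H 0))) (φ (v (E 2))) (φ (v (E 3))) (X (E 2)) (X (E 3)) (X (E 4)) (φ (v (E 4)))
      (φ (v (E 7))) (X (E 7)) (X (E 8)) (X (E 9)) (φ (v (E 8))) (φ (v (E 9))) :=
  vec_ext rfl h.p0 h.p1 h.p2 rfl rfl rfl h.p3 h.p4 rfl rfl rfl h.p5 h.p6

theorem rel_vec (φ : K →+* K) (a x2 x3 x4 x7 x8 x9 c y2 y3 y4 y7 y8 y9 : K) :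
    Rel φ (vec a 0 0 0 x2 x3 x4 0 0 x7 x8 x9 0 0)
      (vec c (φ a) (φ x2) (φ x3) y2 y3 y4 (φ x4) (φ x7) y7 y8 y9 (φ x8) (φ x9)) :=
  { toInV := inV_vec _ _ _ _ _ _ _, p0 := rfl, p1 := rfl, p2 := rfl, p3 := rfl, p4 := rfl, p5 := rfl, p6 := rfl }

set_option maxHeartbeats 4000000 in
theorem rel_x0 (h3 : (3 : K) = 0) {φ : K →+* K} {s t : K} (hst : φ s = t^3) {v X : chevG2.Idx → K} (h : Rel φ v X) :
    Rel φ ((chevG2.x K 0 s).mulVec v) ((chevG2.x K 2 t).mulVec X) := by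
  rw [h.eq_vec, h.toInV.eq_vec, x0_vec3 h3, x2_vec3 h3]
  constructor
  · constructor <;> simp only [vec_H1, vec_E0, vec_E1, vec_E5, vec_E6, vec_E10, vec_E11] <;> ring
  all_goals
    simp only [vec_H0, vec_H1, vec_E0, vec_E1, vec_E2, vec_E3, vec_E4, vec_E5, vec_E6, vec_E7, vec_E8, vec_E9, vec_E10, vec_E11, map_add, map_sub, map_mul, map_neg, map_pow, map_zero, hst]
    try ring

set_option maxHeartbeats 4000000 in
theorem rel_x1 (h3 : (3 : K) = 0) {φ : K →+* K} {s t : K} (hst : φ s = t^3) {v X : chevG2.Idx → K} (h : Rel φ v X) :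
    Rel φ ((chevG2.x K 1 s).mulVec v) ((chevG2.x K 3 t).mulVec X) := by
  rw [h.eq_vec, h.toInV.eq_vec, x1_vec3 h3, x3_vec3 h3]
  constructor
  · constructor <;> simp only [vec_H1, vec_E0, vec_E1, vec_E5, vec_E6, vec_E10, vec_E11] <;> ring
  all_goals
    simp only [vec_H0, vec_H1, vec_E0, vec_E1, vec_E2, vec_E3, vec_E4, vec_E5, vec_E6, vec_E7, vec_E8, vec_E9, vec_E10, vec_E11, map_add, map_sub, map_mul, map_neg, map_pow, map_zero, hst]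
    try ring

set_option maxHeartbeats 4000000 in
theorem rel_x2 (h3 : (3 : K) = 0) {φ : K →+* K} {s t : K} (hst : φ s = t) {v X : chevG2.Idx → K} (h : Rel φ v X) :
    Rel φ ((chevG2.x K 2 s).mulVec v) ((chevG2.x K 0 t).mulVec X) := by
  rw [h.eq_vec, h.toInV.eq_vec, x2_vec3 h3, x0_vec3 h3]
  constructor
  · constructor <;> simp only [vec_H1, vec_E0, vec_E1, vec_E5, vec_E6, vec_E10, vec_E11] <;> ring
  all_goals
    simp only [vec_H0, vec_H1, vec_E0, vec_E1, vec_E2, vec_E3, vec_E4, vec_E5, vec_E6, vec_E7, vec_E8, vec_E9, vec_E10, vec_E11, map_add, map_sub, map_mul, map_neg, map_pow, map_zero, hst]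
    try ring

set_option maxHeartbeats 4000000 in
theorem rel_x3 (h3 : (3 : K) = 0) {φ : K →+* K} {s t : K} (hst : φ s = t) {v X : chevG2.Idx → K} (h : Rel φ v X) :
    Rel φ ((chevG2.x K 3 s).mulVec v) ((chevG2.x K 1 t).mulVec X) := by
  rw [h.eq_vec, h.toInV.eq_vec, x3_vec3 h3, x1_vec3 h3]
  constructor
  · constructor <;> simp only [vec_H1, vec_E0, vec_E1, vec_E5, vec_E6, vec_E10, vec_E11] <;> ring
  all_goals
    simp only [vec_H0, vec_H1, vec_E0, vec_E1, vec_E2, vec_E3, vec_E4, vec_E5, vec_E6, vec_E7, vec_E8, vec_E9, vec_E10, vec_E11, map_add, map_sub, map_mul, map_neg, map_pow, map_zero, hst]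
    try ring

set_option maxHeartbeats 4000000 in
theorem rel_x4 (h3 : (3 : K) = 0) {φ : K →+* K} {s t : K} (hst : φ s = t) {v X : chevG2.Idx → K} (h : Rel φ v X) :
    Rel φ ((chevG2.x K 4 s).mulVec v) ((chevG2.x K 5 t).mulVec X) := by
  rw [h.eq_vec, h.toInV.eq_vec, x4_vec3 h3, x5_vec3 h3]
  constructor
  · constructor <;> simp only [vec_H1, vec_E0, vec_E1, vec_E5, vec_E6, vec_E10, vec_E11] <;> ring
  all_goals
    simp only [vec_H0, vec_H1, vec_E0, vec_E1, vec_E2, vec_E3, vec_E4, vec_E5, vec_E6, vec_E7, vec_E8, vec_E9, vec_E10, vec_E11, map_add, map_sub, map_mul, map_neg, map_pow, map_zero, hst]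
    try ring

set_option maxHeartbeats 4000000 in
theorem rel_x5 (h3 : (3 : K) = 0) {φ : K →+* K} {s t : K} (hst : φ s = t^3) {v X : chevG2.Idx → K} (h : Rel φ v X) :
    Rel φ ((chevG2.x K 5 s).mulVec v) ((chevG2.x K 4 t).mulVec X) := by
  rw [h.eq_vec, h.toInV.eq_vec, x5_vec3 h3, x4_vec3 h3]
  constructor
  · constructor <;> simp only [vec_H1, vec_E0, vec_E1, vec_E5, vec_E6, vec_E10, vec_E11] <;> ring
  all_goals
    simp only [vec_H0, vec_H1, vec_E0, vec_E1, vec_E2, vec_E3, vec_E4, vec_E5, vec_E6, vec_E7, vec_E8, vec_E9, vec_E10, vec_E11, map_add, map_sub, map_mul, map_neg, map_pow, map_zero, hst]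
    try ring

set_option maxHeartbeats 4000000 in
theorem rel_x6 (h3 : (3 : K) = 0) {φ : K →+* K} {s t : K} (hst : φ s = t^3) {v X : chevG2.Idx → K} (h : Rel φ v X) :
    Rel φ ((chevG2.x K 6 s).mulVec v) ((chevG2.x K 7 t).mulVec X) := by
  rw [h.eq_vec, h.toInV.eq_vec, x6_vec3 h3, x7_vec3 h3]
  constructor
  · constructor <;> simp only [vec_H1, vec_E0, vec_E1, vec_E5, vec_E6, vec_E10, vec_E11] <;> ring
  all_goals
    simp only [vec_H0, vec_H1, vec_E0, vec_E1, vec_E2, vec_E3, vec_E4, vec_E5, vec_E6, vec_E7, vec_E8, vec_E9, vec_E10, vec_E11, map_add, map_sub, map_mul, map_neg, map_pow, map_zero, hst]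
    try ring

set_option maxHeartbeats 4000000 in
theorem rel_x7 (h3 : (3 : K) = 0) {φ : K →+* K} {s t : K} (hst : φ s = t) {v X : chevG2.Idx → K} (h : Rel φ v X) :
    Rel φ ((chevG2.x K 7 s).mulVec v) ((chevG2.x K 6 t).mulVec X) := by
  rw [h.eq_vec, h.toInV.eq_vec, x7_vec3 h3, x6_vec3 h3]
  constructor
  · constructor <;> simp only [vec_H1, vec_E0, vec_E1, vec_E5, vec_E6, vec_E10, vec_E11] <;> ring
  all_goals
    simp only [vec_H0, vec_H1, vec_E0, vec_E1, vec_E2, vec_E3, vec_E4, vec_E5, vec_E6, vec_E7, vec_E8, vec_E9, vec_E10, vec_E11, map_add, map_sub, map_mul, map_neg, map_pow, map_zero, hst]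
    try ring

set_option maxHeartbeats 4000000 in
theorem rel_x8 (h3 : (3 : K) = 0) {φ : K →+* K} {s t : K} (hst : φ s = t) {v X : chevG2.Idx → K} (h : Rel φ v X) :
    Rel φ ((chevG2.x K 8 s).mulVec v) ((chevG2.x K 10 t).mulVec X) := by
  rw [h.eq_vec, h.toInV.eq_vec, x8_vec3 h3, x10_vec3 h3]
  constructor
  · constructor <;> simp only [vec_H1, vec_E0, vec_E1, vec_E5, vec_E6, vec_E10, vec_E11] <;> ring
  all_goals
    simp only [vec_H0, vec_H1, vec_E0, vec_E1, vec_E2, vec_E3, vec_E4, vec_E5, vec_E6, vec_E7, vec_E8, vec_E9, vec_E10, vec_E11, map_add, map_sub, map_mul, map_neg, map_pow, map_zero, hst]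
    try ring

set_option maxHeartbeats 4000000 in
theorem rel_x9 (h3 : (3 : K) = 0) {φ : K →+* K} {s t : K} (hst : φ s = t) {v X : chevG2.Idx → K} (h : Rel φ v X) :
    Rel φ ((chevG2.x K 9 s).mulVec v) ((chevG2.x K 11 t).mulVec X) := by
  rw [h.eq_vec, h.toInV.eq_vec, x9_vec3 h3, x11_vec3 h3]
  constructor
  · constructor <;> simp only [vec_H1, vec_E0, vec_E1, vec_E5, vec_E6, vec_E10, vec_E11] <;> ring
  all_goals
    simp only [vec_H0, vec_H1, vec_E0, vec_E1, vec_E2, vec_E3, vec_E4, vec_E5, vec_E6, vec_E7, vec_E8, vec_E9, vec_E10, vec_E11, map_add, map_sub, map_mul, map_neg, map_pow, map_zero, hst]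
    try ring

set_option maxHeartbeats 4000000 in
theorem rel_x10 (h3 : (3 : K) = 0) {φ : K →+* K} {s t : K} (hst : φ s = t^3) {v X : chevG2.Idx → K} (h : Rel φ v X) :
    Rel φ ((chevG2.x K 10 s).mulVec v) ((chevG2.x K 8 t).mulVec X) := by
  rw [h.eq_vec, h.toInV.eq_vec, x10_vec3 h3, x8_vec3 h3]
  constructor
  · constructor <;> simp only [vec_H1, vec_E0, vec_E1, vec_E5, vec_E6, vec_E10, vec_E11] <;> ring
  all_goals
    simp only [vec_H0, vec_H1, vec_E0, vec_E1, vec_E2, vec_E3, vec_E4, vec_E5, vec_E6, vec_E7, vec_E8, vec_E9, vec_E10, vec_E11, map_add, map_sub, map_mul, map_neg, map_pow, map_zero, hst]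
    try ring

set_option maxHeartbeats 4000000 in
theorem rel_x11 (h3 : (3 : K) = 0) {φ : K →+* K} {s t : K} (hst : φ s = t^3) {v X : chevG2.Idx → K} (h : Rel φ v X) :
    Rel φ ((chevG2.x K 11 s).mulVec v) ((chevG2.x K 9 t).mulVec X) := by
  rw [h.eq_vec, h.toInV.eq_vec, x11_vec3 h3, x9_vec3 h3]
  constructor
  · constructor <;> simp only [vec_H1, vec_E0, vec_E1, vec_E5, vec_E6, vec_E10, vec_E11] <;> ring
  all_goals
    simp only [vec_H0, vec_H1, vec_E0, vec_E1, vec_E2, vec_E3, vec_E4, vec_E5, vec_E6, vec_E7, vec_E8, vec_E9, vec_E10, vec_E11, map_add, map_sub, map_mul, map_neg, map_pow, map_zero, hst]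
    try ring

end Cfsg.Agent.ChevalleyStructure.ReeRel
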