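import Cfsg.Agent.ChevalleyStructure.ReeMain

/-!
# The element `n₀`, faithfulness on the ideal, and the two-point stabiliser of the small Ree group
-/

set_option autoImplicit false
set_option linter.unusedVariables false
set_option linter.unusedSectionVars false

namespace Cfsg.Agent.ChevalleyStructure.ReeTorus

open Cfsg.Lie Cfsg.Agent.ChevalleyStructure.WordCheck Cfsg.Agent.ChevalleyStructure.ReeVec
open Cfsg.Agent.ChevalleyStructure.ReeBr Cfsg.Agent.ChevalleyStructure.ReeRel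
open Cfsg.Agent.ChevalleyStructure.ReeOvoid Cfsg.Agent.ChevalleyStructure.ReeWords
open Cfsg.Agent.ChevalleyStructure.ReeGroup Cfsg.Agent.ChevalleyStructure.ReeMain
open scoped Matrix

variable {K : Type*} [Field K]

/-! ### Zero parameters -/

set_option maxRecDepth 100000 in
theorem x_zero (r : ℕ) : chevG2.x K r 0 = 1 := by
  by_cases hr : r < 12
  · have h := wordMat_eq_of_check chevG2 (val ([] : List K)) 0 0 0 [(r, .const 0)] []
      (by interval_cases r <;> decide +kernel) (by simp) (by intro i hi; omega)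
    simpa [wval, PExpr.denote, val, ChevalleyDatum.wordMat] using h
  · rw [x_of_le hr]

theorem xG_zero (r : ℕ) : (xG r 0 : GL chevG2.Idx K) = 1 := by
  apply Units.ext; exact x_zero r

theorem wG_cons (p : ℕ × K) (w : List (ℕ × K)) : wG (p :: w) = xG p.1 p.2 * wG w := by
  simp [wG]

theorem wG_nil : wG ([] : List (ℕ × K)) = 1 := by simp [wG]

theorem wG_append (w w' : List (ℕ × K)) : wG (w ++ w') = wG w * wG w' := by
  simp [wG]

/-- negative unipotent elements -/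
def vG (φ : K →+* K) (p q r : K) : GL chevG2.Idx K := wG (vW p (φ p) q (φ q) r (φ r))

theorem good_vG (h3 : (3 : K) = 0) {φ : K →+* K} (hφ : ∀ x, φ (φ x) = x ^ 3) (p q r : K) : Good φ (vG φ p q r) :=
  good_of_word (isRel_vW h3 hφ p q r) (coe_wG _)

/-- the Weyl element -/
def nG (φ : K →+* K) (q : K) : GL chevG2.Idx K := wG (nW q (φ q))

theorem nG_eq (φ : K →+* K) (q : K) : nG φ q = uG φ 0 q 0 * vG φ 0 q⁻¹ 0 * uG φ 0 q 0 := by
  simp only [nG, nW, uG, vG, uW, vW, wG_cons, wG_nil, map_zero, map_inv₀, mul_zero, zero_add, add_zero,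
    neg_zero, xG_zero, one_mul, mul_one, mul_assoc, ne_eq, OfNat.ofNat_ne_zero, not_false_eq_true, zero_pow]

theorem good_nG (h3 : (3 : K) = 0) {φ : K →+* K} (hφ : ∀ x, φ (φ x) = x ^ 3) (q : K) : Good φ (nG φ q) := by
  rw [nG_eq]
  exact ((good_uG h3 hφ _ _ _).mul (good_vG h3 hφ _ _ _)).mul (good_uG h3 hφ _ _ _)

theorem act_nG (h3 : (3 : K) = 0) (φ : K →+* K) {q : K} (hq : q ≠ 0) (a b x0 x1 x2 x3 x4 x5 x6 x7 x8 x9 x10 x11 : K) :
    act (nG φ q) (vec a b x0 x1 x2 x3 x4 x5 x6 x7 x8 x9 x10 x11) =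
      vec (-(1 * a)) (-(1 * b)) (-((q⁻¹ ^ 3 * (φ q)⁻¹) * x11)) (-(((φ q)⁻¹ ^ 2) * x10)) (-((q⁻¹ * (φ q)⁻¹) * x9))
        (-((q⁻¹ ^ 2) * x8)) (-((q * (φ q)⁻¹) * x7)) (-((q⁻¹ ^ 3 * φ q) * x6)) (-((q ^ 3 * (φ q)⁻¹) * x5))
        (-((q⁻¹ * φ q) * x4)) (-((q ^ 2) * x3)) (-((q * φ q) * x2)) (-((φ q ^ 2) * x1)) (-((q ^ 3 * φ q) * x0)) := by
  rw [act, nG, coe_wG]
  exact nW_mulVec h3 hq ((map_ne_zero φ).2 hq) _ _ _ _ _ _ _ _ _ _ _ _ _ _

theorem nG_e2 (h3 : (3 : K) = 0) (φ : K →+* K) {q : K} (hq : q ≠ 0) : act (nG φ q) e2 = (-(q * φ q)) • e9 := by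
  rw [e2, act_nG h3 φ hq, e9, smul_vec]
  simp only [mul_zero, mul_one, neg_zero]

theorem nG_e9 (h3 : (3 : K) = 0) (φ : K →+* K) {q : K} (hq : q ≠ 0) : act (nG φ q) e9 = (-(q⁻¹ * (φ q)⁻¹)) • e2 := by
  rw [e9, act_nG h3 φ hq, e2, smul_vec]
  simp only [mul_zero, mul_one, neg_zero]

theorem nG_e0 (h3 : (3 : K) = 0) (φ : K →+* K) {q : K} (hq : q ≠ 0) : act (nG φ q) e0 = (-(q ^ 3 * φ q)) • e11 := by
  rw [e0, act_nG h3 φ hq, e11, smul_vec]
  simp only [mul_zero, mul_one, neg_zero]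

theorem nG_e11 (h3 : (3 : K) = 0) (φ : K →+* K) {q : K} (hq : q ≠ 0) :
    act (nG φ q) e11 = (-(q⁻¹ ^ 3 * (φ q)⁻¹)) • e0 := by
  rw [e11, act_nG h3 φ hq, e0, smul_vec]
  simp only [mul_zero, mul_one, neg_zero]

/-- `n₀ = n₀(1)` swaps the two points, up to sign. -/
theorem n1_e2 (h3 : (3 : K) = 0) (φ : K →+* K) : act (nG φ 1) e2 = (-1 : K) • e9 := by
  rw [nG_e2 h3 φ one_ne_zero, map_one, mul_one]
theorem n1_e9 (h3 : (3 : K) = 0) (φ : K →+* K) : act (nG φ 1) e9 = (-1 : K) • e2 := by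
  rw [nG_e9 h3 φ one_ne_zero, map_one, inv_one, mul_one]
theorem n1_e0 (h3 : (3 : K) = 0) (φ : K →+* K) : act (nG φ 1) e0 = (-1 : K) • e11 := by
  rw [nG_e0 h3 φ one_ne_zero, map_one, one_pow, mul_one]
theorem n1_e11 (h3 : (3 : K) = 0) (φ : K →+* K) : act (nG φ 1) e11 = (-1 : K) • e0 := by
  rw [nG_e11 h3 φ one_ne_zero, map_one, inv_one, one_pow, mul_one]

theorem act_inv_of {g : GL chevG2.Idx K} {u v : chevG2.Idx → K} {c : K} (hc : c ≠ 0) (h : act g u = c • v) :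
    act g⁻¹ v = c⁻¹ • u := by
  have : v = act g (c⁻¹ • u) := by rw [act_smul, h, smul_smul, inv_mul_cancel₀ hc, one_smul]
  rw [this, act_inv]

theorem n1inv_e9 (h3 : (3 : K) = 0) (φ : K →+* K) : act (nG φ 1)⁻¹ e9 = (-1 : K) • e2 := by
  rw [act_inv_of (neg_ne_zero.2 one_ne_zero) (n1_e2 h3 φ)]
  norm_num
theorem n1inv_e2 (h3 : (3 : K) = 0) (φ : K →+* K) : act (nG φ 1)⁻¹ e2 = (-1 : K) • e9 := by
  rw [act_inv_of (neg_ne_zero.2 one_ne_zero) (n1_e9 h3 φ)]
  norm_num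
theorem n1inv_e0 (h3 : (3 : K) = 0) (φ : K →+* K) : act (nG φ 1)⁻¹ e0 = (-1 : K) • e11 := by
  rw [act_inv_of (neg_ne_zero.2 one_ne_zero) (n1_e11 h3 φ)]
  norm_num

/-! ### Faithfulness -/

theorem br_smul_left (c : K) (u v : chevG2.Idx → K) : br (c • u) v = c • br u v := by
  rw [vec_eta u, vec_eta v, smul_vec, br_vec, br_vec, smul_vec]
  refine vec_congr ?_ ?_ ?_ ?_ ?_ ?_ ?_ ?_ ?_ ?_ ?_ ?_ ?_ ?_ <;> ring

theorem br_smul_right (c : K) (u v : chevG2.Idx → K) : br u (c • v) = c • br u v := by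
  rw [vec_eta u, vec_eta v, smul_vec, br_vec, br_vec, smul_vec]
  refine vec_congr ?_ ?_ ?_ ?_ ?_ ?_ ?_ ?_ ?_ ?_ ?_ ?_ ?_ ?_ <;> ring

theorem br_add_left (u u' v : chevG2.Idx → K) : br (u + u') v = br u v + br u' v := by
  rw [vec_eta u, vec_eta u', vec_eta v, add_vec, br_vec, br_vec, br_vec, add_vec]
  refine vec_congr ?_ ?_ ?_ ?_ ?_ ?_ ?_ ?_ ?_ ?_ ?_ ?_ ?_ ?_ <;> ring

/-- the ideal property -/
theorem inV_br (h3 : (3 : K) = 0) (u : chevG2.Idx → K) {w : chevG2.Idx → K} (hw : InV w) : InV (br u w) := by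
  rw [vec_eta u, hw.eq_vec, br_vec3 h3]
  constructor <;> simp only [vec_H1, vec_E0, vec_E1, vec_E5, vec_E6, vec_E10, vec_E11] <;> ring

theorem InV.decomp {w : chevG2.Idx → K} (hw : InV w) :
    w = w (H 0) • h1 + w (E 2) • e2 + w (E 3) • e3 + w (E 4) • e4 + w (E 7) • e7 + w (E 8) • e8 + w (E 9) • e9 := by
  conv_lhs => rw [hw.eq_vec]
  simp only [h1, e2, e3, e4, e7, e8, e9, smul_vec, add_vec]
  simp only [mul_zero, mul_one, zero_add, add_zero]

set_option maxHeartbeats 4000000 in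
/-- an element of the ideal centralising the ideal is zero -/
theorem center_zero (h3 : (3 : K) = 0) {d : chevG2.Idx → K} (hd : InV d) (h : ∀ w, InV w → br d w = 0) : d = 0 := by
  have hv := hd.eq_vec
  generalize d (H 0) = a at hv
  generalize d (E 2) = x2 at hv
  generalize d (E 3) = x3 at hv
  generalize d (E 4) = x4 at hv
  generalize d (E 7) = x7 at hv
  generalize d (E 8) = x8 at hv
  generalize d (E 9) = x9 at hv
  have k1 := h h1 (inV_vec 1 0 0 0 0 0 0)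
  have k2 := h e2 (inV_vec 0 1 0 0 0 0 0)
  rw [hv, h1, br_vec3 h3, zero_vec] at k1
  rw [hv, e2, br_vec3 h3, zero_vec] at k2
  obtain ⟨-, -, -, -, m2, m3, m4, -, -, m7, m8, m9, -⟩ := vec_inj k1
  obtain ⟨-, -, -, -, n2, -⟩ := vec_inj k2
  rw [hv, zero_vec]
  refine vec_congr ?_ rfl rfl rfl ?_ ?_ ?_ rfl rfl ?_ ?_ ?_ rfl rfl
  · linear_combination -n2
  · linear_combination m2
  · linear_combination -m3
  · linear_combination -m4
  · linear_combination m7
  · linear_combination m8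
  · linear_combination -m9

/-- An element of `Good φ` fixing the ideal pointwise is the identity. -/
theorem eq_one_of_fix [Finite K] (h3 : (3 : K) = 0) {φ : K →+* K} {g : GL chevG2.Idx K} (hg : Good φ g)
    (hfix : ∀ v, InV v → act g v = v) : g = 1 := by
  have hsurj : Function.Surjective φ := Finite.surjective_of_injective φ.injective
  apply ext_act
  intro X
  rw [act_one]
  obtain ⟨a, ha⟩ := hsurj (X (H 1))
  obtain ⟨x2, h2⟩ := hsurj (X (E 0))
  obtain ⟨x3, h3'⟩ := hsurj (X (E 1))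
  obtain ⟨x4, h4⟩ := hsurj (X (E 5))
  obtain ⟨x7, h7⟩ := hsurj (X (E 6))
  obtain ⟨x8, h8⟩ := hsurj (X (E 10))
  obtain ⟨x9, h9⟩ := hsurj (X (E 11))
  have hr : Rel φ (vec a 0 0 0 x2 x3 x4 0 0 x7 x8 x9 0 0) X :=
    { toInV := inV_vec _ _ _ _ _ _ _, p0 := ha.symm, p1 := h2.symm, p2 := h3'.symm, p3 := h4.symm, p4 := h7.symm,
      p5 := h8.symm, p6 := h9.symm }
  have hr' := hg.rel _ _ hr
  rw [hfix _ hr.toInV] at hr'
  -- the difference lies in the ideal
  have hd : InV (act g X - X) := by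
    constructor
    · show act g X (H 1) - X (H 1) = 0
      rw [hr.p0, hr'.p0, sub_self]
    · show act g X (E 0) - X (E 0) = 0
      rw [hr.p1, hr'.p1, sub_self]
    · show act g X (E 1) - X (E 1) = 0
      rw [hr.p2, hr'.p2, sub_self]
    · show act g X (E 5) - X (E 5) = 0
      rw [hr.p3, hr'.p3, sub_self]
    · show act g X (E 6) - X (E 6) = 0
      rw [hr.p4, hr'.p4, sub_self]
    · show act g X (E 10) - X (E 10) = 0
      rw [hr.p5, hr'.p5, sub_self]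
    · show act g X (E 11) - X (E 11) = 0
      rw [hr.p6, hr'.p6, sub_self]
  have hz : act g X - X = 0 := by
    apply center_zero h3 hd
    intro w hw
    have e1 : br (act g X) w = br X w := by
      conv_lhs => rw [← hfix w hw]
      rw [← hg.aut, hfix _ (inV_br h3 _ hw)]
    have e2 : br (act g X) w = br (act g X - X) w + br X w := by
      rw [← br_add_left, sub_add_cancel]
    rw [e1] at e2
    exact left_eq_add.1 (by rw [add_comm]; exact e2)
  exact sub_eq_zero.1 hz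

/-- An element of `Good φ` fixing `e_{-(2a+b)}` and the line of `e_{2a+b}` is the identity. -/
theorem eq_one_of_fix_two [Finite K] (h3 : (3 : K) = 0) {φ : K →+* K} (hφ : ∀ x, φ (φ x) = x ^ 3)
    {g : GL chevG2.Idx K} (hg : Good φ g) (h2 : act g e2 = e2) {c : K} (h9 : act g e9 = c • e9) : g = 1 := by
  have hc : c ≠ 0 := by
    rintro rfl
    rw [zero_smul, ← act_zero g] at h9
    exact e9_ne_zero (act_inj h9)
  have g0 : act g e0 = e0 := by
    have := (fix_e0 h3 hg hg.inv (c := 1) (x7 := 0) (x8 := 0) (x9 := 0) one_ne_zero h2).2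
    rwa [map_one, one_smul] at this
  -- conjugate by n₀
  have g11 : act g e11 = φ c • e11 := by
    have hn := good_nG h3 hφ 1
    have hg' : Good φ (nG φ 1 * g * (nG φ 1)⁻¹) := (hn.mul hg).mul hn.inv
    have k2 : act (nG φ 1 * g * (nG φ 1)⁻¹) e2 = c • e2 := by
      rw [act_mul, act_mul, n1inv_e2 h3, act_smul, act_smul, h9, act_smul, n1_e9 h3, smul_smul, smul_smul]
      congr 1; ring
    have k2' : act (nG φ 1 * g * (nG φ 1)⁻¹) e2 = vec 0 0 0 0 c 0 0 0 0 0 0 0 0 0 := by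
      rw [k2, e2, smul_vec]; simp only [mul_zero, mul_one]
    have k0 := (fix_e0 h3 hg' hg'.inv hc k2').2
    have k0' : act g (act (nG φ 1)⁻¹ e0) = φ c • act (nG φ 1)⁻¹ e0 := by
      rw [← act_smul, ← k0, act_mul, act_mul, act_inv]
    rw [n1inv_e0 h3, act_smul, smul_comm] at k0'
    have := congrArg (fun v => (-1 : K) • v) k0'
    simpa [smul_smul] using this
  have b92 : br (e9 : chevG2.Idx → K) e2 = (-1 : K) • h1 := by
    rw [e9, e2, br_vec3 h3, h1, smul_vec]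
    refine vec_congr ?_ ?_ ?_ ?_ ?_ ?_ ?_ ?_ ?_ ?_ ?_ ?_ ?_ ?_ <;> ring
  have b12 : br (h1 : chevG2.Idx → K) e2 = (-1 : K) • e2 := by
    rw [h1, e2, br_vec3 h3, smul_vec]
    refine vec_congr ?_ ?_ ?_ ?_ ?_ ?_ ?_ ?_ ?_ ?_ ?_ ?_ ?_ ?_ <;> ring
  have b09 : br (e0 : chevG2.Idx → K) e9 = (-1 : K) • e3 := by
    rw [e0, e9, br_vec3 h3, e3, smul_vec]
    refine vec_congr ?_ ?_ ?_ ?_ ?_ ?_ ?_ ?_ ?_ ?_ ?_ ?_ ?_ ?_ <;> ring
  have b93 : br (e9 : chevG2.Idx → K) e3 = (1 : K) • e7 := by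
    rw [e9, e3, br_vec3 h3, e7, smul_vec]
    refine vec_congr ?_ ?_ ?_ ?_ ?_ ?_ ?_ ?_ ?_ ?_ ?_ ?_ ?_ ?_ <;> ring
  have b112 : br (e11 : chevG2.Idx → K) e2 = (1 : K) • e8 := by
    rw [e11, e2, br_vec3 h3, e8, smul_vec]
    refine vec_congr ?_ ?_ ?_ ?_ ?_ ?_ ?_ ?_ ?_ ?_ ?_ ?_ ?_ ?_ <;> ring
  have b82 : br (e8 : chevG2.Idx → K) e2 = (1 : K) • e4 := by
    rw [e8, e2, br_vec3 h3, e4, smul_vec]
    refine vec_congr ?_ ?_ ?_ ?_ ?_ ?_ ?_ ?_ ?_ ?_ ?_ ?_ ?_ ?_ <;> ring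
  have neg1 : ∀ {u v : chevG2.Idx → K}, (-1 : K) • u = (-1 : K) • v → u = v := by
    intro u v h
    have := congrArg (fun v => (-1 : K) • v) h
    simpa [smul_smul] using this
  -- h₁
  have g1 : act g h1 = c • h1 := by
    have := hg.aut e9 e2
    rw [h9, h2, br_smul_left, b92, act_smul, smul_comm c] at this
    exact neg1 this
  have hc1 : c = 1 := by
    have := hg.aut h1 e2
    rw [g1, h2, br_smul_left, b12, act_smul, h2, smul_comm c] at this
    have := congrFun (neg1 this) (E 2)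
    rw [e2, smul_vec, vec_E2, vec_E2] at this
    rw [← mul_one c]; exact this.symm
  subst hc1
  rw [one_smul] at h9 g1
  rw [map_one, one_smul] at g11
  have g3 : act g e3 = e3 := by
    have := hg.aut e0 e9
    rw [g0, h9, b09, act_smul] at this
    exact neg1 this
  have g7 : act g e7 = e7 := by
    have := hg.aut e9 e3
    rwa [h9, g3, b93, one_smul] at this
  have g8 : act g e8 = e8 := by
    have := hg.aut e11 e2
    rwa [g11, h2, b112, one_smul] at this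
  have g4 : act g e4 = e4 := by
    have := hg.aut e8 e2
    rwa [g8, h2, b82, one_smul] at this
  apply eq_one_of_fix h3 hg
  intro v hv
  rw [InV.decomp hv]
  simp only [act_add, act_smul, g1, h2, g3, g4, g7, g8, h9]

end Cfsg.Agent.ChevalleyStructure.ReeTorus
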