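/-
The unipotent subgroup U of G₂ in characteristic 3: product form, and its intersection with ²G₂.
-/
import Cfsg.Agent.ChevalleyStructure.ReeFixed

set_option autoImplicit false

namespace Cfsg.Agent.ChevalleyStructure.ReeU

open Cfsg.Lie Cfsg.Agent.ChevalleyStructure.WordCheck Cfsg.Agent.ChevalleyStructure.WordEntry
  Cfsg.Agent.ChevalleyStructure.ReeFixed

/-- the product form x_a(c1) x_b(c2) x_{a+b}(c3) x_{2a+b}(c4) x_{3a+b}(c5) x_{3a+2b}(c6) -/
def uWord {K : Type*} [Field K] (c1 c2 c3 c4 c5 c6 : K) : List (ℕ × K) :=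
  [(7, c1), (6, c2), (8, c3), (9, c4), (10, c5), (11, c6)]

/-- symbolic form, variables 0..5 -/
def uw : List (ℕ × PExpr) :=
  [(7, .var 0), (6, .var 1), (8, .var 2), (9, .var 3), (10, .var 4), (11, .var 5)]

/-- results of left multiplication by x_r(s), s = variable 6 -/
def lmul : ℕ → List (ℕ × PExpr)
  | 6 => [(7, .var 0), (6, .add (.var 1) (.var 6)), (8, .add (.var 2) (.mul (.var 0) (.var 6))),
      (9, .add (.var 3) (.mul (.pow (.var 0) 2) (.var 6))),
      (10, .add (.var 4) (.neg (.mul (.pow (.var 0) 3) (.var 6)))),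
      (11, .add (.var 5) (.add (.mul (.mul (.pow (.var 0) 3) (.var 1)) (.var 6))
        (.neg (.mul (.pow (.var 0) 3) (.pow (.var 6) 2)))))]
  | 7 => [(7, .add (.var 0) (.var 6)), (6, .var 1), (8, .var 2), (9, .var 3), (10, .var 4), (11, .var 5)]
  | 8 => [(7, .var 0), (6, .var 1), (8, .add (.var 2) (.var 6)),
      (9, .add (.var 3) (.neg (.mul (.var 0) (.var 6)))), (10, .var 4), (11, .var 5)]
  | 9 => [(7, .var 0), (6, .var 1), (8, .var 2), (9, .add (.var 3) (.var 6)), (10, .var 4), (11, .var 5)]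
  | 10 => [(7, .var 0), (6, .var 1), (8, .var 2), (9, .var 3), (10, .add (.var 4) (.var 6)),
      (11, .add (.var 5) (.neg (.mul (.var 1) (.var 6))))]
  | 11 => [(7, .var 0), (6, .var 1), (8, .var 2), (9, .var 3), (10, .var 4), (11, .add (.var 5) (.var 6))]
  | _ => []

/-- check of the six left multiplications -/
def lmulCheck : Bool :=
  [6, 7, 8, 9, 10, 11].all fun r => check chevG2 3 0 7 (xw ((r, .var 6) :: uw)) (xw (lmul r))

set_option maxRecDepth 100000 in
theorem lmulCheck_true : lmulCheck = true := by decide +kernel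

/-- x_r(s) x_r(−s) = 1, all roots -/
def invCheck : Bool :=
  (List.range 12).all fun r => check chevG2 0 0 1 (xw [(r, .var 0), (r, .neg (.var 0))]) (xw [])

set_option maxRecDepth 100000 in
theorem invCheck_true : invCheck = true := by decide +kernel

/-- x_r(0) = 1, all roots -/
def zeroCheck : Bool :=
  (List.range 12).all fun r => check chevG2 0 0 0 (xw [(r, .const 0)]) (xw [])

set_option maxRecDepth 100000 in
theorem zeroCheck_true : zeroCheck = true := by decide +kernel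

section
variable {K : Type*} [Field K]

theorem x_mul_neg (r : ℕ) (hr : r < 12) (t : K) : chevG2.x K r t * chevG2.x K r (-t) = 1 := by
  have h := List.all_eq_true.1 invCheck_true r (List.mem_range.2 hr)
  have := wordMat_eq_of_check chevG2 (fun _ => t : ℕ → K) 0 0 1 _ _ h (by simp)
    (fun i hi => absurd hi (Nat.not_lt_zero _))
  simpa [wval, ChevalleyDatum.wordMat, PExpr.denote] using this

/-- the root elements as elements of GL -/
def xG (r : ℕ) (hr : r < 12) (t : K) : GL chevG2.Idx K where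
  val := chevG2.x K r t
  inv := chevG2.x K r (-t)
  val_inv := x_mul_neg r hr t
  inv_val := by simpa using x_mul_neg r hr (-t)

theorem inv_eq_neg {g : GL chevG2.Idx K} {r : ℕ} (hr : r < 12) {t : K}
    (hg : (g : Matrix chevG2.Idx chevG2.Idx K) = chevG2.x K r t) :
    ((g⁻¹ : GL chevG2.Idx K) : Matrix chevG2.Idx chevG2.Idx K) = chevG2.x K r (-t) := by
  have : g = xG r hr t := Units.ext hg
  rw [this]; rfl

/-- the product form -/
def IsProd (M : Matrix chevG2.Idx chevG2.Idx K) : Prop :=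
  ∃ c1 c2 c3 c4 c5 c6 : K, M = chevG2.wordMat K (uWord c1 c2 c3 c4 c5 c6)

/-- valuation of seven variables -/
def val7 (c1 c2 c3 c4 c5 c6 s : K) : ℕ → K := fun i => [c1, c2, c3, c4, c5, c6, s].getD i 0

theorem isProd_lmul (h3 : ((3 : ℕ) : K) = 0) (r : ℕ) (hr : r ∈ [6, 7, 8, 9, 10, 11]) (s : K)
    {M : Matrix chevG2.Idx chevG2.Idx K} (hM : IsProd M) : IsProd (chevG2.x K r s * M) := by
  obtain ⟨c1, c2, c3, c4, c5, c6, rfl⟩ := hM
  have h := List.all_eq_true.1 lmulCheck_true r hr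
  have h1 := wordMat_eq_of_check chevG2 (val7 c1 c2 c3 c4 c5 c6 s) 3 0 7 _ _ h h3
    (fun i hi => absurd hi (Nat.not_lt_zero _))
  have h2 : chevG2.wordMat K (wval (val7 c1 c2 c3 c4 c5 c6 s) ((r, .var 6) :: uw)) =
      chevG2.x K r s * chevG2.wordMat K (uWord c1 c2 c3 c4 c5 c6) := by
    simp [wval, uw, ChevalleyDatum.wordMat, PExpr.denote, val7, uWord]
  rw [← h2, h1]
  simp only [List.mem_cons, List.not_mem_nil, or_false] at hr
  rcases hr with rfl | rfl | rfl | rfl | rfl | rfl <;>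
    exact ⟨_, _, _, _, _, _, rfl⟩

theorem x_zero (r : ℕ) (hr : r < 12) : chevG2.x K r 0 = 1 := by
  have h := List.all_eq_true.1 zeroCheck_true r (List.mem_range.2 hr)
  have := wordMat_eq_of_check chevG2 (fun _ => 0 : ℕ → K) 0 0 0 _ _ h (by simp)
    (fun i hi => absurd hi (Nat.not_lt_zero _))
  simpa [wval, ChevalleyDatum.wordMat, PExpr.denote] using this

theorem isProd_one : IsProd (1 : Matrix chevG2.Idx chevG2.Idx K) := by
  refine ⟨0, 0, 0, 0, 0, 0, ?_⟩
  simp [ChevalleyDatum.wordMat, uWord, x_zero]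

theorem pos_mem {r : ℕ} (h : chevG2.IsPosRoot r) : r ∈ [6, 7, 8, 9, 10, 11] := by
  have h1 : r < 12 := h.1
  revert h
  interval_cases r <;> decide

theorem pos_of_mem {r : ℕ} (h : r ∈ [6, 7, 8, 9, 10, 11]) : chevG2.IsPosRoot r := by
  simp only [List.mem_cons, List.not_mem_nil, or_false] at h
  rcases h with rfl | rfl | rfl | rfl | rfl | rfl <;> decide

/-- In characteristic 3 every element of U is a product of root elements in the order
a, b, a+b, 2a+b, 3a+b, 3a+2b. -/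
theorem isProd_of_mem (h3 : ((3 : ℕ) : K) = 0) {g : GL chevG2.Idx K} (hg : g ∈ chevG2.posUnipotent K) :
    IsProd (g : Matrix chevG2.Idx chevG2.Idx K) := by
  induction hg using Subgroup.closure_induction_left with
  | one => exact isProd_one
  | mul_left x hx y _ ih =>
    obtain ⟨r, t, hr, hx⟩ := hx
    rw [Units.val_mul, hx]
    exact isProd_lmul h3 r (pos_mem hr) t ih
  | inv_mul_cancel x hx y _ ih =>
    obtain ⟨r, t, hr, hx⟩ := hx
    rw [Units.val_mul, inv_eq_neg hr.1 hx]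
    exact isProd_lmul h3 r (pos_mem hr) (-t) ih

/-! ### Entries -/

end

set_option maxRecDepth 100000 in
theorem ent06 : entryIs chevG2 3 0 6 (xw uw) 0 6 (.var 0) = true := by decide +kernel
set_option maxRecDepth 100000 in
theorem ent17 : entryIs chevG2 3 0 6 (xw uw) 1 7 (.var 1) = true := by decide +kernel
set_option maxRecDepth 100000 in
theorem ent05 : entryIs chevG2 3 0 6 (xw uw) 0 5 (.add (.var 2) (.neg (.mul (.var 0) (.var 1)))) = true := by
  decide +kernel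
set_option maxRecDepth 100000 in
theorem ent13 : entryIs chevG2 3 0 6 (xw uw) 1 3 (.var 4) = true := by decide +kernel
set_option maxRecDepth 100000 in
theorem ent04 : entryIs chevG2 3 0 6 (xw uw) 0 4 (.add (.mul (.var 0) (.var 2)) (.neg (.var 3))) = true := by
  decide +kernel
set_option maxRecDepth 100000 in
theorem ent12 : entryIs chevG2 3 0 6 (xw uw) 1 2 (.add (.mul (.var 1) (.var 4)) (.neg (.var 5))) = true := by
  decide +kernel

section
variable {K : Type*} [Field K]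

/-- valuation of six variables -/
def val6 (c1 c2 c3 c4 c5 c6 : K) : ℕ → K := fun i => [c1, c2, c3, c4, c5, c6].getD i 0

theorem uWord_eq (c1 c2 c3 c4 c5 c6 : K) :
    chevG2.wordMat K (uWord c1 c2 c3 c4 c5 c6) = wmat chevG2 (val6 c1 c2 c3 c4 c5 c6) (xw uw) := by
  rw [wmat_xw]; rfl

variable (h3 : ((3 : ℕ) : K) = 0)
include h3

/-- The entries of the product form used below. -/
theorem entries (c1 c2 c3 c4 c5 c6 : K) {M : Matrix chevG2.Idx chevG2.Idx K}
    (hM : M = chevG2.wordMat K (uWord c1 c2 c3 c4 c5 c6)) :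
    M (sh 0) (sh 3) = c1 ∧ M (lg 0) (lg 3) = c2 ∧ M (sh 0) (sh 2) = c3 + -(c1 * c2) ∧
      M (lg 0) (lg 2) = c5 ∧ M (sh 0) (sh 1) = c1 * c3 + -c4 ∧ M (lg 0) (lg 1) = c2 * c5 + -c6 := by
  rw [hM, uWord_eq]
  have hρ : ∀ i < 0, (val6 c1 c2 c3 c4 c5 c6) (2 * i) * (val6 c1 c2 c3 c4 c5 c6) (2 * i + 1) = 1 :=
    fun i hi => absurd hi (Nat.not_lt_zero _)
  refine ⟨?_, ?_, ?_, ?_, ?_, ?_⟩
  · exact entryIs_sound (D := chevG2) (i := sh 0) (j := sh 3) ent06 h3 hρ
  · exact entryIs_sound (D := chevG2) (i := lg 0) (j := lg 3) ent17 h3 hρ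
  · exact entryIs_sound (D := chevG2) (i := sh 0) (j := sh 2) ent05 h3 hρ
  · exact entryIs_sound (D := chevG2) (i := lg 0) (j := lg 2) ent13 h3 hρ
  · exact entryIs_sound (D := chevG2) (i := sh 0) (j := sh 1) ent04 h3 hρ
  · exact entryIs_sound (D := chevG2) (i := lg 0) (j := lg 1) ent12 h3 hρ

/-- The six parameters of the product form are unique. -/
theorem uWord_inj {c1 c2 c3 c4 c5 c6 d1 d2 d3 d4 d5 d6 : K}
    (h : chevG2.wordMat K (uWord c1 c2 c3 c4 c5 c6) = chevG2.wordMat K (uWord d1 d2 d3 d4 d5 d6)) :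
    c1 = d1 ∧ c2 = d2 ∧ c3 = d3 ∧ c4 = d4 ∧ c5 = d5 ∧ c6 = d6 := by
  obtain ⟨a1, a2, a3, a4, a5, a6⟩ := entries h3 c1 c2 c3 c4 c5 c6 rfl
  obtain ⟨b1, b2, b3, b4, b5, b6⟩ := entries h3 d1 d2 d3 d4 d5 d6 rfl
  rw [h] at a1 a2 a3 a4 a5 a6
  have e1 : c1 = d1 := a1.symm.trans b1
  have e2 : c2 = d2 := a2.symm.trans b2
  have e5 : c5 = d5 := a4.symm.trans b4
  have e3 : c3 = d3 := by
    have := a3.symm.trans b3
    rw [e1, e2] at this
    exact add_right_cancel this
  have e4 : c4 = d4 := by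
    have := a5.symm.trans b5
    rw [e1, e3] at this
    exact neg_injective (add_left_cancel this)
  have e6 : c6 = d6 := by
    have := a6.symm.trans b6
    rw [e2, e5] at this
    exact neg_injective (add_left_cancel this)
  exact ⟨e1, e2, e3, e4, e5, e6⟩

/-- A product which satisfies the fixed point condition is one of the words of ²G₂. -/
theorem eq_reeWordU_of_fixed {θ : K →+* K} {e : ℕ} (hθ : IsTheta θ e) {M : Matrix chevG2.Idx chevG2.Idx K}
    (hM : IsProd M) (hf : Fixed θ M) : ∃ t u v : K, M = chevG2.wordMat K (reeWordU e t u v) := by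
  obtain ⟨c1, c2, c3, c4, c5, c6, hM⟩ := hM
  obtain ⟨a1, a2, a3, a4, a5, a6⟩ := entries h3 c1 c2 c3 c4 c5 c6 hM
  refine ⟨c2, c5, c6, ?_⟩
  have f1 := hf.2 0 3
  have f2 := hf.2 0 2
  have f3 := hf.2 0 1
  rw [a2, a1] at f1
  rw [a4, a3] at f2
  rw [a6, a5, map_add, map_neg, map_mul] at f3
  have h3' : (3 : K) = 0 := by exact_mod_cast h3
  have g1 : c1 = c2 ^ e := by rw [← hθ.eq_pow, f1]
  have g3 : c3 = c2 ^ (e + 1) + c5 ^ e := by
    rw [pow_succ, ← hθ.eq_pow, ← hθ.eq_pow, f1, f2]; ring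
  have g4 : c4 = c2 ^ (2 * e + 1) + c6 ^ e := by
    have e1 : c2 ^ (2 * e + 1) = θ c2 ^ 2 * c2 := by
      rw [pow_succ, mul_comm 2 e, pow_mul, hθ.eq_pow]
    rw [e1, ← hθ.eq_pow c6]
    rw [f1] at f3 ⊢
    rw [f2] at f3
    linear_combination f3
  rw [hM, g1, g3, g4]
  rfl

omit h3 in
/-- the product form as an element of GL -/
def uG (c1 c2 c3 c4 c5 c6 : K) : GL chevG2.Idx K :=
  xG 7 (by decide) c1 * xG 6 (by decide) c2 * xG 8 (by decide) c3 * xG 9 (by decide) c4 *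
    xG 10 (by decide) c5 * xG 11 (by decide) c6

omit h3 in
theorem coe_uG (c1 c2 c3 c4 c5 c6 : K) : (uG c1 c2 c3 c4 c5 c6 : Matrix chevG2.Idx chevG2.Idx K) =
    chevG2.wordMat K (uWord c1 c2 c3 c4 c5 c6) := by
  simp [uG, ChevalleyDatum.wordMat, uWord, xG, mul_assoc]

omit h3 in
theorem uG_mem (c1 c2 c3 c4 c5 c6 : K) : uG c1 c2 c3 c4 c5 c6 ∈ chevG2.posUnipotent K := by
  have hx : ∀ (r : ℕ) (hr : r < 12) (h : r ∈ [6, 7, 8, 9, 10, 11]) (t : K),
      xG r hr t ∈ chevG2.posUnipotent K :=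
    fun r hr h t => Subgroup.subset_closure ⟨r, t, pos_of_mem h, rfl⟩
  unfold uG
  exact mul_mem (mul_mem (mul_mem (mul_mem (mul_mem (hx _ _ (by decide) _) (hx _ _ (by decide) _))
    (hx _ _ (by decide) _)) (hx _ _ (by decide) _)) (hx _ _ (by decide) _)) (hx _ _ (by decide) _)

omit h3 in
/-- the elements of U ∩ ²G₂ -/
def reeG (e : ℕ) (t u v : K) : GL chevG2.Idx K :=
  uG (t ^ e) t (t ^ (e + 1) + u ^ e) (t ^ (2 * e + 1) + v ^ e) u v

omit h3 in
theorem coe_reeG (e : ℕ) (t u v : K) : (reeG e t u v : Matrix chevG2.Idx chevG2.Idx K) =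
    chevG2.wordMat K (reeWordU e t u v) := coe_uG _ _ _ _ _ _

omit h3 in
theorem reeG_mem (e : ℕ) (t u v : K) : reeG e t u v ∈ chevG2.posUnipotent K ⊓ twistedG2 K e :=
  ⟨uG_mem _ _ _ _ _ _, Subgroup.subset_closure ⟨_, ⟨t, u, v, Or.inl rfl⟩, coe_reeG e t u v⟩⟩

/-- U ∩ ²G₂ consists of the words. -/
theorem mem_iff [Finite K] {θ : K →+* K} {e : ℕ} (hθ : IsTheta θ e) (g : GL chevG2.Idx K) :
    g ∈ chevG2.posUnipotent K ⊓ twistedG2 K e ↔
      ∃ t u v : K, (g : Matrix chevG2.Idx chevG2.Idx K) = chevG2.wordMat K (reeWordU e t u v) := by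
  constructor
  · rintro ⟨hU, hG⟩
    exact eq_reeWordU_of_fixed h3 hθ (isProd_of_mem h3 hU) (fixed_of_mem_twistedG2 h3 hθ hG)
  · rintro ⟨t, u, v, hg⟩
    have : g = reeG e t u v := Units.ext (hg.trans (coe_reeG e t u v).symm)
    rw [this]; exact reeG_mem e t u v

theorem main [Fintype K] {θ : K →+* K} {m : ℕ} (hθ : IsTheta θ (3 ^ m))
    (hK : Fintype.card K = 3 ^ (2 * m + 1)) :
    (∀ g : GL chevG2.Idx K, g ∈ chevG2.posUnipotent K ⊓ twistedG2 K (3 ^ m) ↔
      ∃ t u v : K, (g : Matrix chevG2.Idx chevG2.Idx K) = chevG2.wordMat K (reeWordU (3 ^ m) t u v)) ∧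
    Nat.card ↥(chevG2.posUnipotent K ⊓ twistedG2 K (3 ^ m)) = (3 ^ (2 * m + 1)) ^ 3 := by
  refine ⟨mem_iff h3 hθ, ?_⟩
  let f : K × K × K → ↥(chevG2.posUnipotent K ⊓ twistedG2 K (3 ^ m)) :=
    fun p => ⟨reeG (3 ^ m) p.1 p.2.1 p.2.2, reeG_mem _ _ _ _⟩
  have hf : Function.Bijective f := by
    constructor
    · rintro ⟨t, u, v⟩ ⟨t', u', v'⟩ h
      have h1 : reeG (3 ^ m) t u v = reeG (3 ^ m) t' u' v' := congrArg Subtype.val h
      have h2 := congrArg (fun g : GL chevG2.Idx K => (g : Matrix chevG2.Idx chevG2.Idx K)) h1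
      simp only [reeG, coe_uG] at h2
      obtain ⟨_, e2, _, _, e5, e6⟩ := uWord_inj h3 h2
      rw [e2, e5, e6]
    · rintro ⟨g, hg⟩
      obtain ⟨t, u, v, h⟩ := (mem_iff h3 hθ g).1 hg
      exact ⟨(t, u, v), Subtype.ext (Units.ext ((coe_reeG _ t u v).trans h.symm))⟩
  rw [← Nat.card_congr (Equiv.ofBijective f hf), Nat.card_prod, Nat.card_prod, Nat.card_eq_fintype_card, hK]
  ring

end

end Cfsg.Agent.ChevalleyStructure.ReeU
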