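import Cfsg.Prelude.Def_LieTwisted
import Cfsg.Agent.ChevalleyStructure.WordCheck

/-!
# Explicit coordinates for the 14-dimensional module of the Chevalley group of type G₂

`vec a b x0 … x11` is the vector with coordinates `a, b` on the fundamental coroots and `x_r` on the root vectors.
`x_r_vec`: explicit action of the root element `x_r(t)`; `br`: the Lie bracket of the tables; `br_vec`;
`x_br`: the root elements are automorphisms of the bracket (over every field). Generated by a script.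
-/

set_option autoImplicit false
set_option linter.unusedSimpArgs false
set_option linter.unusedVariables false
set_option linter.unusedSectionVars false

namespace Cfsg.Agent.ChevalleyStructure.ReeVec

open Cfsg.Lie Cfsg.Agent.ChevalleyStructure.WordCheck

variable {K : Type*} [Field K]

/-- index of the i-th fundamental coroot -/
def H (i : Fin 2) : chevG2.Idx := Sum.inl i
/-- index of the root vector -/
def E (r : Fin 12) : chevG2.Idx := Sum.inr r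

/-- coordinates on the 14-dimensional module -/
def vec (a b x0 x1 x2 x3 x4 x5 x6 x7 x8 x9 x10 x11 : K) : chevG2.Idx → K :=
  Sum.elim (![a, b] : Fin 2 → K) (![x0, x1, x2, x3, x4, x5, x6, x7, x8, x9, x10, x11] : Fin 12 → K)

section
variable (a b x0 x1 x2 x3 x4 x5 x6 x7 x8 x9 x10 x11 : K)
theorem vec_H0 : vec a b x0 x1 x2 x3 x4 x5 x6 x7 x8 x9 x10 x11 (H 0) = a := rfl
theorem vec_H1 : vec a b x0 x1 x2 x3 x4 x5 x6 x7 x8 x9 x10 x11 (H 1) = b := rfl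
theorem vec_E0 : vec a b x0 x1 x2 x3 x4 x5 x6 x7 x8 x9 x10 x11 (E 0) = x0 := rfl
theorem vec_E1 : vec a b x0 x1 x2 x3 x4 x5 x6 x7 x8 x9 x10 x11 (E 1) = x1 := rfl
theorem vec_E2 : vec a b x0 x1 x2 x3 x4 x5 x6 x7 x8 x9 x10 x11 (E 2) = x2 := rfl
theorem vec_E3 : vec a b x0 x1 x2 x3 x4 x5 x6 x7 x8 x9 x10 x11 (E 3) = x3 := rfl
theorem vec_E4 : vec a b x0 x1 x2 x3 x4 x5 x6 x7 x8 x9 x10 x11 (E 4) = x4 := rfl
theorem vec_E5 : vec a b x0 x1 x2 x3 x4 x5 x6 x7 x8 x9 x10 x11 (E 5) = x5 := rfl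
theorem vec_E6 : vec a b x0 x1 x2 x3 x4 x5 x6 x7 x8 x9 x10 x11 (E 6) = x6 := rfl
theorem vec_E7 : vec a b x0 x1 x2 x3 x4 x5 x6 x7 x8 x9 x10 x11 (E 7) = x7 := rfl
theorem vec_E8 : vec a b x0 x1 x2 x3 x4 x5 x6 x7 x8 x9 x10 x11 (E 8) = x8 := rfl
theorem vec_E9 : vec a b x0 x1 x2 x3 x4 x5 x6 x7 x8 x9 x10 x11 (E 9) = x9 := rfl
theorem vec_E10 : vec a b x0 x1 x2 x3 x4 x5 x6 x7 x8 x9 x10 x11 (E 10) = x10 := rfl
theorem vec_E11 : vec a b x0 x1 x2 x3 x4 x5 x6 x7 x8 x9 x10 x11 (E 11) = x11 := rfl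
end

theorem idx_cases {p : chevG2.Idx → Prop} (h0 : p (H 0)) (h1 : p (H 1)) (h2 : p (E 0)) (h3 : p (E 1)) (h4 : p (E 2)) (h5 : p (E 3)) (h6 : p (E 4)) (h7 : p (E 5)) (h8 : p (E 6)) (h9 : p (E 7)) (h10 : p (E 8)) (h11 : p (E 9)) (h12 : p (E 10)) (h13 : p (E 11)) (i : chevG2.Idx) : p i := by
  rcases i with ⟨i, hi⟩ | ⟨i, hi⟩
  · change i < 2 at hi
    interval_cases i
    · exact h0
    · exact h1
  · change i < 12 at hi
    interval_cases i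
    · exact h2
    · exact h3
    · exact h4
    · exact h5
    · exact h6
    · exact h7
    · exact h8
    · exact h9
    · exact h10
    · exact h11
    · exact h12
    · exact h13

theorem vec_ext {v w : chevG2.Idx → K} (h0 : v (H 0) = w (H 0)) (h1 : v (H 1) = w (H 1)) (h2 : v (E 0) = w (E 0)) (h3 : v (E 1) = w (E 1)) (h4 : v (E 2) = w (E 2)) (h5 : v (E 3) = w (E 3)) (h6 : v (E 4) = w (E 4)) (h7 : v (E 5) = w (E 5)) (h8 : v (E 6) = w (E 6)) (h9 : v (E 7) = w (E 7)) (h10 : v (E 8) = w (E 8)) (h11 : v (E 9) = w (E 9)) (h12 : v (E 10) = w (E 10)) (h13 : v (E 11) = w (E 11)) : v = w := by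
  funext i; exact idx_cases (p := fun i => v i = w i) h0 h1 h2 h3 h4 h5 h6 h7 h8 h9 h10 h11 h12 h13 i

theorem vec_eta (v : chevG2.Idx → K) : v = vec (v (H 0)) (v (H 1)) (v (E 0)) (v (E 1)) (v (E 2)) (v (E 3)) (v (E 4)) (v (E 5)) (v (E 6)) (v (E 7)) (v (E 8)) (v (E 9)) (v (E 10)) (v (E 11)) :=
  vec_ext rfl rfl rfl rfl rfl rfl rfl rfl rfl rfl rfl rfl rfl rfl

theorem vec_congr {a b x0 x1 x2 x3 x4 x5 x6 x7 x8 x9 x10 x11 c d y0 y1 y2 y3 y4 y5 y6 y7 y8 y9 y10 y11 : K} (h0 : a = c) (h1 : b = d) (h2 : x0 = y0) (h3 : x1 = y1) (h4 : x2 = y2) (h5 : x3 = y3) (h6 : x4 = y4) (h7 : x5 = y5) (h8 : x6 = y6) (h9 : x7 = y7) (h10 : x8 = y8) (h11 : x9 = y9) (h12 : x10 = y10) (h13 : x11 = y11) :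
    vec a b x0 x1 x2 x3 x4 x5 x6 x7 x8 x9 x10 x11 = vec c d y0 y1 y2 y3 y4 y5 y6 y7 y8 y9 y10 y11 := by
  rw [h0, h1, h2, h3, h4, h5, h6, h7, h8, h9, h10, h11, h12, h13]

theorem vec_inj {a b x0 x1 x2 x3 x4 x5 x6 x7 x8 x9 x10 x11 c d y0 y1 y2 y3 y4 y5 y6 y7 y8 y9 y10 y11 : K}
    (h : vec a b x0 x1 x2 x3 x4 x5 x6 x7 x8 x9 x10 x11 = vec c d y0 y1 y2 y3 y4 y5 y6 y7 y8 y9 y10 y11) : a = c ∧ b = d ∧ x0 = y0 ∧ x1 = y1 ∧ x2 = y2 ∧ x3 = y3 ∧ x4 = y4 ∧ x5 = y5 ∧ x6 = y6 ∧ x7 = y7 ∧ x8 = y8 ∧ x9 = y9 ∧ x10 = y10 ∧ x11 = y11 :=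
  ⟨congrFun h (H 0), congrFun h (H 1), congrFun h (E 0), congrFun h (E 1), congrFun h (E 2), congrFun h (E 3), congrFun h (E 4), congrFun h (E 5), congrFun h (E 6), congrFun h (E 7), congrFun h (E 8), congrFun h (E 9), congrFun h (E 10), congrFun h (E 11)⟩

theorem sum_idx' (f : Fin 2 ⊕ Fin 12 → K) : ∑ j, f j =
   f (Sum.inl (0 : Fin 2)) + f (Sum.inl (1 : Fin 2)) + f (Sum.inr (0 : Fin 12)) + f (Sum.inr (1 : Fin 12))
   + f (Sum.inr (2 : Fin 12)) + f (Sum.inr (3 : Fin 12)) + f (Sum.inr (4 : Fin 12)) + f (Sum.inr (5 : Fin 12))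
   + f (Sum.inr (6 : Fin 12)) + f (Sum.inr (7 : Fin 12)) + f (Sum.inr (8 : Fin 12)) + f (Sum.inr (9 : Fin 12))
   + f (Sum.inr (10 : Fin 12)) + f (Sum.inr (11 : Fin 12)) := by
  rw [Fintype.sum_sum_type]
  simp only [Fin.sum_univ_succ, Fin.sum_univ_zero, add_zero, ← add_assoc]
  rfl

theorem sum_idx (f : chevG2.Idx → K) : ∑ j, f j =
   f (H 0) + f (H 1) + f (E 0) + f (E 1) + f (E 2) + f (E 3) + f (E 4) + f (E 5)
   + f (E 6) + f (E 7) + f (E 8) + f (E 9) + f (E 10) + f (E 11) := sum_idx' f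

/-- rows of x_r(t) v -/
theorem x_mulVec {r : ℕ} (hr : r < chevG2.nroots) (t : K) (a b x0 x1 x2 x3 x4 x5 x6 x7 x8 x9 x10 x11 : K) (i : chevG2.Idx)
    (n : ℕ) (hn : code chevG2 i = n) :
    ((chevG2.x K r t).mulVec (vec a b x0 x1 x2 x3 x4 x5 x6 x7 x8 x9 x10 x11)) i =
     colSum t n (colX chevG2 r 0) * a + colSum t n (colX chevG2 r 1) * b
     + colSum t n (colX chevG2 r 2) * x0 + colSum t n (colX chevG2 r 3) * x1
     + colSum t n (colX chevG2 r 4) * x2 + colSum t n (colX chevG2 r 5) * x3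
     + colSum t n (colX chevG2 r 6) * x4 + colSum t n (colX chevG2 r 7) * x5
     + colSum t n (colX chevG2 r 8) * x6 + colSum t n (colX chevG2 r 9) * x7
     + colSum t n (colX chevG2 r 10) * x8 + colSum t n (colX chevG2 r 11) * x9
     + colSum t n (colX chevG2 r 12) * x10 + colSum t n (colX chevG2 r 13) * x11 := by
  have hx : chevG2.x K r t = chevG2.xMat K (⟨r, hr⟩ : Fin chevG2.nroots) t := by
    simp [ChevalleyDatum.x, hr]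
  subst hn
  rw [hx, Matrix.mulVec, dotProduct, sum_idx]
  simp only [xMat_entry]
  rfl

set_option maxHeartbeats 4000000 in
theorem x0_vec (t a b x0 x1 x2 x3 x4 x5 x6 x7 x8 x9 x10 x11 : K) :
    (chevG2.x K 0 t).mulVec (vec a b x0 x1 x2 x3 x4 x5 x6 x7 x8 x9 x10 x11) =
    vec (a - t*x11) (b - 2*t*x11) (t*b + x0 - t^2*x11) (x1 + t*x6) (x2 + t*x8) (x3 - t*x9) (x4) (x5 - t*x10) (x6) (x7) (x8) (x9) (x10) (x11) := by
  have c0 : colX chevG2 0 0 = [(0, 1, 0), (2, 0, 1)] := by rfl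
  have c1 : colX chevG2 0 1 = [(1, 1, 0), (2, 1, 1)] := by rfl
  have c2 : colX chevG2 0 2 = [(2, 1, 0)] := by rfl
  have c3 : colX chevG2 0 3 = [(3, 1, 0)] := by rfl
  have c4 : colX chevG2 0 4 = [(4, 1, 0)] := by rfl
  have c5 : colX chevG2 0 5 = [(5, 1, 0)] := by rfl
  have c6 : colX chevG2 0 6 = [(6, 1, 0)] := by rfl
  have c7 : colX chevG2 0 7 = [(7, 1, 0)] := by rfl
  have c8 : colX chevG2 0 8 = [(8, 1, 0), (3, 1, 1)] := by rfl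
  have c9 : colX chevG2 0 9 = [(9, 1, 0)] := by rfl
  have c10 : colX chevG2 0 10 = [(10, 1, 0), (4, 1, 1)] := by rfl
  have c11 : colX chevG2 0 11 = [(11, 1, 0), (5, -1, 1)] := by rfl
  have c12 : colX chevG2 0 12 = [(12, 1, 0), (7, -1, 1)] := by rfl
  have c13 : colX chevG2 0 13 = [(13, 1, 0), (2, -1, 2), (0, -1, 1), (1, -2, 1)] := by rfl
  refine vec_ext ?_ ?_ ?_ ?_ ?_ ?_ ?_ ?_ ?_ ?_ ?_ ?_ ?_ ?_
  · rw [x_mulVec (by decide) t _ _ _ _ _ _ _ _ _ _ _ _ _ _ (H 0) 0 rfl, c0, c1, c2, c3, c4, c5, c6, c7, c8, c9, c10, c11, c12, c13, vec_H0]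
    simp [colSum]
    try ring
  · rw [x_mulVec (by decide) t _ _ _ _ _ _ _ _ _ _ _ _ _ _ (H 1) 1 rfl, c0, c1, c2, c3, c4, c5, c6, c7, c8, c9, c10, c11, c12, c13, vec_H1]
    simp [colSum]
    try ring
  · rw [x_mulVec (by decide) t _ _ _ _ _ _ _ _ _ _ _ _ _ _ (E 0) 2 rfl, c0, c1, c2, c3, c4, c5, c6, c7, c8, c9, c10, c11, c12, c13, vec_E0]
    simp [colSum]
    try ring
  · rw [x_mulVec (by decide) t _ _ _ _ _ _ _ _ _ _ _ _ _ _ (E 1) 3 rfl, c0, c1, c2, c3, c4, c5, c6, c7, c8, c9, c10, c11, c12, c13, vec_E1]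
    simp [colSum]
    try ring
  · rw [x_mulVec (by decide) t _ _ _ _ _ _ _ _ _ _ _ _ _ _ (E 2) 4 rfl, c0, c1, c2, c3, c4, c5, c6, c7, c8, c9, c10, c11, c12, c13, vec_E2]
    simp [colSum]
    try ring
  · rw [x_mulVec (by decide) t _ _ _ _ _ _ _ _ _ _ _ _ _ _ (E 3) 5 rfl, c0, c1, c2, c3, c4, c5, c6, c7, c8, c9, c10, c11, c12, c13, vec_E3]
    simp [colSum]
    try ring
  · rw [x_mulVec (by decide) t _ _ _ _ _ _ _ _ _ _ _ _ _ _ (E 4) 6 rfl, c0, c1, c2, c3, c4, c5, c6, c7, c8, c9, c10, c11, c12, c13, vec_E4]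
    simp [colSum]
    try ring
  · rw [x_mulVec (by decide) t _ _ _ _ _ _ _ _ _ _ _ _ _ _ (E 5) 7 rfl, c0, c1, c2, c3, c4, c5, c6, c7, c8, c9, c10, c11, c12, c13, vec_E5]
    simp [colSum]
    try ring
  · rw [x_mulVec (by decide) t _ _ _ _ _ _ _ _ _ _ _ _ _ _ (E 6) 8 rfl, c0, c1, c2, c3, c4, c5, c6, c7, c8, c9, c10, c11, c12, c13, vec_E6]
    simp [colSum]
    try ring
  · rw [x_mulVec (by decide) t _ _ _ _ _ _ _ _ _ _ _ _ _ _ (E 7) 9 rfl, c0, c1, c2, c3, c4, c5, c6, c7, c8, c9, c10, c11, c12, c13, vec_E7]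
    simp [colSum]
    try ring
  · rw [x_mulVec (by decide) t _ _ _ _ _ _ _ _ _ _ _ _ _ _ (E 8) 10 rfl, c0, c1, c2, c3, c4, c5, c6, c7, c8, c9, c10, c11, c12, c13, vec_E8]
    simp [colSum]
    try ring
  · rw [x_mulVec (by decide) t _ _ _ _ _ _ _ _ _ _ _ _ _ _ (E 9) 11 rfl, c0, c1, c2, c3, c4, c5, c6, c7, c8, c9, c10, c11, c12, c13, vec_E9]
    simp [colSum]
    try ring
  · rw [x_mulVec (by decide) t _ _ _ _ _ _ _ _ _ _ _ _ _ _ (E 10) 12 rfl, c0, c1, c2, c3, c4, c5, c6, c7, c8, c9, c10, c11, c12, c13, vec_E10]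
    simp [colSum]
    try ring
  · rw [x_mulVec (by decide) t _ _ _ _ _ _ _ _ _ _ _ _ _ _ (E 11) 13 rfl, c0, c1, c2, c3, c4, c5, c6, c7, c8, c9, c10, c11, c12, c13, vec_E11]
    simp [colSum]
    try ring

set_option maxHeartbeats 4000000 in
theorem x1_vec (t a b x0 x1 x2 x3 x4 x5 x6 x7 x8 x9 x10 x11 : K) :
    (chevG2.x K 1 t).mulVec (vec a b x0 x1 x2 x3 x4 x5 x6 x7 x8 x9 x10 x11) =
    vec (a - t*x10) (b - t*x10) (x0 + t*x5) (3*t*a - t*b + x1 - t^2*x10) (x2 + t*x7) (x3) (x4 - t*x9) (x5) (x6 - t*x11) (x7) (x8) (x9) (x10) (x11) := by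
  have c0 : colX chevG2 1 0 = [(0, 1, 0), (3, 3, 1)] := by rfl
  have c1 : colX chevG2 1 1 = [(1, 1, 0), (3, -1, 1)] := by rfl
  have c2 : colX chevG2 1 2 = [(2, 1, 0)] := by rfl
  have c3 : colX chevG2 1 3 = [(3, 1, 0)] := by rfl
  have c4 : colX chevG2 1 4 = [(4, 1, 0)] := by rfl
  have c5 : colX chevG2 1 5 = [(5, 1, 0)] := by rfl
  have c6 : colX chevG2 1 6 = [(6, 1, 0)] := by rfl
  have c7 : colX chevG2 1 7 = [(7, 1, 0), (2, 1, 1)] := by rfl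
  have c8 : colX chevG2 1 8 = [(8, 1, 0)] := by rfl
  have c9 : colX chevG2 1 9 = [(9, 1, 0), (4, 1, 1)] := by rfl
  have c10 : colX chevG2 1 10 = [(10, 1, 0)] := by rfl
  have c11 : colX chevG2 1 11 = [(11, 1, 0), (6, -1, 1)] := by rfl
  have c12 : colX chevG2 1 12 = [(12, 1, 0), (3, -1, 2), (0, -1, 1), (1, -1, 1)] := by rfl
  have c13 : colX chevG2 1 13 = [(13, 1, 0), (8, -1, 1)] := by rfl
  refine vec_ext ?_ ?_ ?_ ?_ ?_ ?_ ?_ ?_ ?_ ?_ ?_ ?_ ?_ ?_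
  · rw [x_mulVec (by decide) t _ _ _ _ _ _ _ _ _ _ _ _ _ _ (H 0) 0 rfl, c0, c1, c2, c3, c4, c5, c6, c7, c8, c9, c10, c11, c12, c13, vec_H0]
    simp [colSum]
    try ring
  · rw [x_mulVec (by decide) t _ _ _ _ _ _ _ _ _ _ _ _ _ _ (H 1) 1 rfl, c0, c1, c2, c3, c4, c5, c6, c7, c8, c9, c10, c11, c12, c13, vec_H1]
    simp [colSum]
    try ring
  · rw [x_mulVec (by decide) t _ _ _ _ _ _ _ _ _ _ _ _ _ _ (E 0) 2 rfl, c0, c1, c2, c3, c4, c5, c6, c7, c8, c9, c10, c11, c12, c13, vec_E0]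
    simp [colSum]
    try ring
  · rw [x_mulVec (by decide) t _ _ _ _ _ _ _ _ _ _ _ _ _ _ (E 1) 3 rfl, c0, c1, c2, c3, c4, c5, c6, c7, c8, c9, c10, c11, c12, c13, vec_E1]
    simp [colSum]
    try ring
  · rw [x_mulVec (by decide) t _ _ _ _ _ _ _ _ _ _ _ _ _ _ (E 2) 4 rfl, c0, c1, c2, c3, c4, c5, c6, c7, c8, c9, c10, c11, c12, c13, vec_E2]
    simp [colSum]
    try ring
  · rw [x_mulVec (by decide) t _ _ _ _ _ _ _ _ _ _ _ _ _ _ (E 3) 5 rfl, c0, c1, c2, c3, c4, c5, c6, c7, c8, c9, c10, c11, c12, c13, vec_E3]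
    simp [colSum]
    try ring
  · rw [x_mulVec (by decide) t _ _ _ _ _ _ _ _ _ _ _ _ _ _ (E 4) 6 rfl, c0, c1, c2, c3, c4, c5, c6, c7, c8, c9, c10, c11, c12, c13, vec_E4]
    simp [colSum]
    try ring
  · rw [x_mulVec (by decide) t _ _ _ _ _ _ _ _ _ _ _ _ _ _ (E 5) 7 rfl, c0, c1, c2, c3, c4, c5, c6, c7, c8, c9, c10, c11, c12, c13, vec_E5]
    simp [colSum]
    try ring
  · rw [x_mulVec (by decide) t _ _ _ _ _ _ _ _ _ _ _ _ _ _ (E 6) 8 rfl, c0, c1, c2, c3, c4, c5, c6, c7, c8, c9, c10, c11, c12, c13, vec_E6]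
    simp [colSum]
    try ring
  · rw [x_mulVec (by decide) t _ _ _ _ _ _ _ _ _ _ _ _ _ _ (E 7) 9 rfl, c0, c1, c2, c3, c4, c5, c6, c7, c8, c9, c10, c11, c12, c13, vec_E7]
    simp [colSum]
    try ring
  · rw [x_mulVec (by decide) t _ _ _ _ _ _ _ _ _ _ _ _ _ _ (E 8) 10 rfl, c0, c1, c2, c3, c4, c5, c6, c7, c8, c9, c10, c11, c12, c13, vec_E8]
    simp [colSum]
    try ring
  · rw [x_mulVec (by decide) t _ _ _ _ _ _ _ _ _ _ _ _ _ _ (E 9) 11 rfl, c0, c1, c2, c3, c4, c5, c6, c7, c8, c9, c10, c11, c12, c13, vec_E9]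
    simp [colSum]
    try ring
  · rw [x_mulVec (by decide) t _ _ _ _ _ _ _ _ _ _ _ _ _ _ (E 10) 12 rfl, c0, c1, c2, c3, c4, c5, c6, c7, c8, c9, c10, c11, c12, c13, vec_E10]
    simp [colSum]
    try ring
  · rw [x_mulVec (by decide) t _ _ _ _ _ _ _ _ _ _ _ _ _ _ (E 11) 13 rfl, c0, c1, c2, c3, c4, c5, c6, c7, c8, c9, c10, c11, c12, c13, vec_E11]
    simp [colSum]
    try ring

set_option maxHeartbeats 4000000 in
theorem x2_vec (t a b x0 x1 x2 x3 x4 x5 x6 x7 x8 x9 x10 x11 : K) :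
    (chevG2.x K 2 t).mulVec (vec a b x0 x1 x2 x3 x4 x5 x6 x7 x8 x9 x10 x11) =
    vec (a - 2*t*x9) (b - 3*t*x9) (x0 + 3*t*x3 - 3*t^2*x7 + t^3*x10) (x1 + 3*t*x4 + 3*t^2*x8 - t^3*x11) (t*a + x2 - t^2*x9) (x3 - 2*t*x7 + t^2*x10) (x4 + 2*t*x8 - t^2*x11) (x5) (x6) (x7 - t*x10) (x8 - t*x11) (x9) (x10) (x11) := by
  have c0 : colX chevG2 2 0 = [(0, 1, 0), (4, 1, 1)] := by rfl
  have c1 : colX chevG2 2 1 = [(1, 1, 0), (4, 0, 1)] := by rfl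
  have c2 : colX chevG2 2 2 = [(2, 1, 0)] := by rfl
  have c3 : colX chevG2 2 3 = [(3, 1, 0)] := by rfl
  have c4 : colX chevG2 2 4 = [(4, 1, 0)] := by rfl
  have c5 : colX chevG2 2 5 = [(5, 1, 0), (2, 3, 1)] := by rfl
  have c6 : colX chevG2 2 6 = [(6, 1, 0), (3, 3, 1)] := by rfl
  have c7 : colX chevG2 2 7 = [(7, 1, 0)] := by rfl
  have c8 : colX chevG2 2 8 = [(8, 1, 0)] := by rfl
  have c9 : colX chevG2 2 9 = [(9, 1, 0), (5, -2, 1), (2, -3, 2)] := by rfl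
  have c10 : colX chevG2 2 10 = [(10, 1, 0), (6, 2, 1), (3, 3, 2)] := by rfl
  have c11 : colX chevG2 2 11 = [(11, 1, 0), (4, -1, 2), (0, -2, 1), (1, -3, 1)] := by rfl
  have c12 : colX chevG2 2 12 = [(12, 1, 0), (9, -1, 1), (5, 1, 2), (2, 1, 3)] := by rfl
  have c13 : colX chevG2 2 13 = [(13, 1, 0), (10, -1, 1), (6, -1, 2), (3, -1, 3)] := by rfl
  refine vec_ext ?_ ?_ ?_ ?_ ?_ ?_ ?_ ?_ ?_ ?_ ?_ ?_ ?_ ?_
  · rw [x_mulVec (by decide) t _ _ _ _ _ _ _ _ _ _ _ _ _ _ (H 0) 0 rfl, c0, c1, c2, c3, c4, c5, c6, c7, c8, c9, c10, c11, c12, c13, vec_H0]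
    simp [colSum]
    try ring
  · rw [x_mulVec (by decide) t _ _ _ _ _ _ _ _ _ _ _ _ _ _ (H 1) 1 rfl, c0, c1, c2, c3, c4, c5, c6, c7, c8, c9, c10, c11, c12, c13, vec_H1]
    simp [colSum]
    try ring
  · rw [x_mulVec (by decide) t _ _ _ _ _ _ _ _ _ _ _ _ _ _ (E 0) 2 rfl, c0, c1, c2, c3, c4, c5, c6, c7, c8, c9, c10, c11, c12, c13, vec_E0]
    simp [colSum]
    try ring
  · rw [x_mulVec (by decide) t _ _ _ _ _ _ _ _ _ _ _ _ _ _ (E 1) 3 rfl, c0, c1, c2, c3, c4, c5, c6, c7, c8, c9, c10, c11, c12, c13, vec_E1]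
    simp [colSum]
    try ring
  · rw [x_mulVec (by decide) t _ _ _ _ _ _ _ _ _ _ _ _ _ _ (E 2) 4 rfl, c0, c1, c2, c3, c4, c5, c6, c7, c8, c9, c10, c11, c12, c13, vec_E2]
    simp [colSum]
    try ring
  · rw [x_mulVec (by decide) t _ _ _ _ _ _ _ _ _ _ _ _ _ _ (E 3) 5 rfl, c0, c1, c2, c3, c4, c5, c6, c7, c8, c9, c10, c11, c12, c13, vec_E3]
    simp [colSum]
    try ring
  · rw [x_mulVec (by decide) t _ _ _ _ _ _ _ _ _ _ _ _ _ _ (E 4) 6 rfl, c0, c1, c2, c3, c4, c5, c6, c7, c8, c9, c10, c11, c12, c13, vec_E4]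
    simp [colSum]
    try ring
  · rw [x_mulVec (by decide) t _ _ _ _ _ _ _ _ _ _ _ _ _ _ (E 5) 7 rfl, c0, c1, c2, c3, c4, c5, c6, c7, c8, c9, c10, c11, c12, c13, vec_E5]
    simp [colSum]
    try ring
  · rw [x_mulVec (by decide) t _ _ _ _ _ _ _ _ _ _ _ _ _ _ (E 6) 8 rfl, c0, c1, c2, c3, c4, c5, c6, c7, c8, c9, c10, c11, c12, c13, vec_E6]
    simp [colSum]
    try ring
  · rw [x_mulVec (by decide) t _ _ _ _ _ _ _ _ _ _ _ _ _ _ (E 7) 9 rfl, c0, c1, c2, c3, c4, c5, c6, c7, c8, c9, c10, c11, c12, c13, vec_E7]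
    simp [colSum]
    try ring
  · rw [x_mulVec (by decide) t _ _ _ _ _ _ _ _ _ _ _ _ _ _ (E 8) 10 rfl, c0, c1, c2, c3, c4, c5, c6, c7, c8, c9, c10, c11, c12, c13, vec_E8]
    simp [colSum]
    try ring
  · rw [x_mulVec (by decide) t _ _ _ _ _ _ _ _ _ _ _ _ _ _ (E 9) 11 rfl, c0, c1, c2, c3, c4, c5, c6, c7, c8, c9, c10, c11, c12, c13, vec_E9]
    simp [colSum]
    try ring
  · rw [x_mulVec (by decide) t _ _ _ _ _ _ _ _ _ _ _ _ _ _ (E 10) 12 rfl, c0, c1, c2, c3, c4, c5, c6, c7, c8, c9, c10, c11, c12, c13, vec_E10]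
    simp [colSum]
    try ring
  · rw [x_mulVec (by decide) t _ _ _ _ _ _ _ _ _ _ _ _ _ _ (E 11) 13 rfl, c0, c1, c2, c3, c4, c5, c6, c7, c8, c9, c10, c11, c12, c13, vec_E11]
    simp [colSum]
    try ring

set_option maxHeartbeats 4000000 in
theorem x3_vec (t a b x0 x1 x2 x3 x4 x5 x6 x7 x8 x9 x10 x11 : K) :
    (chevG2.x K 3 t).mulVec (vec a b x0 x1 x2 x3 x4 x5 x6 x7 x8 x9 x10 x11) =
    vec (a - t*x8) (b - 3*t*x8) (x0 - 3*t*x2 + 3*t^2*x4 + t^3*x6) (x1) (x2 - 2*t*x4 - t^2*x6) (-t*a + t*b + x3 - t^2*x8) (x4 + t*x6) (x5 - 3*t*x7 - 3*t^2*x9 - t^3*x11) (x6) (x7 + 2*t*x9 + t^2*x11) (x8) (x9 + t*x11) (x10) (x11) := by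
  have c0 : colX chevG2 3 0 = [(0, 1, 0), (5, -1, 1)] := by rfl
  have c1 : colX chevG2 3 1 = [(1, 1, 0), (5, 1, 1)] := by rfl
  have c2 : colX chevG2 3 2 = [(2, 1, 0)] := by rfl
  have c3 : colX chevG2 3 3 = [(3, 1, 0)] := by rfl
  have c4 : colX chevG2 3 4 = [(4, 1, 0), (2, -3, 1)] := by rfl
  have c5 : colX chevG2 3 5 = [(5, 1, 0)] := by rfl
  have c6 : colX chevG2 3 6 = [(6, 1, 0), (4, -2, 1), (2, 3, 2)] := by rfl
  have c7 : colX chevG2 3 7 = [(7, 1, 0)] := by rfl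
  have c8 : colX chevG2 3 8 = [(8, 1, 0), (6, 1, 1), (4, -1, 2), (2, 1, 3)] := by rfl
  have c9 : colX chevG2 3 9 = [(9, 1, 0), (7, -3, 1)] := by rfl
  have c10 : colX chevG2 3 10 = [(10, 1, 0), (5, -1, 2), (0, -1, 1), (1, -3, 1)] := by rfl
  have c11 : colX chevG2 3 11 = [(11, 1, 0), (9, 2, 1), (7, -3, 2)] := by rfl
  have c12 : colX chevG2 3 12 = [(12, 1, 0)] := by rfl
  have c13 : colX chevG2 3 13 = [(13, 1, 0), (11, 1, 1), (9, 1, 2), (7, -1, 3)] := by rfl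
  refine vec_ext ?_ ?_ ?_ ?_ ?_ ?_ ?_ ?_ ?_ ?_ ?_ ?_ ?_ ?_
  · rw [x_mulVec (by decide) t _ _ _ _ _ _ _ _ _ _ _ _ _ _ (H 0) 0 rfl, c0, c1, c2, c3, c4, c5, c6, c7, c8, c9, c10, c11, c12, c13, vec_H0]
    simp [colSum]
    try ring
  · rw [x_mulVec (by decide) t _ _ _ _ _ _ _ _ _ _ _ _ _ _ (H 1) 1 rfl, c0, c1, c2, c3, c4, c5, c6, c7, c8, c9, c10, c11, c12, c13, vec_H1]
    simp [colSum]
    try ring
  · rw [x_mulVec (by decide) t _ _ _ _ _ _ _ _ _ _ _ _ _ _ (E 0) 2 rfl, c0, c1, c2, c3, c4, c5, c6, c7, c8, c9, c10, c11, c12, c13, vec_E0]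
    simp [colSum]
    try ring
  · rw [x_mulVec (by decide) t _ _ _ _ _ _ _ _ _ _ _ _ _ _ (E 1) 3 rfl, c0, c1, c2, c3, c4, c5, c6, c7, c8, c9, c10, c11, c12, c13, vec_E1]
    simp [colSum]
    try ring
  · rw [x_mulVec (by decide) t _ _ _ _ _ _ _ _ _ _ _ _ _ _ (E 2) 4 rfl, c0, c1, c2, c3, c4, c5, c6, c7, c8, c9, c10, c11, c12, c13, vec_E2]
    simp [colSum]
    try ring
  · rw [x_mulVec (by decide) t _ _ _ _ _ _ _ _ _ _ _ _ _ _ (E 3) 5 rfl, c0, c1, c2, c3, c4, c5, c6, c7, c8, c9, c10, c11, c12, c13, vec_E3]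
    simp [colSum]
    try ring
  · rw [x_mulVec (by decide) t _ _ _ _ _ _ _ _ _ _ _ _ _ _ (E 4) 6 rfl, c0, c1, c2, c3, c4, c5, c6, c7, c8, c9, c10, c11, c12, c13, vec_E4]
    simp [colSum]
    try ring
  · rw [x_mulVec (by decide) t _ _ _ _ _ _ _ _ _ _ _ _ _ _ (E 5) 7 rfl, c0, c1, c2, c3, c4, c5, c6, c7, c8, c9, c10, c11, c12, c13, vec_E5]
    simp [colSum]
    try ring
  · rw [x_mulVec (by decide) t _ _ _ _ _ _ _ _ _ _ _ _ _ _ (E 6) 8 rfl, c0, c1, c2, c3, c4, c5, c6, c7, c8, c9, c10, c11, c12, c13, vec_E6]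
    simp [colSum]
    try ring
  · rw [x_mulVec (by decide) t _ _ _ _ _ _ _ _ _ _ _ _ _ _ (E 7) 9 rfl, c0, c1, c2, c3, c4, c5, c6, c7, c8, c9, c10, c11, c12, c13, vec_E7]
    simp [colSum]
    try ring
  · rw [x_mulVec (by decide) t _ _ _ _ _ _ _ _ _ _ _ _ _ _ (E 8) 10 rfl, c0, c1, c2, c3, c4, c5, c6, c7, c8, c9, c10, c11, c12, c13, vec_E8]
    simp [colSum]
    try ring
  · rw [x_mulVec (by decide) t _ _ _ _ _ _ _ _ _ _ _ _ _ _ (E 9) 11 rfl, c0, c1, c2, c3, c4, c5, c6, c7, c8, c9, c10, c11, c12, c13, vec_E9]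
    simp [colSum]
    try ring
  · rw [x_mulVec (by decide) t _ _ _ _ _ _ _ _ _ _ _ _ _ _ (E 10) 12 rfl, c0, c1, c2, c3, c4, c5, c6, c7, c8, c9, c10, c11, c12, c13, vec_E10]
    simp [colSum]
    try ring
  · rw [x_mulVec (by decide) t _ _ _ _ _ _ _ _ _ _ _ _ _ _ (E 11) 13 rfl, c0, c1, c2, c3, c4, c5, c6, c7, c8, c9, c10, c11, c12, c13, vec_E11]
    simp [colSum]
    try ring

set_option maxHeartbeats 4000000 in
theorem x4_vec (t a b x0 x1 x2 x3 x4 x5 x6 x7 x8 x9 x10 x11 : K) :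
    (chevG2.x K 4 t).mulVec (vec a b x0 x1 x2 x3 x4 x5 x6 x7 x8 x9 x10 x11) =
    vec (a - t*x7) (b) (x0) (x1 - 3*t*x2 - 3*t^2*x3 - t^3*x5) (x2 + 2*t*x3 + t^2*x5) (x3 + t*x5) (2*t*a - t*b + x4 - t^2*x7) (x5) (x6 - 3*t*x8 + 3*t^2*x9 + t^3*x10) (x7) (x8 - 2*t*x9 - t^2*x10) (x9 + t*x10) (x10) (x11) := by
  have c0 : colX chevG2 4 0 = [(0, 1, 0), (6, 2, 1)] := by rfl
  have c1 : colX chevG2 4 1 = [(1, 1, 0), (6, -1, 1)] := by rfl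
  have c2 : colX chevG2 4 2 = [(2, 1, 0)] := by rfl
  have c3 : colX chevG2 4 3 = [(3, 1, 0)] := by rfl
  have c4 : colX chevG2 4 4 = [(4, 1, 0), (3, -3, 1)] := by rfl
  have c5 : colX chevG2 4 5 = [(5, 1, 0), (4, 2, 1), (3, -3, 2)] := by rfl
  have c6 : colX chevG2 4 6 = [(6, 1, 0)] := by rfl
  have c7 : colX chevG2 4 7 = [(7, 1, 0), (5, 1, 1), (4, 1, 2), (3, -1, 3)] := by rfl
  have c8 : colX chevG2 4 8 = [(8, 1, 0)] := by rfl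
  have c9 : colX chevG2 4 9 = [(9, 1, 0), (6, -1, 2), (0, -1, 1), (1, 0, 1)] := by rfl
  have c10 : colX chevG2 4 10 = [(10, 1, 0), (8, -3, 1)] := by rfl
  have c11 : colX chevG2 4 11 = [(11, 1, 0), (10, -2, 1), (8, 3, 2)] := by rfl
  have c12 : colX chevG2 4 12 = [(12, 1, 0), (11, 1, 1), (10, -1, 2), (8, 1, 3)] := by rfl
  have c13 : colX chevG2 4 13 = [(13, 1, 0)] := by rfl
  refine vec_ext ?_ ?_ ?_ ?_ ?_ ?_ ?_ ?_ ?_ ?_ ?_ ?_ ?_ ?_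
  · rw [x_mulVec (by decide) t _ _ _ _ _ _ _ _ _ _ _ _ _ _ (H 0) 0 rfl, c0, c1, c2, c3, c4, c5, c6, c7, c8, c9, c10, c11, c12, c13, vec_H0]
    simp [colSum]
    try ring
  · rw [x_mulVec (by decide) t _ _ _ _ _ _ _ _ _ _ _ _ _ _ (H 1) 1 rfl, c0, c1, c2, c3, c4, c5, c6, c7, c8, c9, c10, c11, c12, c13, vec_H1]
    simp [colSum]
    try ring
  · rw [x_mulVec (by decide) t _ _ _ _ _ _ _ _ _ _ _ _ _ _ (E 0) 2 rfl, c0, c1, c2, c3, c4, c5, c6, c7, c8, c9, c10, c11, c12, c13, vec_E0]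
    simp [colSum]
    try ring
  · rw [x_mulVec (by decide) t _ _ _ _ _ _ _ _ _ _ _ _ _ _ (E 1) 3 rfl, c0, c1, c2, c3, c4, c5, c6, c7, c8, c9, c10, c11, c12, c13, vec_E1]
    simp [colSum]
    try ring
  · rw [x_mulVec (by decide) t _ _ _ _ _ _ _ _ _ _ _ _ _ _ (E 2) 4 rfl, c0, c1, c2, c3, c4, c5, c6, c7, c8, c9, c10, c11, c12, c13, vec_E2]
    simp [colSum]
    try ring
  · rw [x_mulVec (by decide) t _ _ _ _ _ _ _ _ _ _ _ _ _ _ (E 3) 5 rfl, c0, c1, c2, c3, c4, c5, c6, c7, c8, c9, c10, c11, c12, c13, vec_E3]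
    simp [colSum]
    try ring
  · rw [x_mulVec (by decide) t _ _ _ _ _ _ _ _ _ _ _ _ _ _ (E 4) 6 rfl, c0, c1, c2, c3, c4, c5, c6, c7, c8, c9, c10, c11, c12, c13, vec_E4]
    simp [colSum]
    try ring
  · rw [x_mulVec (by decide) t _ _ _ _ _ _ _ _ _ _ _ _ _ _ (E 5) 7 rfl, c0, c1, c2, c3, c4, c5, c6, c7, c8, c9, c10, c11, c12, c13, vec_E5]
    simp [colSum]
    try ring
  · rw [x_mulVec (by decide) t _ _ _ _ _ _ _ _ _ _ _ _ _ _ (E 6) 8 rfl, c0, c1, c2, c3, c4, c5, c6, c7, c8, c9, c10, c11, c12, c13, vec_E6]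
    simp [colSum]
    try ring
  · rw [x_mulVec (by decide) t _ _ _ _ _ _ _ _ _ _ _ _ _ _ (E 7) 9 rfl, c0, c1, c2, c3, c4, c5, c6, c7, c8, c9, c10, c11, c12, c13, vec_E7]
    simp [colSum]
    try ring
  · rw [x_mulVec (by decide) t _ _ _ _ _ _ _ _ _ _ _ _ _ _ (E 8) 10 rfl, c0, c1, c2, c3, c4, c5, c6, c7, c8, c9, c10, c11, c12, c13, vec_E8]
    simp [colSum]
    try ring
  · rw [x_mulVec (by decide) t _ _ _ _ _ _ _ _ _ _ _ _ _ _ (E 9) 11 rfl, c0, c1, c2, c3, c4, c5, c6, c7, c8, c9, c10, c11, c12, c13, vec_E9]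
    simp [colSum]
    try ring
  · rw [x_mulVec (by decide) t _ _ _ _ _ _ _ _ _ _ _ _ _ _ (E 10) 12 rfl, c0, c1, c2, c3, c4, c5, c6, c7, c8, c9, c10, c11, c12, c13, vec_E10]
    simp [colSum]
    try ring
  · rw [x_mulVec (by decide) t _ _ _ _ _ _ _ _ _ _ _ _ _ _ (E 11) 13 rfl, c0, c1, c2, c3, c4, c5, c6, c7, c8, c9, c10, c11, c12, c13, vec_E11]
    simp [colSum]
    try ring

set_option maxHeartbeats 4000000 in
theorem x5_vec (t a b x0 x1 x2 x3 x4 x5 x6 x7 x8 x9 x10 x11 : K) :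
    (chevG2.x K 5 t).mulVec (vec a b x0 x1 x2 x3 x4 x5 x6 x7 x8 x9 x10 x11) =
    vec (a) (b - t*x6) (x0 - t*x1) (x1) (x2) (x3 - t*x4) (x4) (-3*t*a + 2*t*b + x5 - t^2*x6) (x6) (x7 + t*x8) (x8) (x9) (x10 + t*x11) (x11) := by
  have c0 : colX chevG2 5 0 = [(0, 1, 0), (7, -3, 1)] := by rfl
  have c1 : colX chevG2 5 1 = [(1, 1, 0), (7, 2, 1)] := by rfl
  have c2 : colX chevG2 5 2 = [(2, 1, 0)] := by rfl
  have c3 : colX chevG2 5 3 = [(3, 1, 0), (2, -1, 1)] := by rfl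
  have c4 : colX chevG2 5 4 = [(4, 1, 0)] := by rfl
  have c5 : colX chevG2 5 5 = [(5, 1, 0)] := by rfl
  have c6 : colX chevG2 5 6 = [(6, 1, 0), (5, -1, 1)] := by rfl
  have c7 : colX chevG2 5 7 = [(7, 1, 0)] := by rfl
  have c8 : colX chevG2 5 8 = [(8, 1, 0), (7, -1, 2), (0, 0, 1), (1, -1, 1)] := by rfl
  have c9 : colX chevG2 5 9 = [(9, 1, 0)] := by rfl
  have c10 : colX chevG2 5 10 = [(10, 1, 0), (9, 1, 1)] := by rfl
  have c11 : colX chevG2 5 11 = [(11, 1, 0)] := by rfl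
  have c12 : colX chevG2 5 12 = [(12, 1, 0)] := by rfl
  have c13 : colX chevG2 5 13 = [(13, 1, 0), (12, 1, 1)] := by rfl
  refine vec_ext ?_ ?_ ?_ ?_ ?_ ?_ ?_ ?_ ?_ ?_ ?_ ?_ ?_ ?_
  · rw [x_mulVec (by decide) t _ _ _ _ _ _ _ _ _ _ _ _ _ _ (H 0) 0 rfl, c0, c1, c2, c3, c4, c5, c6, c7, c8, c9, c10, c11, c12, c13, vec_H0]
    simp [colSum]
    try ring
  · rw [x_mulVec (by decide) t _ _ _ _ _ _ _ _ _ _ _ _ _ _ (H 1) 1 rfl, c0, c1, c2, c3, c4, c5, c6, c7, c8, c9, c10, c11, c12, c13, vec_H1]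
    simp [colSum]
    try ring
  · rw [x_mulVec (by decide) t _ _ _ _ _ _ _ _ _ _ _ _ _ _ (E 0) 2 rfl, c0, c1, c2, c3, c4, c5, c6, c7, c8, c9, c10, c11, c12, c13, vec_E0]
    simp [colSum]
    try ring
  · rw [x_mulVec (by decide) t _ _ _ _ _ _ _ _ _ _ _ _ _ _ (E 1) 3 rfl, c0, c1, c2, c3, c4, c5, c6, c7, c8, c9, c10, c11, c12, c13, vec_E1]
    simp [colSum]
    try ring
  · rw [x_mulVec (by decide) t _ _ _ _ _ _ _ _ _ _ _ _ _ _ (E 2) 4 rfl, c0, c1, c2, c3, c4, c5, c6, c7, c8, c9, c10, c11, c12, c13, vec_E2]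
    simp [colSum]
    try ring
  · rw [x_mulVec (by decide) t _ _ _ _ _ _ _ _ _ _ _ _ _ _ (E 3) 5 rfl, c0, c1, c2, c3, c4, c5, c6, c7, c8, c9, c10, c11, c12, c13, vec_E3]
    simp [colSum]
    try ring
  · rw [x_mulVec (by decide) t _ _ _ _ _ _ _ _ _ _ _ _ _ _ (E 4) 6 rfl, c0, c1, c2, c3, c4, c5, c6, c7, c8, c9, c10, c11, c12, c13, vec_E4]
    simp [colSum]
    try ring
  · rw [x_mulVec (by decide) t _ _ _ _ _ _ _ _ _ _ _ _ _ _ (E 5) 7 rfl, c0, c1, c2, c3, c4, c5, c6, c7, c8, c9, c10, c11, c12, c13, vec_E5]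
    simp [colSum]
    try ring
  · rw [x_mulVec (by decide) t _ _ _ _ _ _ _ _ _ _ _ _ _ _ (E 6) 8 rfl, c0, c1, c2, c3, c4, c5, c6, c7, c8, c9, c10, c11, c12, c13, vec_E6]
    simp [colSum]
    try ring
  · rw [x_mulVec (by decide) t _ _ _ _ _ _ _ _ _ _ _ _ _ _ (E 7) 9 rfl, c0, c1, c2, c3, c4, c5, c6, c7, c8, c9, c10, c11, c12, c13, vec_E7]
    simp [colSum]
    try ring
  · rw [x_mulVec (by decide) t _ _ _ _ _ _ _ _ _ _ _ _ _ _ (E 8) 10 rfl, c0, c1, c2, c3, c4, c5, c6, c7, c8, c9, c10, c11, c12, c13, vec_E8]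
    simp [colSum]
    try ring
  · rw [x_mulVec (by decide) t _ _ _ _ _ _ _ _ _ _ _ _ _ _ (E 9) 11 rfl, c0, c1, c2, c3, c4, c5, c6, c7, c8, c9, c10, c11, c12, c13, vec_E9]
    simp [colSum]
    try ring
  · rw [x_mulVec (by decide) t _ _ _ _ _ _ _ _ _ _ _ _ _ _ (E 10) 12 rfl, c0, c1, c2, c3, c4, c5, c6, c7, c8, c9, c10, c11, c12, c13, vec_E10]
    simp [colSum]
    try ring
  · rw [x_mulVec (by decide) t _ _ _ _ _ _ _ _ _ _ _ _ _ _ (E 11) 13 rfl, c0, c1, c2, c3, c4, c5, c6, c7, c8, c9, c10, c11, c12, c13, vec_E11]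
    simp [colSum]
    try ring

set_option maxHeartbeats 4000000 in
theorem x6_vec (t a b x0 x1 x2 x3 x4 x5 x6 x7 x8 x9 x10 x11 : K) :
    (chevG2.x K 6 t).mulVec (vec a b x0 x1 x2 x3 x4 x5 x6 x7 x8 x9 x10 x11) =
    vec (a) (b + t*x5) (x0) (-t*x0 + x1) (x2) (x3) (-t*x3 + x4) (x5) (3*t*a - 2*t*b - t^2*x5 + x6) (x7) (t*x7 + x8) (x9) (x10) (t*x10 + x11) := by
  have c0 : colX chevG2 6 0 = [(0, 1, 0), (8, 3, 1)] := by rfl
  have c1 : colX chevG2 6 1 = [(1, 1, 0), (8, -2, 1)] := by rfl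
  have c2 : colX chevG2 6 2 = [(2, 1, 0), (3, -1, 1)] := by rfl
  have c3 : colX chevG2 6 3 = [(3, 1, 0)] := by rfl
  have c4 : colX chevG2 6 4 = [(4, 1, 0)] := by rfl
  have c5 : colX chevG2 6 5 = [(5, 1, 0), (6, -1, 1)] := by rfl
  have c6 : colX chevG2 6 6 = [(6, 1, 0)] := by rfl
  have c7 : colX chevG2 6 7 = [(7, 1, 0), (8, -1, 2), (0, 0, 1), (1, 1, 1)] := by rfl
  have c8 : colX chevG2 6 8 = [(8, 1, 0)] := by rfl
  have c9 : colX chevG2 6 9 = [(9, 1, 0), (10, 1, 1)] := by rfl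
  have c10 : colX chevG2 6 10 = [(10, 1, 0)] := by rfl
  have c11 : colX chevG2 6 11 = [(11, 1, 0)] := by rfl
  have c12 : colX chevG2 6 12 = [(12, 1, 0), (13, 1, 1)] := by rfl
  have c13 : colX chevG2 6 13 = [(13, 1, 0)] := by rfl
  refine vec_ext ?_ ?_ ?_ ?_ ?_ ?_ ?_ ?_ ?_ ?_ ?_ ?_ ?_ ?_
  · rw [x_mulVec (by decide) t _ _ _ _ _ _ _ _ _ _ _ _ _ _ (H 0) 0 rfl, c0, c1, c2, c3, c4, c5, c6, c7, c8, c9, c10, c11, c12, c13, vec_H0]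
    simp [colSum]
    try ring
  · rw [x_mulVec (by decide) t _ _ _ _ _ _ _ _ _ _ _ _ _ _ (H 1) 1 rfl, c0, c1, c2, c3, c4, c5, c6, c7, c8, c9, c10, c11, c12, c13, vec_H1]
    simp [colSum]
    try ring
  · rw [x_mulVec (by decide) t _ _ _ _ _ _ _ _ _ _ _ _ _ _ (E 0) 2 rfl, c0, c1, c2, c3, c4, c5, c6, c7, c8, c9, c10, c11, c12, c13, vec_E0]
    simp [colSum]
    try ring
  · rw [x_mulVec (by decide) t _ _ _ _ _ _ _ _ _ _ _ _ _ _ (E 1) 3 rfl, c0, c1, c2, c3, c4, c5, c6, c7, c8, c9, c10, c11, c12, c13, vec_E1]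
    simp [colSum]
    try ring
  · rw [x_mulVec (by decide) t _ _ _ _ _ _ _ _ _ _ _ _ _ _ (E 2) 4 rfl, c0, c1, c2, c3, c4, c5, c6, c7, c8, c9, c10, c11, c12, c13, vec_E2]
    simp [colSum]
    try ring
  · rw [x_mulVec (by decide) t _ _ _ _ _ _ _ _ _ _ _ _ _ _ (E 3) 5 rfl, c0, c1, c2, c3, c4, c5, c6, c7, c8, c9, c10, c11, c12, c13, vec_E3]
    simp [colSum]
    try ring
  · rw [x_mulVec (by decide) t _ _ _ _ _ _ _ _ _ _ _ _ _ _ (E 4) 6 rfl, c0, c1, c2, c3, c4, c5, c6, c7, c8, c9, c10, c11, c12, c13, vec_E4]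
    simp [colSum]
    try ring
  · rw [x_mulVec (by decide) t _ _ _ _ _ _ _ _ _ _ _ _ _ _ (E 5) 7 rfl, c0, c1, c2, c3, c4, c5, c6, c7, c8, c9, c10, c11, c12, c13, vec_E5]
    simp [colSum]
    try ring
  · rw [x_mulVec (by decide) t _ _ _ _ _ _ _ _ _ _ _ _ _ _ (E 6) 8 rfl, c0, c1, c2, c3, c4, c5, c6, c7, c8, c9, c10, c11, c12, c13, vec_E6]
    simp [colSum]
    try ring
  · rw [x_mulVec (by decide) t _ _ _ _ _ _ _ _ _ _ _ _ _ _ (E 7) 9 rfl, c0, c1, c2, c3, c4, c5, c6, c7, c8, c9, c10, c11, c12, c13, vec_E7]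
    simp [colSum]
    try ring
  · rw [x_mulVec (by decide) t _ _ _ _ _ _ _ _ _ _ _ _ _ _ (E 8) 10 rfl, c0, c1, c2, c3, c4, c5, c6, c7, c8, c9, c10, c11, c12, c13, vec_E8]
    simp [colSum]
    try ring
  · rw [x_mulVec (by decide) t _ _ _ _ _ _ _ _ _ _ _ _ _ _ (E 9) 11 rfl, c0, c1, c2, c3, c4, c5, c6, c7, c8, c9, c10, c11, c12, c13, vec_E9]
    simp [colSum]
    try ring
  · rw [x_mulVec (by decide) t _ _ _ _ _ _ _ _ _ _ _ _ _ _ (E 10) 12 rfl, c0, c1, c2, c3, c4, c5, c6, c7, c8, c9, c10, c11, c12, c13, vec_E10]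
    simp [colSum]
    try ring
  · rw [x_mulVec (by decide) t _ _ _ _ _ _ _ _ _ _ _ _ _ _ (E 11) 13 rfl, c0, c1, c2, c3, c4, c5, c6, c7, c8, c9, c10, c11, c12, c13, vec_E11]
    simp [colSum]
    try ring

set_option maxHeartbeats 4000000 in
theorem x7_vec (t a b x0 x1 x2 x3 x4 x5 x6 x7 x8 x9 x10 x11 : K) :
    (chevG2.x K 7 t).mulVec (vec a b x0 x1 x2 x3 x4 x5 x6 x7 x8 x9 x10 x11) =
    vec (a + t*x4) (b) (x0) (x1) (-t*x1 + x2) (-t^2*x1 + 2*t*x2 + x3) (x4) (-t^3*x1 + 3*t^2*x2 + 3*t*x3 + x5) (x6) (-2*t*a + t*b - t^2*x4 + x7) (-t*x6 + x8) (t^2*x6 - 2*t*x8 + x9) (t^3*x6 - 3*t^2*x8 + 3*t*x9 + x10) (x11) := by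
  have c0 : colX chevG2 7 0 = [(0, 1, 0), (9, -2, 1)] := by rfl
  have c1 : colX chevG2 7 1 = [(1, 1, 0), (9, 1, 1)] := by rfl
  have c2 : colX chevG2 7 2 = [(2, 1, 0)] := by rfl
  have c3 : colX chevG2 7 3 = [(3, 1, 0), (4, -1, 1), (5, -1, 2), (7, -1, 3)] := by rfl
  have c4 : colX chevG2 7 4 = [(4, 1, 0), (5, 2, 1), (7, 3, 2)] := by rfl
  have c5 : colX chevG2 7 5 = [(5, 1, 0), (7, 3, 1)] := by rfl
  have c6 : colX chevG2 7 6 = [(6, 1, 0), (9, -1, 2), (0, 1, 1), (1, 0, 1)] := by rfl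
  have c7 : colX chevG2 7 7 = [(7, 1, 0)] := by rfl
  have c8 : colX chevG2 7 8 = [(8, 1, 0), (10, -1, 1), (11, 1, 2), (12, 1, 3)] := by rfl
  have c9 : colX chevG2 7 9 = [(9, 1, 0)] := by rfl
  have c10 : colX chevG2 7 10 = [(10, 1, 0), (11, -2, 1), (12, -3, 2)] := by rfl
  have c11 : colX chevG2 7 11 = [(11, 1, 0), (12, 3, 1)] := by rfl
  have c12 : colX chevG2 7 12 = [(12, 1, 0)] := by rfl
  have c13 : colX chevG2 7 13 = [(13, 1, 0)] := by rfl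
  refine vec_ext ?_ ?_ ?_ ?_ ?_ ?_ ?_ ?_ ?_ ?_ ?_ ?_ ?_ ?_
  · rw [x_mulVec (by decide) t _ _ _ _ _ _ _ _ _ _ _ _ _ _ (H 0) 0 rfl, c0, c1, c2, c3, c4, c5, c6, c7, c8, c9, c10, c11, c12, c13, vec_H0]
    simp [colSum]
    try ring
  · rw [x_mulVec (by decide) t _ _ _ _ _ _ _ _ _ _ _ _ _ _ (H 1) 1 rfl, c0, c1, c2, c3, c4, c5, c6, c7, c8, c9, c10, c11, c12, c13, vec_H1]
    simp [colSum]
    try ring
  · rw [x_mulVec (by decide) t _ _ _ _ _ _ _ _ _ _ _ _ _ _ (E 0) 2 rfl, c0, c1, c2, c3, c4, c5, c6, c7, c8, c9, c10, c11, c12, c13, vec_E0]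
    simp [colSum]
    try ring
  · rw [x_mulVec (by decide) t _ _ _ _ _ _ _ _ _ _ _ _ _ _ (E 1) 3 rfl, c0, c1, c2, c3, c4, c5, c6, c7, c8, c9, c10, c11, c12, c13, vec_E1]
    simp [colSum]
    try ring
  · rw [x_mulVec (by decide) t _ _ _ _ _ _ _ _ _ _ _ _ _ _ (E 2) 4 rfl, c0, c1, c2, c3, c4, c5, c6, c7, c8, c9, c10, c11, c12, c13, vec_E2]
    simp [colSum]
    try ring
  · rw [x_mulVec (by decide) t _ _ _ _ _ _ _ _ _ _ _ _ _ _ (E 3) 5 rfl, c0, c1, c2, c3, c4, c5, c6, c7, c8, c9, c10, c11, c12, c13, vec_E3]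
    simp [colSum]
    try ring
  · rw [x_mulVec (by decide) t _ _ _ _ _ _ _ _ _ _ _ _ _ _ (E 4) 6 rfl, c0, c1, c2, c3, c4, c5, c6, c7, c8, c9, c10, c11, c12, c13, vec_E4]
    simp [colSum]
    try ring
  · rw [x_mulVec (by decide) t _ _ _ _ _ _ _ _ _ _ _ _ _ _ (E 5) 7 rfl, c0, c1, c2, c3, c4, c5, c6, c7, c8, c9, c10, c11, c12, c13, vec_E5]
    simp [colSum]
    try ring
  · rw [x_mulVec (by decide) t _ _ _ _ _ _ _ _ _ _ _ _ _ _ (E 6) 8 rfl, c0, c1, c2, c3, c4, c5, c6, c7, c8, c9, c10, c11, c12, c13, vec_E6]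
    simp [colSum]
    try ring
  · rw [x_mulVec (by decide) t _ _ _ _ _ _ _ _ _ _ _ _ _ _ (E 7) 9 rfl, c0, c1, c2, c3, c4, c5, c6, c7, c8, c9, c10, c11, c12, c13, vec_E7]
    simp [colSum]
    try ring
  · rw [x_mulVec (by decide) t _ _ _ _ _ _ _ _ _ _ _ _ _ _ (E 8) 10 rfl, c0, c1, c2, c3, c4, c5, c6, c7, c8, c9, c10, c11, c12, c13, vec_E8]
    simp [colSum]
    try ring
  · rw [x_mulVec (by decide) t _ _ _ _ _ _ _ _ _ _ _ _ _ _ (E 9) 11 rfl, c0, c1, c2, c3, c4, c5, c6, c7, c8, c9, c10, c11, c12, c13, vec_E9]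
    simp [colSum]
    try ring
  · rw [x_mulVec (by decide) t _ _ _ _ _ _ _ _ _ _ _ _ _ _ (E 10) 12 rfl, c0, c1, c2, c3, c4, c5, c6, c7, c8, c9, c10, c11, c12, c13, vec_E10]
    simp [colSum]
    try ring
  · rw [x_mulVec (by decide) t _ _ _ _ _ _ _ _ _ _ _ _ _ _ (E 11) 13 rfl, c0, c1, c2, c3, c4, c5, c6, c7, c8, c9, c10, c11, c12, c13, vec_E11]
    simp [colSum]
    try ring

set_option maxHeartbeats 4000000 in
theorem x8_vec (t a b x0 x1 x2 x3 x4 x5 x6 x7 x8 x9 x10 x11 : K) :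
    (chevG2.x K 8 t).mulVec (vec a b x0 x1 x2 x3 x4 x5 x6 x7 x8 x9 x10 x11) =
    vec (a + t*x3) (b + 3*t*x3) (x0) (x1) (-t*x0 + x2) (x3) (t^2*x0 - 2*t*x2 + x4) (x5) (t^3*x0 - 3*t^2*x2 + 3*t*x4 + x6) (-t*x5 + x7) (t*a - t*b - t^2*x3 + x8) (-t^2*x5 + 2*t*x7 + x9) (x10) (-t^3*x5 + 3*t^2*x7 + 3*t*x9 + x11) := by
  have c0 : colX chevG2 8 0 = [(0, 1, 0), (10, 1, 1)] := by rfl
  have c1 : colX chevG2 8 1 = [(1, 1, 0), (10, -1, 1)] := by rfl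
  have c2 : colX chevG2 8 2 = [(2, 1, 0), (4, -1, 1), (6, 1, 2), (8, 1, 3)] := by rfl
  have c3 : colX chevG2 8 3 = [(3, 1, 0)] := by rfl
  have c4 : colX chevG2 8 4 = [(4, 1, 0), (6, -2, 1), (8, -3, 2)] := by rfl
  have c5 : colX chevG2 8 5 = [(5, 1, 0), (10, -1, 2), (0, 1, 1), (1, 3, 1)] := by rfl
  have c6 : colX chevG2 8 6 = [(6, 1, 0), (8, 3, 1)] := by rfl
  have c7 : colX chevG2 8 7 = [(7, 1, 0), (9, -1, 1), (11, -1, 2), (13, -1, 3)] := by rfl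
  have c8 : colX chevG2 8 8 = [(8, 1, 0)] := by rfl
  have c9 : colX chevG2 8 9 = [(9, 1, 0), (11, 2, 1), (13, 3, 2)] := by rfl
  have c10 : colX chevG2 8 10 = [(10, 1, 0)] := by rfl
  have c11 : colX chevG2 8 11 = [(11, 1, 0), (13, 3, 1)] := by rfl
  have c12 : colX chevG2 8 12 = [(12, 1, 0)] := by rfl
  have c13 : colX chevG2 8 13 = [(13, 1, 0)] := by rfl
  refine vec_ext ?_ ?_ ?_ ?_ ?_ ?_ ?_ ?_ ?_ ?_ ?_ ?_ ?_ ?_
  · rw [x_mulVec (by decide) t _ _ _ _ _ _ _ _ _ _ _ _ _ _ (H 0) 0 rfl, c0, c1, c2, c3, c4, c5, c6, c7, c8, c9, c10, c11, c12, c13, vec_H0]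
    simp [colSum]
    try ring
  · rw [x_mulVec (by decide) t _ _ _ _ _ _ _ _ _ _ _ _ _ _ (H 1) 1 rfl, c0, c1, c2, c3, c4, c5, c6, c7, c8, c9, c10, c11, c12, c13, vec_H1]
    simp [colSum]
    try ring
  · rw [x_mulVec (by decide) t _ _ _ _ _ _ _ _ _ _ _ _ _ _ (E 0) 2 rfl, c0, c1, c2, c3, c4, c5, c6, c7, c8, c9, c10, c11, c12, c13, vec_E0]
    simp [colSum]
    try ring
  · rw [x_mulVec (by decide) t _ _ _ _ _ _ _ _ _ _ _ _ _ _ (E 1) 3 rfl, c0, c1, c2, c3, c4, c5, c6, c7, c8, c9, c10, c11, c12, c13, vec_E1]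
    simp [colSum]
    try ring
  · rw [x_mulVec (by decide) t _ _ _ _ _ _ _ _ _ _ _ _ _ _ (E 2) 4 rfl, c0, c1, c2, c3, c4, c5, c6, c7, c8, c9, c10, c11, c12, c13, vec_E2]
    simp [colSum]
    try ring
  · rw [x_mulVec (by decide) t _ _ _ _ _ _ _ _ _ _ _ _ _ _ (E 3) 5 rfl, c0, c1, c2, c3, c4, c5, c6, c7, c8, c9, c10, c11, c12, c13, vec_E3]
    simp [colSum]
    try ring
  · rw [x_mulVec (by decide) t _ _ _ _ _ _ _ _ _ _ _ _ _ _ (E 4) 6 rfl, c0, c1, c2, c3, c4, c5, c6, c7, c8, c9, c10, c11, c12, c13, vec_E4]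
    simp [colSum]
    try ring
  · rw [x_mulVec (by decide) t _ _ _ _ _ _ _ _ _ _ _ _ _ _ (E 5) 7 rfl, c0, c1, c2, c3, c4, c5, c6, c7, c8, c9, c10, c11, c12, c13, vec_E5]
    simp [colSum]
    try ring
  · rw [x_mulVec (by decide) t _ _ _ _ _ _ _ _ _ _ _ _ _ _ (E 6) 8 rfl, c0, c1, c2, c3, c4, c5, c6, c7, c8, c9, c10, c11, c12, c13, vec_E6]
    simp [colSum]
    try ring
  · rw [x_mulVec (by decide) t _ _ _ _ _ _ _ _ _ _ _ _ _ _ (E 7) 9 rfl, c0, c1, c2, c3, c4, c5, c6, c7, c8, c9, c10, c11, c12, c13, vec_E7]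
    simp [colSum]
    try ring
  · rw [x_mulVec (by decide) t _ _ _ _ _ _ _ _ _ _ _ _ _ _ (E 8) 10 rfl, c0, c1, c2, c3, c4, c5, c6, c7, c8, c9, c10, c11, c12, c13, vec_E8]
    simp [colSum]
    try ring
  · rw [x_mulVec (by decide) t _ _ _ _ _ _ _ _ _ _ _ _ _ _ (E 9) 11 rfl, c0, c1, c2, c3, c4, c5, c6, c7, c8, c9, c10, c11, c12, c13, vec_E9]
    simp [colSum]
    try ring
  · rw [x_mulVec (by decide) t _ _ _ _ _ _ _ _ _ _ _ _ _ _ (E 10) 12 rfl, c0, c1, c2, c3, c4, c5, c6, c7, c8, c9, c10, c11, c12, c13, vec_E10]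
    simp [colSum]
    try ring
  · rw [x_mulVec (by decide) t _ _ _ _ _ _ _ _ _ _ _ _ _ _ (E 11) 13 rfl, c0, c1, c2, c3, c4, c5, c6, c7, c8, c9, c10, c11, c12, c13, vec_E11]
    simp [colSum]
    try ring

set_option maxHeartbeats 4000000 in
theorem x9_vec (t a b x0 x1 x2 x3 x4 x5 x6 x7 x8 x9 x10 x11 : K) :
    (chevG2.x K 9 t).mulVec (vec a b x0 x1 x2 x3 x4 x5 x6 x7 x8 x9 x10 x11) =
    vec (a + 2*t*x2) (b + 3*t*x2) (x0) (x1) (x2) (t*x0 + x3) (t*x1 + x4) (x5) (x6) (-t^2*x0 - 2*t*x3 + x7) (t^2*x1 + 2*t*x4 + x8) (-t*a - t^2*x2 + x9) (t^3*x0 + 3*t^2*x3 - 3*t*x7 + x10) (-t^3*x1 - 3*t^2*x4 - 3*t*x8 + x11) := by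
  have c0 : colX chevG2 9 0 = [(0, 1, 0), (11, -1, 1)] := by rfl
  have c1 : colX chevG2 9 1 = [(1, 1, 0), (11, 0, 1)] := by rfl
  have c2 : colX chevG2 9 2 = [(2, 1, 0), (5, 1, 1), (9, -1, 2), (12, 1, 3)] := by rfl
  have c3 : colX chevG2 9 3 = [(3, 1, 0), (6, 1, 1), (10, 1, 2), (13, -1, 3)] := by rfl
  have c4 : colX chevG2 9 4 = [(4, 1, 0), (11, -1, 2), (0, 2, 1), (1, 3, 1)] := by rfl
  have c5 : colX chevG2 9 5 = [(5, 1, 0), (9, -2, 1), (12, 3, 2)] := by rfl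
  have c6 : colX chevG2 9 6 = [(6, 1, 0), (10, 2, 1), (13, -3, 2)] := by rfl
  have c7 : colX chevG2 9 7 = [(7, 1, 0)] := by rfl
  have c8 : colX chevG2 9 8 = [(8, 1, 0)] := by rfl
  have c9 : colX chevG2 9 9 = [(9, 1, 0), (12, -3, 1)] := by rfl
  have c10 : colX chevG2 9 10 = [(10, 1, 0), (13, -3, 1)] := by rfl
  have c11 : colX chevG2 9 11 = [(11, 1, 0)] := by rfl
  have c12 : colX chevG2 9 12 = [(12, 1, 0)] := by rfl
  have c13 : colX chevG2 9 13 = [(13, 1, 0)] := by rfl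
  refine vec_ext ?_ ?_ ?_ ?_ ?_ ?_ ?_ ?_ ?_ ?_ ?_ ?_ ?_ ?_
  · rw [x_mulVec (by decide) t _ _ _ _ _ _ _ _ _ _ _ _ _ _ (H 0) 0 rfl, c0, c1, c2, c3, c4, c5, c6, c7, c8, c9, c10, c11, c12, c13, vec_H0]
    simp [colSum]
    try ring
  · rw [x_mulVec (by decide) t _ _ _ _ _ _ _ _ _ _ _ _ _ _ (H 1) 1 rfl, c0, c1, c2, c3, c4, c5, c6, c7, c8, c9, c10, c11, c12, c13, vec_H1]
    simp [colSum]
    try ring
  · rw [x_mulVec (by decide) t _ _ _ _ _ _ _ _ _ _ _ _ _ _ (E 0) 2 rfl, c0, c1, c2, c3, c4, c5, c6, c7, c8, c9, c10, c11, c12, c13, vec_E0]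
    simp [colSum]
    try ring
  · rw [x_mulVec (by decide) t _ _ _ _ _ _ _ _ _ _ _ _ _ _ (E 1) 3 rfl, c0, c1, c2, c3, c4, c5, c6, c7, c8, c9, c10, c11, c12, c13, vec_E1]
    simp [colSum]
    try ring
  · rw [x_mulVec (by decide) t _ _ _ _ _ _ _ _ _ _ _ _ _ _ (E 2) 4 rfl, c0, c1, c2, c3, c4, c5, c6, c7, c8, c9, c10, c11, c12, c13, vec_E2]
    simp [colSum]
    try ring
  · rw [x_mulVec (by decide) t _ _ _ _ _ _ _ _ _ _ _ _ _ _ (E 3) 5 rfl, c0, c1, c2, c3, c4, c5, c6, c7, c8, c9, c10, c11, c12, c13, vec_E3]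
    simp [colSum]
    try ring
  · rw [x_mulVec (by decide) t _ _ _ _ _ _ _ _ _ _ _ _ _ _ (E 4) 6 rfl, c0, c1, c2, c3, c4, c5, c6, c7, c8, c9, c10, c11, c12, c13, vec_E4]
    simp [colSum]
    try ring
  · rw [x_mulVec (by decide) t _ _ _ _ _ _ _ _ _ _ _ _ _ _ (E 5) 7 rfl, c0, c1, c2, c3, c4, c5, c6, c7, c8, c9, c10, c11, c12, c13, vec_E5]
    simp [colSum]
    try ring
  · rw [x_mulVec (by decide) t _ _ _ _ _ _ _ _ _ _ _ _ _ _ (E 6) 8 rfl, c0, c1, c2, c3, c4, c5, c6, c7, c8, c9, c10, c11, c12, c13, vec_E6]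
    simp [colSum]
    try ring
  · rw [x_mulVec (by decide) t _ _ _ _ _ _ _ _ _ _ _ _ _ _ (E 7) 9 rfl, c0, c1, c2, c3, c4, c5, c6, c7, c8, c9, c10, c11, c12, c13, vec_E7]
    simp [colSum]
    try ring
  · rw [x_mulVec (by decide) t _ _ _ _ _ _ _ _ _ _ _ _ _ _ (E 8) 10 rfl, c0, c1, c2, c3, c4, c5, c6, c7, c8, c9, c10, c11, c12, c13, vec_E8]
    simp [colSum]
    try ring
  · rw [x_mulVec (by decide) t _ _ _ _ _ _ _ _ _ _ _ _ _ _ (E 9) 11 rfl, c0, c1, c2, c3, c4, c5, c6, c7, c8, c9, c10, c11, c12, c13, vec_E9]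
    simp [colSum]
    try ring
  · rw [x_mulVec (by decide) t _ _ _ _ _ _ _ _ _ _ _ _ _ _ (E 10) 12 rfl, c0, c1, c2, c3, c4, c5, c6, c7, c8, c9, c10, c11, c12, c13, vec_E10]
    simp [colSum]
    try ring
  · rw [x_mulVec (by decide) t _ _ _ _ _ _ _ _ _ _ _ _ _ _ (E 11) 13 rfl, c0, c1, c2, c3, c4, c5, c6, c7, c8, c9, c10, c11, c12, c13, vec_E11]
    simp [colSum]
    try ring

set_option maxHeartbeats 4000000 in
theorem x10_vec (t a b x0 x1 x2 x3 x4 x5 x6 x7 x8 x9 x10 x11 : K) :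
    (chevG2.x K 10 t).mulVec (vec a b x0 x1 x2 x3 x4 x5 x6 x7 x8 x9 x10 x11) =
    vec (a + t*x1) (b + t*x1) (x0) (x1) (x2) (x3) (x4) (t*x0 + x5) (x6) (t*x2 + x7) (x8) (-t*x4 + x9) (-3*t*a + t*b - t^2*x1 + x10) (-t*x6 + x11) := by
  have c0 : colX chevG2 10 0 = [(0, 1, 0), (12, -3, 1)] := by rfl
  have c1 : colX chevG2 10 1 = [(1, 1, 0), (12, 1, 1)] := by rfl
  have c2 : colX chevG2 10 2 = [(2, 1, 0), (7, 1, 1)] := by rfl
  have c3 : colX chevG2 10 3 = [(3, 1, 0), (12, -1, 2), (0, 1, 1), (1, 1, 1)] := by rfl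
  have c4 : colX chevG2 10 4 = [(4, 1, 0), (9, 1, 1)] := by rfl
  have c5 : colX chevG2 10 5 = [(5, 1, 0)] := by rfl
  have c6 : colX chevG2 10 6 = [(6, 1, 0), (11, -1, 1)] := by rfl
  have c7 : colX chevG2 10 7 = [(7, 1, 0)] := by rfl
  have c8 : colX chevG2 10 8 = [(8, 1, 0), (13, -1, 1)] := by rfl
  have c9 : colX chevG2 10 9 = [(9, 1, 0)] := by rfl
  have c10 : colX chevG2 10 10 = [(10, 1, 0)] := by rfl
  have c11 : colX chevG2 10 11 = [(11, 1, 0)] := by rfl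
  have c12 : colX chevG2 10 12 = [(12, 1, 0)] := by rfl
  have c13 : colX chevG2 10 13 = [(13, 1, 0)] := by rfl
  refine vec_ext ?_ ?_ ?_ ?_ ?_ ?_ ?_ ?_ ?_ ?_ ?_ ?_ ?_ ?_
  · rw [x_mulVec (by decide) t _ _ _ _ _ _ _ _ _ _ _ _ _ _ (H 0) 0 rfl, c0, c1, c2, c3, c4, c5, c6, c7, c8, c9, c10, c11, c12, c13, vec_H0]
    simp [colSum]
    try ring
  · rw [x_mulVec (by decide) t _ _ _ _ _ _ _ _ _ _ _ _ _ _ (H 1) 1 rfl, c0, c1, c2, c3, c4, c5, c6, c7, c8, c9, c10, c11, c12, c13, vec_H1]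
    simp [colSum]
    try ring
  · rw [x_mulVec (by decide) t _ _ _ _ _ _ _ _ _ _ _ _ _ _ (E 0) 2 rfl, c0, c1, c2, c3, c4, c5, c6, c7, c8, c9, c10, c11, c12, c13, vec_E0]
    simp [colSum]
    try ring
  · rw [x_mulVec (by decide) t _ _ _ _ _ _ _ _ _ _ _ _ _ _ (E 1) 3 rfl, c0, c1, c2, c3, c4, c5, c6, c7, c8, c9, c10, c11, c12, c13, vec_E1]
    simp [colSum]
    try ring
  · rw [x_mulVec (by decide) t _ _ _ _ _ _ _ _ _ _ _ _ _ _ (E 2) 4 rfl, c0, c1, c2, c3, c4, c5, c6, c7, c8, c9, c10, c11, c12, c13, vec_E2]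
    simp [colSum]
    try ring
  · rw [x_mulVec (by decide) t _ _ _ _ _ _ _ _ _ _ _ _ _ _ (E 3) 5 rfl, c0, c1, c2, c3, c4, c5, c6, c7, c8, c9, c10, c11, c12, c13, vec_E3]
    simp [colSum]
    try ring
  · rw [x_mulVec (by decide) t _ _ _ _ _ _ _ _ _ _ _ _ _ _ (E 4) 6 rfl, c0, c1, c2, c3, c4, c5, c6, c7, c8, c9, c10, c11, c12, c13, vec_E4]
    simp [colSum]
    try ring
  · rw [x_mulVec (by decide) t _ _ _ _ _ _ _ _ _ _ _ _ _ _ (E 5) 7 rfl, c0, c1, c2, c3, c4, c5, c6, c7, c8, c9, c10, c11, c12, c13, vec_E5]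
    simp [colSum]
    try ring
  · rw [x_mulVec (by decide) t _ _ _ _ _ _ _ _ _ _ _ _ _ _ (E 6) 8 rfl, c0, c1, c2, c3, c4, c5, c6, c7, c8, c9, c10, c11, c12, c13, vec_E6]
    simp [colSum]
    try ring
  · rw [x_mulVec (by decide) t _ _ _ _ _ _ _ _ _ _ _ _ _ _ (E 7) 9 rfl, c0, c1, c2, c3, c4, c5, c6, c7, c8, c9, c10, c11, c12, c13, vec_E7]
    simp [colSum]
    try ring
  · rw [x_mulVec (by decide) t _ _ _ _ _ _ _ _ _ _ _ _ _ _ (E 8) 10 rfl, c0, c1, c2, c3, c4, c5, c6, c7, c8, c9, c10, c11, c12, c13, vec_E8]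
    simp [colSum]
    try ring
  · rw [x_mulVec (by decide) t _ _ _ _ _ _ _ _ _ _ _ _ _ _ (E 9) 11 rfl, c0, c1, c2, c3, c4, c5, c6, c7, c8, c9, c10, c11, c12, c13, vec_E9]
    simp [colSum]
    try ring
  · rw [x_mulVec (by decide) t _ _ _ _ _ _ _ _ _ _ _ _ _ _ (E 10) 12 rfl, c0, c1, c2, c3, c4, c5, c6, c7, c8, c9, c10, c11, c12, c13, vec_E10]
    simp [colSum]
    try ring
  · rw [x_mulVec (by decide) t _ _ _ _ _ _ _ _ _ _ _ _ _ _ (E 11) 13 rfl, c0, c1, c2, c3, c4, c5, c6, c7, c8, c9, c10, c11, c12, c13, vec_E11]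
    simp [colSum]
    try ring

set_option maxHeartbeats 4000000 in
theorem x11_vec (t a b x0 x1 x2 x3 x4 x5 x6 x7 x8 x9 x10 x11 : K) :
    (chevG2.x K 11 t).mulVec (vec a b x0 x1 x2 x3 x4 x5 x6 x7 x8 x9 x10 x11) =
    vec (a + t*x0) (b + 2*t*x0) (x0) (x1) (x2) (x3) (x4) (x5) (t*x1 + x6) (x7) (t*x2 + x8) (-t*x3 + x9) (-t*x5 + x10) (-t*b - t^2*x0 + x11) := by
  have c0 : colX chevG2 11 0 = [(0, 1, 0), (13, 0, 1)] := by rfl
  have c1 : colX chevG2 11 1 = [(1, 1, 0), (13, -1, 1)] := by rfl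
  have c2 : colX chevG2 11 2 = [(2, 1, 0), (13, -1, 2), (0, 1, 1), (1, 2, 1)] := by rfl
  have c3 : colX chevG2 11 3 = [(3, 1, 0), (8, 1, 1)] := by rfl
  have c4 : colX chevG2 11 4 = [(4, 1, 0), (10, 1, 1)] := by rfl
  have c5 : colX chevG2 11 5 = [(5, 1, 0), (11, -1, 1)] := by rfl
  have c6 : colX chevG2 11 6 = [(6, 1, 0)] := by rfl
  have c7 : colX chevG2 11 7 = [(7, 1, 0), (12, -1, 1)] := by rfl
  have c8 : colX chevG2 11 8 = [(8, 1, 0)] := by rfl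
  have c9 : colX chevG2 11 9 = [(9, 1, 0)] := by rfl
  have c10 : colX chevG2 11 10 = [(10, 1, 0)] := by rfl
  have c11 : colX chevG2 11 11 = [(11, 1, 0)] := by rfl
  have c12 : colX chevG2 11 12 = [(12, 1, 0)] := by rfl
  have c13 : colX chevG2 11 13 = [(13, 1, 0)] := by rfl
  refine vec_ext ?_ ?_ ?_ ?_ ?_ ?_ ?_ ?_ ?_ ?_ ?_ ?_ ?_ ?_
  · rw [x_mulVec (by decide) t _ _ _ _ _ _ _ _ _ _ _ _ _ _ (H 0) 0 rfl, c0, c1, c2, c3, c4, c5, c6, c7, c8, c9, c10, c11, c12, c13, vec_H0]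
    simp [colSum]
    try ring
  · rw [x_mulVec (by decide) t _ _ _ _ _ _ _ _ _ _ _ _ _ _ (H 1) 1 rfl, c0, c1, c2, c3, c4, c5, c6, c7, c8, c9, c10, c11, c12, c13, vec_H1]
    simp [colSum]
    try ring
  · rw [x_mulVec (by decide) t _ _ _ _ _ _ _ _ _ _ _ _ _ _ (E 0) 2 rfl, c0, c1, c2, c3, c4, c5, c6, c7, c8, c9, c10, c11, c12, c13, vec_E0]
    simp [colSum]
    try ring
  · rw [x_mulVec (by decide) t _ _ _ _ _ _ _ _ _ _ _ _ _ _ (E 1) 3 rfl, c0, c1, c2, c3, c4, c5, c6, c7, c8, c9, c10, c11, c12, c13, vec_E1]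
    simp [colSum]
    try ring
  · rw [x_mulVec (by decide) t _ _ _ _ _ _ _ _ _ _ _ _ _ _ (E 2) 4 rfl, c0, c1, c2, c3, c4, c5, c6, c7, c8, c9, c10, c11, c12, c13, vec_E2]
    simp [colSum]
    try ring
  · rw [x_mulVec (by decide) t _ _ _ _ _ _ _ _ _ _ _ _ _ _ (E 3) 5 rfl, c0, c1, c2, c3, c4, c5, c6, c7, c8, c9, c10, c11, c12, c13, vec_E3]
    simp [colSum]
    try ring
  · rw [x_mulVec (by decide) t _ _ _ _ _ _ _ _ _ _ _ _ _ _ (E 4) 6 rfl, c0, c1, c2, c3, c4, c5, c6, c7, c8, c9, c10, c11, c12, c13, vec_E4]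
    simp [colSum]
    try ring
  · rw [x_mulVec (by decide) t _ _ _ _ _ _ _ _ _ _ _ _ _ _ (E 5) 7 rfl, c0, c1, c2, c3, c4, c5, c6, c7, c8, c9, c10, c11, c12, c13, vec_E5]
    simp [colSum]
    try ring
  · rw [x_mulVec (by decide) t _ _ _ _ _ _ _ _ _ _ _ _ _ _ (E 6) 8 rfl, c0, c1, c2, c3, c4, c5, c6, c7, c8, c9, c10, c11, c12, c13, vec_E6]
    simp [colSum]
    try ring
  · rw [x_mulVec (by decide) t _ _ _ _ _ _ _ _ _ _ _ _ _ _ (E 7) 9 rfl, c0, c1, c2, c3, c4, c5, c6, c7, c8, c9, c10, c11, c12, c13, vec_E7]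
    simp [colSum]
    try ring
  · rw [x_mulVec (by decide) t _ _ _ _ _ _ _ _ _ _ _ _ _ _ (E 8) 10 rfl, c0, c1, c2, c3, c4, c5, c6, c7, c8, c9, c10, c11, c12, c13, vec_E8]
    simp [colSum]
    try ring
  · rw [x_mulVec (by decide) t _ _ _ _ _ _ _ _ _ _ _ _ _ _ (E 9) 11 rfl, c0, c1, c2, c3, c4, c5, c6, c7, c8, c9, c10, c11, c12, c13, vec_E9]
    simp [colSum]
    try ring
  · rw [x_mulVec (by decide) t _ _ _ _ _ _ _ _ _ _ _ _ _ _ (E 10) 12 rfl, c0, c1, c2, c3, c4, c5, c6, c7, c8, c9, c10, c11, c12, c13, vec_E10]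
    simp [colSum]
    try ring
  · rw [x_mulVec (by decide) t _ _ _ _ _ _ _ _ _ _ _ _ _ _ (E 11) 13 rfl, c0, c1, c2, c3, c4, c5, c6, c7, c8, c9, c10, c11, c12, c13, vec_E11]
    simp [colSum]
    try ring

end Cfsg.Agent.ChevalleyStructure.ReeVec
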