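import Cfsg.Prelude.Def_ChevStructure

/-!
Kernel-friendly tools for checking finite tables, and the abstract check of the combinatorial layer of a
`ChevalleyDatum` (see `RootComb.lean` for the results).
-/

set_option autoImplicit false

namespace Cfsg.Agent.ChevalleyStructure.RootCombBase

open Cfsg.Lie

/-! ### Bounded quantifiers and traversals, by bare recursors (fast in the kernel) -/

/-- `P 0 && ... && P (n-1)`, evaluated from the top. -/
def allLt (P : ℕ → Bool) (n : ℕ) : Bool :=
  Nat.rec (motive := fun _ => Bool) true (fun k ih => and (P k) ih) n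

theorem allLt_spec {P : ℕ → Bool} : ∀ {n : ℕ}, allLt P n = true → ∀ k < n, P k = true
  | 0, _, k, hk => absurd hk (Nat.not_lt_zero k)
  | n + 1, h, k, hk => by
    have h' : (P n && allLt P n) = true := h
    rw [Bool.and_eq_true] at h'
    rcases Nat.lt_succ_iff_lt_or_eq.1 hk with hk | rfl
    · exact allLt_spec h'.2 k hk
    · exact h'.1

/-- `P 0 || ... || P (n-1)`, evaluated from the top. -/
def anyLt (P : ℕ → Bool) (n : ℕ) : Bool :=
  Nat.rec (motive := fun _ => Bool) false (fun k ih => or (P k) ih) n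

theorem anyLt_spec {P : ℕ → Bool} : ∀ {n : ℕ}, anyLt P n = true → ∃ k < n, P k = true
  | 0, h => by cases h
  | n + 1, h => by
    have h' : (P n || anyLt P n) = true := h
    rw [Bool.or_eq_true] at h'
    rcases h' with h' | h'
    · exact ⟨n, Nat.lt_succ_self n, h'⟩
    · obtain ⟨k, hk, h''⟩ := anyLt_spec h'
      exact ⟨k, Nat.lt_succ_of_lt hk, h''⟩

/-- Traversal of a list with a running index; at the end the index must be `n`. -/
def trav {α : Type} (f : ℕ → α → Bool) (n : ℕ) (l : List α) : ℕ → Bool :=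
  List.rec (motive := fun _ => ℕ → Bool) (fun k => Nat.beq k n)
    (fun a _ ih k => and (f k a) (ih (Nat.succ k))) l

theorem trav_spec {α : Type} {f : ℕ → α → Bool} {n : ℕ} : ∀ {l : List α} {k : ℕ},
    trav f n l k = true → k + l.length = n ∧ ∀ (j : ℕ) (hj : j < l.length), f (k + j) l[j] = true
  | [], k, h => by
    have h' : Nat.beq k n = true := h
    exact ⟨by simpa using Nat.eq_of_beq_eq_true h', fun j hj => absurd hj (Nat.not_lt_zero j)⟩
  | a :: l, k, h => by
    have h' : (f k a && trav f n l (k + 1)) = true := h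
    rw [Bool.and_eq_true] at h'
    obtain ⟨h1, h2⟩ := trav_spec h'.2
    refine ⟨by rw [List.length_cons]; omega, fun j hj => ?_⟩
    cases j with
    | zero => exact h'.1
    | succ j =>
      have hj' : j < l.length := by simpa using hj
      have := h2 j hj'
      rw [show k + 1 + j = k + (j + 1) by omega] at this
      simpa using this

/-- Traversal of a list: every entry satisfies `f`. -/
def allL {α : Type} (f : α → Bool) (l : List α) : Bool :=
  List.rec (motive := fun _ => Bool) true (fun a _ ih => and (f a) ih) l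

theorem allL_spec {α : Type} {f : α → Bool} : ∀ {l : List α}, allL f l = true → ∀ a ∈ l, f a = true
  | [], _, a, ha => by cases ha
  | b :: l, h, a, ha => by
    have h' : (f b && allL f l) = true := h
    rw [Bool.and_eq_true] at h'
    rcases List.mem_cons.1 ha with rfl | ha
    · exact h'.1
    · exact allL_spec h'.2 a ha

theorem getD_toList {α : Type} (A : Array α) (i : ℕ) (d : α) : A.getD i d = A.toList.getD i d := by
  simp [Array.getD_eq_getD_getElem?]

theorem arr_spec {α : Type} {A : Array α} {f : ℕ → α → Bool} {n : ℕ} (d : α)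
    (h : trav f n A.toList 0 = true) : A.size = n ∧ ∀ i < n, f i (A.getD i d) = true := by
  obtain ⟨h1, h2⟩ := trav_spec h
  have hsz : A.size = n := by
    have : A.toList.length = n := by omega
    simpa using this
  refine ⟨hsz, fun i hi => ?_⟩
  have hi' : i < A.toList.length := by
    have : A.toList.length = A.size := by simp
    omega
  have := h2 i hi'
  rw [Nat.zero_add] at this
  rw [getD_toList, List.getD_eq_getElem _ _ hi']
  exact this

/-- Boolean equality of integers. -/
def ieq (a b : ℤ) : Bool :=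
  match a, b with
  | Int.ofNat m, Int.ofNat n => Nat.beq m n
  | Int.ofNat _, Int.negSucc _ => false
  | Int.negSucc _, Int.ofNat _ => false
  | Int.negSucc m, Int.negSucc n => Nat.beq m n

theorem ieq_spec {a b : ℤ} (h : ieq a b = true) : a = b := by
  cases a with
  | ofNat m =>
    cases b with
    | ofNat n => exact congrArg Int.ofNat (Nat.eq_of_beq_eq_true h)
    | negSucc n => cases h
  | negSucc m =>
    cases b with
    | ofNat n => cases h
    | negSucc n => exact congrArg Int.negSucc (Nat.eq_of_beq_eq_true h)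

/-- `f 0 + ... + f (n-1)`. -/
def isum (f : ℕ → ℤ) (n : ℕ) : ℤ :=
  Nat.rec (motive := fun _ => ℤ) 0 (fun k ih => Int.add ih (f k)) n

theorem isum_eq (f : ℕ → ℤ) : ∀ n : ℕ, isum f n = ∑ k ∈ Finset.range n, f k
  | 0 => rfl
  | n + 1 => by
    rw [Finset.sum_range_succ, ← isum_eq f n]
    rfl

/-! ### Packed tables -/

/-- Packed tables: `simp` (8 bits per simple root), `cart` (4 bits, `A_{i,s} + 8` at `i * n + s`), `coro`
(4 bits, `c_j(r) + 8` at `r * l + j`), `refl` (8 bits, `w_i(s)` at `i * n + s`). -/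
structure Tab where
  l : ℕ
  n : ℕ
  simp : ℕ
  cart : ℕ
  coro : ℕ
  refl : ℕ

def get4 (T k : ℕ) : ℕ := Nat.land (Nat.shiftRight T (Nat.mul 4 k)) 15
def get8 (T k : ℕ) : ℕ := Nat.land (Nat.shiftRight T (Nat.mul 8 k)) 255

namespace Tab

variable (T : Tab)

def simpN (i : ℕ) : ℕ := get8 T.simp i
def negN (r : ℕ) : ℕ := Nat.sub (Nat.sub T.n 1) r
def cartN (i s : ℕ) : ℕ := get4 T.cart (Nat.add (Nat.mul i T.n) s)
def coroN (r j : ℕ) : ℕ := get4 T.coro (Nat.add (Nat.mul r T.l) j)
def reflN (i s : ℕ) : ℕ := get8 T.refl (Nat.add (Nat.mul i T.n) s)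
def cartZ (i s : ℕ) : ℤ := Int.subNatNat (T.cartN i s) 8
def coroZ (r j : ℕ) : ℤ := Int.subNatNat (T.coroN r j) 8
/-- `s` is a positive root. -/
def posB (s : ℕ) : Bool := Nat.ble T.n (Nat.mul 2 s)

/-- simple roots: in range, positive, coroot = unit vector, `A_{i,i} = 2`. -/
def chkSimple : Bool := allLt (fun i =>
  and (Nat.ble (Nat.succ (T.simpN i)) T.n) <| and (T.posB (T.simpN i)) <|
  and (Nat.beq (T.cartN i (T.simpN i)) 10) <|
  allLt (fun j => Nat.beq (T.coroN (T.simpN i) j) (bif Nat.beq i j then 9 else 8)) T.l) T.l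

/-- negatives: `coro (-r) = - coro r`, `cart i (-r) = - cart i r`. -/
def chkNeg : Bool := allLt (fun r => and
  (allLt (fun j => Nat.beq (Nat.add (T.coroN (T.negN r) j) (T.coroN r j)) 16) T.l)
  (allLt (fun i => Nat.beq (Nat.add (T.cartN i (T.negN r)) (T.cartN i r)) 16) T.l)) T.n

/-- positive roots have non-negative coroot coefficients, one of them positive; negative ones the opposite. -/
def chkPos : Bool := allLt (fun r => bif T.posB r
  then and (allLt (fun j => Nat.ble 8 (T.coroN r j)) T.l) (anyLt (fun j => Nat.ble 9 (T.coroN r j)) T.l)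
  else and (allLt (fun j => Nat.ble (T.coroN r j) 8) T.l) (anyLt (fun j => Nat.ble (T.coroN r j) 7) T.l)) T.n

/-- reflections: in range, involutive, compatible with negation, the simple root goes to its negative, other
positive roots stay positive, `w_i s = s` if `A_{i,s} = 0`. -/
def chkRefl : Bool := allLt (fun i => and (Nat.beq (T.reflN i (T.simpN i)) (T.negN (T.simpN i))) <|
  allLt (fun s =>
    and (Nat.ble (Nat.succ (T.reflN i s)) T.n) <| and (Nat.beq (T.reflN i (T.reflN i s)) s) <|
    and (Nat.beq (T.reflN i (T.negN s)) (T.negN (T.reflN i s))) <|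
    and (or (or (Nat.beq s (T.simpN i)) (not (T.posB s))) (T.posB (T.reflN i s)))
      (or (not (Nat.beq (T.cartN i s) 8)) (Nat.beq (T.reflN i s) s))) T.n) T.l

/-- effect of reflections on coroots. -/
def chkCoRefl : Bool := allLt (fun i => allLt (fun s => and
    (ieq (T.coroZ (T.reflN i s) i)
      (Int.sub (T.coroZ s i) (isum (fun k => Int.mul (T.coroZ s k) (T.cartZ k (T.simpN i))) T.l)))
    (allLt (fun j => or (Nat.beq j i) (Nat.beq (T.coroN (T.reflN i s) j) (T.coroN s j))) T.l)) T.n) T.l

/-- effect of reflections on the Cartan integers. -/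
def chkCartRefl : Bool := allLt (fun i => allLt (fun s => allLt (fun j =>
    ieq (T.cartZ j (T.reflN i s)) (Int.sub (T.cartZ j s) (Int.mul (T.cartZ i s) (T.cartZ j (T.simpN i))))) T.l) T.n) T.l

/-- `∑ c_i(r) A_{i,r} = 2`. -/
def chkTwo : Bool := allLt (fun r =>
    ieq (isum (fun k => Int.mul (T.coroZ r k) (T.cartZ k r)) T.l) 2) T.n

/-- the coroots are pairwise different. -/
def chkInj : Bool := allLt (fun r => allLt (fun s => not (Nat.beq
    (Nat.land (Nat.shiftRight T.coro (Nat.mul (Nat.mul 4 T.l) r)) (Nat.sub (Nat.pow 16 T.l) 1))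
    (Nat.land (Nat.shiftRight T.coro (Nat.mul (Nat.mul 4 T.l) s)) (Nat.sub (Nat.pow 16 T.l) 1)))) r) T.n

/-- `w_i s < s` exactly if `0 < A_{i,s}`, and `w_i s = s` exactly if `A_{i,s} = 0`. -/
def chkOrd : Bool := allLt (fun i => allLt (fun s =>
    bif Nat.ble 9 (T.cartN i s) then Nat.ble (Nat.succ (T.reflN i s)) s
    else bif Nat.ble 8 (T.cartN i s) then Nat.beq (T.reflN i s) s
    else Nat.ble (Nat.succ s) (T.reflN i s)) T.n) T.l

/-- the largest root is dominant. -/
def chkHigh : Bool := allLt (fun i => Nat.ble 8 (T.cartN i (Nat.sub T.n 1))) T.l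

/-- sizes -/
def chkSize : Bool := and (Nat.ble 1 T.l) (and (Nat.beq T.n (Nat.mul 2 (Nat.div T.n 2))) (Nat.ble 1 T.n))

/-- all checks. -/
def chkAll : Bool := and T.chkSize <| and T.chkSimple <| and T.chkNeg <| and T.chkPos <| and T.chkRefl <|
  and T.chkCoRefl <| and T.chkCartRefl <| and T.chkTwo <| and T.chkInj <| and T.chkOrd T.chkHigh

end Tab

end Cfsg.Agent.ChevalleyStructure.RootCombBase
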