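import Cfsg.Agent.ChevalleyStructure.RootCombBase

/-!
Bridge between the arrays of a `ChevalleyDatum` and packed tables (one traversal of every array).
-/

set_option autoImplicit false

namespace Cfsg.Agent.ChevalleyStructure.RootCombBridge

open Cfsg.Lie Cfsg.Agent.ChevalleyStructure.RootCombBase

/-- the `k`-th entry of the list exists and has first component `v`. -/
def nthFst (v : ℕ) (l : List (ℕ × ℤ)) : ℕ → Bool :=
  List.rec (motive := fun _ => ℕ → Bool) (fun _ => false)
    (fun e _ ih k => Nat.rec (motive := fun _ => Bool) (Nat.beq e.1 v) (fun k' _ => ih k') k) l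

theorem nthFst_spec {v : ℕ} : ∀ {l : List (ℕ × ℤ)} {k : ℕ}, nthFst v l k = true →
    (l[k]?).map Prod.fst = some v
  | [], k, h => by
    have h' : false = true := h
    cases h'
  | e :: l, 0, h => by
    have h' : Nat.beq e.1 v = true := h
    have := Nat.eq_of_beq_eq_true h'
    simp [this]
  | e :: l, k + 1, h => by
    have h' : nthFst v l k = true := h
    simpa using nthFst_spec h'

/-- bit mask of the keys of a row. -/
def mask {α : Type} (l : List (ℕ × α)) : ℕ :=
  List.rec (motive := fun _ => ℕ) 0 (fun e _ ih => Nat.lor (Nat.shiftLeft 1 e.1) ih) l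

def bit (m s : ℕ) : Bool := Nat.beq (Nat.land (Nat.shiftRight m s) 1) 1

theorem bit_eq (m s : ℕ) : bit m s = true → m.testBit s = true := by
  intro h
  have h1 : Nat.land (Nat.shiftRight m s) 1 = 1 := Nat.eq_of_beq_eq_true h
  have h2 : (m >>> s) &&& 1 = 1 := h1
  have h3 : (m >>> s) % 2 = 1 := by rwa [Nat.and_one_is_mod] at h2
  rw [Nat.testBit]
  rw [Nat.and_comm, h2]
  rfl

theorem mask_spec {α : Type} {s : ℕ} : ∀ {l : List (ℕ × α)}, (mask l).testBit s = true → ∃ e ∈ l, e.1 = s
  | [], h => by
    have h' : (0 : ℕ).testBit s = true := h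
    simp at h'
  | e :: l, h => by
    have h' : ((1 <<< e.1) ||| mask l : ℕ).testBit s = true := h
    rw [Nat.testBit_or, Bool.or_eq_true] at h'
    rcases h' with h' | h'
    · refine ⟨e, by simp, ?_⟩
      rw [Nat.one_shiftLeft, Nat.testBit_two_pow] at h'
      exact of_decide_eq_true h'
    · obtain ⟨e', he', h''⟩ := mask_spec h'
      exact ⟨e', by simp [he'], h''⟩

namespace Tab

/-- checks on the row of the fundamental root `p_i`: for the keys with negative Cartan integer -/
def rowP (T : Tab) (i : ℕ) (L : List (ℕ × Array (ℕ × ℤ))) : Bool :=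
  and (allL (fun e => or (Nat.ble 8 (T.cartN i e.1)) (nthFst (T.reflN i e.1) e.2.toList (Nat.sub 7 (T.cartN i e.1)))) L)
    (allLt (fun s => or (or (Nat.ble 8 (T.cartN i s)) (Nat.beq s (T.negN (T.simpN i)))) (bit (mask L) s)) T.n)

/-- checks on the row of the negative of the fundamental root `p_i`: for the keys with positive Cartan integer -/
def rowM (T : Tab) (i : ℕ) (L : List (ℕ × Array (ℕ × ℤ))) : Bool :=
  and (allL (fun e => or (Nat.ble (T.cartN i e.1) 8) (nthFst (T.reflN i e.1) e.2.toList (Nat.sub (T.cartN i e.1) 9))) L)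
    (allLt (fun s => or (or (Nat.ble (T.cartN i s) 8) (Nat.beq s (T.simpN i))) (bit (mask L) s)) T.n)

end Tab

/-- the bridge check. -/
def chkBridge (D : ChevalleyDatum) (T : Tab) : Bool :=
  and (Nat.beq D.rank T.l) <| and (Nat.beq D.nroots T.n) <|
  and (trav (fun i a => Nat.beq a (T.simpN i)) T.l D.simpleIdx.toList 0) <|
  and (trav (fun r a => Nat.beq a (T.negN r)) T.n D.negIdx.toList 0) <|
  and (trav (fun r row => trav (fun j c => ieq c (T.coroZ r j)) T.l row.toList 0) T.n D.coroot.toList 0) <|
  and (trav (fun i row => trav (fun s c => ieq c (T.cartZ i s)) T.n row.toList 0) T.l D.cartanSR.toList 0) <|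
  trav (fun r row => allLt (fun i =>
    bif Nat.beq r (T.simpN i) then Tab.rowP T i row.toList
    else bif Nat.beq r (T.negN (T.simpN i)) then Tab.rowM T i row.toList else true) T.l) T.n D.chain.toList 0

structure Bridged (D : ChevalleyDatum) (T : Tab) : Prop where
  rank : D.rank = T.l
  nroots : D.nroots = T.n
  simple : ∀ i < T.l, D.simple i = T.simpN i
  neg : ∀ r < T.n, D.neg r = T.negN r
  size : ∀ r < T.n, (D.coroot.getD r #[]).size = T.l
  co : ∀ r < T.n, ∀ j < T.l, (D.coroot.getD r #[]).getD j 0 = T.coroZ r j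
  cartan : ∀ i < T.l, ∀ s < T.n, D.cartan i s = T.cartZ i s
  refl : ∀ i < T.l, ∀ s < T.n, D.reflectRoot i s = T.reflN i s

theorem cartN_lt (T : Tab) (i s : ℕ) : T.cartN i s < 16 := by
  have : ∀ m k : ℕ, get4 m k < 16 := by
    intro m k
    have h : (m >>> (4 * k)) &&& 15 = (m >>> (4 * k)) % 16 := by
      rw [show (15 : ℕ) = 2 ^ 4 - 1 by norm_num, Nat.and_two_pow_sub_one_eq_mod]
    show (m >>> (4 * k)) &&& 15 < 16
    rw [h]
    exact Nat.mod_lt _ (by norm_num)
  exact this _ _

theorem cartZ_eq (T : Tab) (i s : ℕ) : T.cartZ i s = (T.cartN i s : ℤ) - 8 := by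
  show Int.subNatNat _ _ = _
  rw [Int.subNatNat_eq_coe]
  norm_num

theorem coroZ_eq (T : Tab) (r j : ℕ) : T.coroZ r j = (T.coroN r j : ℤ) - 8 := by
  show Int.subNatNat _ _ = _
  rw [Int.subNatNat_eq_coe]
  norm_num

theorem chainRoot_of_row {D : ChevalleyDatum} {r s k v : ℕ}
    (hkey : ∃ e ∈ (D.chain.getD r #[]).toList, e.1 = s)
    (hval : ∀ e ∈ (D.chain.getD r #[]).toList, e.1 = s → (e.2.toList[k - 1]?).map Prod.fst = some v) :
    D.chainRoot r s k = some v := by
  have hf : ∃ e, (D.chain.getD r #[]).toList.find? (fun e => e.1 = s) = some e := by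
    rw [← Option.isSome_iff_exists, List.find?_isSome]
    obtain ⟨e, he, h⟩ := hkey
    exact ⟨e, he, by simpa using h⟩
  obtain ⟨e, he⟩ := hf
  have hmem := List.mem_of_find?_eq_some he
  have hp := List.find?_some he
  have hp' : e.1 = s := by simpa using hp
  show ((D.chainEntry r s)[k - 1]?).map Prod.fst = some v
  have hce : D.chainEntry r s = e.2.toList := by
    unfold ChevalleyDatum.chainEntry
    rw [he]
  rw [hce]
  exact hval e hmem hp'

theorem bridged_of_check {D : ChevalleyDatum} {T : Tab} (h : chkBridge D T = true)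
    (h1 : T.chkSimple = true) (h2 : T.chkRefl = true)
    (hn : ∀ i < T.l, T.simpN i ≠ T.negN (T.simpN i)) : Bridged D T := by
  unfold chkBridge at h
  simp only [Bool.and_eq_true] at h
  obtain ⟨hrank, hnroots, hsimple, hneg, hco, hcart, hchain⟩ := h
  have hrank := Nat.eq_of_beq_eq_true hrank
  have hnroots := Nat.eq_of_beq_eq_true hnroots
  have hsimple := (arr_spec 0 hsimple).2
  have hneg := (arr_spec 0 hneg).2
  have hco := (arr_spec #[] hco).2
  have hcart := (arr_spec #[] hcart).2
  have hchain := (arr_spec #[] hchain).2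
  have hsimple' : ∀ i < T.l, D.simple i = T.simpN i := fun i hi => Nat.eq_of_beq_eq_true (hsimple i hi)
  have hneg' : ∀ r < T.n, D.neg r = T.negN r := fun r hr => Nat.eq_of_beq_eq_true (hneg r hr)
  have hcart' : ∀ i < T.l, ∀ s < T.n, D.cartan i s = T.cartZ i s := fun i hi s hs =>
    ieq_spec ((arr_spec 0 (hcart i hi)).2 s hs)
  have hsl : ∀ i < T.l, T.simpN i < T.n := by
    intro i hi
    have := allLt_spec h1 i hi
    simp only [Bool.and_eq_true] at this
    exact Nat.lt_of_succ_le (Nat.le_of_ble_eq_true this.1)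
  have hnl : ∀ i < T.l, T.negN (T.simpN i) < T.n := by
    intro i hi
    have := hsl i hi
    show T.n - 1 - T.simpN i < T.n
    omega
  refine ⟨hrank, hnroots, hsimple', hneg', fun r hr => (arr_spec 0 (hco r hr)).1,
    fun r hr j hj => ieq_spec ((arr_spec 0 (hco r hr)).2 j hj), hcart', ?_⟩
  intro i hi s hs
  have hR := allLt_spec h2 i hi
  rw [Bool.and_eq_true] at hR
  obtain ⟨hR1, hR2⟩ := hR
  have hR1 : T.reflN i (T.simpN i) = T.negN (T.simpN i) := Nat.eq_of_beq_eq_true hR1
  have hR3 : T.reflN i (T.reflN i (T.simpN i)) = T.simpN i := by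
    have := allLt_spec hR2 _ (hsl i hi)
    simp only [Bool.and_eq_true] at this
    exact Nat.eq_of_beq_eq_true this.2.1
  rw [hR1] at hR3
  have hRs := allLt_spec hR2 s hs
  simp only [Bool.and_eq_true] at hRs
  obtain ⟨-, -, -, -, hR4⟩ := hRs
  unfold ChevalleyDatum.reflectRoot
  simp only [hsimple' i hi, hneg' _ (hsl i hi), hcart' i hi s hs]
  have hP : Tab.rowP T i (D.chain.getD (T.simpN i) #[]).toList = true := by
    have := allLt_spec (hchain _ (hsl i hi)) i hi
    rw [show Nat.beq (T.simpN i) (T.simpN i) = true from Nat.beq_refl _] at this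
    simpa using this
  have hM : Tab.rowM T i (D.chain.getD (T.negN (T.simpN i)) #[]).toList = true := by
    have := allLt_spec (hchain _ (hnl i hi)) i hi
    have hne : Nat.beq (T.negN (T.simpN i)) (T.simpN i) = false := by
      cases hb : Nat.beq (T.negN (T.simpN i)) (T.simpN i) with
      | false => rfl
      | true => exact absurd (Nat.eq_of_beq_eq_true hb).symm (hn i hi)
    rw [hne, show Nat.beq (T.negN (T.simpN i)) (T.negN (T.simpN i)) = true from Nat.beq_refl _] at this
    simpa using this
  unfold Tab.rowP at hP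
  unfold Tab.rowM at hM
  rw [Bool.and_eq_true] at hP hM
  by_cases hsp : s = T.simpN i
  · rw [if_pos hsp, hsp, hR1]
  rw [if_neg hsp]
  by_cases hsn : s = T.negN (T.simpN i)
  · rw [if_pos hsn, hsn, hR3]
  rw [if_neg hsn]
  have hcz := cartZ_eq T i s
  rcases lt_trichotomy (T.cartN i s) 8 with hlt | heq | hgt
  · have hneg : T.cartZ i s < 0 := by omega
    rw [if_neg (by omega), if_pos hneg]
    have hk : (-T.cartZ i s).toNat = 8 - T.cartN i s := by omega
    have : D.chainRoot (T.simpN i) s (-T.cartZ i s).toNat = some (T.reflN i s) := by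
      apply chainRoot_of_row
      · have := allLt_spec hP.2 s hs
        rw [Bool.or_eq_true, Bool.or_eq_true] at this
        rcases this with (h | h) | h
        · exact absurd (Nat.le_of_ble_eq_true h) (by omega)
        · exact absurd (Nat.eq_of_beq_eq_true h) hsn
        · exact mask_spec (bit_eq _ _ h)
      · intro e he hes
        have := allL_spec hP.1 e he
        rw [Bool.or_eq_true, hes] at this
        rcases this with h | h
        · exact absurd (Nat.le_of_ble_eq_true h) (by omega)
        · have := nthFst_spec h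
          rw [hk, show 8 - T.cartN i s - 1 = Nat.sub 7 (T.cartN i s) by
            show _ = 7 - T.cartN i s
            omega]
          exact this
    rw [this]
    rfl
  · have h0 : T.cartZ i s = 0 := by omega
    rw [h0]
    simp only [lt_irrefl, if_false]
    rw [Bool.or_eq_true] at hR4
    rcases hR4 with h | h
    · rw [show Nat.beq (T.cartN i s) 8 = true by rw [heq]; rfl] at h
      cases h
    · exact (Nat.eq_of_beq_eq_true h).symm
  · have hpos : 0 < T.cartZ i s := by omega
    rw [if_pos hpos]
    have hk : (T.cartZ i s).toNat = T.cartN i s - 8 := by omega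
    have : D.chainRoot (T.negN (T.simpN i)) s (T.cartZ i s).toNat = some (T.reflN i s) := by
      apply chainRoot_of_row
      · have := allLt_spec hM.2 s hs
        rw [Bool.or_eq_true, Bool.or_eq_true] at this
        rcases this with (h | h) | h
        · exact absurd (Nat.le_of_ble_eq_true h) (by omega)
        · exact absurd (Nat.eq_of_beq_eq_true h) hsp
        · exact mask_spec (bit_eq _ _ h)
      · intro e he hes
        have := allL_spec hM.1 e he
        rw [Bool.or_eq_true, hes] at this
        rcases this with h | h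
        · exact absurd (Nat.le_of_ble_eq_true h) (by omega)
        · have := nthFst_spec h
          rw [hk, show T.cartN i s - 8 - 1 = Nat.sub (T.cartN i s) 9 by
            show _ = T.cartN i s - 9
            omega]
          exact this
    rw [this]
    rfl

end Cfsg.Agent.ChevalleyStructure.RootCombBridge
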