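import Cfsg.Agent.ChevalleyStructure.SL2Match

/-!
The homomorphism `SL₂(F) → GL` attached to a root `r` of a Chevalley datum (with consistent tables).
-/

set_option autoImplicit false

namespace Cfsg.Agent.ChevalleyStructure.SL2Hom

open Cfsg Cfsg.Lie Cfsg.Agent.ChevalleyStructure.SL2Rep Cfsg.Agent.ChevalleyStructure.SL2Match

variable {F : Type*} [Field F]

/-- The homomorphism `SL₂(F) → GL` attached to the root `r`. -/
noncomputable def phi {D : ChevalleyDatum} {r : ℕ} (hG : Good D r) (F : Type*) [Field F] :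
    Matrix.SpecialLinearGroup (Fin 2) F →* GL D.Idx F :=
  MonoidHom.toHomUnits
    { toFun := fun g => Phi D r (g.1 0 0) (g.1 0 1) (g.1 1 0) (g.1 1 1)
      map_one' := by
        have := Phi_one (F := F) hG
        simpa using this
      map_mul' := fun g g' => by
        have h1 : g.1 0 0 * g.1 1 1 - g.1 0 1 * g.1 1 0 = 1 := by
          rw [← Matrix.det_fin_two]; exact g.2
        have h2 : g'.1 0 0 * g'.1 1 1 - g'.1 0 1 * g'.1 1 0 = 1 := by
          rw [← Matrix.det_fin_two]; exact g'.2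
        rw [Phi_mul hG _ _ _ _ _ _ _ _ h1 h2]
        simp [Matrix.mul_apply, Fin.sum_univ_two] }

theorem coe_phi {D : ChevalleyDatum} {r : ℕ} (hG : Good D r)
    (g : Matrix.SpecialLinearGroup (Fin 2) F) :
    ((phi hG F g : GL D.Idx F) : Matrix D.Idx D.Idx F) =
      Phi D r (g.1 0 0) (g.1 0 1) (g.1 1 0) (g.1 1 1) := rfl

theorem phi_upper {D : ChevalleyDatum} {r : ℕ} (hG : Good D r)
    (g : Matrix.SpecialLinearGroup (Fin 2) F) (t : F)
    (h : (g : Matrix (Fin 2) (Fin 2) F) = !![1, t; 0, 1]) :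
    ((phi hG F g : GL D.Idx F) : Matrix D.Idx D.Idx F) = D.x F r t := by
  rw [coe_phi, ← Phi_upper hG t, h]
  simp

theorem phi_lower {D : ChevalleyDatum} {r : ℕ} (hG : Good D r)
    (g : Matrix.SpecialLinearGroup (Fin 2) F) (t : F)
    (h : (g : Matrix (Fin 2) (Fin 2) F) = !![1, 0; t, 1]) :
    ((phi hG F g : GL D.Idx F) : Matrix D.Idx D.Idx F) = D.x F (D.neg r) t := by
  rw [coe_phi, ← Phi_lower hG t, h]
  simp

/-- The upper unitriangular element of `SL₂(F)`. -/
def up (t : F) : Matrix.SpecialLinearGroup (Fin 2) F := ⟨!![1, t; 0, 1], by simp⟩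

/-- The lower unitriangular element of `SL₂(F)`. -/
def lo (t : F) : Matrix.SpecialLinearGroup (Fin 2) F := ⟨!![1, 0; t, 1], by simp⟩

theorem mem_closure_SL2 (g : Matrix.SpecialLinearGroup (Fin 2) F) :
    g ∈ Subgroup.closure (Set.range (up (F := F)) ∪ Set.range (lo (F := F))) := by
  have hu : ∀ t : F, up t ∈ Subgroup.closure (Set.range (up (F := F)) ∪ Set.range (lo (F := F))) :=
    fun t => Subgroup.subset_closure (Or.inl ⟨t, rfl⟩)
  have hl : ∀ t : F, lo t ∈ Subgroup.closure (Set.range (up (F := F)) ∪ Set.range (lo (F := F))) :=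
    fun t => Subgroup.subset_closure (Or.inr ⟨t, rfl⟩)
  have key : ∀ g : Matrix.SpecialLinearGroup (Fin 2) F, g.1 1 0 ≠ 0 →
      g ∈ Subgroup.closure (Set.range (up (F := F)) ∪ Set.range (lo (F := F))) := by
    intro g hc
    have hdet : g.1 0 0 * g.1 1 1 - g.1 0 1 * g.1 1 0 = 1 := by
      rw [← Matrix.det_fin_two]; exact g.2
    have : g = up ((g.1 0 0 - 1) / g.1 1 0) * lo (g.1 1 0) * up ((g.1 1 1 - 1) / g.1 1 0) := by
      apply Subtype.ext
      show g.1 = (up ((g.1 0 0 - 1) / g.1 1 0)).1 * (lo (g.1 1 0)).1 *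
        (up ((g.1 1 1 - 1) / g.1 1 0)).1
      ext i j
      fin_cases i <;> fin_cases j
      · simp [up, lo, Matrix.mul_apply, Fin.sum_univ_two, hc]
      · simp [up, lo, Matrix.mul_apply, Fin.sum_univ_two]
        field_simp
        linear_combination -hdet
      · simp [up, lo, Matrix.mul_apply, Fin.sum_univ_two]
      · simp [up, lo, Matrix.mul_apply, Fin.sum_univ_two]
        field_simp
        ring
    rw [this]
    exact mul_mem (mul_mem (hu _) (hl _)) (hu _)
  by_cases hc : g.1 1 0 = 0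
  · have hdet : g.1 0 0 * g.1 1 1 - g.1 0 1 * g.1 1 0 = 1 := by
      rw [← Matrix.det_fin_two]; exact g.2
    have h1 : g * lo 1 ∈ Subgroup.closure (Set.range (up (F := F)) ∪ Set.range (lo (F := F))) := by
      apply key
      have : (g * lo 1).1 1 0 = g.1 1 0 + g.1 1 1 := by
        change ((g.1 * (lo 1).1 : Matrix (Fin 2) (Fin 2) F)) 1 0 = _
        simp [lo, Matrix.mul_apply, Fin.sum_univ_two]
      rw [this, hc, zero_add]
      intro h
      rw [hc, h] at hdet
      simp at hdet
    have h2 := mul_mem h1 (inv_mem (hl 1))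
    rwa [mul_inv_cancel_right] at h2
  · exact key g hc

theorem range_phi {D : ChevalleyDatum} {r : ℕ} (hG : Good D r) :
    (phi hG F).range = D.rootSubgroup F r ⊔ D.rootSubgroup F (D.neg r) := by
  apply le_antisymm
  · rw [MonoidHom.range_eq_map, Subgroup.map_le_iff_le_comap]
    intro g _
    refine (Subgroup.closure_le _).2 ?_ (mem_closure_SL2 g)
    rintro x (⟨t, rfl⟩ | ⟨t, rfl⟩)
    · exact Subgroup.mem_sup_left (Subgroup.subset_closure ⟨t, phi_upper hG _ t rfl⟩)
    · exact Subgroup.mem_sup_right (Subgroup.subset_closure ⟨t, phi_lower hG _ t rfl⟩)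
  · refine sup_le ?_ ?_
    · refine (Subgroup.closure_le _).2 ?_
      rintro x ⟨t, ht⟩
      exact ⟨up t, Units.ext ((phi_upper hG _ t rfl).trans ht.symm)⟩
    · refine (Subgroup.closure_le _).2 ?_
      rintro x ⟨t, ht⟩
      exact ⟨lo t, Units.ext ((phi_lower hG _ t rfl).trans ht.symm)⟩

end Cfsg.Agent.ChevalleyStructure.SL2Hom
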