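import Mathlib

/-!
The representations of `SL₂` on the modules with basis `v_0, …, v_q` (`q ≤ 3`) on which the upper
unitriangular matrix with entry `t` acts by `v_j ↦ ∑ i, (j+i choose i) t^i v_{j+i}` and the lower one by
`v_j ↦ ∑ i, (q-j+i choose i) t^i v_{j-i}`, as 4×4 matrices (padded by zeros).
-/

set_option autoImplicit false

namespace Cfsg.Agent.ChevalleyStructure.SL2Weyl

variable {F : Type*} [CommRing F]

/-- The matrix of `!![a, b; c, d]` on the `(q+1)`-dimensional module, padded by zeros. -/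
def W (a b c d : F) (q : ℕ) : Matrix (Fin 4) (Fin 4) F :=
  match q with
  | 0 => !![1, 0, 0, 0; 0, 0, 0, 0; 0, 0, 0, 0; 0, 0, 0, 0]
  | 1 => !![d, c, 0, 0; b, a, 0, 0; 0, 0, 0, 0; 0, 0, 0, 0]
  | 2 => !![d ^ 2, 2 * c * d, c ^ 2, 0; b * d, a * d + b * c, a * c, 0; b ^ 2, 2 * a * b, a ^ 2, 0;
            0, 0, 0, 0]
  | 3 => !![d ^ 3, 3 * c * d ^ 2, 3 * c ^ 2 * d, c ^ 3;
            b * d ^ 2, a * d ^ 2 + 2 * b * c * d, 2 * a * c * d + b * c ^ 2, a * c ^ 2;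
            b ^ 2 * d, 2 * a * b * d + b ^ 2 * c, a ^ 2 * d + 2 * a * b * c, a ^ 2 * c;
            b ^ 3, 3 * a * b ^ 2, 3 * a ^ 2 * b, a ^ 3]
  | _ => 0

theorem W_zero (a b c d : F) :
    W a b c d 0 = !![1, 0, 0, 0; 0, 0, 0, 0; 0, 0, 0, 0; 0, 0, 0, 0] := rfl

theorem W_one (a b c d : F) :
    W a b c d 1 = !![d, c, 0, 0; b, a, 0, 0; 0, 0, 0, 0; 0, 0, 0, 0] := rfl

theorem W_two (a b c d : F) :
    W a b c d 2 = !![d ^ 2, 2 * c * d, c ^ 2, 0; b * d, a * d + b * c, a * c, 0;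
      b ^ 2, 2 * a * b, a ^ 2, 0; 0, 0, 0, 0] := rfl

theorem W_three (a b c d : F) :
    W a b c d 3 = !![d ^ 3, 3 * c * d ^ 2, 3 * c ^ 2 * d, c ^ 3;
            b * d ^ 2, a * d ^ 2 + 2 * b * c * d, 2 * a * c * d + b * c ^ 2, a * c ^ 2;
            b ^ 2 * d, 2 * a * b * d + b ^ 2 * c, a ^ 2 * d + 2 * a * b * c, a ^ 2 * c;
            b ^ 3, 3 * a * b ^ 2, 3 * a ^ 2 * b, a ^ 3] := rfl

/-- The matrices `W` are multiplicative. -/
theorem W_mul (a b c d a' b' c' d' : F) (q : ℕ) (k j : Fin 4) :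
    ∑ i : Fin 4, W a b c d q k i * W a' b' c' d' q i j =
      W (a * a' + b * c') (a * b' + b * d') (c * a' + d * c') (c * b' + d * d') q k j := by
  rw [Fin.sum_univ_four]
  match q with
  | 0 => fin_cases k <;> fin_cases j <;> simp [W_zero]
  | 1 => fin_cases k <;> fin_cases j <;> simp [W_one] <;> ring
  | 2 => fin_cases k <;> fin_cases j <;> simp [W_two] <;> ring
  | 3 => fin_cases k <;> fin_cases j <;> simp [W_three] <;> ring
  | _ + 4 => simp [W]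

end Cfsg.Agent.ChevalleyStructure.SL2Weyl
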