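import Cfsg.Prelude.Def_ChevStructure
import Cfsg.Agent.ChevalleyStructure.SL2Weyl

/-!
For a root `r` of a Chevalley datum whose chain table is consistent along the `r`-strings (predicate
`Good D r`), the explicit matrices `Phi D r a b c d` (with `a d - b c = 1`) of the representation of `SL₂(F)`
on the coordinate module for which `!![1, t; 0, 1]` acts as `x_r(t)` and `!![1, 0; t, 1]` as `x_{-r}(t)`.
-/

set_option autoImplicit false

namespace Cfsg.Agent.ChevalleyStructure.SL2Rep

open Cfsg Cfsg.Lie Cfsg.Agent.ChevalleyStructure.SL2Weyl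

/-- the coefficient `c_i(r)` of the coroot table -/
def cor (D : ChevalleyDatum) (r i : ℕ) : ℤ := (D.coroot.getD r #[]).getD i 0

/-- replace the coefficient by its sign -/
def sg (x : ℕ × ℤ) : ℕ × ℤ := (x.1, Int.sign x.2)

/-- The `r`-string through `s`, from bottom to top, with signs relative to `s`. -/
def str (D : ChevalleyDatum) (r s : ℕ) : List (ℕ × ℤ) :=
  ((D.chainEntry (D.neg r) s).map sg).reverse ++ (s, 1) :: (D.chainEntry r s).map sg

/-- The number of steps below `s` in its `r`-string. -/
def pos (D : ChevalleyDatum) (r s : ℕ) : ℕ := (D.chainEntry (D.neg r) s).length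

/-- The number of steps of the `r`-string through `s`. -/
def len (D : ChevalleyDatum) (r s : ℕ) : ℕ :=
  (D.chainEntry (D.neg r) s).length + (D.chainEntry r s).length

/-- The `i`-th member of the `r`-string through `s`, with its sign relative to `s`. -/
def T (D : ChevalleyDatum) (r s : ℕ) (i : Fin 4) : ℕ × ℤ := (str D r s).getD i (0, 0)

/-- `pos` as an element of `Fin 4`. -/
def posF (D : ChevalleyDatum) (r s : ℕ) : Fin 4 := Fin.ofNat 4 (pos D r s)

theorem length_str (D : ChevalleyDatum) (r s : ℕ) : (str D r s).length = len D r s + 1 := by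
  simp only [str, len, List.length_append, List.length_reverse, List.length_map, List.length_cons]
  omega

/-- Consistency of the tables of the datum along the `r`-strings. -/
structure Good (D : ChevalleyDatum) (r : ℕ) : Prop where
  lt : r < D.nroots
  neg_lt : D.neg r < D.nroots
  neg_ne : D.neg r ≠ r
  neg_neg : D.neg (D.neg r) = r
  cor_neg : ∀ i < D.rank, cor D (D.neg r) i = - cor D r i
  cartan_neg : ∀ i < D.rank, D.cartan i (D.neg r) = - D.cartan i r
  pairing : ∑ i : Fin D.rank, cor D r i * D.cartan i r = 2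
  keys : ((D.chain.getD r #[]).toList.map Prod.fst).Nodup
  keys_neg : ((D.chain.getD (D.neg r) #[]).toList.map Prod.fst).Nodup
  len_le : ∀ s < D.nroots, s ≠ r → s ≠ D.neg r → len D r s ≤ 3
  mem : ∀ s < D.nroots, s ≠ r → s ≠ D.neg r → ∀ x ∈ str D r s,
    x.1 < D.nroots ∧ x.1 ≠ r ∧ x.1 ≠ D.neg r ∧ (x.2 = 1 ∨ x.2 = -1)
  str_eq : ∀ s < D.nroots, s ≠ r → s ≠ D.neg r → ∀ (i : ℕ) (x : ℕ × ℤ), (str D r s)[i]? = some x →
    str D r x.1 = (str D r s).map (fun y => (y.1, x.2 * y.2)) ∧ pos D r x.1 = i
  up : ∀ s < D.nroots, s ≠ r → s ≠ D.neg r → ∀ (i : ℕ) (x : ℕ × ℤ), (D.chainEntry r s)[i]? = some x →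
    x.2 = Int.sign x.2 * ((Nat.choose (pos D r s + i + 1) (i + 1) : ℕ) : ℤ)
  down : ∀ s < D.nroots, s ≠ r → s ≠ D.neg r → ∀ (i : ℕ) (x : ℕ × ℤ),
    (D.chainEntry (D.neg r) s)[i]? = some x →
    x.2 = Int.sign x.2 * ((Nat.choose ((D.chainEntry r s).length + i + 1) (i + 1) : ℕ) : ℤ)

variable {F : Type*} [Field F]

/-- The basis vector `e_u` (zero if `u` is out of range). -/
def eV (D : ChevalleyDatum) (F : Type*) [Field F] (u : ℕ) : D.Idx → F :=
  Sum.elim (fun _ => 0) (fun v => if v.val = u then 1 else 0)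

/-- The basis vector `h_{p_i}`. -/
def hV (D : ChevalleyDatum) (F : Type*) [Field F] (i : Fin D.rank) : D.Idx → F :=
  Sum.elim (fun j => if j = i then 1 else 0) (fun _ => 0)

/-- The coroot vector `h_r`. -/
def hR (D : ChevalleyDatum) (F : Type*) [Field F] (r : ℕ) : D.Idx → F :=
  Sum.elim (fun j => ((cor D r j : ℤ) : F)) (fun _ => 0)

theorem hR_eq (D : ChevalleyDatum) (r : ℕ) :
    hR D F r = ∑ i : Fin D.rank, ((cor D r i : ℤ) : F) • hV D F i := by
  funext x
  rw [Finset.sum_apply]
  rcases x with j | u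
  · simp [hR, hV]
  · simp [hR, hV]

/-- The image of `h_{p_i}`. -/
def colH (D : ChevalleyDatum) (r : ℕ) (a b c d : F) (i : Fin D.rank) : D.Idx → F :=
  hV D F i + ((D.cartan i r : ℤ) : F) •
    ((b * c) • hR D F r - (a * b) • eV D F r + (c * d) • eV D F (D.neg r))

/-- The image of `e_s`. -/
def colE (D : ChevalleyDatum) (r : ℕ) (a b c d : F) (s : ℕ) : D.Idx → F :=
  if s = r then a ^ 2 • eV D F r - (a * c) • hR D F r - c ^ 2 • eV D F (D.neg r)
  else if s = D.neg r then - b ^ 2 • eV D F r + (b * d) • hR D F r + d ^ 2 • eV D F (D.neg r)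
  else ∑ i : Fin 4, ((((T D r s i).2 : ℤ) : F) * W a b c d (len D r s) i (posF D r s)) •
    eV D F (T D r s i).1

/-- The matrix of `!![a, b; c, d]` in the representation attached to the root `r`. -/
def Phi (D : ChevalleyDatum) (r : ℕ) (a b c d : F) : Matrix D.Idx D.Idx F :=
  Matrix.of fun row col =>
    Sum.elim (fun i => colH D r a b c d i row) (fun s => colE D r a b c d s.val row) col

theorem Phi_mulVec_hV (D : ChevalleyDatum) (r : ℕ) (a b c d : F) (i : Fin D.rank) :
    (Phi D r a b c d).mulVec (hV D F i) = colH D r a b c d i := by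
  funext row
  simp [Matrix.mulVec, dotProduct, hV, Phi]

theorem Phi_mulVec_eV (D : ChevalleyDatum) (r : ℕ) (a b c d : F) (u : ℕ) (hu : u < D.nroots) :
    (Phi D r a b c d).mulVec (eV D F u) = colE D r a b c d u := by
  funext row
  simp only [Matrix.mulVec, dotProduct, eV, Phi, Matrix.of_apply, Fintype.sum_sum_type, Sum.elim_inl,
    Sum.elim_inr, mul_zero, Finset.sum_const_zero, zero_add, mul_ite, mul_one]
  rw [Finset.sum_eq_single (⟨u, hu⟩ : Fin D.nroots)]
  · simp
  · intro v _ hv
    rw [if_neg]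
    intro h
    exact hv (Fin.ext h)
  · simp

theorem Phi_mulVec_hR {D : ChevalleyDatum} {r : ℕ} (hG : Good D r) (a b c d : F) :
    (Phi D r a b c d).mulVec (hR D F r) = hR D F r + (2 : F) •
      ((b * c) • hR D F r - (a * b) • eV D F r + (c * d) • eV D F (D.neg r)) := by
  have h2 : (2 : F) = ∑ i : Fin D.rank, ((cor D r i : ℤ) : F) * ((D.cartan i r : ℤ) : F) := by
    have := congrArg (fun z : ℤ => (z : F)) hG.pairing
    simp only [Int.cast_sum, Int.cast_mul, Int.cast_ofNat] at this
    exact this.symm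
  rw [h2, Finset.sum_smul]
  conv_lhs => rw [hR_eq]
  rw [Matrix.mulVec_sum]
  conv_rhs => rw [hR_eq, ← Finset.sum_add_distrib]
  refine Finset.sum_congr rfl fun i _ => ?_
  rw [Matrix.mulVec_smul, Phi_mulVec_hV, colH, smul_add, smul_smul, ← hR_eq]

theorem T_of_str_eq {D : ChevalleyDatum} {r s u : ℕ} {σ : ℤ}
    (h : str D r u = (str D r s).map (fun y => (y.1, σ * y.2))) (k : Fin 4) :
    T D r u k = ((T D r s k).1, σ * (T D r s k).2) := by
  have hd : ((0 : ℕ), (0 : ℤ)) = (fun y : ℕ × ℤ => (y.1, σ * y.2)) (0, 0) := by simp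
  rw [T, T, h, List.getD_eq_getElem?_getD, List.getD_eq_getElem?_getD, List.getElem?_map]
  rcases (str D r s)[(k : ℕ)]? with _ | y
  · simp
  · simp

theorem Phi_mulVec_colE {D : ChevalleyDatum} {r : ℕ} (hG : Good D r) (a b c d a' b' c' d' : F)
    (s : ℕ) (hs : s < D.nroots) (h1 : s ≠ r) (h2 : s ≠ D.neg r) :
    (Phi D r a b c d).mulVec (colE D r a' b' c' d' s) =
      colE D r (a * a' + b * c') (a * b' + b * d') (c * a' + d * c') (c * b' + d * d') s := by
  rw [colE, if_neg h1, if_neg h2, colE, if_neg h1, if_neg h2, Matrix.mulVec_sum]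
  have hcol : ∀ i : Fin 4,
      (Phi D r a b c d).mulVec ((((((T D r s i).2 : ℤ) : F)) * W a' b' c' d' (len D r s) i (posF D r s)) •
        eV D F (T D r s i).1) =
      ∑ k : Fin 4, ((((T D r s k).2 : ℤ) : F) * (W a b c d (len D r s) k i *
        W a' b' c' d' (len D r s) i (posF D r s))) • eV D F (T D r s k).1 := by
    intro i
    rw [Matrix.mulVec_smul]
    by_cases hi : (i : ℕ) < (str D r s).length
    · set x := (str D r s)[(i : ℕ)] with hx
      have hTi : T D r s i = x := by
        rw [T, List.getD_eq_getElem?_getD, List.getElem?_eq_getElem hi, Option.getD_some]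
      have hxm : x ∈ str D r s := List.getElem_mem hi
      obtain ⟨m1, m2, m3, m4⟩ := hG.mem s hs h1 h2 x hxm
      obtain ⟨q1, q2⟩ := hG.str_eq s hs h1 h2 i x (List.getElem?_eq_getElem hi)
      have hlen : len D r x.1 = len D r s := by
        have := congrArg List.length q1
        rw [List.length_map, length_str, length_str] at this
        omega
      have hpos : posF D r x.1 = i := by
        rw [posF, q2]
        exact Fin.ext (Nat.mod_eq_of_lt i.2)
      have hσ : ((x.2 : ℤ) : F) * ((x.2 : ℤ) : F) = 1 := by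
        rcases m4 with h | h <;> rw [h] <;> simp
      rw [hTi, Phi_mulVec_eV _ _ _ _ _ _ _ m1, colE, if_neg m2, if_neg m3, Finset.smul_sum]
      refine Finset.sum_congr rfl fun k _ => ?_
      rw [T_of_str_eq q1, hlen, hpos, smul_smul]
      congr 1
      push_cast
      linear_combination (((T D r s k).2 : ℤ) : F) * W a b c d (len D r s) k i *
        W a' b' c' d' (len D r s) i (posF D r s) * hσ
    · have hT0 : T D r s i = (0, 0) := by
        rw [T, List.getD_eq_getElem?_getD, List.getElem?_eq_none (by omega), Option.getD_none]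
      have hz : ∀ (k : Fin 4), W a b c d (len D r s) k i = 0 := by
        intro k
        have hl : len D r s < i := by rw [length_str] at hi; omega
        have h3 := i.2
        generalize len D r s = q at hl
        have hq : q = 0 ∨ q = 1 ∨ q = 2 := by omega
        rcases hq with rfl | rfl | rfl
        · fin_cases i <;> fin_cases k <;> simp_all [W_zero]
        · fin_cases i <;> fin_cases k <;> simp_all [W_one]
        · fin_cases i <;> fin_cases k <;> simp_all [W_two]
      rw [hT0]
      simp [hz]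
  rw [Finset.sum_congr rfl fun i _ => hcol i, Finset.sum_comm]
  refine Finset.sum_congr rfl fun k _ => ?_
  rw [← Finset.sum_smul, ← Finset.mul_sum, W_mul]

/-- The matrices `Phi` are multiplicative. -/
theorem Phi_mul {D : ChevalleyDatum} {r : ℕ} (hG : Good D r) (a b c d a' b' c' d' : F)
    (h : a * d - b * c = 1) (h' : a' * d' - b' * c' = 1) :
    Phi D r a b c d * Phi D r a' b' c' d' =
      Phi D r (a * a' + b * c') (a * b' + b * d') (c * a' + d * c') (c * b' + d * d') := by
  have key : ∀ col : D.Idx, (Phi D r a b c d).mulVec ((Phi D r a' b' c' d').col col) =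
      (Phi D r (a * a' + b * c') (a * b' + b * d') (c * a' + d * c') (c * b' + d * d')).col col := by
    rintro (i | s)
    · show (Phi D r a b c d).mulVec (colH D r a' b' c' d' i) = colH D r _ _ _ _ i
      simp only [colH]
      rw [Matrix.mulVec_add, Phi_mulVec_hV, Matrix.mulVec_smul, Matrix.mulVec_add, Matrix.mulVec_sub,
        Matrix.mulVec_smul, Matrix.mulVec_smul, Matrix.mulVec_smul, Phi_mulVec_hR hG,
        Phi_mulVec_eV _ _ _ _ _ _ _ hG.lt, Phi_mulVec_eV _ _ _ _ _ _ _ hG.neg_lt, colE, if_pos rfl,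
        colE, if_neg hG.neg_ne, if_pos rfl, colH, add_assoc, ← smul_add]
      congr 2
      ext x
      simp only [Pi.add_apply, Pi.sub_apply, Pi.smul_apply, smul_eq_mul]
      linear_combination (-(b * c) * hR D F r x + a * b * eV D F r x - c * d * eV D F (D.neg r) x) * h'
        - (b' * c') * hR D F r x * h
    · show (Phi D r a b c d).mulVec (colE D r a' b' c' d' s) = colE D r _ _ _ _ s
      by_cases hsr : s.val = r
      · rw [colE, if_pos hsr, colE, if_pos hsr, Matrix.mulVec_sub, Matrix.mulVec_sub,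
          Matrix.mulVec_smul, Matrix.mulVec_smul, Matrix.mulVec_smul, Phi_mulVec_hR hG,
          Phi_mulVec_eV _ _ _ _ _ _ _ hG.lt, Phi_mulVec_eV _ _ _ _ _ _ _ hG.neg_lt, colE, if_pos rfl,
          colE, if_neg hG.neg_ne, if_pos rfl]
        ext x
        simp only [Pi.add_apply, Pi.sub_apply, Pi.smul_apply, smul_eq_mul]
        linear_combination (a' * c') * hR D F r x * h
      · by_cases hsn : s.val = D.neg r
        · rw [colE, if_neg hsr, if_pos hsn, colE, if_neg hsr, if_pos hsn, Matrix.mulVec_add,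
            Matrix.mulVec_add, Matrix.mulVec_smul, Matrix.mulVec_smul, Matrix.mulVec_smul,
            Phi_mulVec_hR hG, Phi_mulVec_eV _ _ _ _ _ _ _ hG.lt,
            Phi_mulVec_eV _ _ _ _ _ _ _ hG.neg_lt, colE, if_pos rfl,
            colE, if_neg hG.neg_ne, if_pos rfl]
          ext x
          simp only [Pi.add_apply, Pi.sub_apply, Pi.smul_apply, smul_eq_mul]
          linear_combination -(b' * d') * hR D F r x * h
        · exact Phi_mulVec_colE hG _ _ _ _ _ _ _ _ s s.2 hsr hsn
  ext row col
  have := congrFun (key col) row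
  exact this

end Cfsg.Agent.ChevalleyStructure.SL2Rep
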