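import Cfsg.Prelude.Def_ChevStructure
import Cfsg.Prelude.Def_LieTypes
import Cfsg.Prelude.Def_ChevB2

/-!
Table facts about fundamental roots `p` and positive roots `s ≠ p`: the roots occurring in the commutator
formula for the pairs `(p, s)` and `(-p, s)` are positive and different from `p`.
Consequence (from additivity and the commutator formula, taken as hypotheses): `X_{±p}` normalises
`U_p = ⟨X_s : s > 0, s ≠ p⟩` and `U = U_p X_p`.
-/

set_option autoImplicit false

namespace Cfsg.Agent.ChevalleyStructure.SimpleComplement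

open Cfsg.Lie

/-- The list of the seven data. -/
def types : List ChevalleyDatum :=
  [Cfsg.Lie.chevG2, Cfsg.Lie.chevB2, Cfsg.Lie.chevD4, Cfsg.Lie.chevF4, Cfsg.Lie.chevE6, Cfsg.Lie.chevE7, Cfsg.Lie.chevE8]

/-- Boolean form of `IsPosRoot`. -/
def posB (D : ChevalleyDatum) (r : ℕ) : Bool :=
  decide (r < D.nroots) && ((D.coroot.getD r #[]).toList.all fun c => decide (0 ≤ c))

theorem posB_iff (D : ChevalleyDatum) (r : ℕ) : posB D r = true ↔ D.IsPosRoot r := by
  show (decide (r < D.nroots) && ((D.coroot.getD r #[]).toList.all fun c => decide (0 ≤ c))) = true ↔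
    (r < D.nroots ∧ ∀ c ∈ (D.coroot.getD r #[]).toList, 0 ≤ c)
  rw [Bool.and_eq_true, List.all_eq_true]
  simp only [decide_eq_true_eq]

/-- Boolean check of the terms of the commutator formula for `(±p_i, s)`. -/
def chkAt (D : ChevalleyDatum) (i : ℕ) : Bool :=
    (posB D (D.simple i) && decide (D.neg (D.simple i) < D.nroots) &&
      (D.neg (D.neg (D.simple i)) == D.simple i) && !(D.neg (D.simple i) == D.simple i)) &&
    (List.range D.nroots).all fun s =>
      !(posB D s) || s == D.simple i ||
        (!(s == D.neg (D.simple i)) &&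
          (D.commTerms (D.simple i) s).all (fun c => posB D c.1 && !(c.1 == D.simple i)) &&
          (D.commTerms (D.neg (D.simple i)) s).all (fun c => posB D c.1 && !(c.1 == D.simple i)))

/-- Boolean check of the terms of the commutator formula for `(±p, s)`, all fundamental `p`. -/
def chk (D : ChevalleyDatum) : Bool :=
  (List.range D.rank).all fun i => chkAt D i

theorem chk_of_at {D : ChevalleyDatum} (h : ∀ i < D.rank, chkAt D i = true) : chk D = true := by
  unfold chk
  rw [List.all_eq_true]
  exact fun i hi => h i (List.mem_range.1 hi)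

set_option maxRecDepth 100000 in
theorem chk_G2 : chk chevG2 = true := by decide +kernel
set_option maxRecDepth 100000 in
theorem chk_B2 : chk chevB2 = true := by decide +kernel
set_option maxRecDepth 100000 in
theorem chk_D4 : chk chevD4 = true := by decide +kernel
set_option maxRecDepth 100000 in
theorem chk_F4 : chk chevF4 = true := by decide +kernel
set_option maxRecDepth 100000 in
theorem chkAt_E6_0 : chkAt chevE6 0 = true := by decide +kernel
set_option maxRecDepth 100000 in
theorem chkAt_E6_1 : chkAt chevE6 1 = true := by decide +kernel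
set_option maxRecDepth 100000 in
theorem chkAt_E6_2 : chkAt chevE6 2 = true := by decide +kernel
set_option maxRecDepth 100000 in
theorem chkAt_E6_3 : chkAt chevE6 3 = true := by decide +kernel
set_option maxRecDepth 100000 in
theorem chkAt_E6_4 : chkAt chevE6 4 = true := by decide +kernel
set_option maxRecDepth 100000 in
theorem chkAt_E6_5 : chkAt chevE6 5 = true := by decide +kernel
theorem chk_E6 : chk chevE6 = true := by
  refine chk_of_at fun i hi => ?_
  have hi8 : i < 6 := hi
  clear hi
  interval_cases i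
  exacts [chkAt_E6_0, chkAt_E6_1, chkAt_E6_2, chkAt_E6_3, chkAt_E6_4, chkAt_E6_5]
set_option maxRecDepth 100000 in
theorem chkAt_E7_0 : chkAt chevE7 0 = true := by decide +kernel
set_option maxRecDepth 100000 in
theorem chkAt_E7_1 : chkAt chevE7 1 = true := by decide +kernel
set_option maxRecDepth 100000 in
theorem chkAt_E7_2 : chkAt chevE7 2 = true := by decide +kernel
set_option maxRecDepth 100000 in
theorem chkAt_E7_3 : chkAt chevE7 3 = true := by decide +kernel
set_option maxRecDepth 100000 in
theorem chkAt_E7_4 : chkAt chevE7 4 = true := by decide +kernel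
set_option maxRecDepth 100000 in
theorem chkAt_E7_5 : chkAt chevE7 5 = true := by decide +kernel
set_option maxRecDepth 100000 in
theorem chkAt_E7_6 : chkAt chevE7 6 = true := by decide +kernel
theorem chk_E7 : chk chevE7 = true := by
  refine chk_of_at fun i hi => ?_
  have hi8 : i < 7 := hi
  clear hi
  interval_cases i
  exacts [chkAt_E7_0, chkAt_E7_1, chkAt_E7_2, chkAt_E7_3, chkAt_E7_4, chkAt_E7_5, chkAt_E7_6]
set_option maxRecDepth 100000 in
theorem chkAt_E8_0 : chkAt chevE8 0 = true := by decide +kernel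
set_option maxRecDepth 100000 in
theorem chkAt_E8_1 : chkAt chevE8 1 = true := by decide +kernel
set_option maxRecDepth 100000 in
theorem chkAt_E8_2 : chkAt chevE8 2 = true := by decide +kernel
set_option maxRecDepth 100000 in
theorem chkAt_E8_3 : chkAt chevE8 3 = true := by decide +kernel
set_option maxRecDepth 100000 in
theorem chkAt_E8_4 : chkAt chevE8 4 = true := by decide +kernel
set_option maxRecDepth 100000 in
theorem chkAt_E8_5 : chkAt chevE8 5 = true := by decide +kernel
set_option maxRecDepth 100000 in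
theorem chkAt_E8_6 : chkAt chevE8 6 = true := by decide +kernel
set_option maxRecDepth 100000 in
theorem chkAt_E8_7 : chkAt chevE8 7 = true := by decide +kernel
theorem chk_E8 : chk chevE8 = true := by
  refine chk_of_at fun i hi => ?_
  have hi8 : i < 8 := hi
  clear hi
  interval_cases i
  exacts [chkAt_E8_0, chkAt_E8_1, chkAt_E8_2, chkAt_E8_3, chkAt_E8_4, chkAt_E8_5, chkAt_E8_6, chkAt_E8_7]

theorem chk_of_mem (D : ChevalleyDatum)
    (hD : D ∈ [Cfsg.Lie.chevG2, Cfsg.Lie.chevB2, Cfsg.Lie.chevD4, Cfsg.Lie.chevF4, Cfsg.Lie.chevE6, Cfsg.Lie.chevE7, Cfsg.Lie.chevE8]) :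
    chk D = true := by
  simp only [List.mem_cons, List.not_mem_nil, or_false] at hD
  rcases hD with rfl | rfl | rfl | rfl | rfl | rfl | rfl
  exacts [chk_G2, chk_B2, chk_D4, chk_F4, chk_E6, chk_E7, chk_E8]

/-- What the check says. -/
structure SimpleFacts (D : ChevalleyDatum) (i : ℕ) : Prop where
  pos : D.IsPosRoot (D.simple i)
  neg_lt : D.neg (D.simple i) < D.nroots
  neg_neg : D.neg (D.neg (D.simple i)) = D.simple i
  neg_ne : D.neg (D.simple i) ≠ D.simple i
  ne_neg : ∀ s, D.IsPosRoot s → s ≠ D.simple i → s ≠ D.neg (D.simple i)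
  comm_pos : ∀ s, D.IsPosRoot s → s ≠ D.simple i → ∀ c ∈ D.commTerms (D.simple i) s,
    D.IsPosRoot c.1 ∧ c.1 ≠ D.simple i
  comm_neg : ∀ s, D.IsPosRoot s → s ≠ D.simple i → ∀ c ∈ D.commTerms (D.neg (D.simple i)) s,
    D.IsPosRoot c.1 ∧ c.1 ≠ D.simple i

theorem simpleFacts_of_chk {D : ChevalleyDatum} (h : chk D = true) {i : ℕ} (hi : i < D.rank) :
    SimpleFacts D i := by
  unfold chk at h
  rw [List.all_eq_true] at h
  have h1 := h i (List.mem_range.2 hi)
  unfold chkAt at h1
  rw [Bool.and_eq_true, List.all_eq_true] at h1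
  obtain ⟨h2, h3⟩ := h1
  simp only [Bool.and_eq_true, decide_eq_true_eq, beq_iff_eq, Bool.not_eq_true',
    beq_eq_false_iff_ne, posB_iff] at h2
  obtain ⟨⟨⟨ha, hb⟩, hc⟩, hd⟩ := h2
  have key : ∀ s, D.IsPosRoot s → s ≠ D.simple i → s ≠ D.neg (D.simple i) ∧
      (∀ c ∈ D.commTerms (D.simple i) s, D.IsPosRoot c.1 ∧ c.1 ≠ D.simple i) ∧
      (∀ c ∈ D.commTerms (D.neg (D.simple i)) s, D.IsPosRoot c.1 ∧ c.1 ≠ D.simple i) := by
    intro s hs hne
    have h4 := h3 s (List.mem_range.2 hs.1)
    rw [Bool.or_eq_true, Bool.or_eq_true] at h4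
    rcases h4 with (h4 | h4) | h4
    · exfalso
      rw [(posB_iff D s).2 hs] at h4
      simp at h4
    · exfalso
      exact hne (by simpa using h4)
    · rw [Bool.and_eq_true, Bool.and_eq_true, List.all_eq_true, List.all_eq_true] at h4
      obtain ⟨⟨h5, h6⟩, h7⟩ := h4
      refine ⟨by simpa using h5, fun c hc' => ?_, fun c hc' => ?_⟩
      · have := h6 c hc'
        rw [Bool.and_eq_true, posB_iff] at this
        exact ⟨this.1, by simpa using this.2⟩
      · have := h7 c hc'
        rw [Bool.and_eq_true, posB_iff] at this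
        exact ⟨this.1, by simpa using this.2⟩
  exact ⟨ha, hb, hc, hd, fun s hs hne => (key s hs hne).1, fun s hs hne => (key s hs hne).2.1,
    fun s hs hne => (key s hs hne).2.2⟩

theorem simpleFacts (D : ChevalleyDatum)
    (hD : D ∈ [Cfsg.Lie.chevG2, Cfsg.Lie.chevB2, Cfsg.Lie.chevD4, Cfsg.Lie.chevF4, Cfsg.Lie.chevE6, Cfsg.Lie.chevE7, Cfsg.Lie.chevE8])
    {i : ℕ} (hi : i < D.rank) : SimpleFacts D i :=
  simpleFacts_of_chk (chk_of_mem D hD) hi

end Cfsg.Agent.ChevalleyStructure.SimpleComplement
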