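import Cfsg.Prelude.Def_ChevStructure

/-!
# Kernel-evaluable sparse action of words in root elements

`D` a `ChevalleyDatum`, `E` a type of exponents with an addition (written multiplicatively in the field by
`Ev.ev`), coefficients are integers (possibly normalised modulo `p`). A vector of the coordinate module is a list
of terms `c * ev a * e_j`, where `j : ℕ` numbers the basis (Cartan elements first, then the root vectors).
`act D O L v` is `x_r(c * ev a) v` for the letter `L = ⟨r, a, c⟩`, `actWord D O w v` the action of a word.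
-/

set_option autoImplicit false
set_option linter.unusedSimpArgs false
set_option linter.unusedVariables false

namespace Cfsg.Agent.ChevalleyStructure.Sparse

open Cfsg.Lie Cfsg.Lie.ChevalleyDatum

/-- bare operations on exponents, and a normalisation of integer coefficients -/
structure Ops (E : Type) where
  add : E → E → E
  beq : E → E → Bool
  nrm : ℤ → ℤ

/-- evaluation of exponents in a field -/
structure Ev {E : Type} (O : Ops E) (F : Type*) [Field F] where
  ev : E → F
  ev_add : ∀ a b, ev (O.add a b) = ev a * ev b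
  ev_beq : ∀ a b, O.beq a b = true → ev a = ev b
  nrm_eq : ∀ c : ℤ, ((O.nrm c : ℤ) : F) = (c : F)

structure Term (E : Type) where
  j : ℕ
  a : E
  c : ℤ

structure Letter (E : Type) where
  r : ℕ
  a : E
  c : ℤ

noncomputable section

variable {E : Type}

def ieq (x y : ℤ) : Bool :=
  Int.rec (fun m => Int.rec (fun n => Nat.beq m n) (fun _ => false) y)
    (fun m => Int.rec (fun _ => false) (fun n => Nat.beq m n) y) x

theorem ieq_eq {x y : ℤ} (h : ieq x y = true) : x = y := by
  cases x <;> cases y <;> simp [ieq] at h ⊢ <;> exact h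

def ins (O : Ops E) (j : ℕ) (a : E) (c : ℤ) (l : List (Term E)) : List (Term E) :=
  List.rec (bif ieq (O.nrm c) 0 then [] else [⟨j, a, O.nrm c⟩]) (fun y l ih =>
   bif Nat.beq j y.j && O.beq a y.a then
      (bif ieq (O.nrm (Int.add c y.c)) 0 then l else ⟨j, a, O.nrm (Int.add c y.c)⟩ :: l) else y :: ih) l

theorem ins_nil (O : Ops E) (j : ℕ) (a : E) (c : ℤ) :
    ins O j a c [] = (bif ieq (O.nrm c) 0 then [] else [⟨j, a, O.nrm c⟩]) := rfl

theorem ins_cons (O : Ops E) (j : ℕ) (a : E) (c : ℤ) (y : Term E) (l : List (Term E)) :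
    ins O j a c (y :: l) = (bif Nat.beq j y.j && O.beq a y.a then
      (bif ieq (O.nrm (Int.add c y.c)) 0 then l else ⟨j, a, O.nrm (Int.add c y.c)⟩ :: l)
        else y :: ins O j a c l) := rfl

def go (O : Ops E) (rk : ℕ) (La : E) (Lc : ℤ) (l : List (ℕ × ℤ)) : E → ℤ → List (Term E) → List (Term E) :=
  List.rec (fun _ _ acc => acc)
    (fun uM _ ih a c acc => ih (O.add a La) (Int.mul c Lc) (ins O (Nat.add rk uM.1) a (Int.mul uM.2 c) acc)) l

theorem go_nil (O : Ops E) (rk : ℕ) (La : E) (Lc : ℤ) (a : E) (c : ℤ) (acc : List (Term E)) :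
    go O rk La Lc [] a c acc = acc := rfl

theorem go_cons (O : Ops E) (rk : ℕ) (La : E) (Lc : ℤ) (uM : ℕ × ℤ) (l : List (ℕ × ℤ)) (a : E) (c : ℤ)
    (acc : List (Term E)) :
    go O rk La Lc (uM :: l) a c acc =
      go O rk La Lc l (O.add a La) (Int.mul c Lc) (ins O (Nat.add rk uM.1) a (Int.mul uM.2 c) acc) := rfl

def find (j : ℕ) (row : List (ℕ × Array (ℕ × ℤ))) : List (ℕ × ℤ) :=
  List.rec [] (fun sl _ ih => bif Nat.beq sl.1 j then sl.2.toList else ih) row

theorem find_nil (j : ℕ) : find j [] = [] := rfl
theorem find_cons (j : ℕ) (sl : ℕ × Array (ℕ × ℤ)) (row : List (ℕ × Array (ℕ × ℤ))) :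
    find j (sl :: row) = bif Nat.beq sl.1 j then sl.2.toList else find j row := rfl

def cart (O : Ops E) (co : Array ℤ) (a : E) (c : ℤ) (acc : List (Term E)) (n : ℕ) : List (Term E) :=
  Nat.rec acc (fun i ih => ins O i a (Int.mul (co.getD i 0) c) ih) n

theorem cart_zero (O : Ops E) (co : Array ℤ) (a : E) (c : ℤ) (acc : List (Term E)) :
    cart O co a c acc 0 = acc := rfl
theorem cart_succ (O : Ops E) (co : Array ℤ) (a : E) (c : ℤ) (acc : List (Term E)) (n : ℕ) :
    cart O co a c acc (n + 1) = ins O n a (Int.mul (co.getD n 0) c) (cart O co a c acc n) := rfl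

def actTerm (O : Ops E) (rk tot : ℕ) (r nr : ℕ) (cs : Array (Array ℤ)) (co : Array ℤ)
    (row : List (ℕ × Array (ℕ × ℤ))) (La : E) (Lc : ℤ) (x : Term E) (acc : List (Term E)) : List (Term E) :=
  bif Nat.ble rk x.j then
    bif Nat.ble tot x.j then acc
    else bif Nat.beq (Nat.sub x.j rk) r then ins O x.j x.a x.c acc
    else bif Nat.beq (Nat.sub x.j rk) nr then
      ins O x.j x.a x.c (ins O (Nat.add rk r) (O.add x.a (O.add La La)) (Int.neg (Int.mul (Int.mul Lc Lc) x.c))
        (cart O co (O.add x.a La) (Int.mul Lc x.c) acc rk))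
    else ins O x.j x.a x.c (go O rk La Lc (find (Nat.sub x.j rk) row) (O.add x.a La) (Int.mul x.c Lc) acc)
  else ins O x.j x.a x.c
    (ins O (Nat.add rk r) (O.add x.a La) (Int.neg (Int.mul (Int.mul ((cs.getD x.j #[]).getD r 0) Lc) x.c)) acc)

def act (D : ChevalleyDatum) (O : Ops E) (L : Letter E) (v : List (Term E)) : List (Term E) :=
  List.rec [] (fun x _ ih => actTerm O D.rank (D.rank + D.nroots) L.r (D.negIdx.getD L.r 0) D.cartanSR
    (D.coroot.getD L.r #[]) (D.chain.getD L.r #[]).toList L.a L.c x ih) v

theorem act_nil (D : ChevalleyDatum) (O : Ops E) (L : Letter E) : act D O L [] = [] := rfl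
theorem act_cons (D : ChevalleyDatum) (O : Ops E) (L : Letter E) (x : Term E) (v : List (Term E)) :
    act D O L (x :: v) = actTerm O D.rank (D.rank + D.nroots) L.r (D.negIdx.getD L.r 0) D.cartanSR
    (D.coroot.getD L.r #[]) (D.chain.getD L.r #[]).toList L.a L.c x (act D O L v) := rfl

def actWord (D : ChevalleyDatum) (O : Ops E) (w : List (Letter E)) (v : List (Term E)) : List (Term E) :=
  List.rec v (fun L _ ih => act D O L ih) w

theorem actWord_nil (D : ChevalleyDatum) (O : Ops E) (v : List (Term E)) : actWord D O [] v = v := rfl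
theorem actWord_cons (D : ChevalleyDatum) (O : Ops E) (L : Letter E) (w : List (Letter E)) (v : List (Term E)) :
    actWord D O (L :: w) v = act D O L (actWord D O w v) := rfl

/-! ### Evaluation -/

variable {F : Type*} [Field F] {O : Ops E}

def evalTerm (V : Ev O F) (x : Term E) (n : ℕ) : F := if x.j = n then (x.c : F) * V.ev x.a else 0

def evalV (V : Ev O F) (l : List (Term E)) (n : ℕ) : F := (l.map fun x => evalTerm V x n).sum

theorem evalV_nil (V : Ev O F) (n : ℕ) : evalV V [] n = 0 := rfl
theorem evalV_cons (V : Ev O F) (x : Term E) (l : List (Term E)) (n : ℕ) :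
    evalV V (x :: l) n = evalTerm V x n + evalV V l n := by simp [evalV]

theorem ins_sound (V : Ev O F) (j : ℕ) (a : E) (c : ℤ) (l : List (Term E)) (n : ℕ) :
    evalV V (ins O j a c l) n = (if j = n then (c : F) * V.ev a else 0) + evalV V l n := by
  induction l with
  | nil =>
    rw [ins_nil]
    cases h : ieq (O.nrm c) 0
    · simp only [cond_false, evalV_cons, evalV_nil, evalTerm, V.nrm_eq]
    · have h0 := ieq_eq h
      have hc : (c : F) = 0 := by rw [← V.nrm_eq c, h0]; simp
      simp [evalV_nil, hc]
  | cons y l ih =>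
    rw [ins_cons]
    cases h1 : (Nat.beq j y.j && O.beq a y.a)
    · simp only [cond_false, evalV_cons, ih]
      ring
    · rw [Bool.and_eq_true] at h1
      have hj : j = y.j := Nat.eq_of_beq_eq_true h1.1
      have ha := V.ev_beq _ _ h1.2
      have key : (if j = n then (c : F) * V.ev a else 0) + evalTerm V y n =
          if j = n then (((Int.add c y.c : ℤ)) : F) * V.ev a else 0 := by
        have : (Int.add c y.c : ℤ) = c + y.c := rfl
        rw [this]
        subst hj
        unfold evalTerm
        split_ifs
        · rw [← ha]; push_cast; ring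
        · simp
      cases h : ieq (O.nrm (Int.add c y.c)) 0
      · simp only [cond_true, cond_false, evalV_cons]
        rw [← add_assoc, key]
        simp only [evalTerm, V.nrm_eq]
      · have h0 := ieq_eq h
        have hc : ((Int.add c y.c : ℤ) : F) = 0 := by rw [← V.nrm_eq, h0]; simp
        simp only [cond_true, evalV_cons]
        rw [← add_assoc, key, hc]
        simp

/-- the sum along a chain -/
def chainSum (rk : ℕ) (τ : F) : List (ℕ × ℤ) → F → ℕ → F
  | [], _, _ => 0
  | uM :: l, w, n => (if rk + uM.1 = n then (uM.2 : F) * w else 0) + chainSum rk τ l (w * τ) n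

theorem go_sound (V : Ev O F) (rk : ℕ) (La : E) (Lc : ℤ) (l : List (ℕ × ℤ)) (a : E) (c : ℤ)
    (acc : List (Term E)) (n : ℕ) :
    evalV V (go O rk La Lc l a c acc) n =
      chainSum rk ((Lc : F) * V.ev La) l ((c : F) * V.ev a) n + evalV V acc n := by
  induction l generalizing a c acc with
  | nil => rw [go_nil]; simp [chainSum]
  | cons uM l ih =>
    rw [go_cons, ih, ins_sound, V.ev_add]
    have e1 : ((Int.mul c Lc : ℤ) : F) = (c : F) * (Lc : F) := by
      have : (Int.mul c Lc : ℤ) = c * Lc := rfl
      rw [this]; push_cast; ring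
    have e2 : ((Int.mul uM.2 c : ℤ) : F) = (uM.2 : F) * (c : F) := by
      have : (Int.mul uM.2 c : ℤ) = uM.2 * c := rfl
      rw [this]; push_cast; ring
    have e3 : (Nat.add rk uM.1) = rk + uM.1 := rfl
    rw [e1, e2, e3, chainSum]
    have e4 : (c : F) * (Lc : F) * (V.ev a * V.ev La) = (c : F) * V.ev a * ((Lc : F) * V.ev La) := by ring
    rw [e4, mul_assoc (uM.2 : F)]
    ring

theorem cart_sound (V : Ev O F) (co : Array ℤ) (a : E) (c : ℤ) (acc : List (Term E)) (m : ℕ) (n : ℕ) :
    evalV V (cart O co a c acc m) n =
      (if n < m then ((co.getD n 0 : ℤ) : F) * ((c : F) * V.ev a) else 0) + evalV V acc n := by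
  induction m with
  | zero => rw [cart_zero]; simp
  | succ m ih =>
    rw [cart_succ, ins_sound, ih]
    have e2 : ((Int.mul (co.getD m 0) c : ℤ) : F) = ((co.getD m 0 : ℤ) : F) * (c : F) := by
      have : (Int.mul (co.getD m 0) c : ℤ) = (co.getD m 0) * c := rfl
      rw [this]; push_cast; ring
    rw [e2]
    by_cases h : m = n
    · subst h
      simp [mul_assoc]
    · have : n < m + 1 ↔ n < m := by omega
      simp [h, this]

/-- number of a basis vector -/
def idxNat (D : ChevalleyDatum) : D.Idx → ℕ
  | Sum.inl i => i.val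
  | Sum.inr s => D.rank + s.val

theorem idxNat_inl (D : ChevalleyDatum) (i : Fin D.rank) : idxNat D (Sum.inl i) = i.val := rfl
theorem idxNat_inr (D : ChevalleyDatum) (s : Fin D.nroots) : idxNat D (Sum.inr s) = D.rank + s.val := rfl

theorem idxNat_injective (D : ChevalleyDatum) : Function.Injective (idxNat D) := by
  intro x y h
  rcases x with x | x <;> rcases y with y | y <;> simp only [idxNat_inl, idxNat_inr] at h
  · congr 1; exact Fin.ext h
  · have := x.isLt; omega
  · have := y.isLt; omega
  · congr 1; exact Fin.ext (by omega)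

theorem idxNat_lt (D : ChevalleyDatum) (x : D.Idx) : idxNat D x < D.rank + D.nroots := by
  rcases x with x | x
  · have := x.isLt; simp only [idxNat_inl]; omega
  · have := x.isLt; simp only [idxNat_inr]; omega

/-- the vector of a list of terms -/
def vec (D : ChevalleyDatum) (V : Ev O F) (l : List (Term E)) : D.Idx → F := fun u => evalV V l (idxNat D u)

/-- the chain sum of the definition of `xMat` -/
theorem find_sum (rk : ℕ) (τ : F) (s u : ℕ) (row : List (ℕ × Array (ℕ × ℤ))) (w : F)
    (hnd : (row.map Prod.fst).Nodup) :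
    chainSum rk τ (find s row) (w * τ) (rk + u) =
      ((((row.filter (fun e => e.1 = s)).flatMap fun e =>
    ((e.2.toList.zipIdx).filter (fun q => q.1.1 = u)).map fun q => (q.2 + 1, q.1.2)).map
      fun km => ((km.2 : ℤ) : F) * τ ^ km.1).sum) * w := by
  have aux : ∀ (l : List (ℕ × ℤ)) (n : ℕ),
      chainSum rk τ l (w * τ ^ (n + 1)) (rk + u) =
      (((((l.zipIdx n).filter (fun q => q.1.1 = u)).map fun q => (q.2 + 1, q.1.2)).map
      fun km : ℕ × ℤ => ((km.2 : ℤ) : F) * τ ^ km.1).sum) * w := by
    intro l
    induction l with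
    | nil => intro n; simp [chainSum]
    | cons uM l ih =>
      intro n
      rw [chainSum, List.zipIdx_cons, List.filter_cons]
      have h1 : w * τ ^ (n + 1) * τ = w * τ ^ (n + 1 + 1) := by ring
      rw [h1, ih (n + 1)]
      by_cases h : uM.1 = u
      · simp [h]; ring
      · have : ¬ (rk + uM.1 = rk + u) := by omega
        simp [h]
  induction row with
  | nil => simp [find_nil, chainSum]
  | cons sl row ih =>
    rw [List.map_cons, List.nodup_cons] at hnd
    rw [find_cons, List.filter_cons]
    by_cases h : sl.1 = s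
    · have hb : Nat.beq sl.1 s = true := by rw [h]; exact Nat.beq_refl s
      have hf : row.filter (fun e => decide (e.1 = s)) = [] := by
        rw [List.filter_eq_nil_iff]
        intro e he
        simp only [decide_eq_true_eq]
        intro hes
        apply hnd.1
        rw [h, ← hes]
        exact List.mem_map_of_mem he
      have := aux sl.2.toList 0
      simp only [zero_add, pow_one] at this
      rw [hb, cond_true, this]
      simp [h, hf]
    · have hb : Nat.beq sl.1 s = false := by
        rw [Bool.eq_false_iff]; intro hh; exact h (Nat.eq_of_beq_eq_true hh)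
      rw [hb, cond_false, ih hnd.2]
      simp [h]

/-- `row` of the chain table has pairwise different keys, and `-r ≠ r` -/
def goodRow (D : ChevalleyDatum) (r : ℕ) : Prop :=
  (((D.chain.getD r #[]).toList.map Prod.fst).Nodup) ∧ D.negIdx.getD r 0 ≠ r ∧ r < D.nroots

instance goodRow_decidable (D : ChevalleyDatum) (r : ℕ) : Decidable (goodRow D r) := by
  unfold goodRow; infer_instance

/-! ### The entries of `xMat` -/

theorem xMat_inl_inl (D : ChevalleyDatum) (r : Fin D.nroots) (t : F) (i' i : Fin D.rank) :
    D.xMat F r t (Sum.inl i') (Sum.inl i) = if i' = i then 1 else 0 := rfl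

theorem xMat_inr_inl (D : ChevalleyDatum) (r : Fin D.nroots) (t : F) (u : Fin D.nroots) (i : Fin D.rank) :
    D.xMat F r t (Sum.inr u) (Sum.inl i) =
      if u = r then - (((D.cartanSR.getD i.val #[]).getD r.val 0 : ℤ) : F) * t else 0 := rfl

theorem xMat_inr_self (D : ChevalleyDatum) (r : Fin D.nroots) (t : F) (u : Fin D.nroots) :
    D.xMat F r t (Sum.inr u) (Sum.inr r) = if u = r then 1 else 0 := by
  simp [ChevalleyDatum.xMat]

theorem xMat_inl_self (D : ChevalleyDatum) (r : Fin D.nroots) (t : F) (i : Fin D.rank) :
    D.xMat F r t (Sum.inl i) (Sum.inr r) = 0 := by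
  simp [ChevalleyDatum.xMat]

theorem xMat_inl_neg (D : ChevalleyDatum) (r s : Fin D.nroots) (t : F) (i : Fin D.rank) (hsr : s ≠ r)
    (hs : s.val = D.negIdx.getD r.val 0) :
    D.xMat F r t (Sum.inl i) (Sum.inr s) = (((D.coroot.getD r.val #[]).getD i.val 0 : ℤ) : F) * t := by
  unfold ChevalleyDatum.xMat
  rw [Matrix.of_apply]
  simp only [if_neg hsr, if_pos hs]

theorem xMat_inr_neg (D : ChevalleyDatum) (r s : Fin D.nroots) (t : F) (u : Fin D.nroots) (hsr : s ≠ r)
    (hs : s.val = D.negIdx.getD r.val 0) :
    D.xMat F r t (Sum.inr u) (Sum.inr s) = if u = s then 1 else if u = r then -(t ^ 2) else 0 := by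
  unfold ChevalleyDatum.xMat
  rw [Matrix.of_apply]
  simp only [if_neg hsr, if_pos hs]

theorem xMat_inl_other (D : ChevalleyDatum) (r s : Fin D.nroots) (t : F) (i : Fin D.rank) (hsr : s ≠ r)
    (hs : s.val ≠ D.negIdx.getD r.val 0) :
    D.xMat F r t (Sum.inl i) (Sum.inr s) = 0 := by
  unfold ChevalleyDatum.xMat
  rw [Matrix.of_apply]
  simp only [if_neg hsr, if_neg hs]

theorem xMat_inr_other (D : ChevalleyDatum) (r s : Fin D.nroots) (t : F) (u : Fin D.nroots) (hsr : s ≠ r)
    (hs : s.val ≠ D.negIdx.getD r.val 0) :
    D.xMat F r t (Sum.inr u) (Sum.inr s) = (if u = s then 1 else 0) +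
      ((D.chainCoeff r.val s.val u.val).map fun km => ((km.2 : ℤ) : F) * t ^ km.1).sum := by
  unfold ChevalleyDatum.xMat
  rw [Matrix.of_apply]
  simp only [if_neg hsr, if_neg hs]

theorem actTerm_sound (D : ChevalleyDatum) (V : Ev O F) (r : ℕ) (hr : goodRow D r) (La : E) (Lc : ℤ)
    (x : Term E) (acc : List (Term E)) (u : D.Idx) :
    evalV V (actTerm O D.rank (D.rank + D.nroots) r (D.negIdx.getD r 0) D.cartanSR
    (D.coroot.getD r #[]) (D.chain.getD r #[]).toList La Lc x acc) (idxNat D u) =
      ((D.xMat F ⟨r, hr.2.2⟩ ((Lc : F) * V.ev La)).mulVec (fun s => evalTerm V x (idxNat D s))) u +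
        evalV V acc (idxNat D u) := by
  have hsub : ∀ a b : ℕ, Nat.sub a b = a - b := fun _ _ => rfl
  have hadd : ∀ a b : ℕ, Nat.add a b = a + b := fun _ _ => rfl
  have hmul : ∀ a b : ℤ, Int.mul a b = a * b := fun _ _ => rfl
  have hneg : ∀ a : ℤ, Int.neg a = - a := fun _ => rfl
  -- case analysis on the index of `x`
  by_cases hout : D.rank + D.nroots ≤ x.j
  · have h1 : Nat.ble D.rank x.j = true := Nat.ble_eq_true_of_le (by omega)
    have h2 : Nat.ble (D.rank + D.nroots) x.j = true := Nat.ble_eq_true_of_le hout
    have h3 : (fun s => evalTerm V x (idxNat D s)) = (0 : D.Idx → F) := by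
      funext s
      have := idxNat_lt D s
      have hne : ¬ x.j = idxNat D s := by omega
      simp [evalTerm, hne]
    rw [h3, Matrix.mulVec_zero]
    simp only [actTerm, h1, h2, cond_true, Pi.zero_apply, zero_add]
  · -- the vector is a multiple of a basis vector
    have hcol : ∀ s₀ : D.Idx, x.j = idxNat D s₀ →
        ((D.xMat F ⟨r, hr.2.2⟩ ((Lc : F) * V.ev La)).mulVec (fun s => evalTerm V x (idxNat D s))) u =
          D.xMat F ⟨r, hr.2.2⟩ ((Lc : F) * V.ev La) u s₀ * ((x.c : F) * V.ev x.a) := by
      intro s₀ hs₀
      rw [Matrix.mulVec, dotProduct, Finset.sum_eq_single s₀]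
      · simp [evalTerm, hs₀]
      · intro b _ hb
        have : ¬ x.j = idxNat D b := by
          rw [hs₀]; intro h; exact hb (idxNat_injective D h).symm
        simp [evalTerm, this]
      · intro h; exact absurd (Finset.mem_univ _) h
    by_cases hcart : x.j < D.rank
    · have h1 : Nat.ble D.rank x.j = false := by
        rw [Bool.eq_false_iff]; intro h; have := Nat.le_of_ble_eq_true h; omega
      rw [hcol (Sum.inl ⟨x.j, hcart⟩) rfl]
      have hact : actTerm O D.rank (D.rank + D.nroots) r (D.negIdx.getD r 0) D.cartanSR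
          (D.coroot.getD r #[]) (D.chain.getD r #[]).toList La Lc x acc = ins O x.j x.a x.c
          (ins O (Nat.add D.rank r) (O.add x.a La)
            (Int.neg (Int.mul (Int.mul ((D.cartanSR.getD x.j #[]).getD r 0) Lc) x.c)) acc) := by
        unfold actTerm; rw [h1, cond_false]
      rw [hact, ins_sound, ins_sound, V.ev_add, hadd, hmul, hmul, hneg]
      rcases u with i | v
      · rw [idxNat_inl, xMat_inl_inl]
        have h2 : ¬ (D.rank + r = (i : ℕ)) := by have := i.isLt; omega
        by_cases h3 : x.j = i.val
        · have h4 : i = ⟨x.j, hcart⟩ := Fin.ext h3.symm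
          rw [if_pos h3, if_neg h2, if_pos h4]; ring
        · have h4 : ¬ i = ⟨x.j, hcart⟩ := fun h => h3 (by rw [h])
          rw [if_neg h3, if_neg h2, if_neg h4]; ring
      · rw [idxNat_inr, xMat_inr_inl]
        have h2 : ¬ (x.j = D.rank + (v : ℕ)) := by omega
        by_cases h3 : v = ⟨r, hr.2.2⟩
        · have h4 : D.rank + r = D.rank + (v : ℕ) := by rw [h3]
          rw [if_neg h2, if_pos h4, if_pos h3]
          push_cast
          ring
        · have h4 : ¬ (D.rank + r = D.rank + (v : ℕ)) := by
            intro h; apply h3; apply Fin.ext; show (v : ℕ) = r; omega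
          rw [if_neg h2, if_neg h4, if_neg h3]; ring
    · have h1 : Nat.ble D.rank x.j = true := Nat.ble_eq_true_of_le (by omega)
      have h2 : Nat.ble (D.rank + D.nroots) x.j = false := by
        rw [Bool.eq_false_iff]; intro h; exact hout (Nat.le_of_ble_eq_true h)
      have hlt : x.j - D.rank < D.nroots := by omega
      have hx : x.j = D.rank + (x.j - D.rank) := by omega
      have hx' : x.j = idxNat D (Sum.inr ⟨x.j - D.rank, hlt⟩) := hx
      by_cases hsr : x.j - D.rank = r
      · have hb : Nat.beq (Nat.sub x.j D.rank) r = true := by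
          rw [hsub, hsr]; exact Nat.beq_refl r
        have hact : actTerm O D.rank (D.rank + D.nroots) r (D.negIdx.getD r 0) D.cartanSR
          (D.coroot.getD r #[]) (D.chain.getD r #[]).toList La Lc x acc = ins O x.j x.a x.c acc := by
          unfold actTerm; rw [h1, cond_true, h2, cond_false, hb, cond_true]
        have hs₀ : x.j = idxNat D (Sum.inr ⟨r, hr.2.2⟩) := by rw [idxNat_inr]; show x.j = D.rank + r; omega
        rw [hact, ins_sound, hcol _ hs₀]
        rcases u with i | v
        · have h3 : ¬ (x.j = (i : ℕ)) := by have := i.isLt; omega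
          rw [idxNat_inl, if_neg h3, xMat_inl_self]; ring
        · rw [idxNat_inr, xMat_inr_self]
          by_cases h3 : v = ⟨r, hr.2.2⟩
          · have h4 : x.j = D.rank + (v : ℕ) := by rw [h3]; show x.j = D.rank + r; omega
            rw [if_pos h4, if_pos h3]; ring
          · have h4 : ¬ (x.j = D.rank + (v : ℕ)) := by
              intro h; apply h3; apply Fin.ext; show (v : ℕ) = r; omega
            rw [if_neg h4, if_neg h3]; ring
      · have hb : Nat.beq (Nat.sub x.j D.rank) r = false := by
          rw [hsub, Bool.eq_false_iff]; intro h; exact hsr (Nat.eq_of_beq_eq_true h)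
        have hsr' : (⟨x.j - D.rank, hlt⟩ : Fin D.nroots) ≠ ⟨r, hr.2.2⟩ := by
          intro h; exact hsr (congrArg Fin.val h)
        rw [hcol _ hx']
        by_cases hnr : x.j - D.rank = D.negIdx.getD r 0
        · have hb2 : Nat.beq (Nat.sub x.j D.rank) (D.negIdx.getD r 0) = true := by
            rw [hsub, hnr]; exact Nat.beq_refl _
          have hact : actTerm O D.rank (D.rank + D.nroots) r (D.negIdx.getD r 0) D.cartanSR
              (D.coroot.getD r #[]) (D.chain.getD r #[]).toList La Lc x acc =
              ins O x.j x.a x.c (ins O (Nat.add D.rank r) (O.add x.a (O.add La La))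
              (Int.neg (Int.mul (Int.mul Lc Lc) x.c))
              (cart O (D.coroot.getD r #[]) (O.add x.a La) (Int.mul Lc x.c) acc D.rank)) := by
            unfold actTerm; rw [h1, cond_true, h2, cond_false, hb, cond_false, hb2, cond_true]
          rw [hact, ins_sound, ins_sound, cart_sound, V.ev_add, V.ev_add, V.ev_add, hadd, hmul, hmul, hmul, hneg]
          rcases u with i | v
          · have h3 : ¬ (x.j = (i : ℕ)) := by have := i.isLt; omega
            have h4 : ¬ (D.rank + r = (i : ℕ)) := by have := i.isLt; omega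
            rw [idxNat_inl, xMat_inl_neg D ⟨r, hr.2.2⟩ _ _ i hsr' hnr, if_neg h3, if_neg h4, if_pos i.isLt]
            push_cast
            ring
          · have h3 : ¬ (D.rank + (v : ℕ) < D.rank) := by omega
            rw [idxNat_inr, xMat_inr_neg D ⟨r, hr.2.2⟩ _ _ v hsr' hnr, if_neg h3]
            by_cases h4 : v = ⟨x.j - D.rank, hlt⟩
            · have h5 : x.j = D.rank + (v : ℕ) := by rw [h4]; exact hx
              have h6 : ¬ (D.rank + r = D.rank + (v : ℕ)) := by
                intro h; apply hsr; omega
              rw [if_pos h5, if_neg h6, if_pos h4]; ring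
            · have h5 : ¬ (x.j = D.rank + (v : ℕ)) := by
                intro h; apply h4; apply Fin.ext; show (v : ℕ) = x.j - D.rank; omega
              by_cases h8 : v = ⟨r, hr.2.2⟩
              · have h9 : D.rank + r = D.rank + (v : ℕ) := by rw [h8]
                rw [if_neg h5, if_pos h9, if_neg h4, if_pos h8]
                push_cast
                ring
              · have h9 : ¬ (D.rank + r = D.rank + (v : ℕ)) := by
                  intro h; apply h8; apply Fin.ext; show (v : ℕ) = r; omega
                rw [if_neg h5, if_neg h9, if_neg h4, if_neg h8]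
                ring
        · have hb2 : Nat.beq (Nat.sub x.j D.rank) (D.negIdx.getD r 0) = false := by
            rw [hsub, Bool.eq_false_iff]; intro h; exact hnr (Nat.eq_of_beq_eq_true h)
          have hact : actTerm O D.rank (D.rank + D.nroots) r (D.negIdx.getD r 0) D.cartanSR
              (D.coroot.getD r #[]) (D.chain.getD r #[]).toList La Lc x acc =
              ins O x.j x.a x.c (go O D.rank La Lc (find (Nat.sub x.j D.rank) (D.chain.getD r #[]).toList)
                (O.add x.a La) (Int.mul x.c Lc) acc) := by
            unfold actTerm; rw [h1, cond_true, h2, cond_false, hb, cond_false, hb2, cond_false]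
          rw [hact, ins_sound, go_sound, V.ev_add, hsub, hmul]
          have e1 : ((x.c * Lc : ℤ) : F) * (V.ev x.a * V.ev La) =
              ((x.c : F) * V.ev x.a) * ((Lc : F) * V.ev La) := by
            push_cast; ring
          rw [e1]
          generalize ((Lc : F) * V.ev La) = τ
          rcases u with i | v
          · have h3 : ¬ (x.j = (i : ℕ)) := by have := i.isLt; omega
            have h4 : ∀ (l : List (ℕ × ℤ)) (w : F), chainSum D.rank τ l w (i : ℕ) = 0 := by
              intro l
              induction l with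
              | nil => intro w; rfl
              | cons uM l ih =>
                intro w
                have h5 : ¬ (D.rank + uM.1 = (i : ℕ)) := by have := i.isLt; omega
                rw [chainSum, ih, if_neg h5, add_zero]
            rw [idxNat_inl, if_neg h3, h4, xMat_inl_other D ⟨r, hr.2.2⟩ _ _ i hsr' hnr]
            ring
          · have hfs := find_sum D.rank τ (x.j - D.rank) v.val (D.chain.getD r #[]).toList
              ((x.c : F) * V.ev x.a) hr.1
            rw [idxNat_inr, hfs, xMat_inr_other D ⟨r, hr.2.2⟩ _ _ v hsr' hnr]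
            have hcc : D.chainCoeff r (x.j - D.rank) v.val = (((D.chain.getD r #[]).toList.filter
                (fun e => e.1 = (x.j - D.rank))).flatMap fun e =>
                ((e.2.toList.zipIdx).filter (fun q => q.1.1 = v.val)).map fun q => (q.2 + 1, q.1.2)) := rfl
            rw [← hcc]
            by_cases h4 : v = ⟨x.j - D.rank, hlt⟩
            · have h5 : x.j = D.rank + (v : ℕ) := by rw [h4]; exact hx
              rw [if_pos h5, if_pos h4]
              ring
            · have h5 : ¬ (x.j = D.rank + (v : ℕ)) := by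
                intro h; apply h4; apply Fin.ext; show (v : ℕ) = x.j - D.rank; omega
              rw [if_neg h5, if_neg h4]
              ring

theorem act_sound (D : ChevalleyDatum) (V : Ev O F) (L : Letter E) (hr : goodRow D L.r) (v : List (Term E)) :
    (D.x F L.r ((L.c : F) * V.ev L.a)).mulVec (vec D V v) = vec D V (act D O L v) := by
  have hx : D.x F L.r ((L.c : F) * V.ev L.a) = D.xMat F ⟨L.r, hr.2.2⟩ ((L.c : F) * V.ev L.a) := by
    unfold ChevalleyDatum.x
    rw [dif_pos hr.2.2]
  rw [hx]
  induction v with
  | nil =>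
    have : vec D V ([] : List (Term E)) = 0 := by funext u; rfl
    rw [this, Matrix.mulVec_zero, act_nil, this]
  | cons x v ih =>
    have h1 : vec D V (x :: v) = (fun s => evalTerm V x (idxNat D s)) + vec D V v := by
      funext u
      simp only [vec, evalV_cons, Pi.add_apply]
    rw [h1, Matrix.mulVec_add, ih]
    funext u
    rw [Pi.add_apply, act_cons]
    exact (actTerm_sound D V L.r hr L.a L.c x _ u).symm

/-- the word of root elements with parameters given by the letters -/
def toWord (V : Ev O F) (w : List (Letter E)) : List (ℕ × F) := w.map fun L => (L.r, (L.c : F) * V.ev L.a)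

theorem actWord_sound (D : ChevalleyDatum) (V : Ev O F) (w : List (Letter E)) (hw : ∀ L ∈ w, goodRow D L.r)
    (v : List (Term E)) :
    (D.wordMat F (toWord V w)).mulVec (vec D V v) = vec D V (actWord D O w v) := by
  induction w with
  | nil => simp [toWord, ChevalleyDatum.wordMat, actWord_nil]
  | cons L w ih =>
    have h1 : D.wordMat F (toWord V (L :: w)) = D.x F L.r ((L.c : F) * V.ev L.a) * D.wordMat F (toWord V w) := by
      simp [ChevalleyDatum.wordMat, toWord]
    rw [h1, ← Matrix.mulVec_mulVec, ih (fun L hL => hw L (List.mem_cons_of_mem _ hL)), actWord_cons]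
    exact act_sound D V L (hw L List.mem_cons_self) _

end

end Cfsg.Agent.ChevalleyStructure.Sparse
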