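import Cfsg.Prelude.Def_ChevStructure

/-!
Integer sparse-vector model of the root elements x_r(t), t an integer: columns of words in root elements are computed as
lists of (coordinate code, coefficient); code of `e_s` is `s`, code of `h_j` is `nroots + j`.
-/

set_option autoImplicit false

namespace Cfsg.Agent.ChevalleyStructure.SparseWord

open Cfsg.Lie

/-- Forces the evaluation of a natural number before it is passed on. -/
def force {α : Type*} (n : ℕ) (f : ℕ → α) : α :=
  match n with
  | 0 => f 0
  | k + 1 => f (Nat.succ k)

theorem force_eq {α : Type*} (n : ℕ) (f : ℕ → α) : force n f = f n := by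
  cases n <;> rfl

variable (D : ChevalleyDatum)

/-- The code of a coordinate. -/
def code : D.Idx → ℕ
  | Sum.inl j => D.nroots + j
  | Sum.inr s => s

theorem code_inl (j : Fin D.rank) : code D (Sum.inl j) = D.nroots + j := rfl
theorem code_inr (s : Fin D.nroots) : code D (Sum.inr s) = s := rfl

theorem code_lt (c : D.Idx) : code D c < D.nroots + D.rank := by
  rcases c with j | s
  · have := j.2
    show D.nroots + (j : ℕ) < _
    omega
  · have := s.2
    show (s : ℕ) < _
    omega

theorem code_injective : Function.Injective (code D) := by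
  intro a b h
  rcases a with i | s <;> rcases b with j | t
  · have h' : D.nroots + (i : ℕ) = D.nroots + (j : ℕ) := h
    congr 1
    exact Fin.ext (by omega)
  · have h' : D.nroots + (i : ℕ) = (t : ℕ) := h
    have := t.2
    omega
  · have h' : (s : ℕ) = D.nroots + (j : ℕ) := h
    have := s.2
    omega
  · have h' : (s : ℕ) = (t : ℕ) := h
    congr 1
    exact Fin.ext h'

theorem exists_code {n : ℕ} (h : n < D.nroots + D.rank) : ∃ c : D.Idx, code D c = n := by
  by_cases h' : n < D.nroots
  · exact ⟨Sum.inr ⟨n, h'⟩, rfl⟩
  · exact ⟨Sum.inl ⟨n - D.nroots, by omega⟩, by show D.nroots + (n - D.nroots) = n; omega⟩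

/-- The coefficient at `u` of a sparse vector. -/
def coefAt (v : List (ℕ × ℤ)) (u : ℕ) : ℤ :=
  (v.map fun q => if Nat.beq q.1 u then q.2 else 0).sum

theorem coefAt_nil (u : ℕ) : coefAt [] u = 0 := rfl

theorem coefAt_cons (q : ℕ × ℤ) (v : List (ℕ × ℤ)) (u : ℕ) :
    coefAt (q :: v) u = (if q.1 = u then q.2 else 0) + coefAt v u := by
  unfold coefAt
  rw [List.map_cons, List.sum_cons]
  congr 1
  by_cases h : q.1 = u
  · rw [if_pos h, if_pos]
    exact (Nat.beq_eq).symm ▸ h
  · rw [if_neg h, if_neg]
    intro h'
    exact h (Nat.eq_of_beq_eq_true h')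

theorem coefAt_append (v w : List (ℕ × ℤ)) (u : ℕ) : coefAt (v ++ w) u = coefAt v u + coefAt w u := by
  unfold coefAt
  rw [List.map_append, List.sum_append]

theorem coefAt_smul (a : ℤ) (v : List (ℕ × ℤ)) (u : ℕ) :
    coefAt (v.map fun p => (p.1, a * p.2)) u = a * coefAt v u := by
  induction v with
  | nil => simp [coefAt_nil]
  | cons q v ih =>
    rw [List.map_cons, coefAt_cons, coefAt_cons, ih, mul_add]
    congr 1
    split_ifs <;> simp

theorem coefAt_neg (v : List (ℕ × ℤ)) (u : ℕ) :
    coefAt (v.map fun p => (p.1, -p.2)) u = - coefAt v u := by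
  have := coefAt_smul (-1) v u
  simpa using this

/-- All entries of an association list with key `s` (written with recursors, for fast kernel evaluation). -/
noncomputable def look {α β : Type*} (s : ℕ) (f : α → List β) (l : List (ℕ × α)) : List β :=
  List.rec (motive := fun _ => List β) [] (fun e _ ih => Bool.rec (motive := fun _ => List β) ih (f e.2 ++ ih)
    (Nat.beq e.1 s)) l

/-- Entries of `x_r(t) e_s`, `s ≠ ±r`, other than `e_s` itself. -/
noncomputable def ent (r s : ℕ) (t : ℤ) : List (ℕ × ℤ) :=
  look s (fun a => (a.toList.zipIdx.filter fun q => Nat.blt q.1.1 D.nroots).map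
    fun q => (q.1.1, q.1.2 * t ^ (q.2 + 1))) (D.chain.getD r #[]).toList

/-- The column with code `c` of `x_r(t)`. -/
noncomputable def xcol (r : ℕ) (t : ℤ) (c : ℕ) : List (ℕ × ℤ) :=
  if D.nroots ≤ c then
    (if D.nroots + D.rank ≤ c then []
      else [(c, 1), (r, -(D.cartan (c - D.nroots) r) * t)])
  else if Nat.beq c r then [(c, 1)]
  else if Nat.beq c (D.neg r) then
    (c, 1) :: (r, -t ^ 2) ::
      (List.range D.rank).map fun j => (D.nroots + j, ((D.coroot.getD r #[]).getD j 0) * t)
  else (c, 1) :: ent D r c t

/-- The action of `x_r(t)` on sparse vectors. -/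
noncomputable def app (r : ℕ) (t : ℤ) (v : List (ℕ × ℤ)) : List (ℕ × ℤ) :=
  v.flatMap fun q => force q.1 fun c => (xcol D r t c).map fun p => (p.1, q.2 * p.2)

theorem coefAt_flatMap_map {α : Type*} (l : List α) (f : α → List (ℕ × ℤ)) (u : ℕ) :
    coefAt (l.flatMap f) u = (l.map fun a => coefAt (f a) u).sum := by
  induction l with
  | nil => rfl
  | cons a l ih => rw [List.flatMap_cons, coefAt_append, ih, List.map_cons, List.sum_cons]

theorem beq_eq_decide (a b : ℕ) : Nat.beq a b = decide (a = b) := by
  by_cases h : a = b
  · subst h; simp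
  · simp only [h, decide_false]
    cases h' : Nat.beq a b
    · rfl
    · exact absurd (Nat.eq_of_beq_eq_true h') h

theorem look_eq {α β : Type*} (s : ℕ) (f : α → List β) (l : List (ℕ × α)) :
    look s f l = (l.filter fun e => decide (e.1 = s)).flatMap fun e => f e.2 := by
  induction l with
  | nil => rfl
  | cons e l ih =>
    have h1 : look s f (e :: l) = Bool.rec (motive := fun _ => List β) (look s f l) (f e.2 ++ look s f l)
      (Nat.beq e.1 s) := rfl
    rw [h1, ih, beq_eq_decide, List.filter_cons]
    by_cases h : e.1 = s
    · simp only [h, decide_true, if_true, List.flatMap_cons]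
    · simp only [h, decide_false]
      rfl

theorem ent_eq (r s : ℕ) (t : ℤ) : ent D r s t =
    ((D.chain.getD r #[]).toList.filter (fun e => decide (e.1 = s))).flatMap fun e =>
      (e.2.toList.zipIdx.filter fun q => Nat.blt q.1.1 D.nroots).map fun q => (q.1.1, q.1.2 * t ^ (q.2 + 1)) := by
  unfold ent
  rw [look_eq]

theorem blt_eq_decide (a b : ℕ) : Nat.blt a b = decide (a < b) := by
  by_cases h : a < b
  · simp [h, Nat.blt]
  · simp only [h, decide_false]
    cases h' : Nat.blt a b
    · rfl
    · exact absurd (Nat.le_of_ble_eq_true h') h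

theorem coefAt_ent_ge (r s u : ℕ) (t : ℤ) (hu : D.nroots ≤ u) : coefAt (ent D r s t) u = 0 := by
  rw [ent_eq]
  simp only [blt_eq_decide]
  induction ((D.chain.getD r #[]).toList.filter (fun e => decide (e.1 = s))) with
  | nil => simp [coefAt_nil]
  | cons e l ih =>
    rw [List.flatMap_cons, coefAt_append, ih, add_zero]
    clear ih
    generalize e.2.toList.zipIdx = m
    induction m with
    | nil => simp [coefAt_nil]
    | cons q m ihm =>
      rw [List.filter_cons]
      by_cases hq : q.1.1 < D.nroots
      · simp only [hq, decide_true, if_true]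
        rw [List.map_cons, coefAt_cons, ihm, if_neg (by simp only; omega), zero_add]
      · simp only [hq, decide_false]
        exact ihm

theorem coefAt_ent (F : Type*) [Field F] (r s u : ℕ) (t : ℤ) (hu : u < D.nroots) :
    ((coefAt (ent D r s t) u : ℤ) : F) =
      ((D.chainCoeff r s u).map fun km => ((km.2 : ℤ) : F) * (t : F) ^ km.1).sum := by
  rw [ent_eq]
  unfold ChevalleyDatum.chainCoeff
  simp only [blt_eq_decide]
  induction ((D.chain.getD r #[]).toList.filter (fun e => decide (e.1 = s))) with
  | nil => simp [coefAt_nil]
  | cons e l ih =>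
    rw [List.flatMap_cons, List.flatMap_cons, coefAt_append, List.map_append, List.sum_append, ← ih,
      Int.cast_add]
    congr 1
    clear ih
    generalize e.2.toList.zipIdx = m
    induction m with
    | nil => simp [coefAt_nil]
    | cons q m ihm =>
      rw [List.filter_cons, List.filter_cons]
      by_cases hq : q.1.1 < D.nroots
      · simp only [hq, decide_true, if_true]
        rw [List.map_cons, coefAt_cons, Int.cast_add, ihm]
        by_cases hq : q.1.1 = u
        · simp [hq]
        · simp [hq]
      · have hq' : ¬ q.1.1 = u := by omega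
        simp only [hq, hq', decide_false]
        exact ihm

theorem sum_range_coef (n k u : ℕ) (f : ℕ → ℤ) :
    coefAt ((List.range k).map fun j => (n + j, f j)) u = if n ≤ u ∧ u < n + k then f (u - n) else 0 := by
  induction k with
  | zero =>
    rw [if_neg (by omega)]
    rfl
  | succ k ih =>
    rw [List.range_succ, List.map_append, coefAt_append, ih, List.map_singleton, coefAt_cons, coefAt_nil,
      add_zero]
    by_cases h : n + k = u
    · subst h
      rw [if_pos rfl, if_neg (by omega), if_pos (by omega), zero_add]
      have e : n + k - n = k := by omega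
      rw [e]
    · simp only [h, if_false, add_zero]
      by_cases h2 : n ≤ u ∧ u < n + k
      · rw [if_pos h2, if_pos (by omega)]
      · rw [if_neg h2, if_neg (by omega)]

/-- The column formula for `x_r(t)`, `t` an integer. -/
theorem x_apply (F : Type*) [Field F] (r : ℕ) (hr : r < D.nroots) (t : ℤ) (row col : D.Idx) :
    D.x F r (t : F) row col = ((coefAt (xcol D r t (code D col)) (code D row) : ℤ) : F) := by
  unfold ChevalleyDatum.x
  rw [dif_pos hr]
  unfold ChevalleyDatum.xMat
  rw [Matrix.of_apply]
  unfold xcol
  simp only [beq_eq_decide, decide_eq_true_eq]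
  rcases col with j | s
  · have hj := j.2
    rw [code_inl, if_pos (by omega), if_neg (by omega)]
    rcases row with i | u
    · have hi := i.2
      rw [code_inl, coefAt_cons, coefAt_cons, coefAt_nil]
      by_cases h : i = j
      · subst h
        simp only [if_true]
        rw [if_neg (by omega)]
        simp
      · have h' : (i : ℕ) ≠ j := fun e => h (Fin.ext e)
        simp only [h, if_false]
        rw [if_neg (by omega), if_neg (by omega)]
        simp
    · have hu := u.2
      rw [code_inr, coefAt_cons, coefAt_cons, coefAt_nil]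
      have e : D.nroots + (j : ℕ) - D.nroots = j := by omega
      have e2 : ¬ (D.nroots + (j : ℕ) = (u : ℕ)) := by omega
      simp only [e, e2, if_false]
      by_cases h : u = ⟨r, hr⟩
      · subst h
        simp [ChevalleyDatum.cartan]
      · have h' : ¬ r = (u : ℕ) := fun e => h (Fin.ext e.symm)
        simp only [h, h', if_false]
        simp
  · have hs := s.2
    rw [code_inr, if_neg (by omega)]
    by_cases h1 : s = ⟨r, hr⟩
    · have h1' : (s : ℕ) = r := by rw [h1]
      rw [if_pos h1', coefAt_cons, coefAt_nil]
      simp only [h1, if_true]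
      rcases row with i | u
      · rw [code_inl]
        simp only
        rw [if_neg (by omega)]
        simp
      · rw [code_inr]
        simp only
        by_cases hu : u = ⟨r, hr⟩
        · simp [hu]
        · have hu' : ¬ r = (u : ℕ) := fun e => hu (Fin.ext e.symm)
          simp [hu, hu']
    · have h1' : ¬ (s : ℕ) = r := fun e => h1 (Fin.ext e)
      simp only [h1, h1', if_false]
      by_cases h2 : (s : ℕ) = D.negIdx.getD r 0
      · have h2' : (s : ℕ) = D.neg r := h2
        rw [if_pos h2, if_pos h2', coefAt_cons, coefAt_cons, sum_range_coef]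
        rcases row with i | u
        · have hi := i.2
          rw [code_inl]
          simp only
          rw [if_neg (by omega), if_neg (by omega), if_pos (by omega)]
          have e : D.nroots + (i : ℕ) - D.nroots = i := by omega
          rw [e]
          simp
        · have hu := u.2
          rw [code_inr]
          simp only
          rw [if_neg (c := D.nroots ≤ (u : ℕ) ∧ (u : ℕ) < D.nroots + D.rank) (by omega)]
          by_cases h3 : u = s
          · have h3' : ¬ (r = (u : ℕ)) := by rw [h3]; omega
            rw [if_pos h3, if_pos (by rw [h3]), if_neg h3']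
            simp
          · have h3' : ¬ ((s : ℕ) = (u : ℕ)) := fun e => h3 (Fin.ext e.symm)
            rw [if_neg h3, if_neg h3']
            by_cases h4 : u = ⟨r, hr⟩
            · simp [h4]
            · have h4' : ¬ (r = (u : ℕ)) := fun e => h4 (Fin.ext e.symm)
              rw [if_neg h4, if_neg h4']
              simp
      · have h2' : ¬ (s : ℕ) = D.neg r := h2
        rw [if_neg h2, if_neg h2', coefAt_cons]
        rcases row with i | u
        · have hi := i.2
          rw [code_inl]
          simp only
          rw [if_neg (by omega), zero_add, coefAt_ent_ge _ _ _ _ _ (by omega)]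
          simp
        · rw [code_inr, Int.cast_add, coefAt_ent _ _ _ _ _ _ u.2]
          by_cases h3 : u = s
          · simp [h3]
          · have h3' : ¬ ((s : ℕ) = (u : ℕ)) := fun e => h3 (Fin.ext e.symm)
            simp [h3, h3']

theorem coefAt_app (r : ℕ) (t : ℤ) (v : List (ℕ × ℤ)) (u : ℕ) :
    coefAt (app D r t v) u = (v.map fun q => q.2 * coefAt (xcol D r t q.1) u).sum := by
  unfold app
  rw [coefAt_flatMap_map]
  congr 1
  apply List.map_congr_left
  intro q _
  rw [force_eq, coefAt_smul]

theorem xcol_of_ge (r : ℕ) (t : ℤ) (c : ℕ) (h : D.nroots + D.rank ≤ c) : xcol D r t c = [] := by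
  unfold xcol
  rw [if_pos (by omega), if_pos h]

theorem sum_xcol_mul (r : ℕ) (t : ℤ) (v : List (ℕ × ℤ)) (u : ℕ) :
    ∑ k : D.Idx, coefAt (xcol D r t (code D k)) u * coefAt v (code D k) = coefAt (app D r t v) u := by
  rw [coefAt_app]
  induction v with
  | nil => simp [coefAt_nil]
  | cons q v ih =>
    rw [List.map_cons, List.sum_cons, ← ih]
    simp only [coefAt_cons, mul_add, Finset.sum_add_distrib]
    congr 1
    by_cases h : q.1 < D.nroots + D.rank
    · obtain ⟨c, hc⟩ := exists_code D h
      rw [Finset.sum_eq_single c]
      · rw [if_pos hc.symm, hc, mul_comm]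
      · intro b _ hb
        rw [if_neg, mul_zero]
        intro e
        exact hb (code_injective D (e.symm.trans hc.symm))
      · intro h'
        exact absurd (Finset.mem_univ _) h'
    · rw [xcol_of_ge D r t q.1 (by omega), coefAt_nil, mul_zero]
      apply Finset.sum_eq_zero
      intro k _
      rw [if_neg, mul_zero]
      intro e
      have := code_lt D k
      omega

theorem x_mul_apply (F : Type*) [Field F] (r : ℕ) (hr : r < D.nroots) (t : ℤ) (B : Matrix D.Idx D.Idx F)
    (v : List (ℕ × ℤ)) (col : D.Idx) (hv : ∀ k, B k col = ((coefAt v (code D k) : ℤ) : F)) (row : D.Idx) :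
    (D.x F r (t : F) * B) row col = ((coefAt (app D r t v) (code D row) : ℤ) : F) := by
  rw [Matrix.mul_apply, ← sum_xcol_mul]
  push_cast
  apply Finset.sum_congr rfl
  intro k _
  rw [hv, x_apply D F r hr]

/-- The column with code `c` of a word with integer parameters. -/
noncomputable def wcol : List (ℕ × ℤ) → ℕ → List (ℕ × ℤ)
  | [], c => [(c, 1)]
  | p :: w, c => app D p.1 p.2 (wcol w c)

theorem wcol_nil (c : ℕ) : wcol D [] c = [(c, 1)] := rfl
theorem wcol_cons (p : ℕ × ℤ) (w : List (ℕ × ℤ)) (c : ℕ) : wcol D (p :: w) c = app D p.1 p.2 (wcol D w c) := rfl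

theorem wordMat_apply (F : Type*) [Field F] (w : List (ℕ × ℤ)) (hw : ∀ p ∈ w, p.1 < D.nroots) (row col : D.Idx) :
    D.wordMat F (w.map fun p => (p.1, (p.2 : F))) row col =
      ((coefAt (wcol D w (code D col)) (code D row) : ℤ) : F) := by
  induction w generalizing row with
  | nil =>
    rw [wcol_nil, coefAt_cons, coefAt_nil, add_zero]
    show (1 : Matrix D.Idx D.Idx F) row col = _
    rw [Matrix.one_apply]
    by_cases h : row = col
    · rw [if_pos h, if_pos (by rw [h])]
      simp
    · rw [if_neg h, if_neg (fun e => h (code_injective D e.symm))]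
      simp
  | cons p w ih =>
    rw [wcol_cons]
    have e : D.wordMat F ((p :: w).map fun p => (p.1, (p.2 : F))) =
        D.x F p.1 (p.2 : F) * D.wordMat F (w.map fun p => (p.1, (p.2 : F))) := by
      unfold ChevalleyDatum.wordMat
      rw [List.map_cons, List.map_cons, List.prod_cons]
    rw [e]
    exact x_mul_apply D F p.1 (hw p (List.mem_cons_self ..)) p.2 _ _ col
      (fun k => ih (fun q hq => hw q (List.mem_cons_of_mem _ hq)) k) row

/-- Checks that a sparse vector is zero. -/
def isZero (v : List (ℕ × ℤ)) : Bool :=
  v.all fun q => force q.1 fun u => decide (coefAt v u = 0)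

theorem coefAt_of_not_mem (v : List (ℕ × ℤ)) (u : ℕ) (h : ∀ q ∈ v, q.1 ≠ u) : coefAt v u = 0 := by
  induction v with
  | nil => rfl
  | cons q v ih =>
    rw [coefAt_cons, if_neg (h q (List.mem_cons_self ..)),
      ih fun q' hq' => h q' (List.mem_cons_of_mem _ hq'), zero_add]

theorem coefAt_of_isZero (v : List (ℕ × ℤ)) (h : isZero v = true) (u : ℕ) : coefAt v u = 0 := by
  unfold isZero at h
  rw [List.all_eq_true] at h
  by_cases h' : ∃ q ∈ v, q.1 = u
  · obtain ⟨q, hq, rfl⟩ := h'
    have := h q hq
    rw [force_eq] at this
    exact of_decide_eq_true this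
  · push Not at h'
    exact coefAt_of_not_mem v u h'

/-- Checks that two sparse vectors represent the same vector. -/
def sameVec (v w : List (ℕ × ℤ)) : Bool := isZero (v ++ w.map fun q => (q.1, -q.2))

theorem coefAt_of_sameVec (v w : List (ℕ × ℤ)) (h : sameVec v w = true) (u : ℕ) : coefAt v u = coefAt w u := by
  have := coefAt_of_isZero _ h u
  rw [coefAt_append, coefAt_neg] at this
  omega

end Cfsg.Agent.ChevalleyStructure.SparseWord
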