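import Cfsg.Agent.ChevalleyStructure.FixTables

/-!
# Kernel check of equality of two words in root elements with monomial parameters
-/

set_option autoImplicit false

namespace Cfsg.Agent.ChevalleyStructure.SparseWordEq

open Cfsg.Lie Cfsg.Lie.ChevalleyDatum Cfsg.Agent.ChevalleyStructure.Sparse
  Cfsg.Agent.ChevalleyStructure.SparseHDiag Cfsg.Agent.ChevalleyStructure.FixTables

noncomputable section

/-- all letters have good rows -/
def goodLetters {E : Type} (D : ChevalleyDatum) (w : List (Letter E)) : Bool :=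
  List.rec true (fun L _ ih => bif decide (goodRow D L.r) then ih else false) w

theorem goodLetters_spec {E : Type} {D : ChevalleyDatum} {w : List (Letter E)} (h : goodLetters D w = true) :
    ∀ L ∈ w, goodRow D L.r := by
  induction w with
  | nil => intro L hL; simp at hL
  | cons M w ih =>
    have h' : (bif decide (goodRow D M.r) then goodLetters D w else false) = true := h
    cases h1 : decide (goodRow D M.r)
    · rw [h1] at h'; exact Bool.noConfusion h'
    · rw [h1, cond_true] at h'
      intro L hL
      rcases List.mem_cons.1 hL with rfl | hL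
      · exact of_decide_eq_true h1
      · exact ih h' L hL

/-- the kernel check -/
def wordEqCheck {E : Type} (D : ChevalleyDatum) (O : Ops E) (z : E) (w₁ w₂ : List (Letter E)) : Bool :=
  bif goodLetters D w₁ then bif goodLetters D w₂ then
    allRange (fun j => isNil (dif O (actWord D O w₁ [⟨j, z, 1⟩]) (actWord D O w₂ [⟨j, z, 1⟩]))) 0
      (Nat.add D.rank D.nroots)
  else false else false

theorem wordMat_eq_of_check {E : Type} {D : ChevalleyDatum} {O : Ops E} {z : E} {w₁ w₂ : List (Letter E)}
    (h : wordEqCheck D O z w₁ w₂ = true) {K : Type*} [Field K] (V : Ev O K) (hz : V.ev z = 1) :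
    D.wordMat K (toWord V w₁) = D.wordMat K (toWord V w₂) := by
  unfold wordEqCheck at h
  cases h1 : goodLetters D w₁
  · rw [h1] at h; exact Bool.noConfusion h
  cases h2 : goodLetters D w₂
  · rw [h1, h2] at h; exact Bool.noConfusion h
  rw [h1, h2, cond_true, cond_true] at h
  have g1 := goodLetters_spec h1
  have g2 := goodLetters_spec h2
  have hcol : ∀ u : D.Idx, (D.wordMat K (toWord V w₁)).mulVec (Pi.single u 1) =
      (D.wordMat K (toWord V w₂)).mulVec (Pi.single u 1) := by
    intro u
    have h3 := allRange_spec h (idxNat D u) (Nat.zero_le _) (by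
      have := idxNat_lt D u
      show _ < 0 + (D.rank + D.nroots)
      omega)
    have h4 := eq_nil_of_isNil h3
    have e1 := actWord_sound D V w₁ g1 [⟨idxNat D u, z, 1⟩]
    have e2 := actWord_sound D V w₂ g2 [⟨idxNat D u, z, 1⟩]
    rw [vec_single, hz] at e1 e2
    have e3 : (((1 : ℤ) : K)) * 1 = 1 := by simp
    rw [e3] at e1 e2
    rw [e1, e2]
    funext v
    have h5 := dif_sound V (actWord D O w₁ [⟨idxNat D u, z, 1⟩]) (actWord D O w₂ [⟨idxNat D u, z, 1⟩]) (idxNat D v)
    rw [h4, evalV_nil] at h5
    exact sub_eq_zero.1 h5.symm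
  ext u v
  have := congrFun (hcol v) u
  rw [Matrix.mulVec_single_one, Matrix.mulVec_single_one] at this
  exact this

/-- two variables, exponents in `ℕ`, coefficients modulo `p` -/
def opsNN (p : ℤ) : Ops (ℕ × ℕ) :=
  ⟨fun a b => (Nat.add a.1 b.1, Nat.add a.2 b.2), fun a b => Nat.beq a.1 b.1 && Nat.beq a.2 b.2,
    fun c => Int.emod c p⟩

def evNN {K : Type*} [Field K] {p : ℤ} (hp : (p : K) = 0) (s t : K) : Ev (opsNN p) K where
  ev a := s ^ a.1 * t ^ a.2
  ev_add a b := by
    show s ^ (a.1 + b.1) * t ^ (a.2 + b.2) = _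
    rw [pow_add, pow_add]; ring
  ev_beq a b h := by
    have h' : (Nat.beq a.1 b.1 && Nat.beq a.2 b.2) = true := h
    rw [Bool.and_eq_true] at h'
    rw [Nat.eq_of_beq_eq_true h'.1, Nat.eq_of_beq_eq_true h'.2]
  nrm_eq c := (evP hp s).nrm_eq c

theorem evNN_zero {K : Type*} [Field K] {p : ℤ} (hp : (p : K) = 0) (s t : K) : (evNN hp s t).ev (0, 0) = 1 := by
  show s ^ 0 * t ^ 0 = 1
  simp

end

end Cfsg.Agent.ChevalleyStructure.SparseWordEq
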