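import Cfsg.Prelude.Def_Steinberg

/-!
Basic relations in the group presented by Steinberg's relations, for an arbitrary `ChevalleyDatum` (no
properties of the tables are used), and the image of words under a homomorphism to the Chevalley group with
`x̄_r(t) ↦ x_r(t)`.
-/

set_option autoImplicit false

namespace Cfsg.Agent.ChevalleyStructure.StBasic

open Cfsg.Lie

variable {K : Type*} [Field K] (D : ChevalleyDatum)

/-- The class of a word in the presented group. -/
def wd (w : List (ℕ × K)) : D.SteinbergGroup K := PresentedGroup.mk (D.steinbergRels K) (D.stWord w)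

/-- `n̄_r(t)` in the presented group. -/
def stn (r : ℕ) (t : K) : D.SteinbergGroup K := PresentedGroup.mk (D.steinbergRels K) (D.stN r t)

/-- `h̄_r(t)` in the presented group. -/
def sth (r : ℕ) (t : K) : D.SteinbergGroup K := PresentedGroup.mk (D.steinbergRels K) (D.stH r t)

omit [Field K] in
theorem stX_of_lt {r : ℕ} (h : r < D.nroots) (t : K) : D.stX r t = FreeGroup.of (⟨r, h⟩, t) := dif_pos h

omit [Field K] in
theorem stX_of_not_lt {r : ℕ} (h : ¬ r < D.nroots) (t : K) : D.stX r t = 1 := dif_neg h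

theorem stGen_of_lt {r : ℕ} (h : r < D.nroots) (t : K) :
    D.stGen K r t = PresentedGroup.of (⟨r, h⟩, t) := by
  show PresentedGroup.mk (D.steinbergRels K) (D.stX r t) = _
  rw [stX_of_lt D h]; rfl

theorem stGen_of_not_lt {r : ℕ} (h : ¬ r < D.nroots) (t : K) : D.stGen K r t = 1 := by
  show PresentedGroup.mk (D.steinbergRels K) (D.stX r t) = _
  rw [stX_of_not_lt D h, map_one]

theorem stGen_mul (r : ℕ) (t₁ t₂ : K) :
    D.stGen K r t₁ * D.stGen K r t₂ = D.stGen K r (t₁ + t₂) := by
  by_cases h : r < D.nroots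
  · have hmem : D.stX r t₁ * D.stX r t₂ * (D.stX r (t₁ + t₂))⁻¹ ∈ D.steinbergRels K :=
      Or.inl (Or.inl ⟨r, t₁, t₂, h, rfl⟩)
    have := PresentedGroup.mk_eq_mk_of_mul_inv_mem hmem
    rw [map_mul] at this
    exact this
  · rw [stGen_of_not_lt D h, stGen_of_not_lt D h, stGen_of_not_lt D h, one_mul]

theorem stGen_zero (r : ℕ) : D.stGen K r (0 : K) = 1 := by
  have h := stGen_mul D r (0 : K) 0
  rw [add_zero] at h
  exact mul_eq_left.mp h

theorem stGen_neg (r : ℕ) (t : K) : D.stGen K r (-t) = (D.stGen K r t)⁻¹ := by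
  rw [eq_inv_iff_mul_eq_one, stGen_mul, neg_add_cancel, stGen_zero]

theorem wd_nil : wd D ([] : List (ℕ × K)) = 1 := by
  show PresentedGroup.mk (D.steinbergRels K) (List.prod []) = 1
  rw [List.prod_nil, map_one]

theorem wd_cons (p : ℕ × K) (w : List (ℕ × K)) : wd D (p :: w) = D.stGen K p.1 p.2 * wd D w := by
  show PresentedGroup.mk (D.steinbergRels K) (List.prod (List.map _ (p :: w))) = _
  rw [List.map_cons, List.prod_cons, map_mul]; rfl

theorem wd_append (v w : List (ℕ × K)) : wd D (v ++ w) = wd D v * wd D w := by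
  induction v with
  | nil => rw [List.nil_append, wd_nil, one_mul]
  | cons p v ih => rw [List.cons_append, wd_cons, wd_cons, ih, mul_assoc]

theorem wd_singleton (p : ℕ × K) : wd D [p] = D.stGen K p.1 p.2 := by
  rw [wd_cons, wd_nil, mul_one]

/-- Relation (R2) in the presented group, as a commutator. -/
theorem stGen_comm {r s : ℕ} (hr : r < D.nroots) (hs : s < D.nroots) (hne : s ≠ r) (hneg : s ≠ D.neg r)
    (t u : K) :
    (D.stGen K s u)⁻¹ * (D.stGen K r t)⁻¹ * D.stGen K s u * D.stGen K r t = wd D (D.commWord K r s t u) := by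
  have hmem : (D.stX s u)⁻¹ * (D.stX r t)⁻¹ * D.stX s u * D.stX r t * (D.stWord (D.commWord K r s t u))⁻¹
      ∈ D.steinbergRels K :=
    Or.inl (Or.inr ⟨r, s, t, u, hr, hs, hne, hneg, rfl⟩)
  have := PresentedGroup.mk_eq_mk_of_mul_inv_mem hmem
  rw [map_mul, map_mul, map_mul, map_inv, map_inv] at this
  exact this

/-- Relation (R2) in the presented group: `x̄_s(u) x̄_r(t) = x̄_r(t) x̄_s(u) ∏ …`. -/
theorem stGen_mul_stGen {r s : ℕ} (hr : r < D.nroots) (hs : s < D.nroots) (hne : s ≠ r) (hneg : s ≠ D.neg r)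
    (t u : K) :
    D.stGen K s u * D.stGen K r t = D.stGen K r t * D.stGen K s u * wd D (D.commWord K r s t u) := by
  rw [← stGen_comm D hr hs hne hneg]; group

theorem stn_eq (r : ℕ) (t : K) :
    stn D r t = D.stGen K r t * D.stGen K (D.neg r) (-t⁻¹) * D.stGen K r t := by
  show wd D [(r, t), (D.neg r, -t⁻¹), (r, t)] = _
  rw [wd_cons, wd_cons, wd_cons, wd_nil, mul_one, mul_assoc]

theorem stn_neg (r : ℕ) (t : K) : stn D r (-t) = (stn D r t)⁻¹ := by
  rw [stn_eq, stn_eq, stGen_neg, inv_neg, neg_neg, mul_inv_rev, mul_inv_rev, ← stGen_neg D (D.neg r), neg_neg,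
    mul_assoc]

theorem sth_eq (r : ℕ) (t : K) : sth D r t = stn D r t * (stn D r 1)⁻¹ := by
  rw [← stn_neg]
  show wd D (D.nWord r t ++ D.nWord r (-1)) = _
  rw [wd_append]; rfl

/-- Relation (R3) in the presented group. -/
theorem sth_mul {r : ℕ} (hr : r < D.nroots) {t₁ t₂ : K} (h₁ : t₁ ≠ 0) (h₂ : t₂ ≠ 0) :
    sth D r t₁ * sth D r t₂ = sth D r (t₁ * t₂) := by
  have hmem : D.stH r t₁ * D.stH r t₂ * (D.stH r (t₁ * t₂))⁻¹ ∈ D.steinbergRels K :=
    Or.inr ⟨r, t₁, t₂, hr, h₁, h₂, rfl⟩
  have := PresentedGroup.mk_eq_mk_of_mul_inv_mem hmem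
  rw [map_mul] at this
  exact this

theorem sth_one (r : ℕ) : sth D r (1 : K) = 1 := by rw [sth_eq, mul_inv_cancel]

/-- `t ↦ h̄_r(t)` as a homomorphism on the units of the field. -/
def sthHom {r : ℕ} (hr : r < D.nroots) : Kˣ →* D.SteinbergGroup K where
  toFun t := sth D r (t : K)
  map_one' := by rw [Units.val_one, sth_one]
  map_mul' a b := by rw [Units.val_mul, sth_mul D hr a.ne_zero b.ne_zero]

theorem sthHom_apply {r : ℕ} (hr : r < D.nroots) (t : Kˣ) : sthHom D hr t = sth D r (t : K) := rfl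

/-- The presented group is generated by the elements `x̄_r(t)`. -/
theorem closure_stGen :
    Subgroup.closure {g : D.SteinbergGroup K | ∃ (r : ℕ) (t : K), r < D.nroots ∧ g = D.stGen K r t} = ⊤ := by
  rw [eq_top_iff, ← PresentedGroup.closure_range_of, Subgroup.closure_le]
  rintro _ ⟨⟨⟨r, hr⟩, t⟩, rfl⟩
  exact Subgroup.subset_closure ⟨r, t, hr, (stGen_of_lt D hr t).symm⟩

/-! ### Homomorphisms out of the presented group -/

section Lift

variable {G : Type*} [Group G]

/-- A homomorphism out of the presented group, given by elements satisfying the three families of relations.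
`f r t` is only used for `r < nroots`; it must be `1` out of range. -/
def lift (f : ℕ → K → G) (f0 : ∀ r t, ¬ r < D.nroots → f r t = 1)
    (h1 : ∀ (r : ℕ) (t₁ t₂ : K), r < D.nroots → f r t₁ * f r t₂ = f r (t₁ + t₂))
    (h2 : ∀ (r s : ℕ) (t u : K), r < D.nroots → s < D.nroots → s ≠ r → s ≠ D.neg r →
      (f s u)⁻¹ * (f r t)⁻¹ * f s u * f r t = ((D.commWord K r s t u).map fun p => f p.1 p.2).prod)
    (h3 : ∀ (r : ℕ) (t₁ t₂ : K), r < D.nroots → t₁ ≠ 0 → t₂ ≠ 0 →
      ((D.hWord r t₁).map fun p => f p.1 p.2).prod * ((D.hWord r t₂).map fun p => f p.1 p.2).prod =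
        ((D.hWord r (t₁ * t₂)).map fun p => f p.1 p.2).prod) :
    D.SteinbergGroup K →* G :=
  PresentedGroup.toGroup (f := fun p : Fin D.nroots × K => f p.1 p.2) (rels := D.steinbergRels K) (by
    have hX : ∀ (r : ℕ) (t : K), FreeGroup.lift (fun p : Fin D.nroots × K => f p.1 p.2) (D.stX r t) = f r t := by
      intro r t
      by_cases h : r < D.nroots
      · rw [stX_of_lt D h, FreeGroup.lift_apply_of]
      · rw [stX_of_not_lt D h, map_one, f0 r t h]
    have hW : ∀ w : List (ℕ × K), FreeGroup.lift (fun p : Fin D.nroots × K => f p.1 p.2) (D.stWord w)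
        = (w.map fun p => f p.1 p.2).prod := by
      intro w
      show FreeGroup.lift _ (List.prod (List.map _ w)) = _
      rw [map_list_prod, List.map_map]
      congr 1
      apply List.map_congr_left
      intro p _
      exact hX p.1 p.2
    rintro g ((⟨r, t₁, t₂, hr, rfl⟩ | ⟨r, s, t, u, hr, hs, hne, hneg, rfl⟩) | ⟨r, t₁, t₂, hr, ht₁, ht₂, rfl⟩)
    · rw [map_mul, map_mul, map_inv, hX, hX, hX, h1 r t₁ t₂ hr, mul_inv_cancel]
    · rw [map_mul, map_mul, map_mul, map_mul, map_inv, map_inv, map_inv, hX, hX, hW,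
        h2 r s t u hr hs hne hneg, mul_inv_cancel]
    · rw [map_mul, map_mul, map_inv]
      show FreeGroup.lift _ (D.stWord (D.hWord r t₁)) * FreeGroup.lift _ (D.stWord (D.hWord r t₂)) *
        (FreeGroup.lift _ (D.stWord (D.hWord r (t₁ * t₂))))⁻¹ = 1
      rw [hW, hW, hW, h3 r t₁ t₂ hr ht₁ ht₂, mul_inv_cancel])

theorem lift_stGen (f : ℕ → K → G) (f0 : ∀ r t, ¬ r < D.nroots → f r t = 1) (h1) (h2) (h3) (r : ℕ) (t : K) :
    lift D f f0 h1 h2 h3 (D.stGen K r t) = f r t := by
  by_cases h : r < D.nroots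
  · rw [stGen_of_lt D h]; exact PresentedGroup.toGroup.of _
  · rw [stGen_of_not_lt D h, map_one, f0 r t h]

/-- The image of a word under a homomorphism. -/
theorem map_wd (φ : D.SteinbergGroup K →* G) (w : List (ℕ × K)) :
    φ (wd D w) = (w.map fun p => φ (D.stGen K p.1 p.2)).prod := by
  induction w with
  | nil => rw [wd_nil, map_one, List.map_nil, List.prod_nil]
  | cons p w ih => rw [wd_cons, map_mul, ih, List.map_cons, List.prod_cons]

end Lift

/-! ### The homomorphism to the Chevalley group -/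

section Theta

variable {D}
variable (θ : D.SteinbergGroup K →* ↥(D.group K))
  (hθ : ∀ (r : ℕ) (t : K), r < D.nroots → ((θ (D.stGen K r t) : GL D.Idx K) : Matrix D.Idx D.Idx K) = D.x K r t)

include hθ

theorem theta_stGen (r : ℕ) (t : K) :
    ((θ (D.stGen K r t) : GL D.Idx K) : Matrix D.Idx D.Idx K) = D.x K r t := by
  by_cases h : r < D.nroots
  · exact hθ r t h
  · rw [stGen_of_not_lt D h, map_one]
    show _ = dite _ _ _
    rw [dif_neg h]; rfl

theorem theta_wd (w : List (ℕ × K)) :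
    ((θ (wd D w) : GL D.Idx K) : Matrix D.Idx D.Idx K) = D.wordMat K w := by
  induction w with
  | nil => rw [wd_nil, map_one]; rfl
  | cons p w ih =>
    rw [wd_cons, map_mul]
    show ((θ (D.stGen K p.1 p.2) : GL D.Idx K) : Matrix D.Idx D.Idx K) * ((θ (wd D w) : GL D.Idx K) : Matrix D.Idx D.Idx K)
      = List.prod (List.map _ (p :: w))
    rw [ih, theta_stGen θ hθ, List.map_cons, List.prod_cons]; rfl

theorem theta_stn (r : ℕ) (t : K) :
    ((θ (stn D r t) : GL D.Idx K) : Matrix D.Idx D.Idx K) = D.nMat K r t := theta_wd θ hθ _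

theorem theta_sth (r : ℕ) (t : K) :
    ((θ (sth D r t) : GL D.Idx K) : Matrix D.Idx D.Idx K) = D.hMat K r t := theta_wd θ hθ _

end Theta

end Cfsg.Agent.ChevalleyStructure.StBasic
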