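import Cfsg.Agent.ChevalleyStructure.St.Conj
import Cfsg.Agent.ChevalleyStructure.St.TabAll
import Cfsg.Agent.S1031
import Cfsg.Agent.S1032

/-!
# The presented Steinberg group: conjugation formulas

For `D` one of the seven tabulated data and a homomorphism `θ` from the presented group to `GL` with
`θ (x̄_r(t)) = x_r(t)`: conjugation by `n̄_p(1)` and `h̄_p(c)` (`p` fundamental) on the generators, injectivity of `θ`
on the positive and negative unipotent subgroups.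
-/

set_option autoImplicit false

namespace Cfsg.Agent.ChevalleyStructure.StPres

open Cfsg.Lie Cfsg.Agent.ChevalleyStructure.St.Rels Cfsg.Agent.ChevalleyStructure.St.Functional
  Cfsg.Agent.ChevalleyStructure.St.Inj Cfsg.Agent.ChevalleyStructure.St.Conj

universe u

variable {K : Type u} [Field K] {D : ChevalleyDatum}

theorem stN_mem_PP (r : ℕ) (t : K) : mk D K (D.stN r t) ∈ PP D K r := by
  rw [mk_stN]
  exact mul_mem (mul_mem (stGen_mem_PP r t) (stGen_neg_mem_PP r _)) (stGen_mem_PP r t)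

theorem stH_mem_PP (r : ℕ) (t : K) : mk D K (D.stH r t) ∈ PP D K r := by
  rw [mk_stH]; exact mul_mem (stN_mem_PP r t) (stN_mem_PP r (-1))

section theta

variable (hD : D ∈ [chevG2, chevB2, chevD4, chevF4, chevE6, chevE7, chevE8]) {m0 : ℕ → ℤ} (T : Tab D m0)
  (θ : D.SteinbergGroup K →* GL D.Idx K)
  (hθ : ∀ (r : ℕ) (t : K), r < D.nroots → ((θ (D.stGen K r t) : GL D.Idx K) : Matrix D.Idx D.Idx K) = D.x K r t)

include hD T hθ

/-- `n̄_p x̄_s(t) n̄_p⁻¹ = x̄_{w_p(s)}(η t)` in the presented group, for all roots `s`. -/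
theorem n_conj_tab (i s : ℕ) (hi : i < D.rank) (hs : s < D.nroots) :
    ∃ η : ℤ, (η = 1 ∨ η = -1) ∧ ∀ t : K,
      mk D K (D.stN (D.simple i) 1) * D.stGen K s t =
        D.stGen K (D.reflectRoot i s) ((η : K) * t) * mk D K (D.stN (D.simple i) 1) := by
  have hG : ∀ s < D.nroots, ∃ η : ℤ, (η = 1 ∨ η = -1) ∧ ∀ t : K,
      θ (mk D K (D.stN (D.simple i) 1)) * θ (D.stGen K s t) =
        θ (D.stGen K (D.reflectRoot i s) ((η : K) * t)) * θ (mk D K (D.stN (D.simple i) 1)) := by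
    intro s hs
    obtain ⟨η, hη, h⟩ := Cfsg.Agent.S1031.result (F := K) D hD i s hi hs
    refine ⟨η, hη, fun t => Units.ext ?_⟩
    rw [Units.val_mul, Units.val_mul, theta_stN θ hθ T.toWf (T.simple_lt i hi), hθ s t hs,
      hθ _ _ (T.refl_lt i hi s hs)]
    exact h t
  obtain ⟨η, hη, h⟩ := hG s hs
  refine ⟨η, hη, fun t => ?_⟩
  refine transfer θ hθ T hi (stN_mem_PP _ _) (D.reflectRoot i) (T.refl_lt i hi) ?_ ?_ ?_ hs h t
  · intro m
    refine ⟨fun j => 1 * m j + if j = i then (- lin D m (D.simple i)) else 0, ?_⟩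
    intro s hs
    rw [lin_comb D m 1 _ hi, T.refl_lin hi hs, T.refl_cartan i hi s hs i hi, T.cartan_simple i hi]
    ring
  · intro m hfp s hs
    rw [T.refl_lin hi hs, hfp]; ring
  · intro s hs
    obtain ⟨η, _, h⟩ := hG s hs
    exact ⟨(η : K), h⟩

/-- `h̄_p(c) x̄_s(t) h̄_p(c)⁻¹ = x̄_s(c^{A_{p,s}} t)` in the presented group, for all roots `s`. -/
theorem h_conj_tab (i s : ℕ) (hi : i < D.rank) (hs : s < D.nroots) (c : K) (hc : c ≠ 0) (t : K) :
    mk D K (D.stH (D.simple i) c) * D.stGen K s t =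
      D.stGen K s (c ^ (D.cartan i s) * t) * mk D K (D.stH (D.simple i) c) := by
  have hG : ∀ s < D.nroots, ∀ t : K,
      θ (mk D K (D.stH (D.simple i) c)) * θ (D.stGen K s t) =
        θ (D.stGen K (id s) (c ^ (D.cartan i s) * t)) * θ (mk D K (D.stH (D.simple i) c)) := by
    intro s hs t
    refine Units.ext ?_
    rw [Units.val_mul, Units.val_mul, theta_stH θ hθ T.toWf (T.simple_lt i hi), hθ s t hs, hθ (id s) _ hs]
    exact Cfsg.Agent.S1032.result (F := K) D hD i s hi hs c hc t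
  exact transfer θ hθ T hi (stH_mem_PP _ _) id (fun s hs => hs) (fun m => ⟨m, fun s _ => rfl⟩)
    (fun m _ s _ => rfl) (fun s hs => ⟨_, hG s hs⟩) hs (hG s hs) t

omit hD

/-- `θ` is injective on `Ū = ⟨x̄_r(t) : r > 0⟩`. -/
theorem theta_inj_pos_tab {g : D.SteinbergGroup K}
    (hg : g ∈ Subgroup.closure {x | ∃ (r : ℕ) (t : K), D.IsPosRoot r ∧ x = D.stGen K r t}) (h1 : θ g = 1) :
    g = 1 := by
  refine theta_inj θ hθ T.toWf (fun r hr => T.coroot_ne hr) (T.fun_lin m0) ?_ h1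
  refine (Subgroup.closure_mono ?_) hg
  rintro x ⟨r, t, hr, rfl⟩
  exact ⟨r, t, hr.1, (T.pos_iff r hr.1).1 hr, rfl⟩

/-- `θ` is injective on `V̄ = ⟨x̄_r(t) : r < 0⟩`. -/
theorem theta_inj_neg_tab {g : D.SteinbergGroup K}
    (hg : g ∈ Subgroup.closure {x | ∃ (r : ℕ) (t : K), r < D.nroots ∧ ¬ D.IsPosRoot r ∧ x = D.stGen K r t})
    (h1 : θ g = 1) : g = 1 := by
  refine theta_inj θ hθ T.toWf (fun r hr => T.coroot_ne hr) (T.fun_lin fun j => - m0 j) ?_ h1
  refine (Subgroup.closure_mono ?_) hg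
  rintro x ⟨r, t, hr, hneg, rfl⟩
  refine ⟨r, t, hr, ?_, rfl⟩
  rw [T.pos_iff r hr] at hneg
  have := T.ne_zero r hr
  rw [lin_neg]
  omega

end theta

section main

variable (hD : D ∈ [chevG2, chevB2, chevD4, chevF4, chevE6, chevE7, chevE8])
  (θ : D.SteinbergGroup K →* GL D.Idx K)
  (hθ : ∀ (r : ℕ) (t : K), r < D.nroots → ((θ (D.stGen K r t) : GL D.Idx K) : Matrix D.Idx D.Idx K) = D.x K r t)

include hD hθ

/-- `n̄_p x̄_s(t) n̄_p⁻¹ = x̄_{w_p(s)}(η t)` in the presented group, for all roots `s`. -/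
theorem n_conj (i s : ℕ) (hi : i < D.rank) (hs : s < D.nroots) :
    ∃ η : ℤ, (η = 1 ∨ η = -1) ∧ ∀ t : K,
      PresentedGroup.mk (D.steinbergRels K) (D.stN (D.simple i) 1) * D.stGen K s t =
        D.stGen K (D.reflectRoot i s) ((η : K) * t) *
          PresentedGroup.mk (D.steinbergRels K) (D.stN (D.simple i) 1) := by
  obtain ⟨m0, T⟩ := St.TabAll.exists_tab hD
  exact n_conj_tab hD T θ hθ i s hi hs

/-- `h̄_p(c) x̄_s(t) h̄_p(c)⁻¹ = x̄_s(c^{A_{p,s}} t)` in the presented group, for all roots `s`. -/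
theorem h_conj (i s : ℕ) (hi : i < D.rank) (hs : s < D.nroots) (c : K) (hc : c ≠ 0) (t : K) :
    PresentedGroup.mk (D.steinbergRels K) (D.stH (D.simple i) c) * D.stGen K s t =
      D.stGen K s (c ^ (D.cartan i s) * t) * PresentedGroup.mk (D.steinbergRels K) (D.stH (D.simple i) c) := by
  obtain ⟨m0, T⟩ := St.TabAll.exists_tab hD
  exact h_conj_tab hD T θ hθ i s hi hs c hc t

/-- `θ` is injective on `Ū`. -/
theorem theta_inj_pos {g : D.SteinbergGroup K}
    (hg : g ∈ Subgroup.closure {x | ∃ (r : ℕ) (t : K), D.IsPosRoot r ∧ x = D.stGen K r t}) (h1 : θ g = 1) :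
    g = 1 := by
  obtain ⟨m0, T⟩ := St.TabAll.exists_tab hD
  exact theta_inj_pos_tab T θ hθ hg h1

/-- `θ` is injective on `V̄`. -/
theorem theta_inj_neg {g : D.SteinbergGroup K}
    (hg : g ∈ Subgroup.closure {x | ∃ (r : ℕ) (t : K), r < D.nroots ∧ ¬ D.IsPosRoot r ∧ x = D.stGen K r t})
    (h1 : θ g = 1) : g = 1 := by
  obtain ⟨m0, T⟩ := St.TabAll.exists_tab hD
  exact theta_inj_neg_tab T θ hθ hg h1

end main

end Cfsg.Agent.ChevalleyStructure.StPres
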