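import Cfsg.Agent.ChevalleyStructure.SteinbergBruhat
import Cfsg.Agent.ChevalleyStructure.StPres
import Cfsg.Agent.ChevalleyStructure.RootWord
import Cfsg.Agent.ChevalleyStructure.RootComb
import Cfsg.Agent.ChevalleyStructure.Triangular
import Cfsg.Agent.S1033

/-!
# The kernel of `x̄_r(t) ↦ x_r(t)` lies in `H̄`

The abstract Bruhat decomposition of `SteinbergBruhat` applied to the presented group of Steinberg.
-/

set_option autoImplicit false

namespace Cfsg.Agent.ChevalleyStructure.SteinbergKer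

open Cfsg.Lie Cfsg.Agent.ChevalleyStructure.St.Rels Cfsg.Agent.ChevalleyStructure.St.Functional
  Cfsg.Agent.ChevalleyStructure.St.Conj Cfsg.Agent.ChevalleyStructure.RootCombGood
  Cfsg.Agent.ChevalleyStructure.SteinbergBruhat Cfsg.Agent.ChevalleyStructure.TriAbstract
  Cfsg.Agent.ChevalleyStructure.Triangular

universe u

variable {K : Type u} [Field K] {D : ChevalleyDatum}

/-- The root subgroup `X̄_r` of the presented group. -/
def Xb (D : ChevalleyDatum) (K : Type u) [Field K] (r : ℕ) : Subgroup (D.SteinbergGroup K) where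
  carrier := Set.range (D.stGen K r)
  mul_mem' := by
    rintro _ _ ⟨t, rfl⟩ ⟨u, rfl⟩
    exact ⟨t + u, (stGen_add' r t u).symm⟩
  one_mem' := ⟨0, stGen_zero r⟩
  inv_mem' := by
    rintro _ ⟨t, rfl⟩
    exact ⟨-t, (stGen_inv r t).symm⟩

theorem mem_Xb {r : ℕ} {x : D.SteinbergGroup K} : x ∈ Xb D K r ↔ ∃ t, D.stGen K r t = x := Iff.rfl

theorem stGen_mem_Xb (r : ℕ) (t : K) : D.stGen K r t ∈ Xb D K r := ⟨t, rfl⟩

/-- The group `H̄` generated by the `h̄_p(t)`, `p` fundamental. -/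
def Hb (D : ChevalleyDatum) (K : Type u) [Field K] : Subgroup (D.SteinbergGroup K) :=
  Subgroup.closure {h | ∃ (i : ℕ) (t : K), i < D.rank ∧ t ≠ 0 ∧
    h = PresentedGroup.mk (D.steinbergRels K) (D.stH (D.simple i) t)}

theorem hb_mem {i : ℕ} (hi : i < D.rank) {t : K} (ht : t ≠ 0) : mk D K (D.stH (D.simple i) t) ∈ Hb D K :=
  Subgroup.subset_closure ⟨i, t, hi, ht, rfl⟩

/-- `n̄_r(t)⁻¹ = n̄_r(-t)` -/
theorem stN_inv (r : ℕ) (t : K) : (mk D K (D.stN r t))⁻¹ = mk D K (D.stN r (-t)) := by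
  rw [mk_stN, mk_stN, mul_inv_rev, mul_inv_rev, stGen_inv, stGen_inv]
  have : -(-t⁻¹) = -(-t)⁻¹ := by rw [inv_neg]
  rw [this, mul_assoc]

theorem stN_eq_mul (r : ℕ) (t : K) : mk D K (D.stN r t) = mk D K (D.stH r t) * mk D K (D.stN r 1) := by
  rw [mk_stH, mul_assoc]
  have h := stN_inv (D := D) (K := K) r 1
  rw [← h, inv_mul_cancel, mul_one]

/-- The root data in the presented group. -/
def rd (G : Good D) (K : Type u) [Field K] : RData (D.SteinbergGroup K) (Fin D.nroots) (Fin D.rank) where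
  pos r := D.IsPosRoot r
  neg r := ⟨D.neg r, RootWord.neg_lt G r.2⟩
  sim i := ⟨D.simple i, G.simple_lt i.2⟩
  refl i r := ⟨D.reflectRoot i r, G.reflect_lt i.2 r.2⟩
  X r := Xb D K r
  H := Hb D K
  n i := mk D K (D.stN (D.simple i) 1)

section

variable (hD : D ∈ [chevG2, chevB2, chevD4, chevF4, chevE6, chevE7, chevE8])
  (θ : D.SteinbergGroup K →* GL D.Idx K)
  (hθ : ∀ (r : ℕ) (t : K), r < D.nroots → ((θ (D.stGen K r t) : GL D.Idx K) : Matrix D.Idx D.Idx K) = D.x K r t)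

include hD hθ

/-- conjugation by a generator of `H̄` -/
theorem h_conj' {i s : ℕ} (hi : i < D.rank) (hs : s < D.nroots) {c : K} (hc : c ≠ 0) (t : K) :
    mk D K (D.stH (D.simple i) c) * D.stGen K s t * (mk D K (D.stH (D.simple i) c))⁻¹ =
      D.stGen K s (c ^ (D.cartan i s) * t) := by
  rw [StPres.h_conj hD θ hθ i s hi hs c hc t, mul_inv_cancel_right]

theorem h_conj_inv {i s : ℕ} (hi : i < D.rank) (hs : s < D.nroots) {c : K} (hc : c ≠ 0) (t : K) :
    (mk D K (D.stH (D.simple i) c))⁻¹ * D.stGen K s t * mk D K (D.stH (D.simple i) c) =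
      D.stGen K s (c ^ (-(D.cartan i s)) * t) := by
  have h := StPres.h_conj hD θ hθ i s hi hs c hc (c ^ (-(D.cartan i s)) * t)
  rw [← mul_assoc, ← zpow_add₀ hc, add_neg_cancel, zpow_zero, one_mul] at h
  rw [mul_assoc, ← h, inv_mul_cancel_left]

theorem conjH {h : D.SteinbergGroup K} (hh : h ∈ Hb D K) {s : ℕ} (hs : s < D.nroots) {x : D.SteinbergGroup K}
    (hx : x ∈ Xb D K s) : h * x * h⁻¹ ∈ Xb D K s := by
  unfold Hb at hh
  induction hh using Subgroup.closure_induction'' generalizing x with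
  | mem y hy =>
    obtain ⟨i, t, hi, ht, rfl⟩ := hy
    obtain ⟨u, rfl⟩ := hx
    exact ⟨_, (h_conj' hD θ hθ hi hs ht u).symm⟩
  | inv_mem y hy =>
    obtain ⟨i, t, hi, ht, rfl⟩ := hy
    obtain ⟨u, rfl⟩ := hx
    rw [inv_inv]
    exact ⟨_, (h_conj_inv hD θ hθ hi hs ht u).symm⟩
  | one => simpa using hx
  | mul a b _ _ ha hb =>
    have := ha (hb hx)
    have e : a * b * x * (a * b)⁻¹ = a * (b * x * b⁻¹) * a⁻¹ := by group
    rw [e]; exact this

theorem conjn {i s : ℕ} (hi : i < D.rank) (hs : s < D.nroots) {x : D.SteinbergGroup K}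
    (hx : x ∈ Xb D K s) :
    mk D K (D.stN (D.simple i) 1) * x * (mk D K (D.stN (D.simple i) 1))⁻¹ ∈ Xb D K (D.reflectRoot i s) := by
  obtain ⟨t, rfl⟩ := hx
  obtain ⟨η, _, h⟩ := StPres.n_conj hD θ hθ i s hi hs
  refine ⟨(η : K) * t, ?_⟩
  rw [h t, mul_inv_cancel_right]

/-- `n̄_q h̄_p(c) n̄_q⁻¹ ∈ H̄` -/
theorem conjnH_gen {i j : ℕ} (hi : i < D.rank) (hj : j < D.rank) {c : K} (hc : c ≠ 0) :
    mk D K (D.stN (D.simple j) 1) * mk D K (D.stH (D.simple i) c) * (mk D K (D.stN (D.simple j) 1))⁻¹ ∈ Hb D K := by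
  have G := RootComb.good_of_mem hD
  set h := mk D K (D.stH (D.simple i) c) with hh
  set n := mk D K (D.stN (D.simple j) 1) with hn
  set d : K := c ^ (D.cartan i (D.simple j)) with hd
  have hd0 : d ≠ 0 := zpow_ne_zero _ hc
  have hsj := G.simple_lt hj
  -- h n h⁻¹ = n̄_q(d)
  have h1 : h * n * h⁻¹ = mk D K (D.stN (D.simple j) d) := by
    rw [hn, mk_stN, mk_stN]
    have e : h * (D.stGen K (D.simple j) 1 * D.stGen K (D.neg (D.simple j)) (-1⁻¹) * D.stGen K (D.simple j) 1) * h⁻¹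
        = (h * D.stGen K (D.simple j) 1 * h⁻¹) * (h * D.stGen K (D.neg (D.simple j)) (-1⁻¹) * h⁻¹) *
          (h * D.stGen K (D.simple j) 1 * h⁻¹) := by group
    rw [e, h_conj' hD θ hθ hi hsj hc, h_conj' hD θ hθ hi (RootWord.neg_lt G hsj) hc, G.cartan_neg hi hsj, ← hd,
      mul_one, zpow_neg, ← hd, inv_one, mul_neg, mul_one]
  -- n̄_q(d) = h̄_q(d) n
  rw [stN_eq_mul, ← hn] at h1
  have h2 : n * h * n⁻¹ = (mk D K (D.stH (D.simple j) d))⁻¹ * h := by
    have h3 : h * n = mk D K (D.stH (D.simple j) d) * n * h := by rw [← h1]; group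
    have h4 : n * h = (mk D K (D.stH (D.simple j) d))⁻¹ * (h * n) := by rw [h3]; group
    rw [h4]; group
  rw [h2]
  exact mul_mem (inv_mem (hb_mem hj hd0)) (hb_mem hi hc)

theorem conjnH {j : ℕ} (hj : j < D.rank) {h : D.SteinbergGroup K} (hh : h ∈ Hb D K) :
    mk D K (D.stN (D.simple j) 1) * h * (mk D K (D.stN (D.simple j) 1))⁻¹ ∈ Hb D K := by
  have hle : Hb D K ≤ (Hb D K).comap (MulAut.conj (mk D K (D.stN (D.simple j) 1))).toMonoidHom := by
    conv_lhs => unfold Hb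
    rw [Subgroup.closure_le]
    rintro _ ⟨i, t, hi, ht, rfl⟩
    exact conjnH_gen hD θ hθ hi hj ht
  exact hle hh

/-- The matrices of `Ū` are unitriangular, those of `H̄` are diagonal. -/
theorem theta_H {h : D.SteinbergGroup K} (hh : h ∈ Hb D K) : θ h ∈ diagSub D.Idx K := by
  have G := RootComb.good_of_mem hD
  obtain ⟨m0, T⟩ := St.TabAll.exists_tab hD
  have hle : Hb D K ≤ (diagSub D.Idx K).comap θ := by
    unfold Hb
    rw [Subgroup.closure_le]
    rintro _ ⟨i, t, hi, ht, rfl⟩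
    have h1 := Cfsg.Agent.S1033.result (F := K) D hD i hi t ht
    rw [← theta_stH θ hθ T.toWf (G.simple_lt hi) t] at h1
    exact mem_diagSub'.2 ⟨_, h1⟩
  exact hle hh

theorem theta_U {G : Good D} {u : D.SteinbergGroup K} (hu : u ∈ (rd G K).U) : θ u ∈ loUni D K := by
  have hle : (rd G K).U ≤ (loUni D K).comap θ := by
    refine iSup₂_le fun r hr => ?_
    rintro _ ⟨t, rfl⟩
    exact mem_loUni_of_pos hD hr (hθ r t r.2)
  exact hle hu

theorem theta_B {G : Good D} {u : D.SteinbergGroup K} (hu : u ∈ (rd G K).B) : θ u ∈ loTri D K := by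
  have hle : (rd G K).B ≤ (loTri D K).comap θ := by
    refine sup_le ?_ ?_
    · intro u hu
      exact uni_le_tri _ _ (theta_U hD θ hθ hu)
    · intro h hh
      exact diagSub_le_tri _ (theta_H hD θ hθ hh)
  exact hle hu

theorem not_le {G : Good D} (r : Fin D.nroots) (hr : ¬ D.IsPosRoot r) :
    ¬ (Xb D K r).map θ ≤ ((rd G K).B).map θ := by
  intro hle
  obtain ⟨m0, T⟩ := St.TabAll.exists_tab hD
  obtain ⟨i, hi⟩ := T.coroot_ne (K := K) r.2
  have h1 : θ (D.stGen K r 1) ∈ ((rd G K).B).map θ := hle ⟨_, stGen_mem_Xb r 1, rfl⟩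
  obtain ⟨b, hb, hbe⟩ := h1
  have h2 : θ (D.stGen K r 1) ∈ loTri D K := by rw [← hbe]; exact theta_B hD θ hθ hb
  rw [mem_loTri, hθ r 1 r.2] at h2
  have hn : D.IsNegRoot r := (RootWord.isNegRoot_iff_not G r.2).2 hr
  have hnlt : (r : ℕ) < D.nroots / 2 := G.isNegRoot_iff.1 hn
  have hneg : D.neg r = D.nroots - 1 - r := G.neg_eq r.2
  have hev := G.nroots_eq
  have h3 := h2 (Sum.inl i) (Sum.inr ⟨D.neg r, RootWord.neg_lt G r.2⟩) (by
    rw [key_inl, key_inr]
    have h4 : ¬ ((⟨D.neg r, RootWord.neg_lt G r.2⟩ : Fin D.nroots).val < D.nroots / 2) := by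
      show ¬ (D.neg r < D.nroots / 2)
      omega
    rw [if_neg h4]
    show D.nroots / 2 + i.val < D.neg r + D.rank
    have := i.2
    omega)
  rw [x_inl_neg r.2 1 i ⟨D.neg r, RootWord.neg_lt G r.2⟩ rfl (by
    show D.neg r ≠ r
    exact RootWord.neg_ne G r.2), mul_one] at h3
  exact hi h3

theorem axioms_rd (G : Good D) : (rd G K).Axioms where
  refl_refl i r := Fin.ext (G.reflect_reflect i.2 r.2)
  refl_sim i := Fin.ext (G.reflect_simple i.2)
  refl_pos i r hr hri := G.reflect_pos i.2 hr (fun h => hri (Fin.ext h))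
  refl_neg i r := Fin.ext (G.reflect_neg i.2 r.2)
  pos_sim i := G.simple_pos i.2
  pos_neg r := by
    show D.IsPosRoot (D.neg r) ↔ ¬ D.IsPosRoot r
    rw [RootWord.isPosRoot_neg G r.2, RootWord.isNegRoot_iff_not G r.2]
  conjH h hh r x hx := conjH hD θ hθ hh r.2 hx
  conjn i r x hx := conjn hD θ hθ i.2 r.2 hx
  conjnH i h hh := conjnH hD θ hθ i.2 hh
  nn i := by
    show mk D K (D.stN (D.simple i) 1) * mk D K (D.stN (D.simple i) 1) ∈ Hb D K
    have h1 := stN_inv (D := D) (K := K) (D.simple i) (-1)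
    rw [neg_neg] at h1
    have h2 : mk D K (D.stN (D.simple i) 1) * mk D K (D.stN (D.simple i) 1) =
        (mk D K (D.stH (D.simple i) (-1)))⁻¹ := by
      rw [← h1, mk_stH]; group
    rw [h2]
    exact inv_mem (hb_mem i.2 (neg_ne_zero.2 one_ne_zero))
  nmem i := by
    show mk D K (D.stN (D.simple i) 1) ∈ Xb D K (D.simple i) ⊔ Xb D K (D.neg (D.simple i)) ⊔ Hb D K
    rw [mk_stN]
    have h1 : Xb D K (D.simple i) ≤ Xb D K (D.simple i) ⊔ Xb D K (D.neg (D.simple i)) ⊔ Hb D K :=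
      le_sup_left.trans le_sup_left
    have h2 : Xb D K (D.neg (D.simple i)) ≤ Xb D K (D.simple i) ⊔ Xb D K (D.neg (D.simple i)) ⊔ Hb D K :=
      le_sup_right.trans le_sup_left
    exact mul_mem (mul_mem (h1 (stGen_mem_Xb _ _)) (h2 (stGen_mem_Xb _ _))) (h1 (stGen_mem_Xb _ _))
  Xneg i x hx := by
    obtain ⟨t, rfl⟩ := hx
    by_cases ht : t = 0
    · left
      rw [ht]
      exact stGen_zero _
    right
    have ht' : t⁻¹ ≠ 0 := inv_ne_zero ht
    -- x̄_{-p}(t) = x̄_p(t⁻¹) n̄_p(-t⁻¹) x̄_p(t⁻¹)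
    have e1 : D.stGen K (D.neg (D.simple i)) t =
        D.stGen K (D.simple i) t⁻¹ * mk D K (D.stN (D.simple i) (-t⁻¹)) * D.stGen K (D.simple i) t⁻¹ := by
      rw [mk_stN]
      have e2 : -(-t⁻¹)⁻¹ = t := by rw [inv_neg, neg_neg, inv_inv]
      rw [e2]
      have e3 : D.stGen K (D.simple i) (-t⁻¹) = (D.stGen K (D.simple i) t⁻¹)⁻¹ := (stGen_inv _ _).symm
      rw [e3]; group
    refine ⟨D.stGen K (D.simple i) t⁻¹, stGen_mem_Xb _ _,
      (mk D K (D.stN (D.simple i) 1))⁻¹ * mk D K (D.stH (D.simple i) (-t⁻¹)) * mk D K (D.stN (D.simple i) 1), ?_,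
      D.stGen K (D.simple i) t⁻¹, stGen_mem_Xb _ _, ?_⟩
    · have hk : mk D K (D.stH (D.simple i) (-t⁻¹)) ∈ Hb D K := hb_mem i.2 (neg_ne_zero.2 ht')
      -- (n⁻¹ h n) ∈ H from n h n⁻¹ ∈ H and n² ∈ H
      have hn2 : mk D K (D.stN (D.simple i) 1) * mk D K (D.stN (D.simple i) 1) ∈ Hb D K := by
        have h1 := stN_inv (D := D) (K := K) (D.simple i) (-1)
        rw [neg_neg] at h1
        have h2 : mk D K (D.stN (D.simple i) 1) * mk D K (D.stN (D.simple i) 1) =
            (mk D K (D.stH (D.simple i) (-1)))⁻¹ := by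
          rw [← h1, mk_stH]; group
        rw [h2]
        exact inv_mem (hb_mem i.2 (neg_ne_zero.2 one_ne_zero))
      have h3 := conjnH hD θ hθ i.2 hk
      have h4 := mul_mem (mul_mem (inv_mem hn2) h3) hn2
      have e : (mk D K (D.stN (D.simple i) 1) * mk D K (D.stN (D.simple i) 1))⁻¹ *
          (mk D K (D.stN (D.simple i) 1) * mk D K (D.stH (D.simple i) (-t⁻¹)) * (mk D K (D.stN (D.simple i) 1))⁻¹) *
          (mk D K (D.stN (D.simple i) 1) * mk D K (D.stN (D.simple i) 1)) =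
          (mk D K (D.stN (D.simple i) 1))⁻¹ * mk D K (D.stH (D.simple i) (-t⁻¹)) * mk D K (D.stN (D.simple i) 1) := by
        group
      rw [e] at h4
      exact h4
    · show D.stGen K (D.neg (D.simple i)) t = D.stGen K (D.simple i) t⁻¹ *
        (mk D K (D.stN (D.simple i) 1) * ((mk D K (D.stN (D.simple i) 1))⁻¹ *
          mk D K (D.stH (D.simple i) (-t⁻¹)) * mk D K (D.stN (D.simple i) 1))) * D.stGen K (D.simple i) t⁻¹
      rw [e1, stN_eq_mul]; group
  Unorm i x hx u hu := by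
    obtain ⟨m0, T⟩ := St.TabAll.exists_tab hD
    obtain ⟨t, rfl⟩ := hx
    have hle : (rd G K).Ui i ≤ ((rd G K).Ui i).comap
        (MulAut.conj (D.stGen K (D.simple i) t)).toMonoidHom := by
      refine iSup₂_le fun s hs => ?_
      rintro _ ⟨u, rfl⟩
      show D.stGen K (D.simple i) t * D.stGen K s u * (D.stGen K (D.simple i) t)⁻¹ ∈ (rd G K).Ui i
      have hsi : (s : ℕ) ≠ D.simple i := fun h => hs.2 (Fin.ext h)
      have hsn : (s : ℕ) ≠ D.neg (D.simple i) := by
        intro h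
        have h1 : D.IsPosRoot s := hs.1
        rw [h, RootWord.isPosRoot_neg G (G.simple_lt i.2), RootWord.isNegRoot_iff_not G (G.simple_lt i.2)] at h1
        exact h1 (G.simple_pos i.2)
      have h1 := stGen_conj (K := K) (G.simple_lt i.2) s.2 hsi hsn (-t) u
      have e1 : D.stGen K (D.simple i) (-t) = (D.stGen K (D.simple i) t)⁻¹ := (stGen_inv _ _).symm
      rw [e1, inv_inv] at h1
      rw [h1]
      have hmem : ∀ c : Fin D.nroots, D.IsPosRoot c → (c : ℕ) ≠ D.simple i → ∀ v : K,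
          D.stGen K c v ∈ (rd G K).Ui i := by
        intro c hc hci v
        have : (rd G K).X c ≤ (rd G K).Ui i :=
          le_iSup₂_of_le c ⟨hc, fun h => hci (congrArg Fin.val h)⟩ le_rfl
        exact this ⟨v, rfl⟩
      refine mul_mem (hmem s hs.1 hsi u) (word_mem _ ?_)
      rintro ⟨c, v⟩ hcv
      change (c, v) ∈ (D.commTerms (D.simple i) s).map fun c => (c.1, (c.2.1 : K) * (-(-t)) ^ c.2.2.1 * u ^ c.2.2.2)
        at hcv
      obtain ⟨c', hc', e'⟩ := List.mem_map.1 hcv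
      obtain ⟨h2, h3, h4, h5⟩ := commTerms_spec T.toWf (G.simple_lt i.2) s.2 hc'
      have h6 := h5 _ (T.fun_lin m0)
      have h7 := (T.pos_iff _ (G.simple_lt i.2)).1 (G.simple_pos i.2)
      have h8 := (T.pos_iff _ s.2).1 hs.1
      have h9 : (1 : ℤ) * lin D m0 (D.simple i) ≤ c'.2.2.1 * lin D m0 (D.simple i) :=
        mul_le_mul_of_nonneg_right (by exact_mod_cast h3) h7.le
      have h10 : (1 : ℤ) * lin D m0 s ≤ c'.2.2.2 * lin D m0 s :=
        mul_le_mul_of_nonneg_right (by exact_mod_cast h4) h8.le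
      have e'' : c'.1 = c := congrArg Prod.fst e'
      show D.stGen K c v ∈ (rd G K).Ui i
      rw [← e'']
      refine hmem ⟨c'.1, h2⟩ ?_ ?_ v
      · show D.IsPosRoot c'.1
        rw [T.pos_iff _ h2, h6]
        omega
      · show c'.1 ≠ D.simple i
        intro h
        rw [h] at h6
        omega
    exact hle hu
  notle r hr hle := not_le hD θ hθ (G := G) r hr (Subgroup.map_mono hle)

/-- `B̄` and the `n̄_p` generate. -/
theorem generates (G : Good D) : (rd G K).B ⊔ Subgroup.closure (Set.range (rd G K).n) = ⊤ := by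
  have A := axioms_rd hD θ hθ G
  rw [eq_top_iff]
  intro g _
  refine mem_of_gens _ ?_ g
  have hn : ∀ i : ℕ, i < D.rank → mk D K (D.stN (D.simple i) 1) ∈
      (rd G K).B ⊔ Subgroup.closure (Set.range (rd G K).n) := by
    intro i hi
    exact (le_sup_right : _ ≤ (rd G K).B ⊔ Subgroup.closure (Set.range (rd G K).n))
      (Subgroup.subset_closure ⟨⟨i, hi⟩, rfl⟩)
  refine RootWord.root_induction G (P := fun r => ∀ t : K, D.stGen K r t ∈
    (rd G K).B ⊔ Subgroup.closure (Set.range (rd G K).n)) ?_ ?_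
  · intro i hi t
    have h1 : (rd G K).X ⟨D.simple i, G.simple_lt hi⟩ ≤ (rd G K).B :=
      RData.Axioms.X_le_B A (G.simple_pos hi)
    exact (le_sup_left : _ ≤ (rd G K).B ⊔ Subgroup.closure (Set.range (rd G K).n)) (h1 ⟨t, rfl⟩)
  · intro i hi r hr ih t
    have h1 := conjn hD θ hθ hi (G.reflect_lt hi hr) (stGen_mem_Xb (D := D) (D.reflectRoot i r) t)
    rw [G.reflect_reflect hi hr] at h1
    obtain ⟨u, hu⟩ := h1
    have h2 : D.stGen K (D.reflectRoot i r) t =
        (mk D K (D.stN (D.simple i) 1))⁻¹ * D.stGen K r u * mk D K (D.stN (D.simple i) 1) := by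
      rw [hu]; group
    rw [h2]
    exact mul_mem (mul_mem (inv_mem (hn i hi)) (ih u)) (hn i hi)

/-- The kernel of `θ` lies in `H̄`. -/
theorem ker_le : θ.ker ≤ Hb D K := by
  have G := RootComb.good_of_mem hD
  have A := axioms_rd hD θ hθ G
  have h1 : θ.ker ≤ (rd G K).B := A.ker_le_B (generates hD θ hθ G) θ fun r hr => not_le hD θ hθ r hr
  intro g hg
  obtain ⟨u, hu, h, hh, rfl⟩ := A.mem_B_iff (h1 hg)
  rw [MonoidHom.mem_ker, map_mul] at hg
  have hu1 := theta_U hD θ hθ hu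
  have hh1 := theta_H hD θ hθ (h := h) hh
  have hu2 : θ u ∈ diagSub D.Idx K := by
    have : θ u = (θ h)⁻¹ := eq_inv_of_mul_eq_one_left hg
    rw [this]; exact inv_mem hh1
  have hu3 : θ u = 1 := eq_one_of_uni_of_diag (key_injective' D) hu1 hu2
  have hu4 : u ∈ Subgroup.closure {x | ∃ (r : ℕ) (t : K), D.IsPosRoot r ∧ x = D.stGen K r t} := by
    have : (rd G K).U ≤ Subgroup.closure {x | ∃ (r : ℕ) (t : K), D.IsPosRoot r ∧ x = D.stGen K r t} := by
      refine iSup₂_le fun r hr => ?_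
      rintro _ ⟨t, rfl⟩
      exact Subgroup.subset_closure ⟨r, t, hr, rfl⟩
    exact this hu
  rw [StPres.theta_inj_pos hD θ hθ hu4 hu3, one_mul]
  exact hh

end

end Cfsg.Agent.ChevalleyStructure.SteinbergKer
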