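import Cfsg.Agent.ChevalleyStructure.StTorusTables
import Cfsg.Agent.S1077
import Cfsg.Agent.S1097
import Cfsg.Agent.S1032
import Cfsg.Agent.S1033

/-!
The centre of the group presented by Steinberg's relations as the image of a subgroup of `(Kˣ)^rank`, for the
types G₂, F₄, E₆, E₇, E₈.
-/

set_option autoImplicit false

namespace Cfsg.Agent.ChevalleyStructure.StCenter

open Cfsg.Lie Cfsg.Agent.ChevalleyStructure.StBasic Cfsg.Agent.ChevalleyStructure.StTorus
  Cfsg.Agent.ChevalleyStructure.StTorusTables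

theorem data (D : ChevalleyDatum) (hD : D ∈ [chevG2, chevF4, chevE6, chevE7, chevE8]) :
    (∀ i < D.rank, D.simple i < D.nroots) ∧
    (∀ i j, i < D.rank → j < D.rank → i ≠ j → GoodSimple D i ∨ GoodSimple D j) ∧
    D ∈ [chevG2, chevB2, chevD4, chevF4, chevE6, chevE7, chevE8] := by
  simp only [List.mem_cons, List.not_mem_nil, or_false] at hD
  rcases hD with rfl | rfl | rfl | rfl | rfl
  · exact ⟨simple_ltG2, goodG2, by simp⟩
  · exact ⟨simple_ltF4, goodF4, by simp⟩
  · exact ⟨simple_ltE6, goodE6, by simp⟩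
  · exact ⟨simple_ltE7, goodE7, by simp⟩
  · exact ⟨simple_ltE8, goodE8, by simp⟩

/-- There is a homomorphism `Φ : (Kˣ)^rank → Ḡ`, `t ↦ ∏ h̄_{p_i}(t_i)`, whose image contains the centre; `Φ t` is
central iff `∏ t_i ^ A_{p_i, s} = 1` for all roots `s`; and every homomorphism to a Chevalley group … -/
theorem exists_Phi (K : Type*) [Field K] (D : ChevalleyDatum)
    (hD : D ∈ [chevG2, chevF4, chevE6, chevE7, chevE8]) :
    ∃ Φ : (Fin D.rank → Kˣ) →* D.SteinbergGroup K,
      (∀ (i : Fin D.rank) (x : Kˣ), Φ (Pi.mulSingle i x) = sth D (D.simple i) (x : K)) ∧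
      Subgroup.center (D.SteinbergGroup K) ≤ Φ.range ∧
      (∀ t, Φ t ∈ Subgroup.center (D.SteinbergGroup K) ↔
        ∀ s < D.nroots, ∏ i : Fin D.rank, t i ^ D.cartan i s = 1) := by
  obtain ⟨hs, hgood, hD7⟩ := data D hD
  obtain ⟨θ, -, hker, hθ⟩ := Cfsg.Agent.S1077.result (K := K) D hD7
  have hconj : ∀ (i s : ℕ), i < D.rank → s < D.nroots → ∀ (c : K), c ≠ 0 → ∀ t : K,
      D.hMat K (D.simple i) c * D.x K s t = D.x K s (c ^ (D.cartan i s) * t) * D.hMat K (D.simple i) c :=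
    fun i s hi hsn c hc t => Cfsg.Agent.S1032.result D hD7 i s hi hsn c hc t
  have hdiag : ∀ (i : ℕ), i < D.rank → ∀ (c : K), c ≠ 0 → D.hMat K (D.simple i) c =
      Matrix.diagonal (Sum.elim (fun _ => (1 : K)) (fun s : Fin D.nroots => c ^ (D.cartan i s))) :=
    fun i hi c hc => Cfsg.Agent.S1033.result D hD7 i hi c hc
  have hcomm := pairwise_commute θ hker hθ hconj hs hgood
  refine ⟨Phi hs hcomm, Phi_mulSingle hs hcomm, ?_, ?_⟩
  · rw [← hker]
    exact (Cfsg.Agent.S1097.result D hD7 θ hθ).trans (closure_le_range_Phi hs hcomm)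
  · intro t
    rw [← hker]
    exact Phi_mem_ker_iff θ hθ hdiag hs hcomm t

end Cfsg.Agent.ChevalleyStructure.StCenter
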