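import Cfsg.Agent.ChevalleyStructure.StBasic
import Cfsg.Prelude.Def_ChevE6
import Cfsg.Prelude.Def_ChevE7
import Cfsg.Prelude.Def_ChevE8

/-!
The presented groups of types E₆ ⊂ E₇ ⊂ E₈: a table-compatible embedding of root indices `ι` induces a homomorphism
`x̄_r(t) ↦ x̄_{ι r}(t)` of presented groups.
-/

set_option autoImplicit false

namespace Cfsg.Agent.ChevalleyStructure.StEmbed

open Cfsg.Lie Cfsg.Agent.ChevalleyStructure.StBasic

/-- The row of the chain table of the small datum, with indices mapped. -/
def rowImg (ι : ℕ → ℕ) (L : List (ℕ × Array (ℕ × ℤ))) : List (ℕ × List (ℕ × ℤ)) :=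
  L.map fun e => (ι e.1, e.2.toList.map fun q => (ι q.1, q.2))

/-- The row of the chain table of the large datum, restricted to indices satisfying `m`. -/
def rowRes (m : ℕ → Bool) (L : List (ℕ × Array (ℕ × ℤ))) : List (ℕ × List (ℕ × ℤ)) :=
  (L.filter fun e => m e.1).map fun e => (e.1, e.2.toList)

theorem find_row (ι : ℕ → ℕ) (m : ℕ → Bool) (L L' : List (ℕ × Array (ℕ × ℤ)))
    (h : rowRes m L' = rowImg ι L) (s : ℕ) (hs : m (ι s) = true)
    (hinj : ∀ e ∈ L, ι e.1 = ι s → e.1 = s) :
    (match L'.find? (fun e : ℕ × Array (ℕ × ℤ) => e.1 = ι s) with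
      | none => ([] : List (ℕ × ℤ)) | some e => e.2.toList) =
      (match L.find? (fun e : ℕ × Array (ℕ × ℤ) => e.1 = s) with
        | none => ([] : List (ℕ × ℤ)) | some e => e.2.toList).map (fun q : ℕ × ℤ => (ι q.1, q.2)) := by
  have h1 : ((rowRes m L').find? (fun e : ℕ × List (ℕ × ℤ) => e.1 = ι s)).map Prod.snd =
      (L'.find? (fun e => e.1 = ι s)).map (fun e => e.2.toList) := by
    unfold rowRes
    rw [List.find?_map, List.find?_filter, Option.map_map]
    congr 1
    congr 1
    funext e
    by_cases he : e.1 = ι s
    · simp [he, hs]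
    · simp [he]
  have h2 : ((rowImg ι L).find? (fun e : ℕ × List (ℕ × ℤ) => e.1 = ι s)).map Prod.snd =
      (L.find? (fun e => e.1 = s)).map (fun e => e.2.toList.map fun q => (ι q.1, q.2)) := by
    unfold rowImg
    rw [List.find?_map, Option.map_map]
    have h3 : L.find? ((fun e : ℕ × List (ℕ × ℤ) => decide (e.1 = ι s)) ∘
        fun e : ℕ × Array (ℕ × ℤ) => (ι e.1, e.2.toList.map fun q => (ι q.1, q.2))) =
        L.find? (fun e => e.1 = s) := by
      clear h h1
      induction L with
      | nil => rfl
      | cons a L ih =>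
        have ih' := ih (fun e he => hinj e (List.mem_cons_of_mem _ he))
        have ha := hinj a List.mem_cons_self
        by_cases hc : a.1 = s
        · rw [List.find?_cons_of_pos (by simp [hc]), List.find?_cons_of_pos (by simp [hc])]
        · have hc' : ¬ ι a.1 = ι s := fun h => hc (ha h)
          rw [List.find?_cons_of_neg (by simp [hc']), List.find?_cons_of_neg (by simp [hc]), ih']
    rw [h3]
    rfl
  rw [h, h2] at h1
  cases h4 : L'.find? (fun e => e.1 = ι s) with
  | none =>
    rw [h4] at h1
    cases h5 : L.find? (fun e => e.1 = s) with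
    | none => rfl
    | some e => rw [h5] at h1; simp at h1
  | some e' =>
    rw [h4] at h1
    cases h5 : L.find? (fun e => e.1 = s) with
    | none => rw [h5] at h1; simp at h1
    | some e =>
      rw [h5] at h1
      simp only [Option.map_some, Option.some.injEq] at h1
      exact h1.symm

/-- The candidate terms of the commutator formula. -/
def cands (D : ChevalleyDatum) (r s : ℕ) : List (Option ℕ × ℤ × ℕ × ℕ) :=
  [ (D.chainRoot r s 1, D.chainM r s 1, 1, 1),
    (D.chainRoot r s 2, D.chainM r s 2, 2, 1),
    (D.chainRoot s r 2, D.chainM s r 2, 1, 2),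
    (D.chainRoot r s 3, D.chainM r s 3, 3, 1),
    (D.chainRoot s r 3, - D.chainM s r 3, 1, 3),
    ((D.chainRoot r s 3).bind fun k => D.chainRoot k s 1,
      ((D.chainRoot r s 1).map fun k => D.chainM k r 2 / 3).getD 0, 3, 2),
    ((D.chainRoot s r 3).bind fun k => D.chainRoot k r 1,
      ((D.chainRoot r s 1).map fun k => -2 * D.chainM k s 2 / 3).getD 0, 2, 3) ]

theorem commTerms_eq (D : ChevalleyDatum) (r s : ℕ) :
    D.commTerms r s = (cands D r s).filterMap fun c => c.1.map fun k => (k, c.2) := rfl

/-- A table-compatible embedding of root indices. -/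
structure Emb (D D' : ChevalleyDatum) (ι : ℕ → ℕ) (m : ℕ → Bool) : Prop where
  lt : ∀ r < D.nroots, ι r < D'.nroots
  mem : ∀ r < D.nroots, m (ι r) = true
  inj : ∀ r < D.nroots, ∀ s < D.nroots, ι r = ι s → r = s
  neg_lt : ∀ r < D.nroots, D.neg r < D.nroots
  neg : ∀ r < D.nroots, D'.neg (ι r) = ι (D.neg r)
  row : ∀ r < D.nroots, rowRes m (D'.chain.getD (ι r) #[]).toList = rowImg ι (D.chain.getD r #[]).toList
  idx : ∀ r < D.nroots, ∀ e ∈ (D.chain.getD r #[]).toList, e.1 < D.nroots ∧ ∀ q ∈ e.2.toList, q.1 < D.nroots

namespace Emb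

variable {D D' : ChevalleyDatum} {ι : ℕ → ℕ} {m : ℕ → Bool} (h : Emb D D' ι m)

include h

theorem chainEntry {r s : ℕ} (hr : r < D.nroots) (hs : s < D.nroots) :
    D'.chainEntry (ι r) (ι s) = (D.chainEntry r s).map (fun q : ℕ × ℤ => (ι q.1, q.2)) :=
  find_row ι m _ _ (h.row r hr) s (h.mem s hs)
    (fun e he hes => h.inj e.1 (h.idx r hr e he).1 s hs hes)

theorem chainEntry_lt {r s : ℕ} (hr : r < D.nroots) : ∀ q ∈ D.chainEntry r s, q.1 < D.nroots := by
  intro q hq
  change q ∈ (match (D.chain.getD r #[]).toList.find? (fun e => e.1 = s) with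
    | none => ([] : List (ℕ × ℤ)) | some e => e.2.toList) at hq
  cases h5 : (D.chain.getD r #[]).toList.find? (fun e => e.1 = s) with
  | none => rw [h5] at hq; simp at hq
  | some e =>
    rw [h5] at hq
    exact (h.idx r hr e (List.mem_of_find?_eq_some h5)).2 q hq

theorem chainRoot {r s : ℕ} (hr : r < D.nroots) (hs : s < D.nroots) (i : ℕ) :
    D'.chainRoot (ι r) (ι s) i = (D.chainRoot r s i).map ι := by
  show ((D'.chainEntry (ι r) (ι s))[i - 1]?).map Prod.fst = (((D.chainEntry r s)[i - 1]?).map Prod.fst).map ι
  rw [h.chainEntry hr hs, List.getElem?_map, Option.map_map, Option.map_map]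
  rfl

theorem chainM {r s : ℕ} (hr : r < D.nroots) (hs : s < D.nroots) (i : ℕ) :
    D'.chainM (ι r) (ι s) i = D.chainM r s i := by
  show (((D'.chainEntry (ι r) (ι s))[i - 1]?).map Prod.snd).getD 0 = (((D.chainEntry r s)[i - 1]?).map Prod.snd).getD 0
  rw [h.chainEntry hr hs, List.getElem?_map, Option.map_map]
  rfl

theorem chainRoot_lt {r s i k : ℕ} (hr : r < D.nroots) (hk : D.chainRoot r s i = some k) : k < D.nroots := by
  change ((D.chainEntry r s)[i - 1]?).map Prod.fst = some k at hk
  rw [Option.map_eq_some_iff] at hk
  obtain ⟨q, hq, rfl⟩ := hk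
  exact h.chainEntry_lt hr q (List.mem_of_getElem? hq)

theorem bind_chainRoot {r s a i : ℕ} (hr : r < D.nroots) (hs : s < D.nroots) (ha : a < D.nroots) :
    (D'.chainRoot (ι r) (ι s) i).bind (fun k => D'.chainRoot k (ι a) 1) =
      ((D.chainRoot r s i).bind fun k => D.chainRoot k a 1).map ι := by
  rw [h.chainRoot hr hs]
  cases hk : D.chainRoot r s i with
  | none => rfl
  | some k => exact h.chainRoot (h.chainRoot_lt hr hk) ha 1

theorem getD_chainM {r s a : ℕ} (hr : r < D.nroots) (hs : s < D.nroots) (ha : a < D.nroots) (f : ℤ → ℤ) :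
    ((D'.chainRoot (ι r) (ι s) 1).map fun k => f (D'.chainM k (ι a) 2)).getD 0 =
      ((D.chainRoot r s 1).map fun k => f (D.chainM k a 2)).getD 0 := by
  rw [h.chainRoot hr hs]
  cases hk : D.chainRoot r s 1 with
  | none => rfl
  | some k =>
    show f (D'.chainM (ι k) (ι a) 2) = f (D.chainM k a 2)
    rw [h.chainM (h.chainRoot_lt hr hk) ha]

theorem commTerms {r s : ℕ} (hr : r < D.nroots) (hs : s < D.nroots) :
    D'.commTerms (ι r) (ι s) = (D.commTerms r s).map (fun c : ℕ × ℤ × ℕ × ℕ => (ι c.1, c.2)) := by
  have key : ∀ L : List (Option ℕ × ℤ × ℕ × ℕ),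
      (L.map fun c => (c.1.map ι, c.2)).filterMap (fun c => c.1.map fun k => (k, c.2)) =
        (L.filterMap fun c => c.1.map fun k => (k, c.2)).map (fun c : ℕ × ℤ × ℕ × ℕ => (ι c.1, c.2)) := by
    intro L
    induction L with
    | nil => rfl
    | cons a L ih =>
      obtain ⟨o, c⟩ := a
      cases o with
      | none => simpa using ih
      | some k => simpa using ih
  rw [commTerms_eq, commTerms_eq, ← key]
  congr 1
  unfold cands
  rw [h.bind_chainRoot hr hs hs, h.bind_chainRoot hs hr hr,
    h.getD_chainM hr hs hr (fun x => x / 3), h.getD_chainM hr hs hs (fun x => -2 * x / 3),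
    h.chainRoot hr hs, h.chainRoot hr hs, h.chainRoot hs hr, h.chainRoot hr hs, h.chainRoot hs hr,
    h.chainM hr hs, h.chainM hr hs, h.chainM hs hr, h.chainM hr hs, h.chainM hs hr]
  rfl

theorem commTerms_lt {r s : ℕ} (hr : r < D.nroots) (hs : s < D.nroots) :
    ∀ c ∈ D.commTerms r s, c.1 < D.nroots := by
  intro c hc
  rw [commTerms_eq, List.mem_filterMap] at hc
  obtain ⟨a, ha, hac⟩ := hc
  rw [Option.map_eq_some_iff] at hac
  obtain ⟨k, hk, rfl⟩ := hac
  show k < D.nroots
  unfold cands at ha
  simp only [List.mem_cons, List.not_mem_nil, or_false] at ha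
  rcases ha with rfl | rfl | rfl | rfl | rfl | rfl | rfl
  · exact h.chainRoot_lt hr hk
  · exact h.chainRoot_lt hr hk
  · exact h.chainRoot_lt hs hk
  · exact h.chainRoot_lt hr hk
  · exact h.chainRoot_lt hs hk
  · rw [Option.bind_eq_some_iff] at hk
    obtain ⟨k', hk', hk⟩ := hk
    exact h.chainRoot_lt (h.chainRoot_lt hr hk') hk
  · rw [Option.bind_eq_some_iff] at hk
    obtain ⟨k', hk', hk⟩ := hk
    exact h.chainRoot_lt (h.chainRoot_lt hs hk') hk

end Emb

section Hom

variable {K : Type*} [Field K] {D D' : ChevalleyDatum} {ι : ℕ → ℕ} {m : ℕ → Bool}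

/-- The images of the generators. -/
def gen (D D' : ChevalleyDatum) (ι : ℕ → ℕ) (K : Type*) [Field K] (r : ℕ) (t : K) : D'.SteinbergGroup K :=
  if r < D.nroots then D'.stGen K (ι r) t else 1

theorem gen_of_lt {r : ℕ} (hr : r < D.nroots) (t : K) : gen D D' ι K r t = D'.stGen K (ι r) t := if_pos hr

theorem gen_of_not_lt {r : ℕ} (hr : ¬ r < D.nroots) (t : K) : gen D D' ι K r t = 1 := if_neg hr

theorem prod_gen (w : List (ℕ × K)) (hw : ∀ p ∈ w, p.1 < D.nroots) :
    (w.map fun p => gen D D' ι K p.1 p.2).prod = wd D' (w.map fun p => (ι p.1, p.2)) := by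
  induction w with
  | nil => rw [List.map_nil, List.map_nil, wd_nil, List.prod_nil]
  | cons p w ih =>
    rw [List.map_cons, List.map_cons, List.prod_cons, wd_cons, ih (fun q hq => hw q (List.mem_cons_of_mem _ hq)),
      gen_of_lt (hw p List.mem_cons_self)]

theorem map_hWord (h : Emb D D' ι m) {r : ℕ} (hr : r < D.nroots) (t : K) :
    (D.hWord r t).map (fun p => (ι p.1, p.2)) = D'.hWord (ι r) t := by
  show [(ι r, t), (ι (D.neg r), -t⁻¹), (ι r, t), (ι r, -1), (ι (D.neg r), -(-1)⁻¹), (ι r, -1)] =
    [(ι r, t), (D'.neg (ι r), -t⁻¹), (ι r, t), (ι r, -1), (D'.neg (ι r), -(-1)⁻¹), (ι r, -1)]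
  rw [h.neg r hr]

theorem hWord_lt (h : Emb D D' ι m) {r : ℕ} (hr : r < D.nroots) (t : K) : ∀ p ∈ D.hWord r t, p.1 < D.nroots := by
  intro p hp
  change p ∈ [(r, t), (D.neg r, -t⁻¹), (r, t), (r, -1), (D.neg r, -(-1)⁻¹), (r, -1)] at hp
  simp only [List.mem_cons, List.not_mem_nil, or_false] at hp
  rcases hp with rfl | rfl | rfl | rfl | rfl | rfl
  · exact hr
  · exact h.neg_lt r hr
  · exact hr
  · exact hr
  · exact h.neg_lt r hr
  · exact hr

theorem prod_hWord (h : Emb D D' ι m) {r : ℕ} (hr : r < D.nroots) (t : K) :
    ((D.hWord r t).map fun p => gen D D' ι K p.1 p.2).prod = sth D' (ι r) t := by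
  rw [prod_gen _ (hWord_lt h hr t), map_hWord h hr]; rfl

/-- The homomorphism `x̄_r(t) ↦ x̄_{ι r}(t)` of presented groups. -/
noncomputable def hom (h : Emb D D' ι m) (K : Type*) [Field K] : D.SteinbergGroup K →* D'.SteinbergGroup K :=
  lift D (gen D D' ι K) (fun _ t hr => gen_of_not_lt hr t)
    (fun r t₁ t₂ hr => by rw [gen_of_lt hr, gen_of_lt hr, gen_of_lt hr, stGen_mul])
    (fun r s t u hr hs hne hneg => by
      rw [gen_of_lt hr, gen_of_lt hs, stGen_comm D' (h.lt r hr) (h.lt s hs) (fun e => hne (h.inj s hs r hr e))
        (fun e => hneg (h.inj s hs _ (h.neg_lt r hr) (e.trans (h.neg r hr)))), prod_gen]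
      · congr 1
        show List.map _ (D'.commTerms (ι r) (ι s)) = List.map _ (List.map _ (D.commTerms r s))
        rw [h.commTerms hr hs, List.map_map, List.map_map]
        rfl
      · intro p hp
        change p ∈ List.map _ (D.commTerms r s) at hp
        rw [List.mem_map] at hp
        obtain ⟨c, hc, rfl⟩ := hp
        exact h.commTerms_lt hr hs c hc)
    (fun r t₁ t₂ hr h₁ h₂ => by
      rw [prod_hWord h hr, prod_hWord h hr, prod_hWord h hr, sth_mul D' (h.lt r hr) h₁ h₂])

theorem hom_stGen (h : Emb D D' ι m) {r : ℕ} (hr : r < D.nroots) (t : K) :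
    hom h K (D.stGen K r t) = D'.stGen K (ι r) t := by
  unfold hom
  rw [lift_stGen, gen_of_lt hr]

theorem hom_sth (h : Emb D D' ι m) {r : ℕ} (hr : r < D.nroots) (t : K) :
    hom h K (sth D r t) = sth D' (ι r) t := by
  show hom h K (wd D (D.hWord r t)) = wd D' (D'.hWord (ι r) t)
  rw [map_wd, ← map_hWord h hr, ← prod_gen _ (hWord_lt h hr t)]
  congr 1
  apply List.map_congr_left
  intro p hp
  rw [hom_stGen h (hWord_lt h hr t p hp), gen_of_lt (hWord_lt h hr t p hp)]

end Hom

/-- Indices of the roots of E₆ in E₇. -/
def l67 : List ℕ := [6, 10, 13, 15, 16, 19, 21, 22, 24, 25, 26, 28, 29, 30, 31, 32, 35, 37, 38, 40, 41, 42, 44, 45, 46, 47, 49, 50, 51, 52, 54, 55, 56, 58, 59, 61, 64, 66, 67, 69, 70, 71, 73, 74, 75, 76, 78, 79, 80, 81, 83, 84, 85, 87, 88, 90, 93, 94, 95, 96, 97, 99, 100, 101, 103, 104, 106, 109, 110, 112, 115, 119]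

/-- Indices of the roots of E₇ in E₈. -/
def l78 : List ℕ := [13, 20, 25, 29, 32, 34, 35, 39, 42, 44, 45, 48, 50, 51, 53, 54, 55, 58, 60, 61, 63, 64, 65, 67, 68, 69, 70, 72, 73, 74, 75, 76, 77, 80, 82, 83, 85, 86, 87, 89, 90, 91, 92, 94, 95, 96, 97, 98, 100, 101, 102, 103, 104, 106, 107, 108, 109, 111, 112, 113, 115, 116, 118, 121, 123, 124, 126, 127, 128, 130, 131, 132, 133, 135, 136, 137, 138, 139, 141, 142, 143, 144, 145, 147, 148, 149, 150, 152, 153, 154, 156, 157, 159, 162, 163, 164, 165, 166, 167, 169, 170, 171, 172, 174, 175, 176, 178, 179, 181, 184, 185, 186, 188, 189, 191, 194, 195, 197, 200, 204, 205, 207, 210, 214, 219, 226]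

/-- The roots of E₇ in the subsystem E₆. -/
def b67 : List Bool := [false, false, false, false, false, false, true, false, false, false, true, false, false, true, false, true, true, false, false, true, false, true, true, false, true, true, true, false, true, true, true, true, true, false, false, true, false, true, true, false, true, true, true, false, true, true, true, true, false, true, true, true, true, false, true, true, true, false, true, true, false, true, false, false, true, false, true, true, false, true, true, true, false, true, true, true, true, false, true, true, true, true, false, true, true, true, false, true, true, false, true, false, false, true, true, true, true, true, false, true, true, true, false, true, true, false, true, false, false, true, true, false, true, false, false, true, false, false, false, true, false, false, false, false, false, false]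

/-- The roots of E₈ in the subsystem E₇. -/
def b78 : List Bool := [false, false, false, false, false, false, false, false, false, false, false, false, false, true, false, false, false, false, false, false, true, false, false, false, false, true, false, false, false, true, false, false, true, false, true, true, false, false, false, true, false, false, true, false, true, true, false, false, true, false, true, true, false, true, true, true, false, false, true, false, true, true, false, true, true, true, false, true, true, true, true, false, true, true, true, true, true, true, false, false, true, false, true, true, false, true, true, true, false, true, true, true, true, false, true, true, true, true, true, false, true, true, true, true, true, false, true, true, true, true, false, true, true, true, false, true, true, false, true, false, false, true, false, true, true, false, true, true, true, false, true, true, true, true, false, true, true, true, true, true, false, true, true, true, true, true, false, true, true, true, true, false, true, true, true, false,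 true, true, false, true, false, false, true, true, true, true, true, true, false, true, true, true, true, false, true, true, true, false, true, true, false, true, false, false, true, true, true, false, true, true, false, true, false, false, true, true, false, true, false, false, true, false, false, false, true, true, false, true, false, false, true, false, false, false, true, false, false, false, false, true, false, false, false, false, false, false, true, false, false, false, false, false, false, false, false, false, false, false, false, false]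

/-- E₆ → E₇ on indices. -/
def ι67 (r : ℕ) : ℕ := l67.getD r 0

/-- E₇ → E₈ on indices. -/
def ι78 (r : ℕ) : ℕ := l78.getD r 0

/-- membership of a root of E₇ in the subsystem E₆. -/
def m67 (r : ℕ) : Bool := b67.getD r false

/-- membership of a root of E₈ in the subsystem E₇. -/
def m78 (r : ℕ) : Bool := b78.getD r false

theorem emb67 : Emb chevE6 chevE7 ι67 m67 where
  lt := by decide +kernel
  mem := by decide +kernel
  inj := by decide +kernel
  neg_lt := by decide +kernel
  neg := by decide +kernel
  row := by decide +kernel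
  idx := by decide +kernel

theorem emb78 : Emb chevE7 chevE8 ι78 m78 where
  lt := by decide +kernel
  mem := by decide +kernel
  inj := by decide +kernel
  neg_lt := by decide +kernel
  neg := by decide +kernel
  row := by decide +kernel
  idx := by decide +kernel

theorem simple67 : ∀ i < 6, ι67 (chevE6.simple i) = chevE7.simple i := by decide +kernel

theorem simple78 : ∀ i < 7, ι78 (chevE7.simple i) = chevE8.simple i := by decide +kernel

end Cfsg.Agent.ChevalleyStructure.StEmbed
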