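import Cfsg.Agent.ChevalleyStructure.StBasic
import Cfsg.Prelude.Def_LieTypes

/-!
The subgroup `H̄` generated by the elements `h̄_p(t)` (p fundamental) in the group presented by Steinberg's
relations, given a homomorphism `θ` to the Chevalley group with `x̄_r(t) ↦ x_r(t)` whose kernel is the centre:
`H̄` is abelian, the image of `(Kˣ)^rank`, and the centre is described by the columns of the Cartan matrix.
-/

set_option autoImplicit false

namespace Cfsg.Agent.ChevalleyStructure.StTorus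

open Cfsg.Lie Cfsg.Agent.ChevalleyStructure.StBasic

/-- `x̄_q(v)` is a commutator: table data. -/
def GoodAt (D : ChevalleyDatum) (q a b : ℕ) (c : ℤ) : Prop :=
  a < D.nroots ∧ b < D.nroots ∧ b ≠ a ∧ b ≠ D.neg a ∧ D.commTerms a b = [(q, c, 1, 1)] ∧ c * c = 1 ∧
    ∀ i < D.rank, D.cartan i a + D.cartan i b = D.cartan i q

instance decidableGoodAt (D : ChevalleyDatum) (q a b : ℕ) (c : ℤ) : Decidable (GoodAt D q a b c) :=
  inferInstanceAs (Decidable (_ ∧ _))

/-- Both `p_j` and `-p_j` are good. -/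
def GoodSimple (D : ChevalleyDatum) (j : ℕ) : Prop :=
  D.simple j < D.nroots ∧
  (∃ a b c, GoodAt D (D.simple j) a b c) ∧ (∃ a b c, GoodAt D (D.neg (D.simple j)) a b c) ∧
    ∀ i < D.rank, D.cartan i (D.neg (D.simple j)) = - D.cartan i (D.simple j)

section Group

variable {G : Type*} [Group G]

theorem comm_mul_central {x y z w : G} (hz : z ∈ Subgroup.center G) (hw : w ∈ Subgroup.center G) :
    (x * z)⁻¹ * (y * w)⁻¹ * (x * z) * (y * w) = x⁻¹ * y⁻¹ * x * y := by
  rw [Subgroup.mem_center_iff] at hz hw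
  have h1 : (x * z)⁻¹ = x⁻¹ * z⁻¹ := by rw [hz x, mul_inv_rev]
  have h2 : (y * w)⁻¹ = y⁻¹ * w⁻¹ := by rw [hw y, mul_inv_rev]
  have hz' : ∀ g, g * z⁻¹ = z⁻¹ * g := fun g => by
    have := hz g
    rw [eq_inv_mul_iff_mul_eq, ← mul_assoc, ← this, mul_assoc, mul_inv_cancel, mul_one]
  have hw' : ∀ g, g * w⁻¹ = w⁻¹ * g := fun g => by
    have := hw g
    rw [eq_inv_mul_iff_mul_eq, ← mul_assoc, ← this, mul_assoc, mul_inv_cancel, mul_one]
  calc (x * z)⁻¹ * (y * w)⁻¹ * (x * z) * (y * w)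
      = x⁻¹ * z⁻¹ * (y⁻¹ * w⁻¹) * (x * z) * (y * w) := by rw [h1, h2]
    _ = x⁻¹ * (z⁻¹ * y⁻¹) * (w⁻¹ * x) * (z * y) * w := by group
    _ = x⁻¹ * (y⁻¹ * z⁻¹) * (x * w⁻¹) * (y * z) * w := by rw [hz' y⁻¹, hw' x, hz y]
    _ = x⁻¹ * y⁻¹ * (z⁻¹ * x) * (w⁻¹ * y) * (z * w) := by group
    _ = x⁻¹ * y⁻¹ * (x * z⁻¹) * (y * w⁻¹) * (z * w) := by rw [hz' x, hw' y]
    _ = x⁻¹ * y⁻¹ * x * (z⁻¹ * y) * (w⁻¹ * z) * w := by group
    _ = x⁻¹ * y⁻¹ * x * (y * z⁻¹) * (z * w⁻¹) * w := by rw [hz' y, hw' z]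
    _ = x⁻¹ * y⁻¹ * x * y := by group

end Group

section Main

variable {K : Type*} [Field K] {D : ChevalleyDatum}
  (θ : D.SteinbergGroup K →* ↥(D.group K))
  (hker : θ.ker = Subgroup.center (D.SteinbergGroup K))
  (hθ : ∀ (r : ℕ) (t : K), r < D.nroots → ((θ (D.stGen K r t) : GL D.Idx K) : Matrix D.Idx D.Idx K) = D.x K r t)
  (hconj : ∀ (i s : ℕ), i < D.rank → s < D.nroots → ∀ (c : K), c ≠ 0 → ∀ t : K,
    D.hMat K (D.simple i) c * D.x K s t = D.x K s (c ^ (D.cartan i s) * t) * D.hMat K (D.simple i) c)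

include hker in
theorem exists_central {g h : D.SteinbergGroup K} (hgh : θ g = θ h) :
    ∃ z ∈ Subgroup.center (D.SteinbergGroup K), g = h * z := by
  refine ⟨h⁻¹ * g, ?_, by group⟩
  rw [← hker, MonoidHom.mem_ker, map_mul, map_inv, hgh, inv_mul_cancel]

include hθ hconj in
theorem theta_conj (i s : ℕ) (hi : i < D.rank) (hs : s < D.nroots) (c : K) (hc : c ≠ 0) (t : K) :
    θ (sth D (D.simple i) c * D.stGen K s t * (sth D (D.simple i) c)⁻¹) =
      θ (D.stGen K s (c ^ (D.cartan i s) * t)) := by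
  rw [map_mul, map_inv, mul_inv_eq_iff_eq_mul, ← map_mul]
  apply Subtype.ext
  apply Units.ext
  rw [map_mul, map_mul]
  show ((θ _ : GL D.Idx K) : Matrix D.Idx D.Idx K) * ((θ _ : GL D.Idx K) : Matrix D.Idx D.Idx K) =
    ((θ _ : GL D.Idx K) : Matrix D.Idx D.Idx K) * ((θ _ : GL D.Idx K) : Matrix D.Idx D.Idx K)
  rw [theta_sth θ hθ, theta_stGen θ hθ, theta_stGen θ hθ]
  exact hconj i s hi hs c hc t

include hker hθ hconj in
/-- The torus acts exactly as expected on a root subgroup consisting of commutators. -/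
theorem conj_of_good {q a b : ℕ} {c₀ : ℤ} (hq : GoodAt D q a b c₀) {i : ℕ} (hi : i < D.rank) {c : K}
    (hc : c ≠ 0) (v : K) :
    sth D (D.simple i) c * D.stGen K q v * (sth D (D.simple i) c)⁻¹ = D.stGen K q (c ^ (D.cartan i q) * v) := by
  obtain ⟨ha, hb, hne, hneg, hterms, hc₀, hcart⟩ := hq
  have hc₀K : (c₀ : K) * (c₀ : K) = 1 := by rw [← Int.cast_mul, hc₀, Int.cast_one]
  have key : ∀ α β : K, (D.stGen K b β)⁻¹ * (D.stGen K a (-(c₀ * α)))⁻¹ * D.stGen K b β * D.stGen K a (-(c₀ * α))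
      = D.stGen K q (α * β) := by
    intro α β
    rw [stGen_comm D ha hb hne hneg]
    show wd D (List.map _ (D.commTerms a b)) = _
    rw [hterms, List.map_cons, List.map_nil, wd_singleton]
    congr 1
    show (c₀ : K) * (-(-((c₀ : K) * α))) ^ 1 * β ^ 1 = α * β
    rw [pow_one, pow_one, neg_neg, ← mul_assoc, hc₀K, one_mul]
  have h1 : D.stGen K q v =
      (D.stGen K b 1)⁻¹ * (D.stGen K a (-(c₀ * v)))⁻¹ * D.stGen K b 1 * D.stGen K a (-(c₀ * v)) := by
    rw [key, mul_one]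
  set g := sth D (D.simple i) c with hg
  obtain ⟨z, hz, ez⟩ := exists_central θ hker (theta_conj θ hθ hconj i b hi hb c hc 1)
  obtain ⟨w, hw, ew⟩ := exists_central θ hker (theta_conj θ hθ hconj i a hi ha c hc (-(c₀ * v)))
  rw [← hg] at ez ew
  have h2 : g * D.stGen K q v * g⁻¹ = (g * D.stGen K b 1 * g⁻¹)⁻¹ * (g * D.stGen K a (-(c₀ * v)) * g⁻¹)⁻¹ *
      (g * D.stGen K b 1 * g⁻¹) * (g * D.stGen K a (-(c₀ * v)) * g⁻¹) := by
    rw [h1]; group
  rw [h2, ez, ew, comm_mul_central hz hw]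
  have h3 : c ^ (D.cartan i a) * (-(c₀ * v)) = -(c₀ * (c ^ (D.cartan i a) * v)) := by ring
  rw [h3, key, mul_one, ← hcart i hi, zpow_add₀ hc]
  congr 1
  ring

include hker hθ hconj in
theorem commute_of_good {j : ℕ} (hj : GoodSimple D j) {i : ℕ} (hi : i < D.rank) {c u : K}
    (hc : c ≠ 0) (hu : u ≠ 0) :
    Commute (sth D (D.simple i) c) (sth D (D.simple j) u) := by
  obtain ⟨hjn, ⟨a, b, c₀, hgood⟩, ⟨a', b', c₀', hgood'⟩, hcart⟩ := hj
  set g := sth D (D.simple i) c with hg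
  set γ : K := c ^ (D.cartan i (D.simple j)) with hγ
  have hγ0 : γ ≠ 0 := zpow_ne_zero _ hc
  have hn : ∀ t : K, g * stn D (D.simple j) t * g⁻¹ = stn D (D.simple j) (γ * t) := by
    intro t
    have e1 : g * D.stGen K (D.simple j) t * g⁻¹ = D.stGen K (D.simple j) (γ * t) :=
      conj_of_good θ hker hθ hconj hgood hi hc t
    have e2 : g * D.stGen K (D.neg (D.simple j)) (-t⁻¹) * g⁻¹ = D.stGen K (D.neg (D.simple j)) (-(γ * t)⁻¹) := by
      rw [conj_of_good θ hker hθ hconj hgood' hi hc, hcart i hi, zpow_neg, ← hγ, mul_inv, mul_neg]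
    rw [stn_eq, stn_eq, ← e1, ← e2]; group
  show g * sth D (D.simple j) u = sth D (D.simple j) u * g
  rw [← mul_inv_eq_iff_eq_mul]
  have h1 : g * sth D (D.simple j) u * g⁻¹ = (g * stn D (D.simple j) u * g⁻¹) * (g * stn D (D.simple j) 1 * g⁻¹)⁻¹ := by
    rw [sth_eq]; group
  have h2 : sth D (D.simple j) (γ * u) * (sth D (D.simple j) γ)⁻¹ = sth D (D.simple j) u := by
    rw [← sth_mul D hjn hγ0 hu]
    have hcomm : sth D (D.simple j) γ * sth D (D.simple j) u = sth D (D.simple j) u * sth D (D.simple j) γ := by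
      rw [sth_mul D hjn hγ0 hu, sth_mul D hjn hu hγ0, mul_comm]
    rw [hcomm, mul_inv_cancel_right]
  rw [h1, hn, hn, mul_one]
  conv_rhs => rw [← h2]
  rw [sth_eq D _ (γ * u), sth_eq D _ γ]
  group

end Main

/-! ### The torus homomorphism -/

section Phi

variable {K : Type*} [Field K] {D : ChevalleyDatum}

/-- The homomorphism `(t_i) ↦ ∏ h̄_{p_i}(t_i)`. -/
noncomputable def Phi (hs : ∀ i < D.rank, D.simple i < D.nroots)
    (hcomm : Pairwise fun i j : Fin D.rank => ∀ x y : Kˣ,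
      Commute (sthHom D (hs i i.2) x) (sthHom D (hs j j.2) y)) : (Fin D.rank → Kˣ) →* D.SteinbergGroup K :=
  MonoidHom.noncommPiCoprod (fun i : Fin D.rank => sthHom D (hs i i.2)) hcomm

theorem Phi_mulSingle (hs : ∀ i < D.rank, D.simple i < D.nroots) (hcomm) (i : Fin D.rank) (x : Kˣ) :
    Phi hs hcomm (Pi.mulSingle i x) = sth D (D.simple i) (x : K) :=
  MonoidHom.noncommPiCoprod_mulSingle _ _ _

theorem closure_le_range_Phi (hs : ∀ i < D.rank, D.simple i < D.nroots) (hcomm) :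
    Subgroup.closure {h : D.SteinbergGroup K | ∃ (i : ℕ) (t : K), i < D.rank ∧ t ≠ 0 ∧
      h = PresentedGroup.mk (D.steinbergRels K) (D.stH (D.simple i) t)} ≤ (Phi hs hcomm).range := by
  rw [Subgroup.closure_le]
  rintro _ ⟨i, t, hi, ht, rfl⟩
  exact ⟨Pi.mulSingle ⟨i, hi⟩ (Units.mk0 t ht), Phi_mulSingle hs hcomm ⟨i, hi⟩ _⟩

/-- The diagonal matrices of the torus, as a homomorphism. -/
def diagHom (D : ChevalleyDatum) : (Fin D.rank → Kˣ) →* Matrix D.Idx D.Idx K where
  toFun t := Matrix.diagonal (Sum.elim (fun _ => (1 : K))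
    (fun s : Fin D.nroots => ((∏ i : Fin D.rank, t i ^ D.cartan i s : Kˣ) : K)))
  map_one' := by
    rw [← Matrix.diagonal_one]
    congr 1
    funext x
    rcases x with x | x
    · rfl
    · simp
  map_mul' a b := by
    rw [Matrix.diagonal_mul_diagonal]
    congr 1
    funext x
    rcases x with x | x
    · simp
    · simp only [Sum.elim_inr, Pi.mul_apply]
      rw [← Units.val_mul, ← Finset.prod_mul_distrib]
      congr 2
      funext i
      rw [mul_zpow]

theorem diagHom_apply (t : Fin D.rank → Kˣ) :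
    diagHom D t = Matrix.diagonal (Sum.elim (fun _ => (1 : K))
      (fun s : Fin D.nroots => ((∏ i : Fin D.rank, t i ^ D.cartan i s : Kˣ) : K))) := rfl

variable (θ : D.SteinbergGroup K →* ↥(D.group K))
  (hθ : ∀ (r : ℕ) (t : K), r < D.nroots → ((θ (D.stGen K r t) : GL D.Idx K) : Matrix D.Idx D.Idx K) = D.x K r t)
  (hdiag : ∀ (i : ℕ), i < D.rank → ∀ (c : K), c ≠ 0 → D.hMat K (D.simple i) c =
    Matrix.diagonal (Sum.elim (fun _ => (1 : K)) (fun s : Fin D.nroots => c ^ (D.cartan i s))))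

include hθ hdiag in
theorem theta_Phi (hs : ∀ i < D.rank, D.simple i < D.nroots) (hcomm) (t : Fin D.rank → Kˣ) :
    ((θ (Phi hs hcomm t) : GL D.Idx K) : Matrix D.Idx D.Idx K) = diagHom D t := by
  classical
  have h : ((Units.coeHom (Matrix D.Idx D.Idx K)).comp ((D.group K).subtype.comp (θ.comp (Phi hs hcomm)))) =
      diagHom D := by
    apply MonoidHom.pi_ext
    intro i x
    show ((θ (Phi hs hcomm (Pi.mulSingle i x)) : GL D.Idx K) : Matrix D.Idx D.Idx K) = _
    rw [Phi_mulSingle, theta_sth θ hθ, hdiag i i.2 _ x.ne_zero, diagHom_apply]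
    congr 2
    funext s
    rw [Finset.prod_eq_single i]
    · rw [Pi.mulSingle_eq_same, Units.val_zpow_eq_zpow_val]
    · intro j _ hj
      rw [Pi.mulSingle_eq_of_ne hj, one_zpow]
    · intro hi
      exact absurd (Finset.mem_univ i) hi
  exact DFunLike.congr_fun h t

include hθ hdiag in
/-- `∏ h̄_{p_i}(t_i)` is in the kernel of `θ` iff all characters given by the roots are trivial on it. -/
theorem Phi_mem_ker_iff (hs : ∀ i < D.rank, D.simple i < D.nroots) (hcomm) (t : Fin D.rank → Kˣ) :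
    Phi hs hcomm t ∈ θ.ker ↔ ∀ s < D.nroots, ∏ i : Fin D.rank, t i ^ D.cartan i s = 1 := by
  rw [MonoidHom.mem_ker]
  constructor
  · intro h s hsn
    have h1 := theta_Phi θ hθ hdiag hs hcomm t
    rw [h, diagHom_apply] at h1
    have h2 := congrFun (congrFun h1 (Sum.inr ⟨s, hsn⟩)) (Sum.inr ⟨s, hsn⟩)
    rw [Matrix.diagonal_apply_eq, Sum.elim_inr] at h2
    have h3 : (((1 : ↥(D.group K)) : GL D.Idx K) : Matrix D.Idx D.Idx K) = 1 := rfl
    rw [h3, Matrix.one_apply_eq] at h2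
    exact Units.ext h2.symm
  · intro h
    apply Subtype.ext
    apply Units.ext
    rw [theta_Phi θ hθ hdiag hs hcomm t, diagHom_apply]
    show _ = (1 : Matrix D.Idx D.Idx K)
    rw [← Matrix.diagonal_one]
    congr 1
    funext x
    rcases x with x | x
    · rfl
    · rw [Sum.elim_inr, h x x.2]; rfl

end Phi

section CommuteAll

variable {K : Type*} [Field K] {D : ChevalleyDatum}
  (θ : D.SteinbergGroup K →* ↥(D.group K))
  (hker : θ.ker = Subgroup.center (D.SteinbergGroup K))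
  (hθ : ∀ (r : ℕ) (t : K), r < D.nroots → ((θ (D.stGen K r t) : GL D.Idx K) : Matrix D.Idx D.Idx K) = D.x K r t)
  (hconj : ∀ (i s : ℕ), i < D.rank → s < D.nroots → ∀ (c : K), c ≠ 0 → ∀ t : K,
    D.hMat K (D.simple i) c * D.x K s t = D.x K s (c ^ (D.cartan i s) * t) * D.hMat K (D.simple i) c)

include hker hθ hconj in
theorem pairwise_commute (hs : ∀ i < D.rank, D.simple i < D.nroots)
    (hgood : ∀ i j, i < D.rank → j < D.rank → i ≠ j → GoodSimple D i ∨ GoodSimple D j) :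
    Pairwise fun i j : Fin D.rank => ∀ x y : Kˣ,
      Commute (sthHom D (hs i i.2) x) (sthHom D (hs j j.2) y) := by
  intro i j hij x y
  rcases hgood i j i.2 j.2 (fun h => hij (Fin.ext h)) with h | h
  · exact (commute_of_good θ hker hθ hconj h j.2 y.ne_zero x.ne_zero).symm
  · exact commute_of_good θ hker hθ hconj h i.2 x.ne_zero y.ne_zero

end CommuteAll

/-! ### Linear algebra over the units -/

section Units

variable {M : Type*} [CommGroup M] {n m : ℕ}

theorem prod_zpow_prod (A : Fin n → Fin m → ℤ) (b : Fin m → ℤ) (t : Fin n → M) :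
    ∏ j, (∏ i, t i ^ A i j) ^ b j = ∏ i, t i ^ (∑ j, A i j * b j) := by
  have h1 : ∀ j, (∏ i, t i ^ A i j) ^ b j = ∏ i, t i ^ (A i j * b j) := by
    intro j
    rw [← Finset.prod_zpow]
    exact Finset.prod_congr rfl fun i _ => (zpow_mul _ _ _).symm
  rw [Finset.prod_congr rfl fun j _ => h1 j, Finset.prod_comm]
  refine Finset.prod_congr rfl fun i _ => ?_
  induction (Finset.univ : Finset (Fin m)) using Finset.induction_on with
  | empty => simp
  | insert a s ha ih => rw [Finset.prod_insert ha, Finset.sum_insert ha, ih, zpow_add]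

theorem eval_eq_one (A : Fin n → Fin m → ℤ) (b : Fin m → ℤ) (e : Fin n → ℤ)
    (hAb : ∀ i, ∑ j, A i j * b j = e i) (t : Fin n → M) (h : ∀ j, ∏ i, t i ^ A i j = 1) :
    ∏ i, t i ^ e i = 1 := by
  have h1 := prod_zpow_prod A b t
  rw [Finset.prod_congr rfl fun j _ => by rw [h j, one_zpow], Finset.prod_const_one] at h1
  rw [h1]
  exact Finset.prod_congr rfl fun i _ => by rw [hAb]

theorem units_eq_one (A : Fin n → Fin m → ℤ) (B : Fin m → Fin n → ℤ)
    (hAB : ∀ i k, ∑ j, A i j * B j k = if i = k then 1 else 0) (t : Fin n → M)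
    (h : ∀ j, ∏ i, t i ^ A i j = 1) : t = 1 := by
  funext k
  have h1 := eval_eq_one A (fun j => B j k) (fun i => if i = k then 1 else 0) (fun i => hAB i k) t h
  rw [Finset.prod_eq_single k] at h1
  · simpa using h1
  · intro i _ hik; simp [hik]
  · intro hk; exact absurd (Finset.mem_univ k) hk

end Units

end Cfsg.Agent.ChevalleyStructure.StTorus
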