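import Cfsg.Agent.ChevalleyStructure.StTorus

/-!
Table checks for the types G₂, F₄, E₆, E₇, E₈: root elements for `±p_j` are commutators.
-/

set_option autoImplicit false

namespace Cfsg.Agent.ChevalleyStructure.StTorusTables

open Cfsg.Lie Cfsg.Agent.ChevalleyStructure.StTorus

theorem goodG2_1 : GoodSimple chevG2 1 :=
  ⟨by decide +kernel, ⟨1, 11, -1, by decide +kernel⟩, ⟨0, 10, -1, by decide +kernel⟩,
    by decide +kernel⟩

theorem simple_ltG2 : ∀ i < chevG2.rank, chevG2.simple i < chevG2.nroots := by decide +kernel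

theorem goodG2 (i j : ℕ) (hi : i < chevG2.rank) (hj : j < chevG2.rank) (hij : i ≠ j) :
    GoodSimple chevG2 i ∨ GoodSimple chevG2 j := by
  change i < 2 at hi
  change j < 2 at hj
  have : i = 1 ∨ j = 1 := by omega
  rcases this with rfl | rfl
  · exact Or.inl goodG2_1
  · exact Or.inr goodG2_1

theorem goodF4_0 : GoodSimple chevF4 0 :=
  ⟨by decide +kernel, ⟨7, 44, -1, by decide +kernel⟩, ⟨3, 40, -1, by decide +kernel⟩,
    by decide +kernel⟩

theorem goodF4_1 : GoodSimple chevF4 1 :=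
  ⟨by decide +kernel, ⟨8, 40, -1, by decide +kernel⟩, ⟨7, 39, -1, by decide +kernel⟩,
    by decide +kernel⟩

theorem goodF4_2 : GoodSimple chevF4 2 :=
  ⟨by decide +kernel, ⟨2, 46, -1, by decide +kernel⟩, ⟨1, 45, -1, by decide +kernel⟩,
    by decide +kernel⟩

theorem goodF4_3 : GoodSimple chevF4 3 :=
  ⟨by decide +kernel, ⟨1, 47, -1, by decide +kernel⟩, ⟨0, 46, -1, by decide +kernel⟩,
    by decide +kernel⟩

theorem simple_ltF4 : ∀ i < chevF4.rank, chevF4.simple i < chevF4.nroots := by decide +kernel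

theorem goodF4' (i : ℕ) (hi : i < chevF4.rank) : GoodSimple chevF4 i := by
  change i < 4 at hi
  interval_cases i
  · exact goodF4_0
  · exact goodF4_1
  · exact goodF4_2
  · exact goodF4_3

theorem goodF4 (i j : ℕ) (hi : i < chevF4.rank) (_hj : j < chevF4.rank) (_hij : i ≠ j) :
    GoodSimple chevF4 i ∨ GoodSimple chevF4 j := Or.inl (goodF4' i hi)

theorem goodE6_0 : GoodSimple chevE6 0 :=
  ⟨by decide +kernel, ⟨16, 66, 1, by decide +kernel⟩, ⟨5, 55, 1, by decide +kernel⟩,
    by decide +kernel⟩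

theorem goodE6_1 : GoodSimple chevE6 1 :=
  ⟨by decide +kernel, ⟨1, 71, -1, by decide +kernel⟩, ⟨0, 70, -1, by decide +kernel⟩,
    by decide +kernel⟩

theorem goodE6_2 : GoodSimple chevE6 2 :=
  ⟨by decide +kernel, ⟨5, 69, -1, by decide +kernel⟩, ⟨2, 66, -1, by decide +kernel⟩,
    by decide +kernel⟩

theorem goodE6_3 : GoodSimple chevE6 3 :=
  ⟨by decide +kernel, ⟨2, 70, -1, by decide +kernel⟩, ⟨1, 69, -1, by decide +kernel⟩,
    by decide +kernel⟩

theorem goodE6_4 : GoodSimple chevE6 4 :=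
  ⟨by decide +kernel, ⟨3, 69, -1, by decide +kernel⟩, ⟨2, 68, -1, by decide +kernel⟩,
    by decide +kernel⟩

theorem goodE6_5 : GoodSimple chevE6 5 :=
  ⟨by decide +kernel, ⟨4, 68, -1, by decide +kernel⟩, ⟨3, 67, -1, by decide +kernel⟩,
    by decide +kernel⟩

theorem simple_ltE6 : ∀ i < chevE6.rank, chevE6.simple i < chevE6.nroots := by decide +kernel

theorem goodE6' (i : ℕ) (hi : i < chevE6.rank) : GoodSimple chevE6 i := by
  change i < 6 at hi
  interval_cases i
  · exact goodE6_0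
  · exact goodE6_1
  · exact goodE6_2
  · exact goodE6_3
  · exact goodE6_4
  · exact goodE6_5

theorem goodE6 (i j : ℕ) (hi : i < chevE6.rank) (_hj : j < chevE6.rank) (_hij : i ≠ j) :
    GoodSimple chevE6 i ∨ GoodSimple chevE6 j := Or.inl (goodE6' i hi)

theorem goodE7_0 : GoodSimple chevE7 0 :=
  ⟨by decide +kernel, ⟨1, 125, -1, by decide +kernel⟩, ⟨0, 124, -1, by decide +kernel⟩,
    by decide +kernel⟩

theorem goodE7_1 : GoodSimple chevE7 1 :=
  ⟨by decide +kernel, ⟨7, 122, -1, by decide +kernel⟩, ⟨3, 118, -1, by decide +kernel⟩,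
    by decide +kernel⟩

theorem goodE7_2 : GoodSimple chevE7 2 :=
  ⟨by decide +kernel, ⟨2, 124, -1, by decide +kernel⟩, ⟨1, 123, -1, by decide +kernel⟩,
    by decide +kernel⟩

theorem goodE7_3 : GoodSimple chevE7 3 :=
  ⟨by decide +kernel, ⟨3, 123, -1, by decide +kernel⟩, ⟨2, 122, -1, by decide +kernel⟩,
    by decide +kernel⟩

theorem goodE7_4 : GoodSimple chevE7 4 :=
  ⟨by decide +kernel, ⟨4, 122, -1, by decide +kernel⟩, ⟨3, 121, -1, by decide +kernel⟩,
    by decide +kernel⟩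

theorem goodE7_5 : GoodSimple chevE7 5 :=
  ⟨by decide +kernel, ⟨5, 121, -1, by decide +kernel⟩, ⟨4, 120, -1, by decide +kernel⟩,
    by decide +kernel⟩

theorem goodE7_6 : GoodSimple chevE7 6 :=
  ⟨by decide +kernel, ⟨6, 120, -1, by decide +kernel⟩, ⟨5, 119, -1, by decide +kernel⟩,
    by decide +kernel⟩

theorem simple_ltE7 : ∀ i < chevE7.rank, chevE7.simple i < chevE7.nroots := by decide +kernel

theorem goodE7' (i : ℕ) (hi : i < chevE7.rank) : GoodSimple chevE7 i := by
  change i < 7 at hi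
  interval_cases i
  · exact goodE7_0
  · exact goodE7_1
  · exact goodE7_2
  · exact goodE7_3
  · exact goodE7_4
  · exact goodE7_5
  · exact goodE7_6

theorem goodE7 (i j : ℕ) (hi : i < chevE7.rank) (_hj : j < chevE7.rank) (_hij : i ≠ j) :
    GoodSimple chevE7 i ∨ GoodSimple chevE7 j := Or.inl (goodE7' i hi)

theorem goodE8_0 : GoodSimple chevE8 0 :=
  ⟨by decide +kernel, ⟨14, 233, -1, by decide +kernel⟩, ⟨6, 225, -1, by decide +kernel⟩,
    by decide +kernel⟩

theorem goodE8_1 : GoodSimple chevE8 1 :=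
  ⟨by decide +kernel, ⟨7, 234, -1, by decide +kernel⟩, ⟨5, 232, -1, by decide +kernel⟩,
    by decide +kernel⟩

theorem goodE8_2 : GoodSimple chevE8 2 :=
  ⟨by decide +kernel, ⟨6, 234, -1, by decide +kernel⟩, ⟨5, 233, -1, by decide +kernel⟩,
    by decide +kernel⟩

theorem goodE8_3 : GoodSimple chevE8 3 :=
  ⟨by decide +kernel, ⟨5, 235, -1, by decide +kernel⟩, ⟨4, 234, -1, by decide +kernel⟩,
    by decide +kernel⟩

theorem goodE8_4 : GoodSimple chevE8 4 :=
  ⟨by decide +kernel, ⟨4, 236, -1, by decide +kernel⟩, ⟨3, 235, -1, by decide +kernel⟩,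
    by decide +kernel⟩

theorem goodE8_5 : GoodSimple chevE8 5 :=
  ⟨by decide +kernel, ⟨3, 237, -1, by decide +kernel⟩, ⟨2, 236, -1, by decide +kernel⟩,
    by decide +kernel⟩

theorem goodE8_6 : GoodSimple chevE8 6 :=
  ⟨by decide +kernel, ⟨2, 238, -1, by decide +kernel⟩, ⟨1, 237, -1, by decide +kernel⟩,
    by decide +kernel⟩

theorem goodE8_7 : GoodSimple chevE8 7 :=
  ⟨by decide +kernel, ⟨1, 239, -1, by decide +kernel⟩, ⟨0, 238, -1, by decide +kernel⟩,
    by decide +kernel⟩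

theorem simple_ltE8 : ∀ i < chevE8.rank, chevE8.simple i < chevE8.nroots := by decide +kernel

theorem goodE8' (i : ℕ) (hi : i < chevE8.rank) : GoodSimple chevE8 i := by
  change i < 8 at hi
  interval_cases i
  · exact goodE8_0
  · exact goodE8_1
  · exact goodE8_2
  · exact goodE8_3
  · exact goodE8_4
  · exact goodE8_5
  · exact goodE8_6
  · exact goodE8_7

theorem goodE8 (i j : ℕ) (hi : i < chevE8.rank) (_hj : j < chevE8.rank) (_hij : i ≠ j) :
    GoodSimple chevE8 i ∨ GoodSimple chevE8 j := Or.inl (goodE8' i hi)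

end Cfsg.Agent.ChevalleyStructure.StTorusTables
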