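import Cfsg.Agent.ChevalleyStructure.Strings
import Cfsg.Agent.ChevalleyStructure.GoodCheck

/-!
# A fast checker for `HasStrings`

`pairb` checks, for the rows `R` of `r` and `R'` of `-r` of the chain table, that every key lies in a string.
-/

set_option autoImplicit false

namespace Cfsg.Agent.ChevalleyStructure.StringCheck

open Cfsg Cfsg.Lie
open Cfsg.Agent.ChevalleyStructure.Columns (look look_nil look_cons sortedFrom lt_of_sortedFrom chainEntry_eq_look)
open Cfsg.Agent.ChevalleyStructure.Additive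
open Cfsg.Agent.ChevalleyStructure.GoodCheck
open Cfsg.Agent.ChevalleyStructure.Strings

/-- `u` is not in the set of keys with bit mask `m` -/
def noKey (m u : ℕ) : Bool := Nat.beq (Nat.land (Nat.shiftRight m u) 1) 0

theorem noKey_mask_iff (l : List (ℕ × Array (ℕ × ℤ))) (u : ℕ) :
    noKey (mask l) u = true ↔ ∀ e ∈ l, e.1 ≠ u := by
  have h : noKey (mask l) u = true ↔ (mask l).testBit u = false := by
    have h3 : Nat.land (Nat.shiftRight (mask l) u) 1 = (mask l) / 2 ^ u % 2 := by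
      show ((mask l) >>> u) &&& 1 = _
      rw [Nat.and_one_is_mod, Nat.shiftRight_eq_div_pow]
    unfold noKey
    rw [h3, Nat.testBit_eq_decide_div_mod_eq, decide_eq_false_iff_not]
    have : (mask l) / 2 ^ u % 2 < 2 := Nat.mod_lt _ (by norm_num)
    constructor
    · intro h4 h5
      have := Nat.eq_of_beq_eq_true h4
      omega
    · intro h4
      have : (mask l) / 2 ^ u % 2 = 0 := by omega
      rw [this]
      rfl
  rw [h, Bool.eq_false_iff, ne_eq, testBit_mask]
  push Not
  rfl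

/-- `M = ±1` -/
def unitb (M : ℤ) : Bool := Nat.beq (Int.natAbs M) 1

theorem unit_of_unitb {M : ℤ} (h : unitb M = true) : M = 1 ∨ M = -1 :=
  Int.natAbs_eq_iff.1 (Nat.eq_of_beq_eq_true h)

/-- `l = [(v, a)]` -/
def is1 (v : ℕ) (a : ℤ) : List (ℕ × ℤ) → Bool
  | [(v', a')] => Nat.beq v' v && decide (a' = a)
  | _ => false

/-- `l = [(v, a), (w, b)]` -/
def is2 (v : ℕ) (a : ℤ) (w : ℕ) (b : ℤ) : List (ℕ × ℤ) → Bool
  | [(v', a'), (w', b')] => Nat.beq v' v && decide (a' = a) && Nat.beq w' w && decide (b' = b)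
  | _ => false

/-- `l = [(v, a), (w, b), (x, c)]` -/
def is3 (v : ℕ) (a : ℤ) (w : ℕ) (b : ℤ) (x : ℕ) (c : ℤ) : List (ℕ × ℤ) → Bool
  | [(v', a'), (w', b'), (x', c')] => Nat.beq v' v && decide (a' = a) && Nat.beq w' w && decide (b' = b) &&
      Nat.beq x' x && decide (c' = c)
  | _ => false

theorem eq_of_is1 {v : ℕ} {a : ℤ} {l : List (ℕ × ℤ)} (h : is1 v a l = true) : l = [(v, a)] := by
  rcases l with _ | ⟨⟨v', a'⟩, _ | ⟨_, _⟩⟩
  · simp [is1] at h
  · simp only [is1, Bool.and_eq_true, decide_eq_true_eq] at h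
    rw [Nat.eq_of_beq_eq_true h.1, h.2]
  · simp [is1] at h

theorem eq_of_is2 {v : ℕ} {a : ℤ} {w : ℕ} {b : ℤ} {l : List (ℕ × ℤ)} (h : is2 v a w b l = true) :
    l = [(v, a), (w, b)] := by
  rcases l with _ | ⟨⟨v', a'⟩, _ | ⟨⟨w', b'⟩, _ | ⟨_, _⟩⟩⟩
  · simp [is2] at h
  · simp [is2] at h
  · simp only [is2, Bool.and_eq_true, decide_eq_true_eq] at h
    obtain ⟨⟨⟨h1, h2⟩, h3⟩, h4⟩ := h
    rw [Nat.eq_of_beq_eq_true h1, h2, Nat.eq_of_beq_eq_true h3, h4]
  · simp [is2] at h

theorem eq_of_is3 {v : ℕ} {a : ℤ} {w : ℕ} {b : ℤ} {x : ℕ} {c : ℤ} {l : List (ℕ × ℤ)}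
    (h : is3 v a w b x c l = true) : l = [(v, a), (w, b), (x, c)] := by
  rcases l with _ | ⟨⟨v', a'⟩, _ | ⟨⟨w', b'⟩, _ | ⟨⟨x', c'⟩, _ | ⟨_, _⟩⟩⟩⟩
  · simp [is3] at h
  · simp [is3] at h
  · simp [is3] at h
  · simp only [is3, Bool.and_eq_true, decide_eq_true_eq] at h
    obtain ⟨⟨⟨⟨⟨h1, h2⟩, h3⟩, h4⟩, h5⟩, h6⟩ := h
    rw [Nat.eq_of_beq_eq_true h1, h2, Nat.eq_of_beq_eq_true h3, h4, Nat.eq_of_beq_eq_true h5, h6]
  · simp [is3] at h

/-- check of the string with bottom `s` and chain `l`; `E`, `E'` give the chains of `r` and `-r`, `m` is the mask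
of the keys of `r`. -/
def botb (m : ℕ) (E E' : ℕ → List (ℕ × ℤ)) (s : ℕ) : List (ℕ × ℤ) → Bool
  | [(u₁, M₁)] => unitb M₁ && noKey m u₁ && is1 s M₁ (E' u₁)
  | [(u₁, M₁), (u₂, M₂)] => unitb M₁ && unitb M₂ && noKey m u₂ && is1 u₂ (2 * M₁ * M₂) (E u₁) &&
      is1 s (2 * M₁) (E' u₁) && is2 u₁ (M₁ * M₂) s M₂ (E' u₂)
  | [(u₁, M₁), (u₂, M₂), (u₃, M₃)] => unitb M₁ && unitb M₂ && unitb M₃ && noKey m u₃ &&
      is2 u₂ (2 * M₁ * M₂) u₃ (3 * M₁ * M₃) (E u₁) && is1 u₃ (3 * M₂ * M₃) (E u₂) &&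
      is1 s (3 * M₁) (E' u₁) && is2 u₁ (2 * M₁ * M₂) s (3 * M₂) (E' u₂) &&
      is3 u₂ (M₂ * M₃) u₁ (M₁ * M₃) s M₃ (E' u₃)
  | _ => false

/-- check of the last root of the downward chain `l` of `s`: it is a bottom, and `s` is in its chain. -/
def topb (m' : ℕ) (E : ℕ → List (ℕ × ℤ)) (s : ℕ) : List (ℕ × ℤ) → Bool
  | [w] => noKey m' w.1 && (E w.1).any (fun p => Nat.beq p.1 s)
  | [_, w] => noKey m' w.1 && (E w.1).any (fun p => Nat.beq p.1 s)
  | [_, _, w] => noKey m' w.1 && (E w.1).any (fun p => Nat.beq p.1 s)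
  | _ => false

/-- the combinatorial form of a string -/
structure Str (E E' : ℕ → List (ℕ × ℤ)) (q : ℕ) (S : ℕ → ℕ) (e : ℕ → ℤ) : Prop where
  q_le : q ≤ 3
  sign : ∀ k ≤ q, e k = 1 ∨ e k = -1
  up : ∀ k ≤ q, E (S k) =
    (List.range (q - k)).map fun m => (S (k + m + 1), e k * e (k + m + 1) * ((k + m + 1).choose (m + 1) : ℤ))
  down : ∀ k ≤ q, E' (S k) =
    (List.range k).map fun m => (S (k - m - 1), e k * e (k - m - 1) * ((q - k + m + 1).choose (m + 1) : ℤ))

theorem str_zero {E E' : ℕ → List (ℕ × ℤ)} {s : ℕ} (h : E s = []) (h' : E' s = []) :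
    Str E E' 0 (fun _ => s) (fun _ => 1) where
  q_le := by norm_num
  sign := fun k _ => Or.inl rfl
  up := fun k hk => by
    obtain rfl : k = 0 := by omega
    simpa using h
  down := fun k hk => by
    obtain rfl : k = 0 := by omega
    simpa using h'

theorem str_of_botb {m : ℕ} {E E' : ℕ → List (ℕ × ℤ)} {s : ℕ} {l : List (ℕ × ℤ)} (h : botb m E E' s l = true)
    (hm : ∀ u, noKey m u = true → E u = []) (hs : E s = l) (hs' : E' s = []) :
    ∃ (q : ℕ) (S : ℕ → ℕ) (e : ℕ → ℤ), Str E E' q S e ∧ S 0 = s ∧ ∀ p ∈ l, ∃ k ≤ q, S k = p.1 := by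
  rcases l with _ | ⟨⟨u₁, M₁⟩, l⟩
  · simp [botb] at h
  rcases l with _ | ⟨⟨u₂, M₂⟩, l⟩
  · simp only [botb, Bool.and_eq_true] at h
    obtain ⟨⟨h1, h2⟩, h3⟩ := h
    have h1 := unit_of_unitb h1
    have h2 := hm _ h2
    have h3 := eq_of_is1 h3
    refine ⟨1, fun k => if k = 0 then s else u₁, fun k => if k = 0 then 1 else M₁, ⟨by norm_num, ?_, ?_, ?_⟩, rfl, ?_⟩
    · intro k hk
      interval_cases k
      · exact Or.inl rfl
      · exact h1
    · intro k hk
      interval_cases k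
      · simpa using hs
      · simpa using h2
    · intro k hk
      interval_cases k
      · simpa using hs'
      · simpa using h3
    · intro p hp
      simp only [List.mem_singleton] at hp
      subst hp
      exact ⟨1, le_rfl, rfl⟩
  rcases l with _ | ⟨⟨u₃, M₃⟩, l⟩
  · simp only [botb, Bool.and_eq_true] at h
    obtain ⟨⟨⟨⟨⟨h1, h2⟩, h3⟩, h4⟩, h5⟩, h6⟩ := h
    have h1 := unit_of_unitb h1
    have h2 := unit_of_unitb h2
    have h3 := hm _ h3
    have h4 := eq_of_is1 h4
    have h5 := eq_of_is1 h5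
    have h6 := eq_of_is2 h6
    refine ⟨2, fun k => if k = 0 then s else if k = 1 then u₁ else u₂,
      fun k => if k = 0 then 1 else if k = 1 then M₁ else M₂, ⟨by norm_num, ?_, ?_, ?_⟩, rfl, ?_⟩
    · intro k hk
      interval_cases k
      · exact Or.inl rfl
      · exact h1
      · exact h2
    · intro k hk
      interval_cases k
      · simpa [List.range_succ] using hs
      · simp only [one_ne_zero, if_false, if_true, h4]
        simp [Nat.choose]
        ring
      · simpa using h3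
    · intro k hk
      interval_cases k
      · simpa using hs'
      · simp only [one_ne_zero, if_false, if_true, h5]
        simp [Nat.choose]
        ring
      · simp only [show (2 : ℕ) ≠ 0 from by norm_num, show (2 : ℕ) ≠ 1 from by norm_num, if_false, h6]
        simp [List.range_succ, Nat.choose]
        ring
    · intro p hp
      simp only [List.mem_cons, List.not_mem_nil, or_false] at hp
      rcases hp with rfl | rfl
      · exact ⟨1, by norm_num, rfl⟩
      · exact ⟨2, le_rfl, rfl⟩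
  rcases l with _ | ⟨⟨u₄, M₄⟩, l⟩
  · simp only [botb, Bool.and_eq_true] at h
    obtain ⟨⟨⟨⟨⟨⟨⟨⟨h1, h2⟩, h3⟩, h4⟩, h5⟩, h6⟩, h7⟩, h8⟩, h9⟩ := h
    have h1 := unit_of_unitb h1
    have h2 := unit_of_unitb h2
    have h3 := unit_of_unitb h3
    have h4 := hm _ h4
    have h5 := eq_of_is2 h5
    have h6 := eq_of_is1 h6
    have h7 := eq_of_is1 h7
    have h8 := eq_of_is2 h8
    have h9 := eq_of_is3 h9
    refine ⟨3, fun k => if k = 0 then s else if k = 1 then u₁ else if k = 2 then u₂ else u₃,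
      fun k => if k = 0 then 1 else if k = 1 then M₁ else if k = 2 then M₂ else M₃,
      ⟨by norm_num, ?_, ?_, ?_⟩, rfl, ?_⟩
    · intro k hk
      interval_cases k
      · exact Or.inl rfl
      · exact h1
      · exact h2
      · exact h3
    · intro k hk
      interval_cases k
      · simpa [List.range_succ] using hs
      · simp only [one_ne_zero, if_false, if_true, h5]
        simp [List.range_succ, Nat.choose]
        constructor <;> ring
      · simp only [show (2 : ℕ) ≠ 0 from by norm_num, show (2 : ℕ) ≠ 1 from by norm_num, if_true, if_false, h6]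
        simp [Nat.choose]
        ring
      · simpa using h4
    · intro k hk
      interval_cases k
      · simpa using hs'
      · simp only [one_ne_zero, if_false, if_true, h7]
        simp [Nat.choose]
        ring
      · simp only [show (2 : ℕ) ≠ 0 from by norm_num, show (2 : ℕ) ≠ 1 from by norm_num, if_true, if_false, h8]
        simp [List.range_succ, Nat.choose]
        constructor <;> ring
      · simp only [show (3 : ℕ) ≠ 0 from by norm_num, show (3 : ℕ) ≠ 1 from by norm_num,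
          show (3 : ℕ) ≠ 2 from by norm_num, if_false, h9]
        simp [List.range_succ, Nat.choose]
        constructor <;> ring
    · intro p hp
      simp only [List.mem_cons, List.not_mem_nil, or_false] at hp
      rcases hp with rfl | rfl | rfl
      · exact ⟨1, by norm_num, rfl⟩
      · exact ⟨2, by norm_num, rfl⟩
      · exact ⟨3, le_rfl, rfl⟩
  · simp [botb] at h

theorem Str.inj {E E' : ℕ → List (ℕ × ℤ)} {q : ℕ} {S : ℕ → ℕ} {e : ℕ → ℤ} (h : Str E E' q S e) {k l : ℕ}
    (hk : k ≤ q) (hl : l ≤ q) (hkl : S k = S l) : k = l := by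
  have h1 := congrArg List.length (h.up k hk)
  have h2 := congrArg List.length (h.up l hl)
  rw [hkl] at h1
  rw [h1] at h2
  simp only [List.length_map, List.length_range] at h2
  omega

theorem mem_map_of_topb {m' : ℕ} {E : ℕ → List (ℕ × ℤ)} {s : ℕ} {l : List (ℕ × ℤ)} (h : topb m' E s l = true) :
    ∃ w ∈ l, noKey m' w.1 = true ∧ ∃ p ∈ E w.1, p.1 = s := by
  have key : ∀ w : ℕ × ℤ, (noKey m' w.1 && (E w.1).any (fun p => Nat.beq p.1 s)) = true →
      noKey m' w.1 = true ∧ ∃ p ∈ E w.1, p.1 = s := by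
    intro w hw
    rw [Bool.and_eq_true, List.any_eq_true] at hw
    exact ⟨hw.1, hw.2.imp fun p hp => ⟨hp.1, Nat.eq_of_beq_eq_true hp.2⟩⟩
  rcases l with _ | ⟨w₁, l⟩
  · simp [topb] at h
  rcases l with _ | ⟨w₂, l⟩
  · exact ⟨w₁, by simp, key w₁ h⟩
  rcases l with _ | ⟨w₃, l⟩
  · exact ⟨w₂, by simp, key w₂ h⟩
  rcases l with _ | ⟨w₄, l⟩
  · exact ⟨w₃, by simp, key w₃ h⟩
  · simp [topb] at h

/-- the check of the entries `l` of the row `R` -/
def botsOK (n m m' : ℕ) (R R' : List (ℕ × Array (ℕ × ℤ))) (l : List (ℕ × Array (ℕ × ℤ))) : Bool :=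
  List.rec (motive := fun _ => Bool) true
    (fun e _ ih => Nat.blt e.1 n && ((!noKey m' e.1 || botb m (look' R) (look' R') e.1 e.2.toList) && ih)) l

/-- the check of the entries `l` of the row `R'` -/
def topsOK (m' : ℕ) (R : List (ℕ × Array (ℕ × ℤ))) (l : List (ℕ × Array (ℕ × ℤ))) : Bool :=
  List.rec (motive := fun _ => Bool) true (fun e _ ih => topb m' (look' R) e.1 e.2.toList && ih) l

theorem botsOK_sound {n m m' : ℕ} {R R' : List (ℕ × Array (ℕ × ℤ))} :
    ∀ l : List (ℕ × Array (ℕ × ℤ)), botsOK n m m' R R' l = true → ∀ e ∈ l, e.1 < n ∧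
      (noKey m' e.1 = true → botb m (look R) (look R') e.1 e.2.toList = true)
  | [], _, e, he => by simp at he
  | e' :: l, h, e, he => by
    have h' : (Nat.blt e'.1 n && ((!noKey m' e'.1 || botb m (look' R) (look' R') e'.1 e'.2.toList) &&
      botsOK n m m' R R' l)) = true := h
    simp only [Bool.and_eq_true, Bool.or_eq_true, Bool.not_eq_true'] at h'
    obtain ⟨h1, h2, h3⟩ := h'
    rcases List.mem_cons.1 he with rfl | he
    · refine ⟨Nat.le_of_ble_eq_true h1, fun h4 => ?_⟩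
      rcases h2 with h2 | h2
      · rw [h4] at h2
        cases h2
      · rwa [show look' R = look R from funext fun s => look'_eq R s,
          show look' R' = look R' from funext fun s => look'_eq R' s] at h2
    · exact botsOK_sound l h3 e he

theorem topsOK_sound {m' : ℕ} {R : List (ℕ × Array (ℕ × ℤ))} :
    ∀ l : List (ℕ × Array (ℕ × ℤ)), topsOK m' R l = true → ∀ e ∈ l, topb m' (look R) e.1 e.2.toList = true
  | [], _, e, he => by simp at he
  | e' :: l, h, e, he => by
    have h' : (topb m' (look' R) e'.1 e'.2.toList && topsOK m' R l) = true := h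
    simp only [Bool.and_eq_true] at h'
    rcases List.mem_cons.1 he with rfl | he
    · rw [show look' R = look R from funext fun s => look'_eq R s] at h'
      exact h'.1
    · exact topsOK_sound l h'.2 e he

theorem look_of_mem {R : List (ℕ × Array (ℕ × ℤ))} {b : ℕ} (h : sortedFrom b R = true)
    {e : ℕ × Array (ℕ × ℤ)} (he : e ∈ R) : look R e.1 = e.2.toList := by
  rcases Columns.filter_of_sorted R b h e.1 with ⟨h1, _⟩ | ⟨e', h0, h1, h2, h3⟩
  · rw [List.filter_eq_nil_iff] at h1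
    exact absurd (by simp) (h1 e he)
  · have : e ∈ R.filter (fun e' => e'.1 = e.1) := by simp [he]
    rw [h2, List.mem_singleton] at this
    rw [h3, this]

theorem look_of_noKey {R : List (ℕ × Array (ℕ × ℤ))} {u : ℕ} (h : noKey (mask R) u = true) : look R u = [] :=
  look_of_mask R u h

/-- Every root lies in a string. -/
theorem exists_str {n : ℕ} {R R' : List (ℕ × Array (ℕ × ℤ))} (hR : sortedFrom 0 R = true)
    (hb : botsOK n (mask R) (mask R') R R' R = true)
    (ht : topsOK (mask R') R R' = true) (s : ℕ) :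
    ∃ (q : ℕ) (S : ℕ → ℕ) (e : ℕ → ℤ), Str (look R) (look R') q S e ∧ ∃ k ≤ q, S k = s := by
  have main : ∀ w, noKey (mask R') w = true → ∃ (q : ℕ) (S : ℕ → ℕ) (e : ℕ → ℤ),
      Str (look R) (look R') q S e ∧ S 0 = w ∧ ∀ p ∈ look R w, ∃ k ≤ q, S k = p.1 := by
    intro w hw
    by_cases hw' : noKey (mask R) w = true
    · refine ⟨0, fun _ => w, fun _ => 1, str_zero (look_of_noKey hw') (look_of_noKey hw), rfl, ?_⟩
      rw [look_of_noKey hw']
      simp
    · rw [noKey_mask_iff] at hw'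
      push Not at hw'
      obtain ⟨e, he, rfl⟩ := hw'
      have h1 := ((botsOK_sound R hb e he).2 hw)
      rw [look_of_mem hR he]
      exact str_of_botb h1 (fun u hu => look_of_noKey hu) (look_of_mem hR he) (look_of_noKey hw)
  by_cases hs : noKey (mask R') s = true
  · obtain ⟨q, S, e, h1, h2, _⟩ := main s hs
    exact ⟨q, S, e, h1, 0, Nat.zero_le _, h2⟩
  · rw [noKey_mask_iff] at hs
    push Not at hs
    obtain ⟨e, he, rfl⟩ := hs
    obtain ⟨w, _, hw, p, hp, hps⟩ := mem_map_of_topb (topsOK_sound R' ht e he)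
    obtain ⟨q, S, ee, h1, _, h3⟩ := main w.1 hw
    obtain ⟨k, hk, hk'⟩ := h3 p hp
    exact ⟨q, S, ee, h1, k, hk, hk'.trans hps⟩

end Cfsg.Agent.ChevalleyStructure.StringCheck
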