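import Cfsg.Agent.ChevalleyStructure.StringCheck
import Cfsg.Agent.ChevalleyStructure.CartanPack
import Cfsg.Agent.ChevalleyStructure.Good
import Cfsg.Agent.ChevalleyStructure.RootComb

/-!
# All roots of the seven tabulated data have strings

`rootOK_of_mem` and `hasStrings_of_mem`: the hypotheses of `Strings.lean` hold for every root of the seven data.
-/

set_option autoImplicit false

namespace Cfsg.Agent.ChevalleyStructure.StringTables

open Cfsg Cfsg.Lie
open Cfsg.Agent.ChevalleyStructure.Columns (look look_nil look_cons sortedFrom lt_of_sortedFrom chainEntry_eq_look)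
open Cfsg.Agent.ChevalleyStructure.Additive
open Cfsg.Agent.ChevalleyStructure.GoodCheck
open Cfsg.Agent.ChevalleyStructure.Strings
open Cfsg.Agent.ChevalleyStructure.StringCheck
open Cfsg.Agent.ChevalleyStructure.CartanPack

/-- the check of all pairs of rows -/
def allPairs (n : ℕ) (ps : List (ℕ × ℕ)) : ℕ → List (Array (ℕ × Array (ℕ × ℤ))) →
    List (Array (ℕ × Array (ℕ × ℤ))) → List (Array ℤ) → Bool
  | r, R :: Rs, R' :: Rs', c :: cs =>
    botsOK n (mask R.toList) (mask R'.toList) R.toList R'.toList R.toList &&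
      (topsOK (mask R'.toList) R.toList R'.toList &&
        (carOK r (n - 1 - r) c.toList ps R.toList R'.toList && (bnd c.toList && allPairs n ps (r + 1) Rs Rs' cs)))
  | _, _, _, _ => true

theorem allPairs_sound (n : ℕ) (ps : List (ℕ × ℕ)) : ∀ (r₀ : ℕ) (ls ls' : List (Array (ℕ × Array (ℕ × ℤ))))
    (cs : List (Array ℤ)), allPairs n ps r₀ ls ls' cs = true → ∀ k < ls.length, k < ls'.length → k < cs.length →
      botsOK n (mask (ls.getD k #[]).toList) (mask (ls'.getD k #[]).toList) (ls.getD k #[]).toList
          (ls'.getD k #[]).toList (ls.getD k #[]).toList = true ∧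
        topsOK (mask (ls'.getD k #[]).toList) (ls.getD k #[]).toList (ls'.getD k #[]).toList = true ∧
        carOK (r₀ + k) (n - 1 - (r₀ + k)) (cs.getD k #[]).toList ps (ls.getD k #[]).toList
          (ls'.getD k #[]).toList = true ∧ bnd (cs.getD k #[]).toList = true
  | r, R :: Rs, R' :: Rs', c :: cs, h, k, h1, h2, h3 => by
    simp only [allPairs, Bool.and_eq_true] at h
    obtain ⟨a1, a2, a3, a4, a5⟩ := h
    rcases k with _ | k
    · simp only [List.getD_cons_zero, Nat.add_zero]
      exact ⟨a1, a2, a3, a4⟩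
    · have := allPairs_sound n ps (r + 1) Rs Rs' cs a5 k (by simpa using h1) (by simpa using h2) (by simpa using h3)
      simpa [Nat.add_assoc, Nat.add_comm 1 k] using this
  | _, [], _, _, _, _, h1, _, _ => by simp at h1
  | _, _, [], _, _, _, _, h2, _ => by simp at h2
  | _, _, _, [], _, _, _, _, h3 => by simp at h3

/-- the checks of the Cartan table -/
def cartanB (n : ℕ) (l : List (Array ℤ)) : Bool :=
  List.rec (motive := fun _ => Bool) true
    (fun a _ ih => Nat.beq (len a.toList) n && (bnd a.toList && ih)) l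

theorem cartanB_sound {n : ℕ} : ∀ l : List (Array ℤ), cartanB n l = true →
    ∀ a ∈ l, a.toList.length = n ∧ bnd a.toList = true
  | [], _, a, ha => by simp at ha
  | b :: l, h, a, ha => by
    have h' : (Nat.beq (len b.toList) n && (bnd b.toList && cartanB n l)) = true := h
    simp only [Bool.and_eq_true] at h'
    rcases List.mem_cons.1 ha with rfl | ha
    · exact ⟨by rw [← len_eq]; exact Nat.eq_of_beq_eq_true h'.1, h'.2.1⟩
    · exact cartanB_sound l h'.2.2 a ha

/-- the whole check -/
def strb (D : ChevalleyDatum) : Bool :=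
  Nat.beq (len D.chain.toList) D.nroots && (Nat.beq (len D.coroot.toList) D.nroots &&
    (Nat.beq (len D.cartanSR.toList) D.rank && (Nat.ble D.rank 8 && (cartanB D.nroots D.cartanSR.toList &&
      allPairs D.nroots (pks D.cartanSR.toList) 0 D.chain.toList D.chain.toList.reverse D.coroot.toList))))

theorem length_le_of_entOK {E : ℕ → List (ℕ × ℤ)} {l : List (ℕ × ℤ)} (h : EntOK E l) : l.length ≤ 3 := by
  cases h <;> simp

theorem nodup_of_sortedFrom : ∀ (R : List (ℕ × Array (ℕ × ℤ))) (b : ℕ), sortedFrom b R = true →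
    (R.map Prod.fst).Nodup
  | [], _, _ => List.nodup_nil
  | e :: R, b, h => by
    simp only [sortedFrom, Bool.and_eq_true] at h
    rw [List.map_cons, List.nodup_cons]
    refine ⟨?_, nodup_of_sortedFrom R _ h.2⟩
    intro hm
    rw [List.mem_map] at hm
    obtain ⟨e', he', h1⟩ := hm
    have := lt_of_sortedFrom R _ h.2 e' he'
    omega

theorem rootOK_of_good {D : ChevalleyDatum} (hG : RootCombGood.Good D) (hA : ∀ r < D.nroots, GoodAt D r) {r : ℕ}
    (hr : r < D.nroots) : RootOK D r := by
  have hnr : D.neg r < D.nroots := by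
    rw [hG.neg_eq hr]
    omega
  exact {
    lt := hr
    neg_lt := hnr
    neg_ne := (hA r hr).neg_ne
    neg_neg := by
      rw [hG.neg_eq hnr, hG.neg_eq hr]
      omega
    nodup := nodup_of_sortedFrom _ 0 (hA r hr).sorted
    nodup_neg := nodup_of_sortedFrom _ 0 (hA _ hnr).sorted
    cartan_self := hG.car_self hr
    cartan_neg := fun i hi => hG.cartan_neg hi hr
    co_neg := fun i hi => hG.co_neg hr hi }

theorem getD_toList' {α : Type*} (a : Array α) (i : ℕ) (d : α) : a.toList.getD i d = a.getD i d := by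
  simp

theorem hasStrings_of_check {D : ChevalleyDatum} (hG : RootCombGood.Good D) (hA : ∀ r < D.nroots, GoodAt D r)
    (h : strb D = true) {r : ℕ} (hr : r < D.nroots) : HasStrings D r := by
  have hok := rootOK_of_good hG hA hr
  simp only [strb, Bool.and_eq_true] at h
  obtain ⟨h1, h2, h3, h4, h5, h6⟩ := h
  have h1 : D.chain.toList.length = D.nroots := by rw [← len_eq]; exact Nat.eq_of_beq_eq_true h1
  have h2 : D.coroot.toList.length = D.nroots := by rw [← len_eq]; exact Nat.eq_of_beq_eq_true h2
  have h3 : D.cartanSR.toList.length = D.rank := by rw [← len_eq]; exact Nat.eq_of_beq_eq_true h3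
  have h4 : D.rank ≤ 8 := Nat.le_of_ble_eq_true h4
  have h5 := cartanB_sound _ h5
  obtain ⟨a1, a2, a3, a4⟩ := allPairs_sound _ _ _ _ _ _ h6 r (by rw [h1]; exact hr)
    (by rw [List.length_reverse, h1]; exact hr) (by rw [h2]; exact hr)
  have eR : (D.chain.toList.getD r #[]).toList = Columns.row D r := by
    rw [getD_toList', Columns.row_def]
  have eR' : (D.chain.toList.reverse.getD r #[]).toList = Columns.row D (D.neg r) := by
    rw [Columns.row_def, hG.neg_eq hr, ← getD_toList', List.getD_eq_getElem _ _ (by rw [List.length_reverse, h1]; exact hr),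
      List.getD_eq_getElem _ _ (by rw [h1]; omega), List.getElem_reverse]
    congr 2
    rw [h1]
  have eneg : D.nroots - 1 - (0 + r) = D.neg r := by rw [Nat.zero_add, hG.neg_eq hr]
  rw [eR, eR'] at a1 a2 a3
  rw [eneg, Nat.zero_add] at a3
  have gr := hA r hr
  have gn := hA _ hok.neg_lt
  have hE : D.chainEntry r = look (Columns.row D r) := funext fun s => chainEntry_eq_look D r s
  have hE' : D.chainEntry (D.neg r) = look (Columns.row D (D.neg r)) := funext fun s => chainEntry_eq_look D _ s
  have hRn : ∀ e ∈ Columns.row D r, e.1 < D.nroots := fun e he => (botsOK_sound _ a1 e he).1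
  have hRn' : ∀ e ∈ Columns.row D (D.neg r), e.1 < D.nroots := by
    obtain ⟨b1, _⟩ := allPairs_sound _ _ _ _ _ _ h6 (D.neg r) (by rw [h1]; exact hok.neg_lt)
      (by rw [List.length_reverse, h1]; exact hok.neg_lt) (by rw [h2]; exact hok.neg_lt)
    have eN : (D.chain.toList.getD (D.neg r) #[]).toList = Columns.row D (D.neg r) := by
      rw [getD_toList', Columns.row_def]
    rw [eN] at b1
    exact fun e he => (botsOK_sound _ b1 e he).1
  have hcar := carOK_sound (l := D.rank) (n := D.nroots) h3.le h4 (fun a ha => (h5 a ha).1) a4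
    (fun a ha => (h5 a ha).2) hr hok.neg_lt gr.sorted gn.sorted hRn hRn'
    (fun s => by rw [← hE]; exact length_le_of_entOK (gr.ent s))
    (fun s => by rw [← hE']; exact length_le_of_entOK (gn.ent s)) a3
  intro s hs hsr hsn
  obtain ⟨q, S, e, hstr, k, hk, hks⟩ := exists_str gr.sorted a1 a2 s
  rw [← hE, ← hE'] at hstr
  have hcs := hcar s hs
  rw [if_neg hsr, if_neg hsn, add_zero, sub_zero, ← hE, ← hE'] at hcs
  have hup := hstr.up k hk
  have hdown := hstr.down k hk
  rw [hks] at hup hdown
  have lup : (D.chainEntry r s).length = q - k := by rw [hup]; simp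
  have ldown : (D.chainEntry (D.neg r) s).length = k := by rw [hdown]; simp
  rw [lup, ldown, Nat.cast_sub hk] at hcs
  have hcartan : cartanR D r s = 2 * (k : ℤ) - (q : ℤ) := by
    have : cartanR D r s = ∑ i ∈ Finset.range D.rank,
        (D.coroot.toList.getD r #[]).toList.getD i 0 * (D.cartanSR.toList.getD i #[]).toList.getD s 0 := by
      rw [cartanR]
      refine Finset.sum_congr rfl fun i _ => ?_
      rw [getD_toList', getD_toList', getD_toList', getD_toList']
      rfl
    rw [this, hcs]
    ring
  -- the bottom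
  have hS0 : S 0 < D.nroots ∧ S 0 ≠ r ∧ S 0 ≠ D.neg r := by
    rcases Nat.eq_zero_or_pos k with rfl | hk0
    · rw [hks]
      exact ⟨hs, hsr, hsn⟩
    · have hm : (S 0, e k * e 0 * ((q - k + (k - 1) + 1).choose (k - 1 + 1) : ℤ)) ∈ D.chainEntry (D.neg r) s := by
        rw [hdown, List.mem_map]
        refine ⟨k - 1, List.mem_range.2 (by omega), ?_⟩
        have : k - (k - 1) - 1 = 0 := by omega
        rw [this]
      exact ⟨gn.lt s _ hm, by have := gn.ne_neg s _ hm; rwa [show D.negIdx.getD (D.neg r) 0 = r from hok.neg_neg] at this,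
        gn.ne s _ hm⟩
  have hSk : ∀ j ≤ q, S j < D.nroots ∧ S j ≠ r ∧ S j ≠ D.neg r := by
    intro j hj
    rcases Nat.eq_zero_or_pos j with rfl | hj0
    · exact hS0
    · have hm : (S j, e 0 * e j * ((j).choose j : ℤ)) ∈ D.chainEntry r (S 0) := by
        rw [hstr.up 0 (Nat.zero_le _), List.mem_map]
        refine ⟨j - 1, List.mem_range.2 (by omega), ?_⟩
        have e1 : 0 + (j - 1) + 1 = j := by omega
        have e2 : j - 1 + 1 = j := by omega
        rw [e1, e2]
      exact ⟨gr.lt _ _ hm, gr.ne _ _ hm, gr.ne_neg _ _ hm⟩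
  refine ⟨q, S, e, k, ⟨hstr.q_le, fun j hj => (hSk j hj).1, fun j hj => (hSk j hj).2.1, fun j hj => (hSk j hj).2.2,
    fun i hi j hj hij => hstr.inj hi hj hij, hstr.sign, hstr.up, hstr.down⟩, hk, hks, hcartan⟩

end Cfsg.Agent.ChevalleyStructure.StringTables
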