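import Mathlib

/-!
# The `ℤ`-forms of `Sym^q`, `q ≤ 3`, of the natural `SL₂`-module on root elements

`up q t`, `down q t`: matrices of `[[1,0],[t,1]]`, `[[1,t],[0,1]]` on the divided-power type basis `f_0, …, f_q`.
-/

set_option autoImplicit false

namespace Cfsg.Agent.ChevalleyStructure.SymPow

open scoped Matrix

universe u

variable {F : Type u} [Field F]

/-- `f_j ↦ ∑_{k ≥ j} C(k, j) t^(k-j) f_k`. -/
def up (q : ℕ) (t : F) : Matrix (Fin (q + 1)) (Fin (q + 1)) F :=
  Matrix.of fun k j => ((k.val.choose j.val : ℕ) : F) * t ^ (k.val - j.val)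

/-- `f_j ↦ ∑_{k ≤ j} C(q-k, q-j) t^(j-k) f_k`. -/
def down (q : ℕ) (t : F) : Matrix (Fin (q + 1)) (Fin (q + 1)) F :=
  Matrix.of fun k j => (((q - k.val).choose (q - j.val) : ℕ) : F) * t ^ (j.val - k.val)

/-- `f_j ↦ (-1)^j t^(q-2j) f_{q-j}`. -/
def anti (q : ℕ) (t : F) : Matrix (Fin (q + 1)) (Fin (q + 1)) F :=
  Matrix.of fun k j => if k.val + j.val = q then (-1) ^ j.val * t ^ ((q : ℤ) - 2 * (j.val : ℤ)) else 0

theorem up_zero (t : F) : up 0 t = !![1] := by
  ext i j; fin_cases i; fin_cases j; simp [up]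
theorem down_zero (t : F) : down 0 t = !![1] := by
  ext i j; fin_cases i; fin_cases j; simp [down]
theorem anti_zero (t : F) : anti 0 t = !![1] := by
  ext i j; fin_cases i; fin_cases j; simp [anti]
theorem up_one (t : F) : up 1 t = !![1, 0; t, 1] := by
  ext i j; fin_cases i <;> fin_cases j <;> simp [up]
theorem down_one (t : F) : down 1 t = !![1, t; 0, 1] := by
  ext i j; fin_cases i <;> fin_cases j <;> simp [down]
theorem anti_one (t : F) : anti 1 t = !![0, -t⁻¹; t, 0] := by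
  ext i j; fin_cases i <;> fin_cases j <;> simp [anti]
theorem up_two (t : F) : up 2 t = !![1, 0, 0; t, 1, 0; t ^ 2, 2 * t, 1] := by
  ext i j; fin_cases i <;> fin_cases j <;> simp [up]
theorem down_two (t : F) : down 2 t = !![1, 2 * t, t ^ 2; 0, 1, t; 0, 0, 1] := by
  ext i j; fin_cases i <;> fin_cases j <;> simp [down]
theorem anti_two (t : F) : anti 2 t = !![0, 0, (t ^ 2)⁻¹; 0, -1, 0; t ^ 2, 0, 0] := by
  ext i j; fin_cases i <;> fin_cases j <;> simp [anti]
theorem up_three (t : F) : up 3 t = !![1, 0, 0, 0; t, 1, 0, 0; t ^ 2, 2 * t, 1, 0; t ^ 3, 3 * t ^ 2, 3 * t, 1] := by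
  ext i j; fin_cases i <;> fin_cases j <;> simp [up, show Nat.choose 1 3 = 0 from rfl]
theorem down_three (t : F) :
    down 3 t = !![1, 3 * t, 3 * t ^ 2, t ^ 3; 0, 1, 2 * t, t ^ 2; 0, 0, 1, t; 0, 0, 0, 1] := by
  ext i j; fin_cases i <;> fin_cases j <;>
    simp [down, show Nat.choose 1 3 = 0 from rfl]
theorem anti_three (t : F) :
    anti 3 t = !![0, 0, 0, -(t ^ 3)⁻¹; 0, 0, t⁻¹, 0; 0, -t, 0, 0; t ^ 3, 0, 0, 0] := by
  ext i j; fin_cases i <;> fin_cases j <;> simp [anti]
  · ring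

theorem up_down_up (q : ℕ) (hq : q ≤ 3) (t : F) (ht : t ≠ 0) :
    up q t * (down q (-t⁻¹) * up q t) = anti q t := by
  interval_cases q
  · rw [up_zero, down_zero, anti_zero]; ext i j; fin_cases i; fin_cases j; simp
  · rw [up_one, down_one, anti_one]
    ext i j
    fin_cases i <;> fin_cases j <;> simp [Matrix.mul_apply, Fin.sum_univ_two, ht]
  · rw [up_two, down_two, anti_two]
    ext i j
    fin_cases i <;> fin_cases j <;> simp [Matrix.mul_apply, Fin.sum_univ_three] <;> field_simp <;> ring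
  · rw [up_three, down_three, anti_three]
    ext i j
    fin_cases i <;> fin_cases j <;> simp [Matrix.mul_apply, Fin.sum_univ_four] <;> field_simp <;> ring

end Cfsg.Agent.ChevalleyStructure.SymPow
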