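import Cfsg.Agent.ChevalleyStructure.XColumns
import Cfsg.Agent.ChevalleyStructure.SymPow

/-!
# Rank-one strings in a Chevalley datum (field level)

`RootOK D r`: the table facts about the pair `±r`. `StringAt D r q S E`: the roots `S 0, …, S q` (`q ≤ 3`, all
`≠ ±r`) form an `r`-string in the chain table, with signs `E k = ±1` such that `f_k = E k • e_{S k}` satisfies
`x_r(t) f_k = ∑_l C(l, k) t^(l-k) f_l` and `x_{-r}(t) f_k = ∑_l C(q-l, q-k) t^(k-l) f_l`. From this: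
`n_r(t) f_k = (-1)^k t^(q-2k) f_{q-k}` and `h_r(t) f_k = t^(2k-q) f_k`.
-/

set_option autoImplicit false

namespace Cfsg.Agent.ChevalleyStructure.Strings

open Cfsg.Lie
open Cfsg.Agent.ChevalleyStructure.XColumns
open Cfsg.Agent.ChevalleyStructure.SymPow
open scoped Matrix

universe u

/-- The coefficient `c_i(r)` of the coroot `h_r`. -/
def co (D : ChevalleyDatum) (r i : ℕ) : ℤ := (D.coroot.getD r #[]).getD i 0

/-- The general Cartan integer `A_{r,s} = ∑ c_i(r) A_{p_i,s}`. -/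
def cartanR (D : ChevalleyDatum) (r s : ℕ) : ℤ := ∑ i ∈ Finset.range D.rank, co D r i * D.cartan i s

/-- Table facts about the pair `±r`. -/
structure RootOK (D : ChevalleyDatum) (r : ℕ) : Prop where
  lt : r < D.nroots
  neg_lt : D.neg r < D.nroots
  neg_ne : D.neg r ≠ r
  neg_neg : D.neg (D.neg r) = r
  nodup : ((row D r).map Prod.fst).Nodup
  nodup_neg : ((row D (D.neg r)).map Prod.fst).Nodup
  cartan_self : cartanR D r r = 2
  cartan_neg : ∀ i < D.rank, D.cartan i (D.neg r) = - D.cartan i r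
  co_neg : ∀ i < D.rank, co D (D.neg r) i = - co D r i

/-- The roots `S 0, …, S q` form an `r`-string with signs `E`. -/
structure StringAt (D : ChevalleyDatum) (r q : ℕ) (S : ℕ → ℕ) (E : ℕ → ℤ) : Prop where
  q_le : q ≤ 3
  lt : ∀ k ≤ q, S k < D.nroots
  ne : ∀ k ≤ q, S k ≠ r
  ne_neg : ∀ k ≤ q, S k ≠ D.neg r
  inj : ∀ k ≤ q, ∀ l ≤ q, S k = S l → k = l
  sign : ∀ k ≤ q, E k = 1 ∨ E k = -1
  up : ∀ k ≤ q, D.chainEntry r (S k) =
    (List.range (q - k)).map fun m => (S (k + m + 1), E k * E (k + m + 1) * ((k + m + 1).choose (m + 1) : ℤ))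
  down : ∀ k ≤ q, D.chainEntry (D.neg r) (S k) =
    (List.range k).map fun m => (S (k - m - 1), E k * E (k - m - 1) * ((q - k + m + 1).choose (m + 1) : ℤ))

variable {D : ChevalleyDatum} {F : Type u} [Field F]

/-- The signed basis vector `f_k = E_k e_{S k}`. -/
def fv (D : ChevalleyDatum) (F : Type u) [Field F] (S : ℕ → ℕ) (E : ℕ → ℤ) (k : ℕ) : D.Idx → F :=
  (E k : F) • ev D F (S k)

theorem zipIdx_map_range {α : Type*} (f : ℕ → α) (n : ℕ) :
    ((List.range n).map f).zipIdx = (List.range n).map fun m => (f m, m) := by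
  apply List.ext_getElem
  · simp
  · intro i h1 h2
    simp

theorem sum_map_range {M : Type*} [AddCommMonoid M] (f : ℕ → M) (n : ℕ) :
    ((List.range n).map f).sum = ∑ m ∈ Finset.range n, f m := by
  induction n with
  | zero => rfl
  | succ n ih => rw [List.range_succ, List.map_append, List.sum_append, ih, Finset.sum_range_succ]; simp

theorem sign_sq {q : ℕ} {S : ℕ → ℕ} {E : ℕ → ℤ} {r : ℕ} (h : StringAt D r q S E) {k : ℕ} (hk : k ≤ q) :
    (E k : F) * (E k : F) = 1 := by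
  rcases h.sign k hk with h1 | h1 <;> simp [h1]

theorem x_fv {r q : ℕ} {S : ℕ → ℕ} {E : ℕ → ℤ} (hr : RootOK D r) (h : StringAt D r q S E) (t : F) {k : ℕ}
    (hk : k ≤ q) :
    D.x F r t *ᵥ fv D F S E k = ∑ l ∈ Finset.range (q + 1), ((l.choose k : F) * t ^ (l - k)) • fv D F S E l := by
  have hq : q + 1 = k + (q - k + 1) := by omega
  rw [hq, Finset.sum_range_add, Finset.sum_eq_zero, zero_add, Finset.sum_range_succ']
  · simp only [Nat.add_zero, Nat.choose_self, Nat.cast_one, Nat.sub_self, pow_zero, mul_one, one_smul]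
    rw [fv, Matrix.mulVec_smul, x_mulVec_ev hr.lt (h.lt k hk) (h.ne k hk) (h.ne_neg k hk) hr.nodup, h.up k hk,
      zipIdx_map_range, List.map_map, sum_map_range, smul_add, add_comm, Finset.smul_sum]
    congr 1
    apply Finset.sum_congr rfl
    intro m hm
    rw [Finset.mem_range] at hm
    simp only [Function.comp, fv, smul_smul]
    have e1 : k + (m + 1) - k = m + 1 := by omega
    have e2 : (k + (m + 1)).choose k = (k + m + 1).choose (m + 1) := by
      rw [Nat.add_assoc k m 1, Nat.choose_symm_add]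
    rw [e1, e2, ← Nat.add_assoc]
    congr 1
    push_cast
    have := sign_sq (F := F) h hk
    linear_combination (E (k + m + 1) : F) * ((k + m + 1).choose (m + 1) : F) * t ^ (m + 1) * this
  · intro l hl
    rw [Finset.mem_range] at hl
    rw [Nat.choose_eq_zero_of_lt hl]
    simp

theorem xneg_fv {r q : ℕ} {S : ℕ → ℕ} {E : ℕ → ℤ} (hr : RootOK D r) (h : StringAt D r q S E) (t : F) {k : ℕ}
    (hk : k ≤ q) :
    D.x F (D.neg r) t *ᵥ fv D F S E k =
      ∑ l ∈ Finset.range (q + 1), (((q - l).choose (q - k) : F) * t ^ (k - l)) • fv D F S E l := by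
  have hq : q + 1 = (k + 1) + (q - k) := by omega
  rw [hq, Finset.sum_range_add, Finset.sum_eq_zero (s := Finset.range (q - k)), add_zero]
  · rw [← Finset.sum_range_reflect, Finset.sum_range_succ']
    simp only [Nat.add_sub_cancel, Nat.sub_zero, Nat.choose_self, Nat.cast_one, Nat.sub_self, pow_zero, mul_one,
      one_smul]
    rw [fv, Matrix.mulVec_smul, x_mulVec_ev hr.neg_lt (h.lt k hk) (h.ne_neg k hk) (by rw [hr.neg_neg]; exact h.ne k hk)
      hr.nodup_neg, h.down k hk, zipIdx_map_range, List.map_map, sum_map_range, smul_add, add_comm, Finset.smul_sum]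
    congr 1
    apply Finset.sum_congr rfl
    intro m hm
    rw [Finset.mem_range] at hm
    simp only [Function.comp, fv, smul_smul]
    have e1 : k - (k - (m + 1)) = m + 1 := by omega
    have e3 : k - m - 1 = k - (m + 1) := by omega
    have e2 : (q - (k - (m + 1))).choose (q - k) = (q - k + m + 1).choose (m + 1) := by
      have : q - (k - (m + 1)) = (q - k) + (m + 1) := by omega
      rw [this, Nat.choose_symm_add, Nat.add_assoc]
    rw [e1, e2, e3]
    congr 1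
    push_cast
    have := sign_sq (F := F) h hk
    linear_combination (E (k - (m + 1)) : F) * ((q - k + m + 1).choose (m + 1) : F) * t ^ (m + 1) * this
  · intro l hl
    rw [Finset.mem_range] at hl
    rw [Nat.choose_eq_zero_of_lt (by omega)]
    simp

/-! ### Intertwiners -/

theorem inter_mul {n : ℕ} {A B : Matrix (Fin n) (Fin n) F} {M M' : Matrix D.Idx D.Idx F} {f : Fin n → D.Idx → F}
    (h : ∀ k, M *ᵥ f k = ∑ l, A l k • f l) (h' : ∀ k, M' *ᵥ f k = ∑ l, B l k • f l) (k : Fin n) :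
    (M * M') *ᵥ f k = ∑ l, (A * B) l k • f l := by
  rw [← Matrix.mulVec_mulVec, h' k, Matrix.mulVec_sum]
  simp only [Matrix.mulVec_smul, h, Finset.smul_sum, smul_smul, Matrix.mul_apply, Finset.sum_smul]
  rw [Finset.sum_comm]
  exact Finset.sum_congr rfl fun l _ => Finset.sum_congr rfl fun m _ => by rw [mul_comm]

theorem x_inter {r q : ℕ} {S : ℕ → ℕ} {E : ℕ → ℤ} (hr : RootOK D r) (h : StringAt D r q S E) (t : F)
    (k : Fin (q + 1)) :
    D.x F r t *ᵥ fv D F S E k.val = ∑ l : Fin (q + 1), SymPow.up q t l k • fv D F S E l.val := by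
  rw [x_fv hr h t (Nat.lt_succ_iff.1 k.2), Finset.sum_range]
  rfl

theorem xneg_inter {r q : ℕ} {S : ℕ → ℕ} {E : ℕ → ℤ} (hr : RootOK D r) (h : StringAt D r q S E) (t : F)
    (k : Fin (q + 1)) :
    D.x F (D.neg r) t *ᵥ fv D F S E k.val = ∑ l : Fin (q + 1), SymPow.down q t l k • fv D F S E l.val := by
  rw [xneg_fv hr h t (Nat.lt_succ_iff.1 k.2), Finset.sum_range]
  rfl

theorem nMat_eq (r : ℕ) (t : F) : D.nMat F r t = D.x F r t * (D.x F (D.neg r) (-t⁻¹) * D.x F r t) := by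
  simp [ChevalleyDatum.nMat, ChevalleyDatum.wordMat, ChevalleyDatum.nWord]

theorem hMat_eq (r : ℕ) (t : F) : D.hMat F r t = D.nMat F r t * D.nMat F r (-1) := by
  simp [ChevalleyDatum.nMat, ChevalleyDatum.hMat, ChevalleyDatum.hWord, ChevalleyDatum.wordMat]

theorem nMat_fv {r q : ℕ} {S : ℕ → ℕ} {E : ℕ → ℤ} (hr : RootOK D r) (h : StringAt D r q S E) {t : F} (ht : t ≠ 0)
    {k : ℕ} (hk : k ≤ q) :
    D.nMat F r t *ᵥ fv D F S E k = ((-1) ^ k * t ^ ((q : ℤ) - 2 * (k : ℤ))) • fv D F S E (q - k) := by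
  have h1 := inter_mul (f := fun k : Fin (q + 1) => fv D F S E k.val) (x_inter hr h t)
    (inter_mul (f := fun k : Fin (q + 1) => fv D F S E k.val) (xneg_inter hr h (-t⁻¹)) (x_inter hr h t))
    ⟨k, Nat.lt_succ_iff.2 hk⟩
  rw [← nMat_eq, up_down_up q h.q_le t ht] at h1
  rw [h1, Finset.sum_eq_single (⟨q - k, by omega⟩ : Fin (q + 1))]
  · simp only [anti, Matrix.of_apply]
    rw [if_pos (by omega)]
  · intro b _ hb
    simp only [anti, Matrix.of_apply]
    rw [if_neg, zero_smul]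
    intro hbk
    apply hb
    ext
    simp only
    omega
  · intro hh
    exact absurd (Finset.mem_univ _) hh

theorem hMat_fv {r q : ℕ} {S : ℕ → ℕ} {E : ℕ → ℤ} (hr : RootOK D r) (h : StringAt D r q S E) {t : F} (ht : t ≠ 0)
    {k : ℕ} (hk : k ≤ q) :
    D.hMat F r t *ᵥ fv D F S E k = (t ^ (2 * (k : ℤ) - (q : ℤ))) • fv D F S E k := by
  rw [hMat_eq, ← Matrix.mulVec_mulVec, nMat_fv hr h (neg_ne_zero.2 one_ne_zero) hk, Matrix.mulVec_smul,
    nMat_fv hr h ht (Nat.sub_le _ _), smul_smul]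
  have e1 : q - (q - k) = k := by omega
  rw [e1]
  congr 1
  have e2 : ((-1 : F)) ^ ((q : ℤ) - 2 * (k : ℤ)) = (-1) ^ q := by
    rw [zpow_sub₀ (neg_ne_zero.2 one_ne_zero), zpow_natCast, zpow_mul]
    norm_num
  have e3 : (q : ℤ) - 2 * ((q - k : ℕ) : ℤ) = 2 * (k : ℤ) - (q : ℤ) := by
    rw [Nat.cast_sub hk]; ring
  rw [e2, e3, ← mul_assoc]
  have e4 : (-1 : F) ^ k * (-1) ^ q * (-1) ^ (q - k) = 1 := by
    rw [← pow_add, ← pow_add]
    have : k + q + (q - k) = 2 * q := by omega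
    rw [this, pow_mul]
    norm_num
  rw [e4, one_mul]

theorem hMat_ev {r q : ℕ} {S : ℕ → ℕ} {E : ℕ → ℤ} (hr : RootOK D r) (h : StringAt D r q S E) {t : F} (ht : t ≠ 0)
    {k : ℕ} (hk : k ≤ q) :
    D.hMat F r t *ᵥ ev D F (S k) = (t ^ (2 * (k : ℤ) - (q : ℤ))) • ev D F (S k) := by
  have h1 : ev D F (S k) = (E k : F) • fv D F S E k := by
    rw [fv, smul_smul, sign_sq h hk, one_smul]
  rw [h1, Matrix.mulVec_smul, hMat_fv hr h ht hk, smul_comm]

/-- `n_r(t) e_{S k} = ± t^(q-2k) e_{S (q-k)}`. -/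
theorem nMat_ev {r q : ℕ} {S : ℕ → ℕ} {E : ℕ → ℤ} (hr : RootOK D r) (h : StringAt D r q S E) {t : F} (ht : t ≠ 0)
    {k : ℕ} (hk : k ≤ q) :
    D.nMat F r t *ᵥ ev D F (S k) =
      ((E k : F) * (E (q - k) : F) * (-1) ^ k * t ^ ((q : ℤ) - 2 * (k : ℤ))) • ev D F (S (q - k)) := by
  have h1 : ev D F (S k) = (E k : F) • fv D F S E k := by
    rw [fv, smul_smul, sign_sq h hk, one_smul]
  rw [h1, Matrix.mulVec_smul, nMat_fv hr h ht hk, fv, smul_smul, smul_smul]
  congr 1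
  ring

/-! ### The adjoint block -/

theorem corv_eq_sum (r : ℕ) : corv D F r = ∑ i ∈ Finset.range D.rank, (co D r i : F) • hv D F i := by
  funext a
  rw [Finset.sum_apply]
  rcases a with i | v
  · rw [corv_inl, Finset.sum_eq_single i.val]
    · simp [co]
    · intro b _ hb
      simp [Ne.symm hb]
    · intro hi
      exact absurd (Finset.mem_range.2 i.2) hi
  · simp

theorem corv_neg {r : ℕ} (hr : RootOK D r) : corv D F (D.neg r) = - corv D F r := by
  rw [corv_eq_sum, corv_eq_sum, ← Finset.sum_neg_distrib]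
  refine Finset.sum_congr rfl fun i hi => ?_
  rw [hr.co_neg i (Finset.mem_range.1 hi)]
  simp

theorem x_hv {r : ℕ} (hr : RootOK D r) (t : F) {i : ℕ} (hi : i < D.rank) :
    D.x F r t *ᵥ hv D F i = hv D F i - ((D.cartan i r : F) * t) • ev D F r := x_mulVec_hv hr.lt hi t

theorem xneg_hv {r : ℕ} (hr : RootOK D r) (t : F) {i : ℕ} (hi : i < D.rank) :
    D.x F (D.neg r) t *ᵥ hv D F i = hv D F i + ((D.cartan i r : F) * t) • ev D F (D.neg r) := by
  rw [x_mulVec_hv hr.neg_lt hi t, hr.cartan_neg i hi]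
  push_cast
  rw [neg_mul, neg_smul, sub_neg_eq_add]

theorem x_corv {r : ℕ} (hr : RootOK D r) (t : F) :
    D.x F r t *ᵥ corv D F r = corv D F r - (2 * t) • ev D F r := by
  rw [corv_eq_sum, Matrix.mulVec_sum]
  have : ∀ i ∈ Finset.range D.rank, D.x F r t *ᵥ ((co D r i : F) • hv D F i) =
      (co D r i : F) • hv D F i - ((co D r i * D.cartan i r : ℤ) : F) • (t • ev D F r) := by
    intro i hi
    rw [Matrix.mulVec_smul, x_hv hr t (Finset.mem_range.1 hi), smul_sub, smul_smul, smul_smul]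
    push_cast
    rw [mul_assoc]
  rw [Finset.sum_congr rfl this, Finset.sum_sub_distrib, ← Finset.sum_smul, ← Int.cast_sum]
  have h2 : (∑ i ∈ Finset.range D.rank, co D r i * D.cartan i r) = 2 := hr.cartan_self
  rw [h2, smul_smul]
  push_cast
  rfl

theorem xneg_corv {r : ℕ} (hr : RootOK D r) (t : F) :
    D.x F (D.neg r) t *ᵥ corv D F r = corv D F r + (2 * t) • ev D F (D.neg r) := by
  rw [corv_eq_sum, Matrix.mulVec_sum]
  have : ∀ i ∈ Finset.range D.rank, D.x F (D.neg r) t *ᵥ ((co D r i : F) • hv D F i) =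
      (co D r i : F) • hv D F i + ((co D r i * D.cartan i r : ℤ) : F) • (t • ev D F (D.neg r)) := by
    intro i hi
    rw [Matrix.mulVec_smul, xneg_hv hr t (Finset.mem_range.1 hi), smul_add, smul_smul, smul_smul]
    push_cast
    rw [mul_assoc]
  rw [Finset.sum_congr rfl this, Finset.sum_add_distrib, ← Finset.sum_smul, ← Int.cast_sum]
  have h2 : (∑ i ∈ Finset.range D.rank, co D r i * D.cartan i r) = 2 := hr.cartan_self
  rw [h2, smul_smul]
  push_cast
  rfl

theorem x_ev_self {r : ℕ} (hr : RootOK D r) (t : F) : D.x F r t *ᵥ ev D F r = ev D F r :=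
  x_mulVec_ev_self hr.lt t

theorem xneg_ev_neg {r : ℕ} (hr : RootOK D r) (t : F) :
    D.x F (D.neg r) t *ᵥ ev D F (D.neg r) = ev D F (D.neg r) := x_mulVec_ev_self hr.neg_lt t

theorem x_ev_neg {r : ℕ} (hr : RootOK D r) (t : F) :
    D.x F r t *ᵥ ev D F (D.neg r) = ev D F (D.neg r) + t • corv D F r - t ^ 2 • ev D F r :=
  x_mulVec_ev_neg hr.lt hr.neg_lt hr.neg_ne t

theorem xneg_ev_self {r : ℕ} (hr : RootOK D r) (t : F) :
    D.x F (D.neg r) t *ᵥ ev D F r = ev D F r - t • corv D F r - t ^ 2 • ev D F (D.neg r) := by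
  have h := x_mulVec_ev_neg (D := D) (F := F) (r := D.neg r) hr.neg_lt (by rw [hr.neg_neg]; exact hr.lt)
    (by rw [hr.neg_neg]; exact hr.neg_ne.symm) t
  rw [hr.neg_neg, corv_neg hr] at h
  rw [h, smul_neg, sub_eq_add_neg (ev D F r)]

/-- `n_r(t) e_r = -t⁻² e_{-r}`. -/
theorem nMat_ev_self {r : ℕ} (hr : RootOK D r) {t : F} (ht : t ≠ 0) :
    D.nMat F r t *ᵥ ev D F r = (-(t ^ 2)⁻¹) • ev D F (D.neg r) := by
  rw [nMat_eq, ← Matrix.mulVec_mulVec, ← Matrix.mulVec_mulVec, x_ev_self hr, xneg_ev_self hr]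
  simp only [Matrix.mulVec_sub, Matrix.mulVec_smul, x_ev_self hr, x_ev_neg hr, x_corv hr, smul_sub, smul_add,
    smul_smul]
  match_scalars <;> field_simp <;> ring

/-- `n_r(t) e_{-r} = -t² e_r`. -/
theorem nMat_ev_neg {r : ℕ} (hr : RootOK D r) {t : F} (ht : t ≠ 0) :
    D.nMat F r t *ᵥ ev D F (D.neg r) = (-(t ^ 2)) • ev D F r := by
  rw [nMat_eq, ← Matrix.mulVec_mulVec, ← Matrix.mulVec_mulVec, x_ev_neg hr]
  simp only [Matrix.mulVec_sub, Matrix.mulVec_add, Matrix.mulVec_smul, x_ev_self hr, x_ev_neg hr, x_corv hr,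
    xneg_ev_self hr, xneg_ev_neg hr, xneg_corv hr, smul_sub, smul_add, smul_smul]
  match_scalars <;> field_simp <;> ring

/-- `n_r(t) h_{p_i} = h_{p_i} - A_{p_i,r} h_r`. -/
theorem nMat_hv {r : ℕ} (hr : RootOK D r) {t : F} (ht : t ≠ 0) {i : ℕ} (hi : i < D.rank) :
    D.nMat F r t *ᵥ hv D F i = hv D F i - (D.cartan i r : F) • corv D F r := by
  rw [nMat_eq, ← Matrix.mulVec_mulVec, ← Matrix.mulVec_mulVec, x_hv hr t hi]
  simp only [Matrix.mulVec_sub, Matrix.mulVec_add, Matrix.mulVec_smul, x_ev_self hr, x_ev_neg hr, x_corv hr,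
    xneg_ev_self hr, x_hv hr t hi, xneg_hv hr _ hi, smul_sub, smul_add, smul_smul]
  match_scalars <;> field_simp <;> ring

/-- `n_r(t) h_r = - h_r`. -/
theorem nMat_corv {r : ℕ} (hr : RootOK D r) {t : F} (ht : t ≠ 0) :
    D.nMat F r t *ᵥ corv D F r = - corv D F r := by
  rw [nMat_eq, ← Matrix.mulVec_mulVec, ← Matrix.mulVec_mulVec, x_corv hr]
  simp only [Matrix.mulVec_sub, Matrix.mulVec_add, Matrix.mulVec_smul, x_ev_self hr, x_ev_neg hr, x_corv hr,
    xneg_ev_self hr, xneg_corv hr, smul_sub, smul_add, smul_smul]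
  match_scalars <;> field_simp <;> ring

theorem hMat_ev_self {r : ℕ} (hr : RootOK D r) {t : F} (ht : t ≠ 0) :
    D.hMat F r t *ᵥ ev D F r = (t ^ (2 : ℤ)) • ev D F r := by
  rw [hMat_eq, ← Matrix.mulVec_mulVec, nMat_ev_self hr (neg_ne_zero.2 one_ne_zero), Matrix.mulVec_smul,
    nMat_ev_neg hr ht, smul_smul]
  congr 1
  norm_num

theorem hMat_ev_neg {r : ℕ} (hr : RootOK D r) {t : F} (ht : t ≠ 0) :
    D.hMat F r t *ᵥ ev D F (D.neg r) = (t ^ (-2 : ℤ)) • ev D F (D.neg r) := by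
  rw [hMat_eq, ← Matrix.mulVec_mulVec, nMat_ev_neg hr (neg_ne_zero.2 one_ne_zero), Matrix.mulVec_smul,
    nMat_ev_self hr ht, smul_smul]
  congr 1
  norm_num

theorem hMat_hv {r : ℕ} (hr : RootOK D r) {t : F} (ht : t ≠ 0) {i : ℕ} (hi : i < D.rank) :
    D.hMat F r t *ᵥ hv D F i = hv D F i := by
  rw [hMat_eq, ← Matrix.mulVec_mulVec, nMat_hv hr (neg_ne_zero.2 one_ne_zero) hi, Matrix.mulVec_sub,
    Matrix.mulVec_smul, nMat_hv hr ht hi, nMat_corv hr ht, smul_neg, sub_neg_eq_add, sub_add_cancel]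

/-! ### The matrices `n_r(t)` and `h_r(t)` -/

/-- Every root `s ≠ ±r` lies in an `r`-string, at the position given by the Cartan integer `A_{r,s} = 2k - q`. -/
def HasStrings (D : ChevalleyDatum) (r : ℕ) : Prop :=
  ∀ s < D.nroots, s ≠ r → s ≠ D.neg r → ∃ (q : ℕ) (S : ℕ → ℕ) (E : ℕ → ℤ) (k : ℕ),
    StringAt D r q S E ∧ k ≤ q ∧ S k = s ∧ cartanR D r s = 2 * (k : ℤ) - (q : ℤ)

theorem cartanR_neg {r : ℕ} (hr : RootOK D r) : cartanR D r (D.neg r) = -2 := by
  rw [← hr.cartan_self, cartanR, cartanR, ← Finset.sum_neg_distrib]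
  exact Finset.sum_congr rfl fun i hi => by rw [hr.cartan_neg i (Finset.mem_range.1 hi), mul_neg]

theorem hMat_ev_all {r : ℕ} (hr : RootOK D r) (hS : HasStrings D r) {t : F} (ht : t ≠ 0) {s : ℕ}
    (hs : s < D.nroots) : D.hMat F r t *ᵥ ev D F s = t ^ cartanR D r s • ev D F s := by
  by_cases h1 : s = r
  · subst h1
    rw [hMat_ev_self hr ht, hr.cartan_self]
  by_cases h2 : s = D.neg r
  · subst h2
    rw [hMat_ev_neg hr ht, cartanR_neg hr]
  obtain ⟨q, S, E, k, hst, hk, hSk, hc⟩ := hS s hs h1 h2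
  rw [hc, ← hSk]
  exact hMat_ev hr hst ht hk

/-- `h_r(t) = diag(1, t^{A_{r,s}})`. -/
theorem hMat_eq_diagonal {r : ℕ} (hr : RootOK D r) (hS : HasStrings D r) {t : F} (ht : t ≠ 0) :
    D.hMat F r t =
      Matrix.diagonal (Sum.elim (fun _ => (1 : F)) (fun s : Fin D.nroots => t ^ cartanR D r s)) := by
  apply Matrix.ext_of_mulVec_single
  rintro (i | s)
  · have h := hMat_hv (F := F) hr ht i.2
    rw [hv_eq_single i.2] at h
    rw [h, Matrix.diagonal_mulVec_single]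
    simp
  · have h := hMat_ev_all (F := F) hr hS ht s.2
    rw [ev_eq_single s.2] at h
    rw [h, Matrix.diagonal_mulVec_single]
    ext a
    simp [Pi.single_apply]

/-- `n_r(t)` sends every `e_s` to a non-zero multiple of some `e_{s'}`. -/
theorem nMat_ev_all {r : ℕ} (hr : RootOK D r) (hS : HasStrings D r) {t : F} (ht : t ≠ 0) {s : ℕ}
    (hs : s < D.nroots) : ∃ (s' : ℕ) (c : F), s' < D.nroots ∧ c ≠ 0 ∧ D.nMat F r t *ᵥ ev D F s = c • ev D F s' := by
  by_cases h1 : s = r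
  · subst h1
    exact ⟨_, _, hr.neg_lt, neg_ne_zero.2 (inv_ne_zero (pow_ne_zero 2 ht)), nMat_ev_self hr ht⟩
  by_cases h2 : s = D.neg r
  · subst h2
    exact ⟨_, _, hr.lt, neg_ne_zero.2 (pow_ne_zero 2 ht), nMat_ev_neg hr ht⟩
  obtain ⟨q, S, E, k, hst, hk, hSk, hc⟩ := hS s hs h1 h2
  refine ⟨S (q - k), _, hst.lt _ (Nat.sub_le _ _), ?_, by rw [← hSk]; exact nMat_ev hr hst ht hk⟩
  have e1 : (E k : F) ≠ 0 := fun h0 => by simpa [h0] using sign_sq (F := F) hst hk
  have e2 : (E (q - k) : F) ≠ 0 := fun h0 => by simpa [h0] using sign_sq (F := F) hst (Nat.sub_le q k)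
  exact mul_ne_zero (mul_ne_zero (mul_ne_zero e1 e2) (pow_ne_zero _ (neg_ne_zero.2 one_ne_zero))) (zpow_ne_zero _ ht)

end Cfsg.Agent.ChevalleyStructure.Strings
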