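import Cfsg.Prelude.Def_ChevStructure
import Cfsg.Prelude.Def_LieTypes
import Cfsg.Prelude.Def_ChevB2
import Cfsg.Prelude.Def_LieExceptional
import Cfsg.Agent.ChevalleyStructure.Elts
import Cfsg.Agent.S0319
import Cfsg.Agent.S1042
import Cfsg.Agent.S1050
import Cfsg.Agent.S1051
import Cfsg.Agent.S1052

/-!
Simplicity of the Chevalley groups from the Tits criterion, given irreducibility of the (B,N)-pair.
-/

set_option autoImplicit false

namespace Cfsg.Agent.ChevalleyStructure.TitsSimple

open Cfsg Cfsg.Agent.ChevalleyStructure.Elts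

theorem not_comm_of_perfect {G : Type*} [Group G] [Nontrivial G] (h : commutator G = ⊤) :
    ¬ IsMulCommutative G := by
  intro hc
  have h1 : commutator G = ⊥ := by
    rw [commutator_eq_closure, Subgroup.closure_eq_bot_iff]
    rintro _ ⟨a, b, rfl⟩
    rw [Set.mem_singleton_iff, commutatorElement_eq_one_iff_mul_comm]
    exact hc.is_comm.comm a b
  rw [h] at h1
  exact top_ne_bot h1

theorem pos_nroots (D : Cfsg.Lie.ChevalleyDatum) (hD : InList D) : 0 < D.nroots := by
  simp only [InList, List.mem_cons, List.not_mem_nil, or_false] at hD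
  rcases hD with rfl | rfl | rfl | rfl | rfl | rfl | rfl <;> exact Nat.succ_pos _

theorem nontrivial_group {F : Type*} [Field F] (D : Cfsg.Lie.ChevalleyDatum) (hD : InList D) :
    Nontrivial ↥(D.group F) := by
  have h0 := pos_nroots D hD
  refine ⟨⟨⟨xG hD 0 1, xG_mem_group hD 0 1⟩, 1, ?_⟩⟩
  intro h
  have h1 : xG hD 0 (1 : F) = 1 := congrArg Subtype.val h
  exact one_ne_zero ((xG_eq_one_iff hD h0 (1 : F)).1 h1)

/-- The Tits criterion applied to a tabulated Chevalley group, irreducibility being assumed. -/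
theorem simple_of_irreducible {F : Type*} [Field F] (D : Cfsg.Lie.ChevalleyDatum) (hD : InList D)
    (h2 : D = Cfsg.Lie.chevG2 ∨ D = Cfsg.Lie.chevB2 → ∃ a : F, a ≠ 0 ∧ a ≠ 1)
    (hirr : ∀ P : Cfsg.BNPair ↥(D.group F),
      P.B = (D.borelSubgroup F).subgroupOf (D.group F) →
      P.N = (D.monomialSubgroup F).subgroupOf (D.group F) →
      P.S = {n : ↥(D.group F) | ∃ i < D.rank,
        ((n : GL D.Idx F) : Matrix D.Idx D.Idx F) = D.nMat F (D.simple i) 1} → P.Irreducible) :
    IsSimpleGroup ↥(D.group F) ∧ ¬ IsMulCommutative ↥(D.group F) := by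
  haveI := nontrivial_group (F := F) D hD
  have hperf := Cfsg.Agent.S1052.result (F := F) D hD h2
  refine ⟨?_, not_comm_of_perfect hperf⟩
  obtain ⟨P, hB, hN, hS⟩ := Cfsg.Agent.S1042.result (F := F) D hD
  have hsolv : Group.IsSolvable P.B := by
    rw [hB]
    haveI := Cfsg.Agent.S1050.result (F := F) D hD
    let f : ↥((D.borelSubgroup F).subgroupOf (D.group F)) →* ↥(D.borelSubgroup F) :=
      { toFun := fun g => ⟨((g : ↥(D.group F)) : GL D.Idx F), g.2⟩
        map_one' := rfl
        map_mul' := fun _ _ => rfl }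
    refine Group.isSolvable_of_isSolvable_injective (f := f) ?_
    intro a b hab
    apply Subtype.ext
    apply Subtype.ext
    exact congrArg (fun x : ↥(D.borelSubgroup F) => (x : GL D.Idx F)) hab
  have hcore : P.B.normalCore = ⊥ := by
    rw [hB]
    exact Cfsg.Agent.S1051.result (F := F) D hD
  exact Cfsg.Agent.S0319.result P (hirr P hB hN hS) hsolv hperf hcore

end Cfsg.Agent.ChevalleyStructure.TitsSimple
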