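import Cfsg.Agent.ChevalleyStructure.TorusCount

set_option autoImplicit false

/-!
Smith-form certificates for the Cartan matrices of the seven tabulated types.  Author: helper592.
-/

namespace Cfsg.Agent.ChevalleyStructure.TorusCert

open Cfsg.Lie Cfsg.Agent.ChevalleyStructure.TorusCount

/-- Smith certificate for type G2. -/
def certG2 : SmithCert chevG2 0 1 where
  a := ![![], ![]]
  idx := ![]
  B := ![]
  C := ![![2, 1], ![3, 2]]
  simple_lt := by decide +kernel
  h1 := by decide +kernel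
  h2 := by decide +kernel
  h3 := by decide +kernel
  h4 := by decide +kernel


/-- Smith certificate for type F4. -/
def certF4 : SmithCert chevF4 0 1 where
  a := ![![], ![], ![], ![]]
  idx := ![]
  B := ![]
  C := ![![2, 3, 2, 1], ![3, 6, 4, 2], ![4, 8, 6, 3], ![2, 4, 3, 2]]
  simple_lt := by decide +kernel
  h1 := by decide +kernel
  h2 := by decide +kernel
  h3 := by decide +kernel
  h4 := by decide +kernel


/-- Smith certificate for type E8. -/
def certE8 : SmithCert chevE8 0 1 where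
  a := ![![], ![], ![], ![], ![], ![], ![], ![]]
  idx := ![]
  B := ![]
  C := ![![4, 5, 7, 10, 8, 6, 4, 2], ![5, 8, 10, 15, 12, 9, 6, 3], ![7, 10, 14, 20, 16, 12, 8, 4], ![10, 15, 20, 30, 24, 18, 12, 6], ![8, 12, 16, 24, 20, 15, 10, 5], ![6, 9, 12, 18, 15, 12, 8, 4], ![4, 6, 8, 12, 10, 8, 6, 3], ![2, 3, 4, 6, 5, 4, 3, 2]]
  simple_lt := by decide +kernel
  h1 := by decide +kernel
  h2 := by decide +kernel
  h3 := by decide +kernel
  h4 := by decide +kernel


/-- Smith certificate for type E6. -/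
def certE6 : SmithCert chevE6 1 3 where
  a := ![![1], ![0], ![-1], ![0], ![1], ![-1]]
  idx := ![⟨0, by decide⟩]
  B := ![![4, 3, 5, 6, 4, 2]]
  C := ![![0, 0, 0, 0, 0, 0], ![1, 2, 2, 3, 2, 1], ![3, 3, 5, 6, 4, 2], ![2, 3, 4, 6, 4, 2], ![0, 1, 1, 2, 2, 1], ![2, 2, 3, 4, 3, 2]]
  simple_lt := by decide +kernel
  h1 := by decide +kernel
  h2 := by decide +kernel
  h3 := by decide +kernel
  h4 := by decide +kernel


/-- Smith certificate for type E7. -/
def certE7 : SmithCert chevE7 1 2 where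
  a := ![![0], ![1], ![0], ![0], ![1], ![0], ![1]]
  idx := ![⟨1, by decide⟩]
  B := ![![4, 7, 8, 12, 9, 6, 3]]
  C := ![![2, 2, 3, 4, 3, 2, 1], ![0, 0, 0, 0, 0, 0, 0], ![3, 4, 6, 8, 6, 4, 2], ![4, 6, 8, 12, 9, 6, 3], ![1, 1, 2, 3, 3, 2, 1], ![2, 3, 4, 6, 5, 4, 2], ![-1, -2, -2, -3, -2, -1, 0]]
  simple_lt := by decide +kernel
  h1 := by decide +kernel
  h2 := by decide +kernel
  h3 := by decide +kernel
  h4 := by decide +kernel


/-- Smith certificate for type B2. -/
def certB2 : SmithCert chevB2 1 2 where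
  a := ![![1], ![0]]
  idx := ![⟨0, by decide⟩]
  B := ![![2, 1]]
  C := ![![0, 0], ![1, 1]]
  simple_lt := by decide +kernel
  h1 := by decide +kernel
  h2 := by decide +kernel
  h3 := by decide +kernel
  h4 := by decide +kernel


/-- Smith certificate for type D4. -/
def certD4 : SmithCert chevD4 2 2 where
  a := ![![1, 0], ![0, 0], ![0, 1], ![1, 1]]
  idx := ![⟨0, by decide⟩, ⟨2, by decide⟩]
  B := ![![2, 2, 1, 1], ![1, 2, 2, 1]]
  C := ![![0, 0, 0, 0], ![1, 2, 1, 1], ![0, 0, 0, 0], ![-1, -1, -1, 0]]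
  simple_lt := by decide +kernel
  h1 := by decide +kernel
  h2 := by decide +kernel
  h3 := by decide +kernel
  h4 := by decide +kernel

end Cfsg.Agent.ChevalleyStructure.TorusCert
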