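import Mathlib
import Cfsg.Prelude.Def_ChevStructure
import Cfsg.Prelude.Def_ChevG2
import Cfsg.Prelude.Def_ChevB2
import Cfsg.Prelude.Def_ChevD4
import Cfsg.Prelude.Def_ChevF4
import Cfsg.Prelude.Def_ChevE6
import Cfsg.Prelude.Def_ChevE7
import Cfsg.Prelude.Def_ChevE8

/-!
The diagonal subgroup `H` as the image of `(Fˣ)^l`, and its order.  Author: helper592.
-/

set_option autoImplicit false

namespace Cfsg.Agent.ChevalleyStructure.TorusCount

open Cfsg.Lie
open scoped MatrixGroups Matrix

/-! ### Diagonal matrices with unit entries -/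

/-- The homomorphism from families of units to invertible diagonal matrices. -/
def diagHom (F : Type*) [Field F] (ι : Type*) [Fintype ι] [DecidableEq ι] : (ι → Fˣ) →* GL ι F :=
  (Units.map (Matrix.diagonalRingHom ι F).toMonoidHom).comp (MulEquiv.piUnits.symm.toMonoidHom)

theorem coe_diagHom {F : Type*} [Field F] {ι : Type*} [Fintype ι] [DecidableEq ι] (u : ι → Fˣ) :
    ((diagHom F ι u : GL ι F) : Matrix ι ι F) = Matrix.diagonal (fun i => (u i : F)) := rfl

theorem diagHom_injective (F : Type*) [Field F] (ι : Type*) [Fintype ι] [DecidableEq ι] :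
    Function.Injective (diagHom F ι) := by
  intro u v h
  have h1 := congrArg (fun g : GL ι F => (g : Matrix ι ι F)) h
  simp only [coe_diagHom] at h1
  funext i
  have h2 := congrFun (Matrix.diagonal_injective h1) i
  exact Units.ext h2

/-! ### Monomials in units -/

section Mon

variable {G : Type*} [CommGroup G] {ι : Type*} [Fintype ι]

theorem zpow_sum_eq {G : Type*} [CommGroup G] {κ : Type*} (s : Finset κ) (z : G) (e : κ → ℤ) :
    z ^ (∑ k ∈ s, e k) = ∏ k ∈ s, z ^ e k := by
  classical
  induction s using Finset.induction_on with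
  | empty => simp
  | insert a s ha ih => rw [Finset.sum_insert ha, Finset.prod_insert ha, zpow_add, ih]

/-- `∏ i, c i ^ v i`. -/
def mon (c : ι → G) (v : ι → ℤ) : G := ∏ i, c i ^ v i

theorem mon_def (c : ι → G) (v : ι → ℤ) : mon c v = ∏ i, c i ^ v i := rfl

theorem mon_add (c : ι → G) (v w : ι → ℤ) : mon c (v + w) = mon c v * mon c w := by
  simp only [mon_def, Pi.add_apply, zpow_add, Finset.prod_mul_distrib]

theorem mon_smul (c : ι → G) (k : ℤ) (v : ι → ℤ) : mon c (k • v) = mon c v ^ k := by
  simp only [mon_def, Pi.smul_apply, smul_eq_mul]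
  rw [← Finset.prod_zpow]
  refine Finset.prod_congr rfl fun i _ => ?_
  rw [mul_comm, zpow_mul]

theorem mon_zero (c : ι → G) : mon c 0 = 1 := by
  simp [mon_def]

theorem mon_sum (c : ι → G) {κ : Type*} (s : Finset κ) (v : κ → ι → ℤ) :
    mon c (∑ k ∈ s, v k) = ∏ k ∈ s, mon c (v k) := by
  classical
  induction s using Finset.induction_on with
  | empty => simp [mon_zero]
  | insert a s ha ih => rw [Finset.sum_insert ha, Finset.prod_insert ha, mon_add, ih]

theorem mon_single [DecidableEq ι] (c : ι → G) (i : ι) (k : ℤ) : mon c (Pi.single i k) = c i ^ k := by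
  rw [mon_def, Finset.prod_eq_single i]
  · simp
  · intro j _ hj
    simp [Pi.single_eq_of_ne hj]
  · intro h
    exact absurd (Finset.mem_univ i) h

theorem mul_mon (c d : ι → G) (v : ι → ℤ) : mon (c * d) v = mon c v * mon d v := by
  simp only [mon_def, Pi.mul_apply, mul_zpow, Finset.prod_mul_distrib]

theorem one_mon (v : ι → ℤ) : mon (1 : ι → G) v = 1 := by
  simp [mon_def]

end Mon

/-! ### The torus homomorphism -/

section Torus

variable (D : ChevalleyDatum) (F : Type*) [Field F]

/-- The column of the Cartan table of the root `s`, as a function on `Fin rank`. -/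
def col (s : ℕ) : Fin D.rank → ℤ := fun i => D.cartan i s

theorem col_def (s : ℕ) (i : Fin D.rank) : col D s i = D.cartan i s := rfl

/-- The weights: `c ↦ (1; ∏_i c_i ^ A_{p_i, s})`. -/
def weightHom : (Fin D.rank → Fˣ) →* (D.Idx → Fˣ) where
  toFun c := Sum.elim (fun _ => 1) (fun s => mon c (col D s))
  map_one' := by
    funext x
    rcases x with i | s
    · rfl
    · exact one_mon _
  map_mul' c d := by
    funext x
    rcases x with i | s
    · simp
    · exact mul_mon _ _ _

theorem weightHom_inl (c : Fin D.rank → Fˣ) (i : Fin D.rank) : weightHom D F c (Sum.inl i) = 1 := rfl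

theorem weightHom_inr (c : Fin D.rank → Fˣ) (s : Fin D.nroots) :
    weightHom D F c (Sum.inr s) = mon c (col D s) := rfl

/-- The torus homomorphism `c ↦ diag(1; ∏_i c_i ^ A_{p_i, s})`. -/
def torusHom : (Fin D.rank → Fˣ) →* GL D.Idx F := (diagHom F D.Idx).comp (weightHom D F)

theorem coe_torusHom (c : Fin D.rank → Fˣ) :
    ((torusHom D F c : GL D.Idx F) : Matrix D.Idx D.Idx F) =
      Matrix.diagonal (Sum.elim (fun _ => (1 : F)) (fun s : Fin D.nroots => ((mon c (col D s) : Fˣ) : F))) := by
  show Matrix.diagonal _ = _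
  congr 1
  funext x
  rcases x with i | s <;> rfl

theorem torusHom_eq_one_iff (c : Fin D.rank → Fˣ) :
    torusHom D F c = 1 ↔ ∀ s < D.nroots, mon c (col D s) = 1 := by
  have h0 : torusHom D F c = 1 ↔ weightHom D F c = 1 := by
    constructor
    · intro h
      exact diagHom_injective F D.Idx (by rw [map_one]; exact h)
    · intro h
      show diagHom F D.Idx (weightHom D F c) = 1
      rw [h, map_one]
  rw [h0]
  constructor
  · intro h s hs
    have := congrFun h (Sum.inr ⟨s, hs⟩)
    simpa [weightHom_inr] using this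
  · intro h
    funext x
    rcases x with i | s
    · rfl
    · exact h s s.2

end Torus

/-! ### Counting through a Smith form certificate -/

/-- A certificate that the kernel of the torus homomorphism is `{z | z ^ d = 1} ^ m`. -/
structure SmithCert (D : ChevalleyDatum) (m d : ℕ) where
  /-- exponents: `c_i = ∏_k z_k ^ a i k` -/
  a : Fin D.rank → Fin m → ℤ
  /-- the coordinate read off for `z_k` -/
  idx : Fin m → Fin D.rank
  /-- `d * e_{idx k} = ∑_j B k j * A_{·, p_j}` -/
  B : Fin m → Fin D.rank → ℤ
  /-- `e_i - ∑_k a i k * e_{idx k} = ∑_j C i j * A_{·, p_j}` -/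
  C : Fin D.rank → Fin D.rank → ℤ
  /-- the quotients in (1) -/
  simple_lt : ∀ j : Fin D.rank, D.simple j < D.nroots
  h1 : ∀ (k : Fin m) (s : Fin D.nroots), (d : ℤ) ∣ ∑ i, a i k * D.cartan i s
  h2 : ∀ (k : Fin m) (i : Fin D.rank),
    (if i = idx k then (d : ℤ) else 0) = ∑ j, B k j * D.cartan i (D.simple j)
  h3 : ∀ (k k' : Fin m), a (idx k) k' = if k = k' then 1 else 0
  h4 : ∀ (i i' : Fin D.rank),
    (if i' = i then (1 : ℤ) else 0) - ∑ k, (if i' = idx k then a i k else 0) =
      ∑ j, C i j * D.cartan i' (D.simple j)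

section Count

variable {D : ChevalleyDatum} {m d : ℕ} (S : SmithCert D m d) (F : Type*) [Field F]

/-- The parametrisation of the kernel. -/
def param (z : Fin m → Fˣ) : Fin D.rank → Fˣ := fun i => ∏ k, z k ^ S.a i k

theorem param_apply (z : Fin m → Fˣ) (i : Fin D.rank) : param S F z i = ∏ k, z k ^ S.a i k := rfl

theorem mon_param (z : Fin m → Fˣ) (v : Fin D.rank → ℤ) :
    mon (param S F z) v = ∏ k, z k ^ (∑ i, S.a i k * v i) := by
  simp only [mon_def, param_apply]
  calc ∏ i, (∏ k, z k ^ S.a i k) ^ v i = ∏ i, ∏ k, z k ^ (S.a i k * v i) := by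
        refine Finset.prod_congr rfl fun i _ => ?_
        rw [← Finset.prod_zpow]
        refine Finset.prod_congr rfl fun k _ => ?_
        rw [zpow_mul]
    _ = ∏ k, ∏ i, z k ^ (S.a i k * v i) := Finset.prod_comm
    _ = _ := by
        refine Finset.prod_congr rfl fun k _ => ?_
        rw [zpow_sum_eq]

theorem param_mem_ker (z : Fin m → Fˣ) (hz : ∀ k, z k ^ d = 1) : torusHom D F (param S F z) = 1 := by
  rw [torusHom_eq_one_iff]
  intro s hs
  rw [mon_param]
  refine Finset.prod_eq_one fun k _ => ?_
  obtain ⟨y, hy⟩ := S.h1 k ⟨s, hs⟩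
  have : ∑ i, S.a i k * col D s i = d * y := hy
  rw [this, zpow_mul, zpow_natCast, hz, one_zpow]

theorem pow_of_mem_ker (c : Fin D.rank → Fˣ) (hc : torusHom D F c = 1) (k : Fin m) : c (S.idx k) ^ d = 1 := by
  rw [torusHom_eq_one_iff] at hc
  have h : (Pi.single (S.idx k) (d : ℤ) : Fin D.rank → ℤ) = ∑ j, S.B k j • col D (D.simple j) := by
    funext i
    rw [Finset.sum_apply]
    have := S.h2 k i
    simp only [Pi.smul_apply, smul_eq_mul, col_def]
    rw [← this]
    by_cases h : i = S.idx k
    · subst h; simp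
    · simp [h]
  have h' := congrArg (mon c) h
  rw [mon_single, mon_sum, zpow_natCast] at h'
  rw [h']
  refine Finset.prod_eq_one fun j _ => ?_
  rw [mon_smul, hc _ (S.simple_lt j), one_zpow]

theorem eq_param_of_mem_ker (c : Fin D.rank → Fˣ) (hc : torusHom D F c = 1) :
    param S F (fun k => c (S.idx k)) = c := by
  rw [torusHom_eq_one_iff] at hc
  funext i
  have h : (Pi.single i (1 : ℤ) : Fin D.rank → ℤ) - ∑ k, Pi.single (S.idx k) (S.a i k) =
      ∑ j, S.C i j • col D (D.simple j) := by
    funext i'
    have := S.h4 i i'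
    simp only [Pi.sub_apply, Finset.sum_apply, Pi.smul_apply, smul_eq_mul, col_def, Pi.single_apply]
    rw [← this]
  have h1 : (Pi.single i (1 : ℤ) : Fin D.rank → ℤ) =
      (∑ j, S.C i j • col D (D.simple j)) + ∑ k, Pi.single (S.idx k) (S.a i k) := by
    rw [← h]; abel
  have h2 := congrArg (mon c) h1
  rw [mon_single, mon_add, mon_sum, mon_sum, zpow_one] at h2
  have h3 : ∏ j, mon c (S.C i j • col D (D.simple j)) = 1 := by
    refine Finset.prod_eq_one fun j _ => ?_
    rw [mon_smul, hc _ (S.simple_lt j), one_zpow]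
  rw [h3, one_mul] at h2
  rw [h2, param_apply]
  refine Finset.prod_congr rfl fun k _ => ?_
  rw [mon_single]

/-- The kernel of the torus homomorphism is `{z | z ^ d = 1} ^ m`. -/
def kerEquiv : (torusHom D F).ker ≃ (Fin m → (powMonoidHom d : Fˣ →* Fˣ).ker) where
  toFun c k := ⟨c.1 (S.idx k), by
    rw [MonoidHom.mem_ker, powMonoidHom_apply]
    exact pow_of_mem_ker S F c.1 c.2 k⟩
  invFun z := ⟨param S F (fun k => (z k : Fˣ)), by
    rw [MonoidHom.mem_ker]
    refine param_mem_ker S F _ fun k => ?_
    have := (z k).2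
    rwa [MonoidHom.mem_ker, powMonoidHom_apply] at this⟩
  left_inv c := Subtype.ext (eq_param_of_mem_ker S F c.1 c.2)
  right_inv z := by
    funext k
    apply Subtype.ext
    show param S F (fun k => (z k : Fˣ)) (S.idx k) = _
    rw [param_apply, Finset.prod_eq_single k]
    · rw [S.h3, if_pos rfl, zpow_one]
    · intro k' _ hk'
      rw [S.h3, if_neg (Ne.symm hk'), zpow_zero]
    · intro h
      exact absurd (Finset.mem_univ k) h

include S in
theorem card_ker [Fintype F] : Nat.card (torusHom D F).ker = Nat.gcd d (Fintype.card F - 1) ^ m := by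
  rw [Nat.card_congr (kerEquiv S F), Nat.card_pi, Finset.prod_const, IsCyclic.card_powMonoidHom_ker,
    Finset.card_univ, Fintype.card_fin, Nat.card_units, Nat.card_eq_fintype_card, Nat.gcd_comm]

include S in
theorem card_range [Fintype F] :
    Nat.gcd d (Fintype.card F - 1) ^ m * Nat.card (torusHom D F).range = (Fintype.card F - 1) ^ D.rank := by
  rw [← card_ker S F, ← Subgroup.index_ker, Subgroup.card_mul_index, Nat.card_pi, Finset.prod_const,
    Finset.card_univ, Fintype.card_fin, Nat.card_units, Nat.card_eq_fintype_card]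

end Count

end Cfsg.Agent.ChevalleyStructure.TorusCount
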