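import Cfsg.Agent.ChevalleyStructure.TwistedOrder
import Cfsg.Agent.ChevalleyStructure.TwistedClasses
import Cfsg.Agent.ChevalleyStructure.TwistedWeylSums
import Cfsg.Agent.ChevalleyStructure.D4Twisted
import Cfsg.Agent.ChevalleyStructure.D4Perm
import Cfsg.Agent.ChevalleyStructure.FixedCard

/-!
# The action of the monomial subgroup on the roots and the order of ³D₄(q)
-/

set_option autoImplicit false

namespace Cfsg.Agent.ChevalleyStructure.TwD4Card

open Cfsg.Lie
open Cfsg.Agent.ChevalleyStructure.D4Fixed (sig coe_sig fix mem_fix twisted_le_fix)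
open Cfsg.Agent.ChevalleyStructure.D4Comm
open Cfsg.Agent.ChevalleyStructure.D4CommTab
open Cfsg.Agent.ChevalleyStructure.D4Pos (lprod_inj)
open Cfsg.Agent.ChevalleyStructure.D4NConj (nG)
open Cfsg.Agent.ChevalleyStructure.TwistedU
open Cfsg.Agent.ChevalleyStructure.D4U
open Cfsg.Agent.ChevalleyStructure.D4RGD
open Cfsg.Agent.ChevalleyStructure.D4Perm (permD4 permD4_spec permD4_n permD4_eq_one_iff nG_mem)
open Cfsg.Agent.ChevalleyStructure.D4Twisted
open Cfsg.Agent.ChevalleyStructure.BNOrder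
open Cfsg.Agent.ChevalleyStructure.TwistedBN
open Cfsg.Agent.ChevalleyStructure.TwistedOrder
open Cfsg.Agent.ChevalleyStructure.TwistedClasses

variable {K : Type*} [Field K] {q : ℕ} {φ : K →+* K}

theorem na_memN (K : Type*) [Field K] : na K ∈ chevD4.monomialSubgroup K := nG_mem 1

theorem nb_memN (K : Type*) [Field K] : nb K ∈ chevD4.monomialSubgroup K :=
  mul_mem (mul_mem (nG_mem 0) (nG_mem 2)) (nG_mem 3)

theorem permD4_na (K : Type*) [Field K] : permD4 K ⟨na K, na_memN K⟩ = reflF 1 := permD4_n 1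

theorem permD4_nb (K : Type*) [Field K] : permD4 K ⟨nb K, nb_memN K⟩ = reflF 0 * reflF 2 * reflF 3 := by
  have e : (⟨nb K, nb_memN K⟩ : ↥(chevD4.monomialSubgroup K)) =
      ⟨nG K 0, nG_mem 0⟩ * ⟨nG K 2, nG_mem 2⟩ * ⟨nG K 3, nG_mem 3⟩ := rfl
  rw [e, map_mul, map_mul]
  exact congrArg₂ _ (congrArg₂ _ (permD4_n 0) (permD4_n 2)) (permD4_n 3)

/-- the permutations of the relative simple reflections -/
def gp : Fin 2 → Equiv.Perm (Fin 24)
  | 0 => reflF 1
  | 1 => reflF 0 * reflF 2 * reflF 3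

theorem gp0 : ∀ r : Fin 24, ((reflF 1 r : Fin 24) : ℕ) = GD4 0 r := by decide +kernel

theorem gp1 : ∀ r : Fin 24, (((reflF 0 * reflF 2 * reflF 3 : Equiv.Perm (Fin 24)) r : Fin 24) : ℕ) = GD4 1 r := by
  decide +kernel

theorem gp_eq : ∀ (i : Fin 2) (r : Fin 24), ((gp i r : Fin 24) : ℕ) = GD4 i r := by
  intro i r
  match i with
  | 0 => exact gp0 r
  | 1 => exact gp1 r

theorem rho_n (hφ : ∀ x, φ x = x ^ q) (hle : twistedD4 K q ≤ fix φ) (i : Fin 2)
    (h : (tdata hφ hle).n i ∈ chevD4.monomialSubgroup K) :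
    permD4 K ⟨(tdata hφ hle).n i, h⟩ = gp i := by
  match i with
  | 0 => exact permD4_na K
  | 1 => exact permD4_nb K

theorem rspan_le_closure {l : List ℕ} {i : Fin 2} (h : ∀ s ∈ l, s < 24 ∧ s ∈ ΔD4 i) :
    RS K l ≤ Subgroup.closure {y : GL chevD4.Idx K | ∃ r ∈ (cls ΔD4 i : Finset (Fin 24)),
      y ∈ chevD4.rootSubgroup K r.val} := by
  refine rspan_le xG fun s hs t => ?_
  obtain ⟨h1, h2⟩ := h s hs
  exact Subgroup.subset_closure ⟨⟨s, h1⟩, mem_cls.2 h2, xG_mem_rootSubgroup s t⟩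

theorem card_cls0 : (cls (n := 24) ΔD4 0).card = 1 := by decide +kernel
theorem card_cls1 : (cls (n := 24) ΔD4 1).card = 3 := by decide +kernel

theorem X_inj {t u : K} (h : D4Fixed.X φ t = D4Fixed.X φ u) : t = u := by
  have e (t : K) : D4Fixed.X φ t = lprod xG [18, 13, 12] (crd φ 0 t 0 0 0 0) := by
    unfold D4Fixed.X
    rw [xU_eq, xU_eq, xU_eq, lprod_cons, lprod_cons, lprod_cons, lprod_nil, mul_one, mul_assoc]
    rfl
  rw [e, e] at h
  exact lprod_inj [18, 13, 12] (by decide +kernel) h 18 (by simp)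

theorem card_X0 [Fintype K] (hq : 1 < q) (hK : Fintype.card K = q ^ 3) (hφ : ∀ x, φ x = x ^ q)
    (hle : twistedD4 K q ≤ fix φ) :
    Nat.card {x : GL chevD4.Idx K // x ∈ (RS K [14] : Set (GL chevD4.Idx K)) ∧ x ∈ twistedD4 K q} = q := by
  rw [FixedCard.card_of_param (α := {a : K // φ a = a}) _ (fun a => xG 14 a.1), card_fix_field hq hK hφ]
  · intro a b h
    have h2 := (xG_eq_one_iff (r := 14) (by norm_num) (t := a.1 - b.1)).1 (by
      have h3 : (xG 14 (a.1 - b.1) : GL chevD4.Idx K) = xG 14 a.1 * xG 14 (-b.1) := by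
        rw [← xG_add]; congr 1; ring
      have h4 : xG 14 a.1 = (xG 14 b.1 : GL chevD4.Idx K) := h
      rw [h3, h4, xG_neg, mul_inv_cancel])
    exact Subtype.ext (sub_eq_zero.1 h2)
  · intro y
    constructor
    · rintro ⟨h1, h2⟩
      obtain ⟨t, ht, rfl⟩ := RS_14_fix h1 (hle h2)
      exact ⟨⟨t, ht⟩, rfl⟩
    · rintro ⟨⟨t, ht⟩, rfl⟩
      exact ⟨mem_rspan xG (S := {k | k ∈ [14]}) (by simp) t, xG14_mem hφ ht⟩

theorem card_X1 [Fintype K] (hK : Fintype.card K = q ^ 3) (hφ : ∀ x, φ x = x ^ q)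
    (hle : twistedD4 K q ≤ fix φ) :
    Nat.card {x : GL chevD4.Idx K // x ∈ (RS K [18, 13, 12] : Set (GL chevD4.Idx K)) ∧ x ∈ twistedD4 K q} =
      q ^ 3 := by
  rw [FixedCard.card_of_param (α := K) _ (fun a => D4Fixed.X φ a), Nat.card_eq_fintype_card, hK]
  · intro a b h
    exact X_inj h
  · intro y
    constructor
    · rintro ⟨h1, h2⟩
      obtain ⟨t, rfl⟩ := RS_outer_fix h1 (hle h2)
      exact ⟨t, rfl⟩
    · rintro ⟨t, rfl⟩
      exact ⟨X_mem_RS t, D4Fixed.X_mem hφ t⟩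

theorem rootAction [Fintype K] (hq : 1 < q) (hK : Fintype.card K = q ^ 3) (hφ : ∀ x, φ x = x ^ q)
    (hle : twistedD4 K q ≤ fix φ) :
    ∃ A : RootAction (tdata hφ hle) (Fin 24) (fun _ => q),
      (∀ i, A.ρ (RootAction.nN i) = gp i) ∧ A.pos = fun r : Fin 24 => 12 ≤ (r : ℕ) := by
  have hg : ∀ i r, ((permD4 K ⟨(tdata hφ hle).n i, (tdata hφ hle).n_mem_N i⟩ r : Fin 24) : ℕ) = GD4 i r := by
    intro i r
    rw [rho_n hφ hle i ((tdata hφ hle).n_mem_N i)]
    exact gp_eq i r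
  refine ⟨{
    Xr := fun r => chevD4.rootSubgroup K r.val
    ρ := permD4 K
    ρ_conj := fun m r x hx => (permD4_spec m r x).1 hx
    ker := fun m => permD4_eq_one_iff m
    pos := fun r => 12 ≤ (r : ℕ)
    Xr_le := fun r hr => D4Twisted.rootSubgroup_le_U hr
    Δ := fun i => cls ΔD4 i
    Δ_pos := fun i a ha => cls_pos checkD4 i a ha
    Xi_le := ?_
    refl_neg := fun i a ha => refl_neg checkD4 hg i a ha
    refl_pos := fun i a ha ha' => refl_pos checkD4 hg i a ha ha'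
    cases := fun w hw i => cases checkD4 hg w hw i
    X_mul := ?_
    Y_inf := ?_
    c_inv := fun _ _ => rfl
    card_X := ?_ }, ?_, rfl⟩
  · intro i x hx hxG
    match i with
    | 0 => exact rspan_le_closure (K := K) (l := [14]) (by decide +kernel) hx
    | 1 => exact rspan_le_closure (K := K) (l := [18, 13, 12]) (by decide +kernel) hx
  · intro i x hx y hy
    match i with
    | 0 =>
      have hx' : x ∈ RS K [14] := hx
      have hy' : y ∈ RS K [14] := hy
      exact mul_mem (inv_mem hx') hy'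
    | 1 =>
      have hx' : x ∈ RS K [18, 13, 12] := hx
      have hy' : y ∈ RS K [18, 13, 12] := hy
      exact mul_mem (inv_mem hx') hy'
  · intro i y hy hyG hB
    match i with
    | 0 =>
      obtain ⟨t, ht, rfl⟩ := RS_9_fix φ hy (hle hyG)
      by_contra h1
      have ht0 : t ≠ 0 := by
        rintro rfl
        exact h1 (xG_zero 9)
      exact xG_not_mem_borel (by norm_num) ht0 hB
    | 1 =>
      by_contra h1
      exact neg_not_mem_borel (K := K) hy h1 hB
  · intro i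
    rw [Finset.prod_const]
    match i with
    | 0 =>
      rw [card_cls0, pow_one]
      exact card_X0 hq hK hφ hle
    | 1 =>
      rw [card_cls1]
      exact card_X1 hK hφ hle
  · intro i
    exact rho_n hφ hle i _

theorem pos_iff' : (fun r : Fin 24 => chevD4.IsPosRoot (r : ℕ)) = fun r : Fin 24 => 12 ≤ (r : ℕ) := by
  funext r
  exact propext (posD4 r r.2)

/-- the sum over `Finset.univ` does not depend on the `Fintype` instance -/
theorem sum_univ_inst {α : Type*} (i₁ i₂ : Fintype α) (p : α → Prop) (d : DecidablePred p) (f : α → ℕ) :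
    ((@Finset.univ α i₁).filter p).sum f = ((@Finset.univ α i₂).filter p).sum f := by
  have h : i₁ = i₂ := Subsingleton.elim _ _
  subst h
  rfl

/-- the simple reflections as permutations, with junk values -/
def sp (i : ℕ) : Equiv.Perm (Fin 24) := if h : i < 4 then reflF ⟨i, h⟩ else 1

theorem sp_spec : ∀ i < 4, ∀ r : Fin 24, ((sp i r : Fin 24) : ℕ) = chevD4.reflectRoot i r := by
  intro i hi r
  have h : ((sp i r : Fin 24) : ℕ) = W0Core.look (W0Small.tabD4 i) r := by
    interval_cases i <;> revert r <;> decide +kernel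
  rw [h, W0Small.tabD4_ok i hi r r.2]

theorem range_gp : Set.range gp = {sp 1, sp 0 * sp 2 * sp 3} := by
  have e0 : gp 0 = sp 1 := by
    ext r; revert r; decide +kernel
  have e1 : gp 1 = sp 0 * sp 2 * sp 3 := by
    ext r; revert r; decide +kernel
  ext w
  constructor
  · rintro ⟨i, rfl⟩
    match i with
    | 0 => exact Or.inl e0
    | 1 => exact Or.inr e1
  · rintro (rfl | rfl)
    · exact ⟨0, e0⟩
    · exact ⟨1, e1⟩

theorem wsum (q : ℕ) (i₁ : Fintype (Equiv.Perm (Fin 24)))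
    (d : DecidablePred fun w : Equiv.Perm (Fin 24) => w ∈ Subgroup.closure (Set.range gp)) :
    ((@Finset.univ (Equiv.Perm (Fin 24)) i₁).filter fun w => w ∈ Subgroup.closure (Set.range gp)).sum
      (fun w => wt (fun r : Fin 24 => 12 ≤ (r : ℕ)) (fun _ => q) w) =
      (1 + q) * (1 + q ^ 3) * (1 + q ^ 4 + q ^ 8) := by
  have h := TwistedWeylSums.sum_twistedD4 q sp sp_spec
  rw [← pos_iff']
  revert d
  rw [range_gp]
  intro d
  refine Eq.trans ?_ h
  have hd : d = fun _ => Classical.propDecidable _ := Subsingleton.elim _ _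
  subst hd
  exact sum_univ_inst _ _ _ _ _

theorem card_twistedD4 [Fintype K] (hq : IsPrimePow q) (hK : Fintype.card K = q ^ 3) :
    Nat.card ↥(twistedD4 K q) = (1 + q) * (1 + q ^ 3) * (1 + q ^ 4 + q ^ 8) *
      (Nat.card ↥(chevD4.posUnipotent K ⊓ twistedD4 K q) * Nat.card ↥(chevD4.diagonalSubgroup K ⊓ twistedD4 K q)) := by
  obtain ⟨φ, hφ⟩ := D4Fixed.exists_frob hq hK
  have hle := twisted_le_fix hK hφ
  obtain ⟨A, h1, h2⟩ := rootAction hq.one_lt hK hφ hle
  haveI : Finite (tdata hφ hle).G := by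
    show Finite ↥(twistedD4 K q)
    infer_instance
  have h := A.card_G
  have e : (Set.range fun i => A.ρ (RootAction.nN i)) = Set.range gp := by
    congr 1
    funext i
    exact h1 i
  rw [e, h2] at h
  refine Eq.trans h ?_
  exact congrArg (fun z : ℕ => z * (Nat.card ↥(chevD4.posUnipotent K ⊓ twistedD4 K q) *
    Nat.card ↥(chevD4.diagonalSubgroup K ⊓ twistedD4 K q))) (wsum q _ _)

theorem arith {q : ℕ} (hq : 1 < q) : (1 + q) * (1 + q ^ 3) * (1 + q ^ 4 + q ^ 8) *
    (q ^ 12 * ((q - 1) ^ 2 * (q ^ 2 + q + 1))) =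
    q ^ 12 * (q ^ 2 - 1) * (q ^ 6 - 1) * (q ^ 8 + q ^ 4 + 1) := by
  obtain ⟨k, rfl⟩ : ∃ k, q = k + 1 := ⟨q - 1, by omega⟩
  have e2 : (k + 1) ^ 2 - 1 = k * (k + 2) := by
    apply Nat.sub_eq_of_eq_add; ring
  have e6 : (k + 1) ^ 6 - 1 = k * ((k + 1) ^ 2 + (k + 1) + 1) * ((k + 1) ^ 3 + 1) := by
    apply Nat.sub_eq_of_eq_add; ring
  rw [e2, e6, Nat.add_sub_cancel]
  ring

end Cfsg.Agent.ChevalleyStructure.TwD4Card
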