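import Cfsg.Prelude.Def_LieTwisted
import Cfsg.Agent.ChevalleyStructure.Elts
import Cfsg.Agent.ChevalleyStructure.GraphSymm
import Cfsg.Agent.ChevStructure.FieldMap
import Cfsg.Agent.S1025
import Cfsg.Agent.S1031

/-!
Basic facts on ²E₆(q) inside `E₆(K)`: the endomorphism `σ` (graph symmetry composed with the power map),
the twisted group is fixed by `σ`, tables of the relative simple reflections `w_i` (`i : Fin 4`), and the
monomial elements `n_i` realising them.
-/

set_option autoImplicit false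

namespace Cfsg.Agent.ChevalleyStructure.TwE6Basic

open Cfsg.Lie
open Cfsg.Agent.ChevalleyStructure.Elts
open Cfsg.Agent.ChevalleyStructure.SignedSymm
open Cfsg.Agent.ChevalleyStructure.GraphSymm

universe u

theorem hE6 : InList chevE6 := by
  simp only [InList, List.mem_cons, true_or, or_true]

variable {K : Type u} [Field K]

/-- The root element `x_r(t)` of E₆ in the general linear group. -/
abbrev x (r : ℕ) (t : K) : GL chevE6.Idx K := xG hE6 r t

theorem x_add (r : ℕ) (t u : K) : x r t * x r u = x r (t + u) := xG_add hE6 r t u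
theorem x_zero (r : ℕ) : x r (0 : K) = 1 := xG_zero hE6 r
theorem x_inv (r : ℕ) (t : K) : (x r t)⁻¹ = x r (-t) := xG_inv hE6 r t
theorem x_eq_one_iff {r : ℕ} (hr : r < 72) (t : K) : x r t = 1 ↔ t = 0 := xG_eq_one_iff hE6 hr t
theorem x_injective {r : ℕ} (hr : r < 72) {t u : K} (h : x r t = x r u) : t = u :=
  xG_injective (F := K) hE6 hr h

/-! ### Table facts -/

/-- The graph symmetry on root indices. -/
def rho (r : Fin 72) : Fin 72 := symmE6.σ r

theorem rho_def (r : Fin 72) : rho r = symmE6.σ r := rfl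

theorem neg_eq : ∀ r : Fin 72, chevE6.neg r.val = (Fin.rev r).val := by decide +kernel
theorem neg_lt : ∀ r : Fin 72, chevE6.neg r.val < 72 := by decide +kernel
theorem pos_iff : ∀ r : Fin 72, chevE6.IsPosRoot r.val ↔ 36 ≤ r.val := by decide +kernel
theorem negRoot_iff : ∀ r : Fin 72, chevE6.IsNegRoot r.val ↔ r.val < 36 := by decide +kernel

/-- The classes of simple roots (0-based numbers of fundamental roots). -/
def J : Fin 4 → List ℕ := ![[1], [3], [2, 4], [0, 5]]

/-- The root indices in the `i`-th class. -/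
def posE : Fin 4 → List ℕ := ![[46], [39], [42, 37], [56, 36]]

/-- The negatives. -/
def negE : Fin 4 → List ℕ := ![[25], [32], [29, 34], [15, 35]]

/-- The relative simple reflection on root indices. -/
def wp (i : Fin 4) (r : ℕ) : ℕ := (J i).foldr (fun j r => chevE6.reflectRoot j r) r

theorem wp_lt : ∀ i : Fin 4, ∀ r : Fin 72, wp i r.val < 72 := by decide +kernel
theorem wp_wp : ∀ i : Fin 4, ∀ r : Fin 72, wp i (wp i r.val) = r.val := by decide +kernel

/-- The relative simple reflection as a permutation. -/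
def wP (i : Fin 4) : Equiv.Perm (Fin 72) where
  toFun r := ⟨wp i r.val, wp_lt i r⟩
  invFun r := ⟨wp i r.val, wp_lt i r⟩
  left_inv r := Fin.ext (wp_wp i r)
  right_inv r := Fin.ext (wp_wp i r)

theorem wP_val (i : Fin 4) (r : Fin 72) : (wP i r).val = wp i r.val := rfl

theorem rho_wP : ∀ i : Fin 4, ∀ r : Fin 72, rho (wP i r) = wP i (rho r) := by decide +kernel
theorem rev_wP : ∀ i : Fin 4, ∀ r : Fin 72, Fin.rev (wP i r) = wP i (Fin.rev r) := by decide +kernel
theorem rho_rho : ∀ r : Fin 72, rho (rho r) = r := by decide +kernel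
theorem rho_rev : ∀ r : Fin 72, rho (Fin.rev r) = Fin.rev (rho r) := by decide +kernel
theorem rho_pos : ∀ r : Fin 72, 36 ≤ (rho r).val ↔ 36 ≤ r.val := by decide +kernel

theorem wp_posE : ∀ i : Fin 4, ∀ r ∈ posE i, wp i r ∈ negE i ∧ r < 72 ∧ 36 ≤ r ∧ chevE6.neg r ∈ negE i := by
  decide +kernel
theorem wp_negE : ∀ i : Fin 4, ∀ r ∈ negE i, wp i r ∈ posE i ∧ r < 72 ∧ r < 36 ∧ chevE6.neg r ∈ posE i := by
  decide +kernel
theorem wp_posE_pos : ∀ i j : Fin 4, i ≠ j → ∀ r ∈ posE j, 36 ≤ wp i r := by decide +kernel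
theorem posE_rho : ∀ i : Fin 4, ∀ r : Fin 72, r.val ∈ posE i → (rho r).val ∈ posE i := by decide +kernel
theorem negE_rho : ∀ i : Fin 4, ∀ r : Fin 72, r.val ∈ negE i → (rho r).val ∈ negE i := by decide +kernel
theorem posE_pair : ∀ i : Fin 4, ∀ r s : Fin 72, r.val ∈ posE i → s.val ∈ posE i → s = r ∨ s = rho r := by
  decide +kernel
theorem negE_pair : ∀ i : Fin 4, ∀ r s : Fin 72, r.val ∈ negE i → s.val ∈ negE i → s = r ∨ s = rho r := by
  decide +kernel

instance decInRootSub (D : ChevalleyDatum) (L : List ℕ) (r : ℕ) :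
    Decidable (D.InRootSub {j | j ∈ L} r) :=
  inferInstanceAs (Decidable (r < D.nroots ∧ ∀ i < D.rank, ¬ i ∈ L → (D.coroot.getD r #[]).getD i 0 = 0))

theorem inRootSub_iff : ∀ i : Fin 4, ∀ r : Fin 72,
    chevE6.InRootSub {j | j ∈ J i} r.val ↔ r.val ∈ posE i ∨ r.val ∈ negE i := by decide +kernel

theorem J_mem : ∀ i : Fin 4, ∀ j ∈ J i, j < 6 ∧ chevE6.simple j ∈ posE i := by decide +kernel

/-- Pairs of commuting root elements used: roots of the same class up to sign which are not `±`. -/
theorem comm_nil : ∀ i : Fin 4, ∀ r ∈ posE i ++ negE i, ∀ s ∈ posE i ++ negE i,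
    s ≠ r → s ≠ chevE6.neg r → chevE6.commTerms r s = [] := by decide +kernel

/-! ### Commutation -/

theorem comm_of_commTerms {r s : ℕ} (hr : r < 72) (hs : s < 72) (hrs : s ≠ r) (hneg : s ≠ chevE6.neg r)
    (h : chevE6.commTerms r s = []) (t u : K) : x s u * x r t = x r t * x s u := by
  apply Units.ext
  show chevE6.x K s u * chevE6.x K r t = chevE6.x K r t * chevE6.x K s u
  rw [Cfsg.Agent.S1025.result chevE6 hE6 r s hr hs hrs hneg t u]
  have : chevE6.commWord K r s t u = [] := by
    show (chevE6.commTerms r s).map _ = []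
    rw [h]; rfl
  rw [this]
  show _ * (1 : Matrix chevE6.Idx chevE6.Idx K) = _
  rw [mul_one]

theorem comm_class {i : Fin 4} {r s : ℕ} (hr : r ∈ posE i ++ negE i) (hs : s ∈ posE i ++ negE i)
    (hrs : s ≠ r) (hneg : s ≠ chevE6.neg r) (t u : K) : x s u * x r t = x r t * x s u := by
  have hr' : r < 72 := by
    rcases List.mem_append.1 hr with h | h
    · exact (wp_posE i r h).2.1
    · exact (wp_negE i r h).2.1
  have hs' : s < 72 := by
    rcases List.mem_append.1 hs with h | h
    · exact (wp_posE i s h).2.1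
    · exact (wp_negE i s h).2.1
  exact comm_of_commTerms hr' hs' hrs hneg (comm_nil i r hr s hs hrs hneg) t u

/-! ### Conjugation by `n_p` -/

/-- `n_p(1)` in the general linear group. -/
abbrev nE (r : ℕ) : GL chevE6.Idx K := nG hE6 r (1 : K)

theorem nE_conj {j : ℕ} (hj : j < 6) {s : ℕ} (hs : s < 72) : ∃ η : K, η ≠ 0 ∧ ∀ t : K,
    nE (chevE6.simple j) * x s t * (nE (chevE6.simple j))⁻¹ = x (chevE6.reflectRoot j s) (η * t) := by
  obtain ⟨η, hη, h⟩ := Cfsg.Agent.S1031.result (F := K) chevE6 hE6 j s hj hs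
  refine ⟨(η : K), ?_, fun t => ?_⟩
  · rcases hη with rfl | rfl <;> simp
  · rw [mul_inv_eq_iff_eq_mul]
    apply Units.ext
    rw [Units.val_mul, Units.val_mul, coe_nG, coe_xG, coe_xG]
    exact h t

/-- The monomial elements realising the relative simple reflections. -/
def n (i : Fin 4) : GL chevE6.Idx K := ((J i).map fun j => nE (K := K) (chevE6.simple j)).prod

theorem n_def (i : Fin 4) : n (K := K) i = ((J i).map fun j => nE (K := K) (chevE6.simple j)).prod := rfl

theorem reflect_lt : ∀ j : Fin 6, ∀ r : Fin 72, chevE6.reflectRoot j.val r.val < 72 := by decide +kernel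

theorem n_conj_aux (L : List ℕ) (hL : ∀ j ∈ L, j < 6) {s : ℕ} (hs : s < 72) : ∃ η : K, η ≠ 0 ∧
    L.foldr (fun j r => chevE6.reflectRoot j r) s < 72 ∧ ∀ t : K,
    (L.map fun j => nE (K := K) (chevE6.simple j)).prod * x s t *
      ((L.map fun j => nE (K := K) (chevE6.simple j)).prod)⁻¹ =
      x (L.foldr (fun j r => chevE6.reflectRoot j r) s) (η * t) := by
  induction L with
  | nil => exact ⟨1, one_ne_zero, hs, fun t => by simp⟩
  | cons j L ih =>
    obtain ⟨η, hη, hlt, h⟩ := ih fun j' hj' => hL j' (List.mem_cons_of_mem _ hj')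
    obtain ⟨η', hη', h'⟩ := nE_conj (K := K) (hL j List.mem_cons_self) hlt
    refine ⟨η' * η, mul_ne_zero hη' hη, reflect_lt ⟨j, hL j List.mem_cons_self⟩ ⟨_, hlt⟩, fun t => ?_⟩
    rw [List.map_cons, List.prod_cons, List.foldr_cons]
    have e : nE (K := K) (chevE6.simple j) * (L.map fun j => nE (K := K) (chevE6.simple j)).prod * x s t *
        (nE (K := K) (chevE6.simple j) * (L.map fun j => nE (K := K) (chevE6.simple j)).prod)⁻¹ =
        nE (K := K) (chevE6.simple j) * ((L.map fun j => nE (K := K) (chevE6.simple j)).prod * x s t *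
          ((L.map fun j => nE (K := K) (chevE6.simple j)).prod)⁻¹) * (nE (K := K) (chevE6.simple j))⁻¹ := by
      group
    rw [e, h, h', mul_assoc]

theorem n_conj (i : Fin 4) {s : ℕ} (hs : s < 72) : ∃ η : K, η ≠ 0 ∧ ∀ t : K,
    n (K := K) i * x s t * (n (K := K) i)⁻¹ = x (wp i s) (η * t) := by
  obtain ⟨η, hη, _, h⟩ := n_conj_aux (K := K) (J i) (fun j hj => (J_mem i j hj).1) hs
  exact ⟨η, hη, h⟩

/-- Root subgroups as subgroups of the general linear group. -/
theorem mem_X {r : ℕ} {g : GL chevE6.Idx K} : g ∈ chevE6.rootSubgroup K r ↔ ∃ t : K, g = x r t :=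
  mem_rootSubgroup_iff hE6 r g

theorem n_conj_mem_iff (i : Fin 4) (r : Fin 72) (g : GL chevE6.Idx K) :
    g ∈ chevE6.rootSubgroup K r.val ↔
      n (K := K) i * g * (n (K := K) i)⁻¹ ∈ chevE6.rootSubgroup K (wP i r).val := by
  obtain ⟨η, hη, h⟩ := n_conj (K := K) i r.isLt
  rw [mem_X, mem_X, wP_val]
  constructor
  · rintro ⟨t, rfl⟩
    exact ⟨η * t, h t⟩
  · rintro ⟨t, ht⟩
    refine ⟨η⁻¹ * t, ?_⟩
    have h2 := h (η⁻¹ * t)
    rw [mul_inv_cancel_left₀ hη, ← ht] at h2
    have h3 := mul_right_cancel h2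
    exact (mul_left_cancel h3).symm

/-! ### The endomorphism `σ` -/

/-- `σ`: apply the ring homomorphism `φ` entrywise and conjugate by the graph symmetry. -/
def sg (φ : K →+* K) : GL chevE6.Idx K →* GL chevE6.Idx K :=
  (MulAut.conj (symmE6.P K)).toMonoidHom.comp (Matrix.GeneralLinearGroup.map φ)

theorem sg_x (φ : K →+* K) (r : Fin 72) (t : K) :
    sg φ (x r.val t) = x (rho r).val (((symmE6.ε r : ℤ) : K) * φ t) := by
  have h := symmE6.mat_conj_x K r (φ t)
  apply Units.ext
  show symmE6.mat K * ((Matrix.GeneralLinearGroup.map φ (x r.val t) : GL chevE6.Idx K) :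
    Matrix chevE6.Idx chevE6.Idx K) * symmE6.matInv K = chevE6.x K (rho r).val _
  have e : ((Matrix.GeneralLinearGroup.map φ (x r.val t) : GL chevE6.Idx K) :
      Matrix chevE6.Idx chevE6.Idx K) = chevE6.x K r.val (φ t) := by
    rw [← Cfsg.Agent.ChevStructure.FieldMap.x_map chevE6 φ r.val t]
    rfl
  rw [e, h]
  rfl

theorem sg_injective (φ : K →+* K) : Function.Injective (sg φ) := by
  intro a b hab
  have h1 : Matrix.GeneralLinearGroup.map φ a = Matrix.GeneralLinearGroup.map φ b :=
    (MulAut.conj (symmE6.P K)).injective hab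
  apply Units.ext
  ext i j
  have h2 := congrArg (fun g : GL chevE6.Idx K => (g : Matrix chevE6.Idx chevE6.Idx K) i j) h1
  simp only [Matrix.GeneralLinearGroup.map_apply] at h2
  exact φ.injective h2

/-- The signs of the graph symmetry. -/
def epsE (r : Fin 72) : ℤ := symmE6.ε r

/-- The signs are `1` on the classes. -/
theorem eps_class : ∀ i : Fin 4, ∀ r : Fin 72, r.val ∈ posE i ++ negE i → epsE r = 1 := by decide +kernel

theorem sg_x_class (φ : K →+* K) {i : Fin 4} {r : Fin 72} (hr : r.val ∈ posE i ++ negE i) (t : K) :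
    sg φ (x r.val t) = x (rho r).val (φ t) := by
  have h : symmE6.ε r = 1 := eps_class i r hr
  rw [sg_x, h, Int.cast_one, one_mul]

/-- The fixed points of `σ`. -/
def fix (φ : K →+* K) : Subgroup (GL chevE6.Idx K) := (sg φ).eqLocus (MonoidHom.id _)

theorem mem_fix {φ : K →+* K} {g : GL chevE6.Idx K} : g ∈ fix φ ↔ sg φ g = g := Iff.rfl

/-- The generators of the twisted group. -/
theorem twisted_le_iff {q : ℕ} (M : Subgroup (GL chevE6.Idx K)) :
    twistedE6 K q ≤ M ↔
      (∀ t : K, t ^ q = t → ∀ r ∈ [46, 25, 39, 32], x r t ∈ M) ∧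
      (∀ t : K, ∀ rs ∈ [(56, 36), (15, 35), (42, 37), (29, 34)], x rs.1 t * x rs.2 (t ^ q) ∈ M) := by
  constructor
  · intro h
    constructor
    · intro t ht r hr
      refine h (Subgroup.subset_closure ⟨[(r, t)], Or.inl ⟨t, ht, r, hr, rfl⟩, ?_⟩)
      show chevE6.x K r t = chevE6.wordMat K [(r, t)]
      rw [wordMat_cons, wordMat_nil, mul_one]
    · intro t rs hrs
      refine h (Subgroup.subset_closure ⟨[(rs.1, t), (rs.2, t ^ q)], Or.inr ⟨t, rs, hrs, rfl⟩, ?_⟩)
      show chevE6.x K rs.1 t * chevE6.x K rs.2 (t ^ q) = chevE6.wordMat K [(rs.1, t), (rs.2, t ^ q)]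
      rw [wordMat_cons, wordMat_cons, wordMat_nil, mul_one]
  · rintro ⟨h1, h2⟩
    refine (Subgroup.closure_le M).2 ?_
    rintro g ⟨w, (⟨t, ht, r, hr, rfl⟩ | ⟨t, rs, hrs, rfl⟩), hg⟩
    · have : g = x r t := by
        apply Units.ext
        rw [hg, wordMat_cons, wordMat_nil, mul_one]
        rfl
      rw [this]
      exact h1 t ht r hr
    · have : g = x rs.1 t * x rs.2 (t ^ q) := by
        apply Units.ext
        rw [hg, wordMat_cons, wordMat_cons, wordMat_nil, mul_one]
        rfl
      rw [this]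
      exact h2 t rs hrs

theorem single_mem {q : ℕ} {t : K} (ht : t ^ q = t) {r : ℕ} (hr : r ∈ [46, 25, 39, 32]) :
    x r t ∈ twistedE6 K q := ((twisted_le_iff _).1 le_rfl).1 t ht r hr

theorem pair_mem {q : ℕ} (t : K) {rs : ℕ × ℕ} (hr : rs ∈ [(56, 36), (15, 35), (42, 37), (29, 34)]) :
    x rs.1 t * x rs.2 (t ^ q) ∈ twistedE6 K q := ((twisted_le_iff _).1 le_rfl).2 t rs hr

/-- The twisted group is fixed by `σ`. -/
theorem twisted_le_fix {q : ℕ} (φ : K →+* K) (hφ : ∀ t, φ t = t ^ q) (hqq : ∀ t : K, (t ^ q) ^ q = t) :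
    twistedE6 K q ≤ fix φ := by
  rw [twisted_le_iff]
  constructor
  · intro t ht r hr
    rw [mem_fix]
    simp only [List.mem_cons, List.not_mem_nil, or_false] at hr
    have hfix : φ t = t := (hφ t).trans ht
    rcases hr with rfl | rfl | rfl | rfl
    · exact (sg_x_class φ (i := 0) (r := 46) (by decide +kernel) t).trans (by rw [hfix]; rfl)
    · exact (sg_x_class φ (i := 0) (r := 25) (by decide +kernel) t).trans (by rw [hfix]; rfl)
    · exact (sg_x_class φ (i := 1) (r := 39) (by decide +kernel) t).trans (by rw [hfix]; rfl)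
    · exact (sg_x_class φ (i := 1) (r := 32) (by decide +kernel) t).trans (by rw [hfix]; rfl)
  · intro t rs hrs
    have key : ∀ (i : Fin 4) (r s : Fin 72), r.val ∈ posE i ++ negE i → s.val ∈ posE i ++ negE i →
        rho r = s → rho s = r → s.val ≠ r.val → s.val ≠ chevE6.neg r.val →
        x r.val t * x s.val (t ^ q) ∈ fix φ := by
      intro i r s hr hs hrs hsr h1 h2
      rw [mem_fix, map_mul, sg_x_class φ hr, sg_x_class φ hs, hrs, hsr, hφ, hφ, hqq,
        comm_class hr hs h1 h2]
    simp only [List.mem_cons, List.not_mem_nil, or_false] at hrs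
    rcases hrs with rfl | rfl | rfl | rfl
    · exact key 3 56 36 (by decide +kernel) (by decide +kernel) (by decide +kernel) (by decide +kernel)
        (by decide +kernel) (by decide +kernel)
    · exact key 3 15 35 (by decide +kernel) (by decide +kernel) (by decide +kernel) (by decide +kernel)
        (by decide +kernel) (by decide +kernel)
    · exact key 2 42 37 (by decide +kernel) (by decide +kernel) (by decide +kernel) (by decide +kernel)
        (by decide +kernel) (by decide +kernel)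
    · exact key 2 29 34 (by decide +kernel) (by decide +kernel) (by decide +kernel) (by decide +kernel)
        (by decide +kernel) (by decide +kernel)

/-- The power map `t ↦ t^q` as a ring homomorphism, `|K| = q²`. -/
theorem exists_frob [Fintype K] {q : ℕ} (hq : IsPrimePow q) (hK : Fintype.card K = q ^ 2) :
    ∃ φ : K →+* K, (∀ t, φ t = t ^ q) ∧ ∀ t : K, (t ^ q) ^ q = t := by
  obtain ⟨p, k, hp, hk, rfl⟩ := (isPrimePow_nat_iff _).1 hq
  have : Fact p.Prime := ⟨hp⟩
  obtain ⟨p', hp'⟩ := CharP.exists K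
  obtain ⟨m, hp'p, hcard⟩ := FiniteField.card K p'
  have hpp : p' = p := by
    have h1 : p' ∣ (p ^ k) ^ 2 := by
      rw [← hK, hcard]
      exact dvd_pow_self _ m.ne_zero
    exact (Nat.prime_dvd_prime_iff_eq hp'p hp).1 (hp'p.dvd_of_dvd_pow (hp'p.dvd_of_dvd_pow h1))
  subst hpp
  refine ⟨iterateFrobenius K p' k, fun t => iterateFrobenius_def p' k t, fun t => ?_⟩
  rw [← pow_mul, ← sq, ← hK, FiniteField.pow_card]

end Cfsg.Agent.ChevalleyStructure.TwE6Basic
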