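import Cfsg.Agent.ChevalleyStructure.GraphSymm
import Cfsg.Agent.ChevalleyStructure.WordCheck
import Cfsg.Agent.ChevStructure.FieldMap
import Cfsg.Prelude.Def_LieTwisted

/-!
The automorphism `σ = (graph) ∘ (field)` of the general linear group containing E₆(K), and the fact that the
twisted group ²E₆(q) consists of fixed points of `σ`.
-/

set_option autoImplicit false

namespace Cfsg.Agent.ChevalleyStructure.TwE6Sigma

open Cfsg.Lie
open Cfsg.Agent.ChevalleyStructure.SignedSymm Cfsg.Agent.ChevalleyStructure.GraphSymm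

/-- The field of order `q ^ 2` has the automorphism `t ↦ t ^ q`, of order at most two. -/
theorem exists_frob {K : Type*} [Field K] [Fintype K] {q : ℕ} (hq : IsPrimePow q)
    (hK : Fintype.card K = q ^ 2) :
    ∃ f : K →+* K, (∀ t, f t = t ^ q) ∧ ∀ t : K, f (f t) = t := by
  obtain ⟨p, k, hp, hk, rfl⟩ := (isPrimePow_nat_iff q).1 hq
  obtain ⟨p', hp'⟩ := CharP.exists K
  have := hp'
  obtain ⟨n, hp'p, hn⟩ := FiniteField.card K p'
  have hpp : p = p' := by
    have h1 : p ∣ p' ^ (n : ℕ) := by
      rw [← hn, hK, ← pow_mul]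
      exact dvd_pow_self p (by positivity)
    exact (Nat.prime_dvd_prime_iff_eq hp hp'p).1 (hp.dvd_of_dvd_pow h1)
  subst hpp
  have : Fact p.Prime := ⟨hp⟩
  refine ⟨iterateFrobenius K p k, fun t => iterateFrobenius_def p k t, fun t => ?_⟩
  rw [iterateFrobenius_def, iterateFrobenius_def, ← pow_mul, ← sq, ← hK]
  exact FiniteField.pow_card t

section Sig

variable {K : Type*} [Field K] (f : K →+* K)

/-- `σ` on matrices. -/
def sig (g : Matrix chevE6.Idx chevE6.Idx K) : Matrix chevE6.Idx chevE6.Idx K :=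
  symmE6.mat K * g.map f * symmE6.matInv K

theorem sig_mul (a b : Matrix chevE6.Idx chevE6.Idx K) : sig f (a * b) = sig f a * sig f b := by
  unfold sig
  rw [Matrix.map_mul]
  calc symmE6.mat K * (a.map f * b.map f) * symmE6.matInv K
      = symmE6.mat K * a.map f * 1 * b.map f * symmE6.matInv K := by
        rw [mul_one]; simp only [mul_assoc]
    _ = _ := by
        rw [← symmE6.matInv_mul_mat K]; simp only [mul_assoc]

theorem sig_one : sig f 1 = 1 := by
  unfold sig
  rw [Matrix.map_one f (map_zero f) (map_one f), mul_one, symmE6.mat_mul_matInv K]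

/-- The permutation of the root indices. -/
def rhoN (r : ℕ) : ℕ := tablesE6.rho.getD r 0

/-- The signs. -/
def epsN (r : ℕ) : ℤ := tablesE6.eps.getD r 0

theorem sig_x (r : ℕ) (hr : r < chevE6.nroots) (t : K) :
    sig f (chevE6.x K r t) = chevE6.x K (rhoN r) ((epsN r : K) * f t) := by
  unfold sig
  rw [Cfsg.Agent.ChevStructure.FieldMap.x_map]
  exact symmE6.mat_conj_x K ⟨r, hr⟩ (f t)

/-- The image of a word. -/
def sigWord (w : List (ℕ × K)) : List (ℕ × K) := w.map fun p => (rhoN p.1, (epsN p.1 : K) * f p.2)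

theorem sig_wordMat (w : List (ℕ × K)) (hw : ∀ p ∈ w, p.1 < chevE6.nroots) :
    sig f (chevE6.wordMat K w) = chevE6.wordMat K (sigWord f w) := by
  induction w with
  | nil => exact sig_one f
  | cons p w ih =>
    have e1 : chevE6.wordMat K (p :: w) = chevE6.x K p.1 p.2 * chevE6.wordMat K w := by
      simp [ChevalleyDatum.wordMat]
    have e2 : chevE6.wordMat K (sigWord f (p :: w)) =
        chevE6.x K (rhoN p.1) ((epsN p.1 : K) * f p.2) * chevE6.wordMat K (sigWord f w) := by
      simp [ChevalleyDatum.wordMat, sigWord]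
    rw [e1, e2, sig_mul, sig_x f p.1 (hw p (by simp)), ih fun p' hp' => hw p' (by simp [hp'])]

/-- `σ` on the general linear group. -/
def sigma : GL chevE6.Idx K →* GL chevE6.Idx K :=
  (MulAut.conj (symmE6.P K)).toMonoidHom.comp (Units.map (RingHom.mapMatrix f).toMonoidHom)

theorem coe_sigma (g : GL chevE6.Idx K) :
    ((sigma f g : GL chevE6.Idx K) : Matrix chevE6.Idx chevE6.Idx K) = sig f g := rfl

theorem sigma_eq_self_of_word {w : List (ℕ × K)} (hw : ∀ p ∈ w, p.1 < chevE6.nroots)
    (h : chevE6.wordMat K (sigWord f w) = chevE6.wordMat K w) (g : GL chevE6.Idx K)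
    (hg : (g : Matrix chevE6.Idx chevE6.Idx K) = chevE6.wordMat K w) : sigma f g = g := by
  apply Units.ext
  rw [coe_sigma, hg, sig_wordMat f w hw, h]

end Sig

/-! ### Commuting root elements -/

open Cfsg.Agent.ChevalleyStructure.WordCheck in
/-- `x_r(a)` and `x_s(b)` commute if the check passes. -/
theorem comm_of_check (K : Type*) [Field K] (r s : ℕ)
    (h : check chevE6 0 0 2 (xw [(r, .var 0), (s, .var 1)]) (xw [(s, .var 1), (r, .var 0)]) = true) (a b : K) :
    chevE6.x K r a * chevE6.x K s b = chevE6.x K s b * chevE6.x K r a := by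
  have h1 := wordMat_eq_of_check (F := K) chevE6 (fun i => if i = 0 then a else b) 0 0 2 _ _ h (by simp)
    (by intro i hi; exact absurd hi (Nat.not_lt_zero i))
  simpa [wval, PExpr.denote, ChevalleyDatum.wordMat] using h1

set_option maxRecDepth 100000 in
open Cfsg.Agent.ChevalleyStructure.WordCheck in
theorem check_pairs : ([(56, 36), (15, 35), (42, 37), (29, 34), (56, 35), (15, 36), (42, 34), (29, 37)] : List (ℕ × ℕ)).all
    (fun p => check chevE6 0 0 2 (xw [(p.1, .var 0), (p.2, .var 1)]) (xw [(p.2, .var 1), (p.1, .var 0)])) = true := by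
  decide +kernel

/-- The root elements of `±p₁` commute with those of `±p₆`, and those of `±p₃` with those of `±p₅`. -/
theorem comm (K : Type*) [Field K] (p : ℕ × ℕ)
    (hp : p ∈ ([(56, 36), (15, 35), (42, 37), (29, 34), (56, 35), (15, 36), (42, 34), (29, 37)] : List (ℕ × ℕ)))
    (a b : K) : chevE6.x K p.1 a * chevE6.x K p.2 b = chevE6.x K p.2 b * chevE6.x K p.1 a :=
  comm_of_check K p.1 p.2 (List.all_eq_true.1 check_pairs p hp) a b

/-! ### The twisted group is fixed -/

/-- ²E₆(q) is fixed by `σ`. -/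
theorem sigma_fix {K : Type*} [Field K] {q : ℕ} (f : K →+* K) (hf : ∀ t, f t = t ^ q) (hff : ∀ t, f (f t) = t)
    (g : GL chevE6.Idx K) (hg : g ∈ twistedE6 K q) : sigma f g = g := by
  have hle : twistedE6 K q ≤ (sigma f).eqLocus (MonoidHom.id _) := by
    unfold twistedE6 ChevalleyDatum.genSubgroup
    rw [Subgroup.closure_le]
    rintro g ⟨w, hw, hg⟩
    show sigma f g = g
    rcases hw with ⟨t, ht, r, hr, rfl⟩ | ⟨t, rs, hrs, rfl⟩
    · have hft : f t = t := by rw [hf, ht]
      have hr' : r < chevE6.nroots ∧ rhoN r = r ∧ epsN r = 1 := by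
        simp only [List.mem_cons, List.not_mem_nil, or_false] at hr
        rcases hr with rfl | rfl | rfl | rfl <;> decide +kernel
      refine sigma_eq_self_of_word f (w := [(r, t)]) ?_ ?_ g hg
      · intro p hp
        rw [List.mem_singleton] at hp
        subst hp
        exact hr'.1
      · simp only [sigWord, List.map_cons, List.map_nil, hr'.2.1, hr'.2.2, hft, Int.cast_one, one_mul]
    · have hff' : f (t ^ q) = t := by rw [← hf, hff]
      have hft : f t = t ^ q := hf t
      have hr' : (rs.1 < chevE6.nroots ∧ rhoN rs.1 = rs.2 ∧ epsN rs.1 = 1) ∧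
          (rs.2 < chevE6.nroots ∧ rhoN rs.2 = rs.1 ∧ epsN rs.2 = 1) ∧
          rs ∈ ([(56, 36), (15, 35), (42, 37), (29, 34), (56, 35), (15, 36), (42, 34), (29, 37)] : List (ℕ × ℕ)) := by
        simp only [List.mem_cons, List.not_mem_nil, or_false] at hrs
        rcases hrs with rfl | rfl | rfl | rfl <;> decide +kernel
      refine sigma_eq_self_of_word f (w := [(rs.1, t), (rs.2, t ^ q)]) ?_ ?_ g hg
      · intro p hp
        simp only [List.mem_cons, List.not_mem_nil, or_false] at hp
        rcases hp with rfl | rfl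
        · exact hr'.1.1
        · exact hr'.2.1.1
      · simp only [sigWord, List.map_cons, List.map_nil, hr'.1.2.1, hr'.1.2.2, hr'.2.1.2.1, hr'.2.1.2.2,
          hff', hft, Int.cast_one, one_mul, ChevalleyDatum.wordMat, List.prod_cons, List.prod_nil, mul_one]
        exact (comm K rs hr'.2.2 _ _).symm
  exact hle hg

end Cfsg.Agent.ChevalleyStructure.TwE6Sigma
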