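import Cfsg.Agent.ChevalleyStructure.TwF4.Fix
import Cfsg.Agent.ChevalleyStructure.BNOrder

/-!
The Poincaré sum of the relative Weyl group of `²F₄` (dihedral of order 16).
-/

set_option autoImplicit false

namespace Cfsg.Agent.ChevalleyStructure.TwistedWeylSumF4

open Cfsg.Agent.ChevalleyStructure.TwF4.Rel Cfsg.Agent.ChevalleyStructure.TwF4.Fix

/-- iterate of `w₁ w₂` -/
def itr (k : ℕ) (r : ℕ) : ℕ := Nat.rec r (fun _ s => w1 (w2 s)) k

/-- the table of the element `(b, k)` of the dihedral group -/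
def tab (b : Bool) (k r : ℕ) : ℕ := bif b then w1 (itr k r) else itr k r

/-- the exponents -/
def expo (b : Bool) (k : Fin 8) : ℕ :=
  bif b then [1, 2, 5, 8, 11, 10, 7, 4].getD k 0 else [0, 3, 6, 9, 12, 9, 6, 3].getD k 0

theorem card_short : ∀ (b : Bool) (k : Fin 8), (Finset.univ.filter fun r : Fin 48 =>
    (24 ≤ r.val ∧ ¬ 24 ≤ tab b k r) ∧ ¬ isLong r = true).card = expo b k := by decide +kernel

theorem card_long : ∀ (b : Bool) (k : Fin 8), (Finset.univ.filter fun r : Fin 48 =>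
    (24 ≤ r.val ∧ ¬ 24 ≤ tab b k r) ∧ isLong r = true).card = expo b k := by decide +kernel

theorem w1_w1 : ∀ r : Fin 48, w1 (w1 r) = r.val := by decide +kernel
theorem w2_w2 : ∀ r : Fin 48, w2 (w2 r) = r.val := by decide +kernel
theorem itr_eight : ∀ r : Fin 48, itr 8 r = r.val := by decide +kernel

theorem tab_inj : ∀ (b b' : Bool) (k k' : Fin 8), tab b k 24 = tab b' k' 24 →
    tab b k 25 = tab b' k' 25 → b = b' ∧ k = k' := by decide +kernel

section

variable {s1 s2 : Equiv.Perm (Fin 48)} (h1 : ∀ r, ((s1 r : Fin 48) : ℕ) = w1 r)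
  (h2 : ∀ r, ((s2 r : Fin 48) : ℕ) = w2 r)

include h1 in
theorem s1_sq : s1 * s1 = 1 := by
  ext r
  show ((s1 (s1 r) : Fin 48) : ℕ) = r
  rw [h1, h1, w1_w1]

include h2 in
theorem s2_sq : s2 * s2 = 1 := by
  ext r
  show ((s2 (s2 r) : Fin 48) : ℕ) = r
  rw [h2, h2, w2_w2]

include h1 h2 in
theorem pow_apply (k : ℕ) (r : Fin 48) : ((((s1 * s2) ^ k) r : Fin 48) : ℕ) = itr k r := by
  induction k with
  | zero => rfl
  | succ n ih =>
    rw [pow_succ']
    show ((s1 (s2 (((s1 * s2) ^ n) r)) : Fin 48) : ℕ) = w1 (w2 (itr n r))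
    rw [h1, h2, ih]

include h1 h2 in
theorem pow_eight : (s1 * s2) ^ 8 = 1 := by
  ext r
  rw [pow_apply h1 h2, itr_eight]
  rfl

/-- the elements -/
def el (s1 s2 : Equiv.Perm (Fin 48)) (p : Bool × Fin 8) : Equiv.Perm (Fin 48) :=
  (if p.1 then s1 else 1) * (s1 * s2) ^ p.2.val

include h1 h2 in
theorem el_apply (p : Bool × Fin 8) (r : Fin 48) : ((el s1 s2 p r : Fin 48) : ℕ) = tab p.1 p.2 r := by
  rcases p with ⟨_ | _, k⟩
  · show ((((s1 * s2) ^ k.val) r : Fin 48) : ℕ) = itr k r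
    exact pow_apply h1 h2 _ _
  · show ((s1 (((s1 * s2) ^ k.val) r) : Fin 48) : ℕ) = w1 (itr k r)
    rw [h1, pow_apply h1 h2]

include h1 h2 in
theorem el_inj : Function.Injective (el s1 s2) := by
  rintro ⟨b, k⟩ ⟨b', k'⟩ h
  have e1 := el_apply h1 h2 (b, k)
  have e2 := el_apply h1 h2 (b', k')
  rw [h] at e1
  have := tab_inj b b' k k' ((e1 24).symm.trans (e2 24)) ((e1 25).symm.trans (e2 25))
  rw [this.1, this.2]

theorem el_mem (p : Bool × Fin 8) : el s1 s2 p ∈ Subgroup.closure ({s1, s2} : Set (Equiv.Perm (Fin 48))) := by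
  have m1 : s1 ∈ Subgroup.closure ({s1, s2} : Set (Equiv.Perm (Fin 48))) :=
    Subgroup.subset_closure (by simp)
  have m2 : s2 ∈ Subgroup.closure ({s1, s2} : Set (Equiv.Perm (Fin 48))) :=
    Subgroup.subset_closure (by simp)
  unfold el
  refine Subgroup.mul_mem _ ?_ (Subgroup.pow_mem _ (Subgroup.mul_mem _ m1 m2) _)
  split
  · exact m1
  · exact Subgroup.one_mem _

include h1 h2 in
theorem pow_mod (k : ℕ) : ∃ j : Fin 8, (s1 * s2) ^ k = (s1 * s2) ^ j.val := by
  refine ⟨⟨k % 8, Nat.mod_lt _ (by norm_num)⟩, ?_⟩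
  conv_lhs => rw [← Nat.div_add_mod k 8, pow_add, pow_mul, pow_eight h1 h2, one_pow, one_mul]

include h1 h2 in
theorem mem_iff (w : Equiv.Perm (Fin 48)) :
    w ∈ Subgroup.closure ({s1, s2} : Set (Equiv.Perm (Fin 48))) ↔ ∃ p, el s1 s2 p = w := by
  constructor
  · intro hw
    have q1 := s1_sq h1
    have q2 := s2_sq h2
    have i1 : s1⁻¹ = s1 := inv_eq_of_mul_eq_one_left q1
    have i2 : s2⁻¹ = s2 := inv_eq_of_mul_eq_one_left q2
    -- left multiplication by a generator preserves the list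
    have k1 : ∀ p, ∃ p', el s1 s2 p' = s1 * el s1 s2 p := by
      rintro ⟨_ | _, k⟩
      · exact ⟨(true, k), by simp [el]⟩
      · refine ⟨(false, k), ?_⟩
        simp only [el, if_true, Bool.false_eq_true, if_false, one_mul]
        rw [← mul_assoc, q1, one_mul]
    have k2 : ∀ p, ∃ p', el s1 s2 p' = s2 * el s1 s2 p := by
      have hs : s1 * (s1 * s2) = s2 := by rw [← mul_assoc, q1, one_mul]
      have hx : s2 * s1 = (s1 * s2) ^ 7 := by
        have : (s1 * s2) ^ 7 = (s1 * s2)⁻¹ :=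
          eq_inv_of_mul_eq_one_left (by rw [← pow_succ]; exact pow_eight h1 h2)
        rw [this, mul_inv_rev, i1, i2]
      rintro ⟨_ | _, k⟩
      · obtain ⟨j, hj⟩ := pow_mod h1 h2 (k.val + 1)
        refine ⟨(true, j), ?_⟩
        simp only [el, if_true, Bool.false_eq_true, if_false, one_mul]
        rw [← hj, pow_succ']
        exact (mul_assoc _ _ _).symm.trans (congrArg (· * _) hs)
      · obtain ⟨j, hj⟩ := pow_mod h1 h2 (7 + k.val)
        refine ⟨(false, j), ?_⟩
        simp only [el, if_true, Bool.false_eq_true, if_false, one_mul]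
        rw [← hj, pow_add, ← hx, mul_assoc]
    induction hw using Subgroup.closure_induction_left with
    | one => exact ⟨(false, 0), by simp [el]⟩
    | mul_left x hx y _ ih =>
      obtain ⟨p, rfl⟩ := ih
      rcases hx with rfl | hx
      · exact k1 p
      · rw [Set.mem_singleton_iff] at hx
        subst hx
        exact k2 p
    | inv_mul_cancel x hx y _ ih =>
      obtain ⟨p, rfl⟩ := ih
      rcases hx with rfl | hx
      · rw [i1]; exact k1 p
      · rw [Set.mem_singleton_iff] at hx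
        subst hx
        rw [i2]; exact k2 p
  · rintro ⟨p, rfl⟩
    exact el_mem p

open Classical in
include h1 h2 in
theorem sum_closure (f : Equiv.Perm (Fin 48) → ℕ) :
    ∑ w ∈ Finset.univ.filter (fun w => w ∈ Subgroup.closure ({s1, s2} : Set (Equiv.Perm (Fin 48)))),
      f w = ∑ p : Bool × Fin 8, f (el s1 s2 p) := by
  rw [← Finset.sum_image (f := f) (g := el s1 s2) (s := Finset.univ)
    (fun x _ y _ h => el_inj h1 h2 h)]
  apply Finset.sum_congr _ fun _ _ => rfl
  ext w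
  rw [Finset.mem_filter, Finset.mem_image, mem_iff h1 h2]
  simp

theorem prod_eq {pos : Fin 48 → Prop} (hpos : ∀ r, pos r ↔ 24 ≤ r.val) (P : Fin 48 → Prop)
    [DecidablePred P] {c : Fin 48 → ℕ} {q : ℕ} (hc : ∀ r, c r = if P r then q else 1)
    (w : Equiv.Perm (Fin 48)) (f : ℕ → ℕ) (hw : ∀ r, ((w r : Fin 48) : ℕ) = f r) (n : ℕ)
    (hn : (Finset.univ.filter fun r : Fin 48 => (24 ≤ r.val ∧ ¬ 24 ≤ f r) ∧ P r).card = n) :
    BNOrder.wt pos c w = q ^ n := by
  classical
  rw [BNOrder.wt_def, ← hn, ← Finset.prod_const]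
  have e1 : ∏ a ∈ Finset.univ.filter (fun a : Fin 48 => pos a ∧ ¬ pos (w a)), c a =
      ∏ a ∈ Finset.univ.filter (fun a : Fin 48 => 24 ≤ a.val ∧ ¬ 24 ≤ f a), if P a then q else 1 := by
    apply Finset.prod_congr
    · apply Finset.filter_congr
      intro r _
      rw [hpos, hpos, hw]
    · intro r _
      exact hc r
  have e2 : ∏ a ∈ Finset.univ.filter (fun a : Fin 48 => (24 ≤ a.val ∧ ¬ 24 ≤ f a) ∧ P a), q =
      ∏ a ∈ Finset.univ.filter (fun a : Fin 48 => 24 ≤ a.val ∧ ¬ 24 ≤ f a), if P a then q else 1 := by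
    rw [← Finset.filter_filter, Finset.prod_filter (p := P)]
  refine Eq.trans ?_ (e1.trans e2.symm)
  apply Finset.prod_congr _ fun _ _ => rfl
  exact Finset.filter_congr fun _ _ => Iff.rfl

open Classical in
include h1 h2 in
/-- **The Poincaré sum of the relative Weyl group of `²F₄`** (weights on the roots with `P`). -/
theorem sum_twistedF4_gen {pos : Fin 48 → Prop} (hpos : ∀ r, pos r ↔ 24 ≤ r.val)
    {c : Fin 48 → ℕ} {q : ℕ} (hc : ∀ r : Fin 48, c r = if ¬ isLong r = true then q else 1) :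
    ∑ w ∈ Finset.univ.filter
        (fun w => w ∈ Subgroup.closure ({s1, s2} : Set (Equiv.Perm (Fin 48)))),
      BNOrder.wt pos c w = (1 + q) * (1 + q ^ 2) * (1 + q ^ 3) * (1 + q ^ 6) := by
  rw [sum_closure h1 h2]
  have h : ∀ p : Bool × Fin 8, BNOrder.wt pos c (el s1 s2 p) = q ^ expo p.1 p.2 := fun p =>
    prod_eq hpos (fun r : Fin 48 => ¬ isLong r = true) hc _ _ (el_apply h1 h2 p) _
      (card_short p.1 p.2)
  rw [Finset.sum_congr rfl fun p _ => h p, Fintype.sum_prod_type, Fintype.sum_bool]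
  simp only [Fin.sum_univ_eight, expo, cond_true, cond_false]
  simp only [List.getD_cons_zero, List.getD_cons_succ, Fin.val_zero, Fin.val_one]
  norm_num
  ring

open Classical in
include h1 h2 in
/-- The same with the roles of long and short roots exchanged. -/
theorem sum_twistedF4_long {pos : Fin 48 → Prop} (hpos : ∀ r, pos r ↔ 24 ≤ r.val)
    {c : Fin 48 → ℕ} {q : ℕ} (hc : ∀ r : Fin 48, c r = if isLong r = true then q else 1) :
    ∑ w ∈ Finset.univ.filter
        (fun w => w ∈ Subgroup.closure ({s1, s2} : Set (Equiv.Perm (Fin 48)))),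
      BNOrder.wt pos c w = (1 + q) * (1 + q ^ 2) * (1 + q ^ 3) * (1 + q ^ 6) := by
  rw [sum_closure h1 h2]
  have h : ∀ p : Bool × Fin 8, BNOrder.wt pos c (el s1 s2 p) = q ^ expo p.1 p.2 := fun p =>
    prod_eq hpos (fun r : Fin 48 => isLong r = true) hc _ _ (el_apply h1 h2 p) _
      (card_long p.1 p.2)
  rw [Finset.sum_congr rfl fun p _ => h p, Fintype.sum_prod_type, Fintype.sum_bool]
  simp only [Fin.sum_univ_eight, expo, cond_true, cond_false]
  norm_num
  ring

end

open Classical in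
/-- The Poincaré sum, with the two generators indexed by `Fin 2`. -/
theorem sum_twistedF4 (s : Fin 2 → Equiv.Perm (Fin 48)) (h1 : ∀ r, ((s 0 r : Fin 48) : ℕ) = w1 r)
    (h2 : ∀ r, ((s 1 r : Fin 48) : ℕ) = w2 r) {pos : Fin 48 → Prop}
    (hpos : ∀ r, pos r ↔ 24 ≤ r.val) {c : Fin 48 → ℕ} {q : ℕ}
    (hc : ∀ r : Fin 48, c r = if isLong r = true then 1 else q) :
    ∑ w ∈ Finset.univ.filter (fun w => w ∈ Subgroup.closure (Set.range s)),
      BNOrder.wt pos c w = (1 + q) * (1 + q ^ 2) * (1 + q ^ 3) * (1 + q ^ 6) := by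
  have hr : Set.range s = {s 0, s 1} := by
    ext x
    simp only [Set.mem_range, Fin.exists_fin_two, Set.mem_insert_iff, Set.mem_singleton_iff]
    simp [eq_comm]
  rw [hr]
  exact sum_twistedF4_gen h1 h2 hpos fun r => by rw [hc]; split <;> simp_all

end Cfsg.Agent.ChevalleyStructure.TwistedWeylSumF4
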