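import Cfsg.Prelude.Def_ChevStructure
import Cfsg.Prelude.Def_LieTwisted
import Cfsg.Agent.ChevalleyStructure.GraphSymm
import Cfsg.Agent.ChevalleyStructure.TwistedFix
import Cfsg.Agent.ChevStructure.FieldMap

/-!
The endomorphism `σ(g) = P g^(q) P⁻¹` of the general linear group given by a signed permutation symmetry of
the tables and a field endomorphism `φ`; the case of `E₆` and `t ↦ t^q`.
-/

set_option autoImplicit false

namespace Cfsg.Agent.ChevalleyStructure.TwistedE6Sigma

open Cfsg.Lie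
open Cfsg.Agent.ChevalleyStructure.SignedSymm
open Cfsg.Agent.ChevalleyStructure.GraphSymm
open Cfsg.Agent.ChevalleyStructure.TwistedFix
open Cfsg.Agent.ChevStructure

universe u

/-- The power map `t ↦ t^q` as a ring endomorphism of a finite field with `q^m` elements. -/
theorem exists_frob {K : Type u} [Field K] [Fintype K] {q m : ℕ} (hq : IsPrimePow q) (_hm : m ≠ 0)
    (hK : Fintype.card K = q ^ m) : ∃ φ : K →+* K, ∀ t, φ t = t ^ q := by
  obtain ⟨p, k, hp, hk, rfl⟩ := hq
  have : Fact p.Prime := ⟨hp.nat_prime⟩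
  have hK' : Fintype.card K = p ^ (k * m) := by rw [hK, pow_mul]
  have : CharP K p := charP_of_card_eq_prime_pow hK'
  exact ⟨iterateFrobenius K p k, fun t => iterateFrobenius_def p k t⟩

section Sigma

variable {D : ChevalleyDatum} {K : Type u} [Field K]

/-- `σ(g) = P φ(g) P⁻¹`. -/
noncomputable def sig (S : Symm D) (φ : K →+* K) : GL D.Idx K →* GL D.Idx K :=
  (MulAut.conj (S.P K)).toMonoidHom.comp (Matrix.GeneralLinearGroup.map φ)

theorem coe_sig (S : Symm D) (φ : K →+* K) (g : GL D.Idx K) :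
    ((sig S φ g : GL D.Idx K) : Matrix D.Idx D.Idx K) =
      S.mat K * (g : Matrix D.Idx D.Idx K).map φ * S.matInv K := rfl

theorem sig_x (S : Symm D) (φ : K →+* K) {g : GL D.Idx K} (r : Fin D.nroots) {t : K}
    (h : (g : Matrix D.Idx D.Idx K) = D.x K r.val t) :
    ((sig S φ g : GL D.Idx K) : Matrix D.Idx D.Idx K) =
      D.x K (S.σ r).val (((S.ε r : ℤ) : K) * φ t) := by
  rw [coe_sig, h, FieldMap.x_map, S.mat_conj_x]

end Sigma

/-- The permutation of the root indices of `E₆` induced by the graph automorphism. -/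
def rho (r : ℕ) : ℕ := tablesE6.rho.getD r 0

/-- The signs `ε_r`. -/
def eps (r : ℕ) : ℤ := tablesE6.eps.getD r 0

theorem rho_lt : ∀ r < 72, rho r < 72 := by decide +kernel

theorem rho_rho : ∀ r < 72, rho (rho r) = r := by decide +kernel

theorem eps_rho : ∀ r < 72, eps (rho r) = eps r := by decide +kernel

theorem eps_sq : ∀ r < 72, eps r * eps r = 1 := by decide +kernel

theorem eps_of_rho_eq : ∀ r < 72, rho r = r → eps r = 1 := by decide +kernel

theorem sig_xE6 {K : Type u} [Field K] (φ : K →+* K) {g : GL chevE6.Idx K} {r : ℕ} (hr : r < 72) {t : K}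
    (h : (g : Matrix chevE6.Idx chevE6.Idx K) = chevE6.x K r t) :
    ((sig symmE6 φ g : GL chevE6.Idx K) : Matrix chevE6.Idx chevE6.Idx K) =
      chevE6.x K (rho r) (((eps r : ℤ) : K) * φ t) :=
  sig_x symmE6 φ (⟨r, hr⟩ : Fin chevE6.nroots) h

end Cfsg.Agent.ChevalleyStructure.TwistedE6Sigma
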