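import Cfsg.Agent.ChevalleyStructure.TwistedE6Sigma
import Cfsg.Agent.ChevalleyStructure.Elts
import Cfsg.Agent.S1025
import Cfsg.Agent.S1027
import Cfsg.Agent.S1031

/-!
The unipotent subgroup `U ∩ G¹` of `G¹ = ²E₆(q)`: it is `U ∩ Fix σ`, the ordered unique product of the relative
root groups, all of which lie in `G¹`.
-/

set_option autoImplicit false

namespace Cfsg.Agent.ChevalleyStructure.TwistedE6U

open Cfsg.Lie
open Cfsg.Agent.ChevalleyStructure
open Cfsg.Agent.ChevalleyStructure.GraphSymm
open Cfsg.Agent.ChevalleyStructure.TwistedU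
open Cfsg.Agent.ChevalleyStructure.TwistedFix
open Cfsg.Agent.ChevalleyStructure.TwistedE6Sigma
open scoped commutatorElement

universe u

theorem hE6 : Elts.InList chevE6 := by
  unfold Elts.InList
  simp

/-- The root elements of `E₆` in the general linear group. -/
noncomputable abbrev X {K : Type u} [Field K] (r : ℕ) (t : K) : GL chevE6.Idx K := Elts.xG hE6 r t

/-- The `ρ`-orbits of positive roots of `E₆`, by height. -/
def L : List (List ℕ) := [[46], [39], [56, 36], [42, 37], [38, 57], [40, 43], [47], [41, 58], [44],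
  [48, 50], [45, 59], [49, 61], [51], [52, 62], [53], [60], [54, 64], [63], [55, 67], [65], [66, 68],
  [69], [70], [71]]

theorem L_lt : ∀ r ∈ L.flatten, r < 72 := by decide

theorem L_nodup : L.flatten.Nodup := by decide

theorem L_length : L.flatten.length = 36 := by decide

theorem isPosRoot_iff_lt : ∀ r < 72, (chevE6.IsPosRoot r ↔ r ∈ L.flatten) := by decide +kernel

theorem isPosRoot_iff (r : ℕ) : chevE6.IsPosRoot r ↔ r ∈ L.flatten :=
  ⟨fun h => (isPosRoot_iff_lt r h.1).1 h, fun h => (isPosRoot_iff_lt r (L_lt r h)).2 h⟩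

/-- The check of the commutator condition along a list. -/
def goodCheck : List ℕ → Bool
  | [] => true
  | r :: l => (l.all fun s => decide (s ≠ r) && decide (s ≠ chevE6.neg r) &&
      (chevE6.commTerms r s).all fun c => decide (c.1 ∈ l)) && goodCheck l

theorem goodCheck_L : goodCheck L.flatten = true := by decide +kernel

theorem orbit_check : ∀ o ∈ L, o.Pairwise fun r s =>
    s ≠ r ∧ s ≠ chevE6.neg r ∧ chevE6.commTerms r s = [] := by decide +kernel

section Field

variable {K : Type u} [Field K]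

theorem X_add (r : ℕ) (t u : K) : X r (t + u) = X r t * X r u := (Elts.xG_add hE6 r t u).symm

theorem comm_formula {r s : ℕ} (hr : r < 72) (hs : s < 72) (hrs : s ≠ r) (hneg : s ≠ chevE6.neg r)
    (t u : K) : X s u * X r t = X r t * X s u * Elts.wordG hE6 (chevE6.commWord K r s t u) := by
  apply Units.ext
  rw [Units.val_mul, Units.val_mul, Units.val_mul, Elts.coe_wordG]
  exact Cfsg.Agent.S1025.result chevE6 hE6 r s hr hs hrs hneg t u

theorem commute_of_nil {r s : ℕ} (hr : r < 72) (hs : s < 72) (hrs : s ≠ r) (hneg : s ≠ chevE6.neg r)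
    (hnil : chevE6.commTerms r s = []) (t u : K) : Commute (X r t) (X s u) := by
  have h := comm_formula hr hs hrs hneg t u
  have h1 : chevE6.commWord K r s t u = [] := by
    unfold ChevalleyDatum.commWord
    rw [hnil]
    rfl
  rw [h1, Elts.wordG_nil, mul_one] at h
  exact h.symm

theorem commutator_mem {r s : ℕ} (hr : r < 72) (hs : s < 72) (hrs : s ≠ r) (hneg : s ≠ chevE6.neg r)
    {l : List ℕ} (hsl : s ∈ l) (hc : ∀ c ∈ chevE6.commTerms r s, c.1 ∈ l) (t u : K) :
    ⁅X r t, X s u⁆ ∈ rspan (X (K := K)) {k | k ∈ l} := by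
  have h := comm_formula hr hs hrs hneg (-t) u
  have hW : Elts.wordG hE6 (chevE6.commWord K r s (-t) u) ∈ rspan (X (K := K)) {k | k ∈ l} := by
    refine Elts.mem_of_xG_mem hE6 ?_
    intro p hp
    unfold ChevalleyDatum.commWord at hp
    obtain ⟨c, hcc, rfl⟩ := List.mem_map.1 hp
    exact mem_rspan (X (K := K)) (S := {k | k ∈ l}) (hc c hcc) _
  have h1 : ⁅X r t, X s u⁆ = X s u * Elts.wordG hE6 (chevE6.commWord K r s (-t) u) * (X s u)⁻¹ := by
    have e : X r (-t) = (X r t)⁻¹ := (Elts.xG_inv hE6 r t).symm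
    rw [e] at h
    rw [commutatorElement_def, mul_assoc (X r t), h]
    group
  rw [h1]
  have hsm : X s u ∈ rspan (X (K := K)) {k | k ∈ l} := mem_rspan (X (K := K)) (S := {k | k ∈ l}) hsl u
  exact Subgroup.mul_mem _ (Subgroup.mul_mem _ hsm hW) (Subgroup.inv_mem _ hsm)

theorem good_of_check : ∀ {l : List ℕ}, (∀ r ∈ l, r < 72) → goodCheck l = true → Good (X (K := K)) l := by
  intro l
  induction l with
  | nil => intro _ _; exact good_nil _
  | cons r l ih =>
    intro hlt hc
    unfold goodCheck at hc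
    rw [Bool.and_eq_true] at hc
    refine (good_cons _).2 ⟨?_, ih (fun s hs => hlt s (List.mem_cons_of_mem _ hs)) hc.2⟩
    intro s hs t u
    have h1 := List.all_eq_true.1 hc.1 s hs
    rw [Bool.and_eq_true, Bool.and_eq_true, decide_eq_true_eq, decide_eq_true_eq] at h1
    exact commutator_mem (hlt r List.mem_cons_self) (hlt s (List.mem_cons_of_mem _ hs)) h1.1.1 h1.1.2 hs
      (fun c hcc => of_decide_eq_true (List.all_eq_true.1 h1.2 c hcc)) t u

theorem good_L : Good (X (K := K)) L.flatten := good_of_check L_lt goodCheck_L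

theorem orbit_commute {o : List ℕ} (ho : o ∈ L) :
    o.Pairwise fun r s => ∀ t u : K, Commute (X r t) (X s u) := by
  have hlt : ∀ r ∈ o, r < 72 := fun r hr => L_lt r (List.mem_flatten.2 ⟨o, ho, hr⟩)
  refine (orbit_check o ho).imp_of_mem ?_
  intro r s hr hs h t u
  exact commute_of_nil (hlt r hr) (hlt s hs) h.1 h.2.1 h.2.2 t u

theorem posUnipotent_eq : chevE6.posUnipotent K = rspan (X (K := K)) {k | k ∈ L.flatten} := by
  apply le_antisymm
  · rw [Elts.posUnipotent_le_iff hE6]
    intro r hr t
    exact mem_rspan (X (K := K)) (S := {k | k ∈ L.flatten}) ((isPosRoot_iff r).1 hr) t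
  · refine rspan_le _ fun r hr t => ?_
    exact Elts.xG_mem_posUnipotent hE6 ((isPosRoot_iff r).2 hr) t

theorem lprod_inj [Fintype K] (t t' : ℕ → K) (h : lprod (X (K := K)) L.flatten t = lprod X L.flatten t') :
    ∀ r ∈ L.flatten, t r = t' r := by
  refine lprod_inj_of_card X_add L_nodup good_L ?_ h
  rw [← posUnipotent_eq, Cfsg.Agent.S1027.result chevE6 hE6, L_length, Nat.card_eq_fintype_card]
  rfl

theorem sig_X (φ : K →+* K) {r : ℕ} (hr : r < 72) (t : K) :
    sig symmE6 φ (X r t) = X (rho r) (((eps r : ℤ) : K) * φ t) :=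
  Units.ext (sig_xE6 φ hr rfl)

/-- The complete setup for `E₆`. -/
theorem setup [Fintype K] (φ : K →+* K) :
    Setup (X (K := K)) L (sig symmE6 φ) rho rho (fun r t => ((eps r : ℤ) : K) * φ t) where
  hadd := X_add
  nodup := L_nodup
  good := good_L
  inj := lprod_inj
  hσ r hr t := sig_X φ (L_lt r hr) t
  perm := by decide
  comm o ho := orbit_commute ho
  left_inv r hr := rho_rho r (L_lt r hr)

end Field

end Cfsg.Agent.ChevalleyStructure.TwistedE6U
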