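import Mathlib

/-!
Group-theoretic core of the perfectness of ²F₄(2^(2m+1)): the pair class and the B₂ class are made of commutators
with one torus element.
-/

set_option autoImplicit false

namespace Cfsg.Agent.ChevalleyStructure.TwistedF4PerfectCore

variable {K G : Type*} [Field K] [Group G]

/-- Pair class. -/
theorem pair_mem [CharP K 2] (e : ℕ) (he : ∀ s t : K, (s + t) ^ e = s ^ e + t ^ e) (X Y : K → G) (H : Subgroup G)
    (hX : ∀ s t, X s * X t = X (s + t)) (hY : ∀ s t, Y s * Y t = Y (s + t))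
    (hXY : ∀ s t, Y t * X s = X s * Y t)
    (g : G) (l : K) (hl : l ≠ 1)
    (hgX : ∀ s, g * X s = X (l ^ e * s) * g) (hgY : ∀ s, g * Y s = Y (l * s) * g)
    (hH : ∀ t, g * (X (t ^ e) * Y t) * g⁻¹ * (X (t ^ e) * Y t)⁻¹ ∈ H) (t : K) :
    X (t ^ e) * Y t ∈ H := by
  have hX0 : X 0 = 1 := by
    have := hX 0 0
    rw [add_zero] at this
    exact mul_eq_left.mp this
  have hY0 : Y 0 = 1 := by
    have := hY 0 0
    rw [add_zero] at this
    exact mul_eq_left.mp this
  have h2 : ∀ x : K, x + x = 0 := CharTwo.add_self_eq_zero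
  have hXi : ∀ s, (X s)⁻¹ = X s := fun s => by
    rw [inv_eq_iff_mul_eq_one, hX, h2, hX0]
  have hYi : ∀ s, (Y s)⁻¹ = Y s := fun s => by
    rw [inv_eq_iff_mul_eq_one, hY, h2, hY0]
  have hl1 : l + 1 ≠ 0 := by
    intro h
    apply hl
    have := CharTwo.add_eq_zero.mp h
    exact this
  have key := hH (t / (l + 1))
  set s := t / (l + 1) with hs
  have e1 : g * (X (s ^ e) * Y s) * g⁻¹ = X ((l * s) ^ e) * Y (l * s) := by
    rw [mul_inv_eq_iff_eq_mul, ← mul_assoc, hgX, mul_assoc, hgY, ← mul_assoc, mul_pow]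
  rw [e1, mul_inv_rev, hXi, hYi, mul_assoc, ← mul_assoc (Y (l * s)), hY, hXY, ← mul_assoc, hX, ← he] at key
  have e2 : l * s + s = t := by
    rw [hs]; field_simp
  rwa [e2] at key

/-- B₂ class. -/
theorem b2_mem [CharP K 2] (e : ℕ) (he : ∀ s t : K, (s + t) ^ e = s ^ e + t ^ e) (hee : ∀ t : K, (t ^ e) ^ (2 * e) = t)
    (A B C D : K → G) (H : Subgroup G)
    (hA : ∀ s t, A s * A t = A (s + t)) (hB : ∀ s t, B s * B t = B (s + t))
    (hC : ∀ s t, C s * C t = C (s + t)) (hD : ∀ s t, D s * D t = D (s + t))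
    (hBA : ∀ s t, B t * A s = A s * B t * (C (s * t) * D (s ^ 2 * t)))
    (hCA : ∀ s t, C t * A s = A s * C t) (hCB : ∀ s t, C t * B s = B s * C t)
    (hDA : ∀ s t, D t * A s = A s * D t) (hDB : ∀ s t, D t * B s = B s * D t)
    (hDC : ∀ s t, D t * C s = C s * D t)
    (g : G) (l : K) (hl : l ≠ 1) (hl' : l ^ (e + 1) ≠ 1)
    (hgA : ∀ s, g * A s = A (l ^ e * s) * g) (hgB : ∀ s, g * B s = B (l * s) * g)
    (hgC : ∀ s, g * C s = C (l ^ (e + 1) * s) * g) (hgD : ∀ s, g * D s = D (l ^ (2 * e + 1) * s) * g)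
    (hH : ∀ t u, g * (A (t ^ e) * B t * C (t ^ (e + 1) + u) * D (u ^ (2 * e))) * g⁻¹ *
      (A (t ^ e) * B t * C (t ^ (e + 1) + u) * D (u ^ (2 * e)))⁻¹ ∈ H) (t u : K) :
    A (t ^ e) * B t * C (t ^ (e + 1) + u) * D (u ^ (2 * e)) ∈ H := by
  have h2 : ∀ x : K, x + x = 0 := CharTwo.add_self_eq_zero
  have hA0 : A 0 = 1 := by
    have := hA 0 0
    rw [add_zero] at this
    exact mul_eq_left.mp this
  have hB0 : B 0 = 1 := by
    have := hB 0 0
    rw [add_zero] at this
    exact mul_eq_left.mp this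
  have hC0 : C 0 = 1 := by
    have := hC 0 0
    rw [add_zero] at this
    exact mul_eq_left.mp this
  have hD0 : D 0 = 1 := by
    have := hD 0 0
    rw [add_zero] at this
    exact mul_eq_left.mp this
  -- general product
  have hprod : ∀ s t v w s' t' v' w', (A s * B t * C v * D w) * (A s' * B t' * C v' * D w') =
      A (s + s') * B (t + t') * C (v + v' + s' * t) * D (w + w' + s' ^ 2 * t) := by
    intro s t v w s' t' v' w'
    have c1 : ∀ x y, Commute (D x) (A y) := fun x y => hDA y x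
    have c2 : ∀ x y, Commute (D x) (B y) := fun x y => hDB y x
    have c3 : ∀ x y, Commute (D x) (C y) := fun x y => hDC y x
    have c4 : ∀ x y, Commute (C x) (A y) := fun x y => hCA y x
    have c5 : ∀ x y, Commute (C x) (B y) := fun x y => hCB y x
    calc (A s * B t * C v * D w) * (A s' * B t' * C v' * D w')
        = A s * B t * C v * (D w * (A s' * B t' * C v')) * D w' := by group
      _ = A s * B t * C v * ((A s' * B t' * C v') * D w) * D w' := by
          rw [(((c1 w s').mul_right (c2 w t')).mul_right (c3 w v')).eq]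
      _ = A s * B t * (C v * (A s' * B t')) * C v' * (D w * D w') := by group
      _ = A s * B t * ((A s' * B t') * C v) * C v' * (D w * D w') := by
          rw [((c4 v s').mul_right (c5 v t')).eq]
      _ = A s * (B t * A s') * B t' * (C v * C v') * (D w * D w') := by group
      _ = A s * (A s' * B t * (C (s' * t) * D (s' ^ 2 * t))) * B t' * (C v * C v') * (D w * D w') := by
          rw [hBA]
      _ = (A s * A s') * B t * ((C (s' * t) * D (s' ^ 2 * t)) * (B t' * (C v * C v'))) * (D w * D w') := by group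
      _ = (A s * A s') * B t * ((B t' * (C v * C v')) * (C (s' * t) * D (s' ^ 2 * t))) * (D w * D w') := by
          have c6 : ∀ x y, Commute (C x) (C y) := fun x y => by
            show C x * C y = C y * C x
            rw [hC, hC, add_comm]
          have : Commute (C (s' * t) * D (s' ^ 2 * t)) (B t' * (C v * C v')) := by
            apply Commute.mul_left
            · exact (c5 _ _).mul_right ((c6 _ _).mul_right (c6 _ _))
            · exact (c2 _ _).mul_right ((c3 _ _).mul_right (c3 _ _))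
          rw [this.eq]
      _ = (A s * A s') * (B t * B t') * (C v * C v' * C (s' * t)) * (D (s' ^ 2 * t) * (D w * D w')) := by group
      _ = _ := by
          rw [hA, hB, hC, hC, hD, hD, add_comm (s' ^ 2 * t)]
  have hl1 : l + 1 ≠ 0 := by
    intro h
    exact hl (CharTwo.add_eq_zero.mp h)
  have hl2 : l ^ (e + 1) + 1 ≠ 0 := by
    intro h
    exact hl' (CharTwo.add_eq_zero.mp h)
  -- class multiplication
  have hmul : ∀ t u t' u', (A (t ^ e) * B t * C (t ^ (e + 1) + u) * D (u ^ (2 * e))) *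
      (A (t' ^ e) * B t' * C (t' ^ (e + 1) + u') * D (u' ^ (2 * e))) =
      A ((t + t') ^ e) * B (t + t') * C ((t + t') ^ (e + 1) + (u + u' + t ^ e * t')) *
        D ((u + u' + t ^ e * t') ^ (2 * e)) := by
    intro t u t' u'
    rw [hprod, ← he]
    have e1 : t ^ (e + 1) + u + (t' ^ (e + 1) + u') + t' ^ e * t =
        (t + t') ^ (e + 1) + (u + u' + t ^ e * t') := by
      have : (t + t') ^ (e + 1) = (t ^ e + t' ^ e) * (t + t') := by rw [pow_succ, he]
      rw [this]
      have h3 : t ^ e * t' + t ^ e * t' = 0 := h2 _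
      linear_combination (-1 : K) * h3
    have e2 : u ^ (2 * e) + u' ^ (2 * e) + (t' ^ e) ^ 2 * t = (u + u' + t ^ e * t') ^ (2 * e) := by
      have h4 : ∀ x y : K, (x + y) ^ (2 * e) = x ^ (2 * e) + y ^ (2 * e) := by
        intro x y
        rw [mul_comm 2 e, pow_mul, pow_mul, pow_mul, he]
        exact CharTwo.add_sq _ _
      rw [h4, h4, mul_pow, hee, ← pow_mul, mul_comm e 2]
      ring
    rw [e1, e2]
  have hzero : A ((0 : K) ^ e) * B 0 * C ((0 : K) ^ (e + 1) + 0) * D ((0 : K) ^ (2 * e)) = 1 := by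
    have h1 := hmul 0 0 0 0
    simp only [add_zero, mul_zero] at h1 ⊢
    exact mul_eq_left.mp h1
  have hinv : ∀ t u, (A (t ^ e) * B t * C (t ^ (e + 1) + u) * D (u ^ (2 * e)))⁻¹ =
      A (t ^ e) * B t * C (t ^ (e + 1) + (u + t ^ (e + 1))) * D ((u + t ^ (e + 1)) ^ (2 * e)) := by
    intro t u
    rw [inv_eq_iff_mul_eq_one, hmul]
    have e1 : t + t = 0 := h2 t
    have e2 : u + (u + t ^ (e + 1)) + t ^ e * t = 0 := by
      rw [← pow_succ]
      have := h2 u
      have h3 := h2 (t ^ (e + 1))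
      linear_combination this + h3
    rw [e1, e2]
    exact hzero
  have hconj : ∀ t u, g * (A (t ^ e) * B t * C (t ^ (e + 1) + u) * D (u ^ (2 * e))) * g⁻¹ =
      A ((l * t) ^ e) * B (l * t) * C ((l * t) ^ (e + 1) + l ^ (e + 1) * u) *
        D ((l ^ (e + 1) * u) ^ (2 * e)) := by
    intro t u
    rw [mul_inv_eq_iff_eq_mul]
    calc g * (A (t ^ e) * B t * C (t ^ (e + 1) + u) * D (u ^ (2 * e)))
        = (g * A (t ^ e)) * B t * C (t ^ (e + 1) + u) * D (u ^ (2 * e)) := by group
      _ = A (l ^ e * t ^ e) * (g * B t) * C (t ^ (e + 1) + u) * D (u ^ (2 * e)) := by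
          rw [hgA]; group
      _ = A (l ^ e * t ^ e) * B (l * t) * (g * C (t ^ (e + 1) + u)) * D (u ^ (2 * e)) := by
          rw [hgB]; group
      _ = A (l ^ e * t ^ e) * B (l * t) * C (l ^ (e + 1) * (t ^ (e + 1) + u)) * (g * D (u ^ (2 * e))) := by
          rw [hgC]; group
      _ = A (l ^ e * t ^ e) * B (l * t) * C (l ^ (e + 1) * (t ^ (e + 1) + u)) *
            D (l ^ (2 * e + 1) * u ^ (2 * e)) * g := by
          rw [hgD]; group
      _ = _ := by
          have e1 : l ^ (2 * e + 1) * u ^ (2 * e) = (l ^ (e + 1) * u) ^ (2 * e) := by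
            rw [mul_pow]
            congr 1
            rw [pow_succ l e, mul_pow, hee, pow_succ, mul_comm]
          rw [e1, mul_add, mul_pow l t e, mul_pow l t (e + 1)]
  -- conclude
  set t₀ := t / (l + 1) with ht₀
  set u₀ := (u + t₀ ^ (e + 1) + l ^ e * t₀ ^ (e + 1)) / (l ^ (e + 1) + 1) with hu₀
  have key := hH t₀ u₀
  rw [hconj, hinv, hmul] at key
  have e1 : l * t₀ + t₀ = t := by
    rw [ht₀]; field_simp
  have e2 : l ^ (e + 1) * u₀ + (u₀ + t₀ ^ (e + 1)) + (l * t₀) ^ e * t₀ = u := by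
    have h5 : (l ^ (e + 1) + 1) * u₀ = u + t₀ ^ (e + 1) + l ^ e * t₀ ^ (e + 1) := by
      rw [hu₀]; field_simp
    have h6 := h2 (t₀ ^ (e + 1))
    have h7 := h2 (l ^ e * t₀ ^ (e + 1))
    have h8 : (l * t₀) ^ e * t₀ = l ^ e * t₀ ^ (e + 1) := by rw [mul_pow, pow_succ]; ring
    rw [h8]
    linear_combination h5 + h6 + h7
  rwa [e1, e2] at key

end Cfsg.Agent.ChevalleyStructure.TwistedF4PerfectCore
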