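import Cfsg.Agent.ChevalleyStructure.F4CharTwo
import Cfsg.Agent.ChevalleyStructure.TwistedF4PerfectCore
import Cfsg.Prelude.Def_LieTwisted

/-!
²F₄(2^(2m+1)), m ≥ 1, is perfect.
-/

set_option autoImplicit false

namespace Cfsg.Agent.ChevalleyStructure.TwistedF4Perfect

open Cfsg.Lie Cfsg.Agent.ChevalleyStructure.CharTwoCheck Cfsg.Agent.ChevalleyStructure.F4CharTwo
  Cfsg.Agent.ChevalleyStructure.TwistedF4PerfectCore
open scoped MatrixGroups Matrix

/-- A finite field with `2^n` elements has characteristic 2. -/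
theorem charP_two {K : Type*} [Field K] [Fintype K] {n : ℕ} (hK : Fintype.card K = 2 ^ n) : CharP K 2 := by
  obtain ⟨p, hp⟩ := CharP.exists K
  obtain ⟨k, hp', hk⟩ := FiniteField.card K p
  have h1 : p ∣ 2 ^ n := by
    rw [← hK, hk]
    exact dvd_pow_self p k.ne_zero
  have h2 : p = 2 := (Nat.prime_dvd_prime_iff_eq hp' Nat.prime_two).mp (hp'.dvd_of_dvd_pow h1)
  rw [← h2]
  exact hp

section

variable {K : Type*} [Field K] [CharP K 2]

theorem x_mul_self (r : ℕ) (t : K) : chevF4.x K r t * chevF4.x K r t = 1 := by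
  by_cases hr : r < 48
  · rw [x_add r hr, CharTwo.add_self_eq_zero, x_zero r hr]
  · have h0 : chevF4.x K r t = 1 := dif_neg hr
    rw [h0, one_mul]

/-- Root elements in the general linear group (characteristic 2). -/
def xG (r : ℕ) (t : K) : GL chevF4.Idx K := ⟨chevF4.x K r t, chevF4.x K r t, x_mul_self r t, x_mul_self r t⟩

theorem coe_xG (r : ℕ) (t : K) : (xG r t : Matrix chevF4.Idx chevF4.Idx K) = chevF4.x K r t := rfl

theorem xG_add (r : ℕ) (hr : r < 48) (s t : K) : xG r s * xG r t = xG r (s + t) := by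
  apply Units.ext
  rw [Units.val_mul, coe_xG, coe_xG, coe_xG, x_add r hr]

/-- The word as an element of the general linear group. -/
def wG (l : List (ℕ × K)) : GL chevF4.Idx K := (l.map fun a => xG a.1 a.2).prod

theorem coe_wG (l : List (ℕ × K)) : (wG l : Matrix chevF4.Idx chevF4.Idx K) = chevF4.wordMat K l := by
  unfold wG ChevalleyDatum.wordMat
  induction l with
  | nil => rfl
  | cons a l ih => rw [List.map_cons, List.prod_cons, List.map_cons, List.prod_cons, Units.val_mul, ih, coe_xG]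

theorem wG_nil : wG ([] : List (ℕ × K)) = 1 := rfl

theorem wG_cons (a : ℕ × K) (l : List (ℕ × K)) : wG (a :: l) = xG a.1 a.2 * wG l := by
  unfold wG
  rw [List.map_cons, List.prod_cons]

theorem wG_eq_of_wordMat {l l' : List (ℕ × K)} (h : chevF4.wordMat K l = chevF4.wordMat K l') : wG l = wG l' :=
  Units.ext (by rw [coe_wG, coe_wG, h])

/-- The commutation check. -/
def commCheck (r s : ℕ) : Bool :=
  Nat.blt r 48 && (Nat.blt s 48 && check 64 52 mulN E [(r, (1, 0, 0)), (s, (0, 1, 0))] [(s, (0, 1, 0)), (r, (1, 0, 0))])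

theorem xG_comm (r s : ℕ) (h : commCheck r s = true) (a b : K) : xG r a * xG s b = xG s b * xG r a := by
  unfold commCheck at h
  rw [Bool.and_eq_true, Bool.and_eq_true, Nat.blt_eq, Nat.blt_eq] at h
  have h1 := word_eqN (K := K) _ _ h.2.2 (by
    intro x hx
    simp only [List.mem_cons, List.not_mem_nil, or_false] at hx
    rcases hx with rfl | rfl
    · exact h.1
    · exact h.2.1) (by
    intro x hx
    simp only [List.mem_cons, List.not_mem_nil, or_false] at hx
    rcases hx with rfl | rfl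
    · exact h.2.1
    · exact h.1) a b 1
  have h2 := wG_eq_of_wordMat h1
  simp only [List.map_cons, List.map_nil, wG_cons, wG_nil, mval, pow_zero, pow_one, mul_one, one_mul] at h2
  exact h2

/-- The check of the B₂ commutator relation. -/
def b2Check (a b ab aab : ℕ) : Bool :=
  (Nat.blt a 48 && (Nat.blt b 48 && (Nat.blt ab 48 && Nat.blt aab 48))) &&
    check 64 52 mulN E [(b, (0, 1, 0)), (a, (1, 0, 0))] [(a, (1, 0, 0)), (b, (0, 1, 0)), (ab, (1, 1, 0)), (aab, (2, 1, 0))]

theorem xG_b2 (a b ab aab : ℕ) (h : b2Check a b ab aab = true) (s t : K) :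
    xG b t * xG a s = xG a s * xG b t * (xG ab (s * t) * xG aab (s ^ 2 * t)) := by
  unfold b2Check at h
  rw [Bool.and_eq_true, Bool.and_eq_true, Bool.and_eq_true, Bool.and_eq_true, Nat.blt_eq, Nat.blt_eq, Nat.blt_eq,
    Nat.blt_eq] at h
  obtain ⟨⟨ha, hb, hab, haab⟩, h⟩ := h
  have h1 := word_eqN (K := K) _ _ h (by
    intro x hx
    simp only [List.mem_cons, List.not_mem_nil, or_false] at hx
    rcases hx with rfl | rfl <;> assumption) (by
    intro x hx
    simp only [List.mem_cons, List.not_mem_nil, or_false] at hx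
    rcases hx with rfl | rfl | rfl | rfl <;> assumption) s t 1
  have h2 := wG_eq_of_wordMat h1
  simp only [List.map_cons, List.map_nil, wG_cons, wG_nil, mval, pow_zero, pow_one, mul_one, one_mul] at h2
  rw [h2]
  simp only [mul_assoc]

set_option maxRecDepth 100000 in
theorem checks : (([(33, 24), (33, 23), (14, 24), (14, 23), (28, 27), (28, 25), (30, 27), (30, 25), (30, 28),
    (19, 20), (19, 22), (17, 20), (17, 22), (17, 19)] : List (ℕ × ℕ)).all fun p => commCheck p.1 p.2) = true := by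
  decide +kernel

set_option maxRecDepth 100000 in
theorem b2checks : (b2Check 27 25 28 30 && b2Check 20 22 19 17) = true := by decide +kernel

theorem comm_of {p : ℕ × ℕ} (hp : p ∈ ([(33, 24), (33, 23), (14, 24), (14, 23), (28, 27), (28, 25), (30, 27), (30, 25),
    (30, 28), (19, 20), (19, 22), (17, 20), (17, 22), (17, 19)] : List (ℕ × ℕ))) (a b : K) :
    xG p.1 a * xG p.2 b = xG p.2 b * xG p.1 a := by
  have h := checks
  rw [List.all_eq_true] at h
  exact xG_comm p.1 p.2 (h p hp) a b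

/-- `h_p(c)` as an element of the general linear group. -/
def hG (p q : ℕ) (c : K) : GL chevF4.Idx K := wG [(p, c), (q, c⁻¹), (p, c), (p, 1), (q, 1), (p, 1)]

theorem coe_hG (p q : ℕ) (hq : chevF4.neg p = q) (c : K) :
    (hG p q c : Matrix chevF4.Idx chevF4.Idx K) = chevF4.hMat K p c := by
  unfold hG ChevalleyDatum.hMat
  rw [coe_wG, hWord_eq, hq]

theorem hG_mul_xG (i : ℕ) (hi : i < 4) (p q : ℕ) (hp : chevF4.simple i = p) (hq : chevF4.neg p = q) (s : ℕ)
    (hs : s < 48) (z : ℤ) (hz : chevF4.cartan i s = z) (c : K) (hc : c ≠ 0) (t : K) :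
    hG p q c * xG s t = xG s (c ^ z * t) * hG p q c := by
  apply Units.ext
  rw [Units.val_mul, Units.val_mul, coe_hG p q hq, coe_xG, coe_xG, ← hp, ← hz]
  exact hMat_mul_x i hi s hs c hc t

/-- The element of the pair class. -/
def pG (e : ℕ) (t : K) : GL chevF4.Idx K := xG 33 (t ^ e) * xG 24 t

/-- The element of the opposite pair class. -/
def mG (e : ℕ) (t : K) : GL chevF4.Idx K := xG 14 (t ^ e) * xG 23 t

/-- The torus element. -/
def tG (e : ℕ) (c : K) : GL chevF4.Idx K := pG e c * mG e c⁻¹ * pG e c * pG e 1 * mG e 1 * pG e 1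

theorem tG_eq (e : ℕ) (c : K) : tG e c = hG 33 14 (c ^ e) * hG 24 23 c := by
  have c1 : ∀ a b : K, Commute (xG 24 a) (xG 33 b) := fun a b => (comm_of (p := (33, 24)) (by decide) b a).symm
  have c2 : ∀ a b : K, Commute (xG 23 a) (xG 33 b) := fun a b => (comm_of (p := (33, 23)) (by decide) b a).symm
  have c3 : ∀ a b : K, Commute (xG 24 a) (xG 14 b) := fun a b => (comm_of (p := (14, 24)) (by decide) b a).symm
  have c4 : ∀ a b : K, Commute (xG 23 a) (xG 14 b) := fun a b => (comm_of (p := (14, 23)) (by decide) b a).symm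
  have key : ∀ X Y a b : GL chevF4.Idx K, Commute Y a → (X * Y) * (a * b) = (X * a) * (Y * b) := by
    intro X Y a b h
    rw [mul_assoc X Y, ← mul_assoc Y a b, h.eq, mul_assoc a Y b, ← mul_assoc X a]
  unfold tG pG mG hG
  rw [key _ _ _ _ (c3 _ _), key _ _ _ _ ((c1 _ _).mul_left (c2 _ _)),
    key _ _ _ _ (((c1 _ _).mul_left (c2 _ _)).mul_left (c1 _ _)),
    key _ _ _ _ ((((c3 _ _).mul_left (c4 _ _)).mul_left (c3 _ _)).mul_left (c3 _ _)),
    key _ _ _ _ (((((c1 _ _).mul_left (c2 _ _)).mul_left (c1 _ _)).mul_left (c1 _ _)).mul_left (c2 _ _))]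
  simp only [wG_cons, wG_nil, mul_one, one_pow, inv_pow, mul_assoc]

theorem tG_mul_xG (e : ℕ) (s : ℕ) (hs : s < 48) (z z' : ℤ) (hz : chevF4.cartan 0 s = z) (hz' : chevF4.cartan 3 s = z')
    (c : K) (hc : c ≠ 0) (t : K) :
    tG e c * xG s t = xG s ((c ^ e) ^ z * c ^ z' * t) * tG e c := by
  rw [tG_eq, mul_assoc, hG_mul_xG 3 (by decide) 24 23 (by decide) (by decide) s hs z' hz' c hc, ← mul_assoc,
    hG_mul_xG 0 (by decide) 33 14 (by decide) (by decide) s hs z hz (c ^ e) (pow_ne_zero e hc), mul_assoc]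
  congr 2
  ring

end

/-- Membership of words. -/
theorem mem_of_word {K : Type*} [Field K] [CharP K 2] (e : ℕ) (w : List (ℕ × K)) (hw : w ∈ f4Words K e) :
    wG w ∈ twistedF4 K e :=
  Subgroup.subset_closure ⟨w, hw, coe_wG w⟩

theorem perfect {K : Type*} [Field K] [Fintype K] {m : ℕ} (hK : Fintype.card K = 2 ^ (2 * m + 1)) (hm : 1 ≤ m) :
    commutator ↥(Cfsg.Lie.twistedF4 K (2 ^ m)) = ⊤ := by
  have : CharP K 2 := charP_two hK
  have : Fact (Nat.Prime 2) := ⟨Nat.prime_two⟩
  have z2 : ∀ a : K, a ^ (2 : ℤ) = a ^ 2 := fun a => zpow_ofNat a 2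
  have zm2 : ∀ a : K, a ^ (-2 : ℤ) = (a ^ 2)⁻¹ := fun a => by rw [zpow_neg, z2]
  set e := 2 ^ m with he
  have hadd : ∀ s t : K, (s + t) ^ e = s ^ e + t ^ e := fun s t => add_pow_char_pow s t 2 m
  have hee : ∀ t : K, (t ^ e) ^ (2 * e) = t := by
    intro t
    rw [← pow_mul]
    have h1 : e * (2 * e) = Fintype.card K := by
      rw [hK, he]
      ring
    rw [h1]
    exact FiniteField.pow_card t
  -- a suitable torus parameter
  obtain ⟨c, hc0, hc1⟩ : ∃ c : K, c ≠ 0 ∧ c ≠ 1 := by
    have h1 : 2 < Fintype.card K := by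
      rw [hK]
      calc 2 < 2 ^ 3 := by norm_num
        _ ≤ 2 ^ (2 * m + 1) := Nat.pow_le_pow_right (by norm_num) (by omega)
    classical
    have h2 : ({0, 1} : Finset K).card < Fintype.card K := lt_of_le_of_lt Finset.card_le_two h1
    obtain ⟨c, hc⟩ := Finset.exists_mem_notMem_of_card_lt_card (s := ({0, 1} : Finset K)) (t := Finset.univ)
      (by rw [Finset.card_univ]; exact h2)
    have hc2 := hc.2
    rw [Finset.mem_insert, Finset.mem_singleton, not_or] at hc2
    exact ⟨c, hc2.1, hc2.2⟩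
  have key1 : ∀ d : K, d ^ (e + 1) = 1 → d = 1 := by
    intro d hd
    have hd0 : d ≠ 0 := by
      rintro rfl
      rw [zero_pow (Nat.succ_ne_zero e)] at hd
      exact zero_ne_one hd
    have h1 : d ^ e = d⁻¹ := by
      rw [pow_succ] at hd
      exact eq_inv_of_mul_eq_one_left hd
    have h2 := hee d
    rw [h1, mul_comm 2 e, pow_mul, inv_pow, h1, inv_inv, pow_two] at h2
    have h3 : d * d = 1 * d := by rw [h2, one_mul]
    exact mul_right_cancel₀ hd0 h3
  have hc1' : c⁻¹ ≠ 1 := fun h => hc1 (inv_eq_one.mp h)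
  have hsq : ∀ d : K, d ^ 2 = 1 → d = 1 := by
    intro d hd
    have : (d + 1) ^ 2 = 0 := by
      rw [CharTwo.add_sq, hd, one_pow]; exact CharTwo.add_self_eq_zero 1
    exact CharTwo.add_eq_zero.mp (pow_eq_zero_iff (two_ne_zero) |>.mp this)
  set H := twistedF4 K e with hH
  have hP : ∀ t : K, pG e t ∈ H := by
    intro t
    have := mem_of_word e (f4PairWord e f4p1 f4p4 t) (Or.inl ⟨t, Or.inl rfl⟩)
    unfold f4PairWord at this
    rw [wG_cons, wG_cons, wG_nil, mul_one] at this
    exact this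
  have hM : ∀ t : K, mG e t ∈ H := by
    intro t
    have := mem_of_word e (f4PairWord e f4m1 f4m4 t) (Or.inl ⟨t, Or.inr rfl⟩)
    unfold f4PairWord at this
    rw [wG_cons, wG_cons, wG_nil, mul_one] at this
    exact this
  have hB : ∀ t u : K, xG 27 (t ^ e) * xG 25 t * xG 28 (t ^ (e + 1) + u) * xG 30 (u ^ (2 * e)) ∈ H := by
    intro t u
    have := mem_of_word e (b2ClassWord e f4a f4b f4ab f4aab t u) (Or.inr ⟨t, u, Or.inl rfl⟩)
    unfold b2ClassWord at this
    rw [wG_cons, wG_cons, wG_cons, wG_cons, wG_nil, mul_one, ← mul_assoc, ← mul_assoc] at this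
    exact this
  have hB' : ∀ t u : K, xG 20 (t ^ e) * xG 22 t * xG 19 (t ^ (e + 1) + u) * xG 17 (u ^ (2 * e)) ∈ H := by
    intro t u
    have := mem_of_word e (b2ClassWord e f4ma f4mb f4mab f4maab t u) (Or.inr ⟨t, u, Or.inr rfl⟩)
    unfold b2ClassWord at this
    rw [wG_cons, wG_cons, wG_cons, wG_cons, wG_nil, mul_one, ← mul_assoc, ← mul_assoc] at this
    exact this
  have hT : tG e c ∈ H :=
    H.mul_mem (H.mul_mem (H.mul_mem (H.mul_mem (H.mul_mem (hP _) (hM _)) (hP _)) (hP _)) (hM _)) (hP _)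
  have hcomm : ∀ g ∈ H, tG e c * g * (tG e c)⁻¹ * g⁻¹ ∈ ⁅H, H⁆ := fun g hg =>
    Subgroup.commutator_mem_commutator hT hg
  have hb2 := b2checks
  rw [Bool.and_eq_true] at hb2
  -- the four classes
  have k1 : ∀ t : K, pG e t ∈ ⁅H, H⁆ := by
    intro t
    refine pair_mem e hadd (xG 33) (xG 24) ⁅H, H⁆ (xG_add 33 (by decide)) (xG_add 24 (by decide))
      (fun s t => (comm_of (p := (33, 24)) (by decide) s t).symm) (tG e c) (c ^ 2) (fun h => hc1 (hsq c h)) ?_ ?_
      (fun t => hcomm _ (hP t)) t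
    · intro s
      rw [tG_mul_xG e 33 (by decide) 2 0 (by decide) (by decide) c hc0]
      congr 3
      rw [zpow_zero, mul_one, ← pow_mul, mul_comm 2 e, pow_mul, z2]
    · intro s
      rw [tG_mul_xG e 24 (by decide) 0 2 (by decide) (by decide) c hc0]
      congr 3
      rw [zpow_zero, one_mul, z2]
  have k2 : ∀ t : K, mG e t ∈ ⁅H, H⁆ := by
    intro t
    refine pair_mem e hadd (xG 14) (xG 23) ⁅H, H⁆ (xG_add 14 (by decide)) (xG_add 23 (by decide))
      (fun s t => (comm_of (p := (14, 23)) (by decide) s t).symm) (tG e c) (c⁻¹ ^ 2) (fun h => hc1' (hsq _ h)) ?_ ?_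
      (fun t => hcomm _ (hM t)) t
    · intro s
      rw [tG_mul_xG e 14 (by decide) (-2) 0 (by decide) (by decide) c hc0]
      congr 3
      rw [zpow_zero, mul_one, ← pow_mul, mul_comm 2 e, pow_mul, inv_pow, inv_pow, zm2]
    · intro s
      rw [tG_mul_xG e 23 (by decide) 0 (-2) (by decide) (by decide) c hc0]
      congr 3
      rw [zpow_zero, one_mul, inv_pow, zm2]
  have k3 : ∀ t u : K, xG 27 (t ^ e) * xG 25 t * xG 28 (t ^ (e + 1) + u) * xG 30 (u ^ (2 * e)) ∈ ⁅H, H⁆ := by
    refine b2_mem e hadd hee (xG 27) (xG 25) (xG 28) (xG 30) ⁅H, H⁆ (xG_add 27 (by decide)) (xG_add 25 (by decide))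
      (xG_add 28 (by decide)) (xG_add 30 (by decide)) (xG_b2 27 25 28 30 hb2.1)
      (fun s t => comm_of (p := (28, 27)) (by decide) t s) (fun s t => comm_of (p := (28, 25)) (by decide) t s)
      (fun s t => comm_of (p := (30, 27)) (by decide) t s) (fun s t => comm_of (p := (30, 25)) (by decide) t s)
      (fun s t => comm_of (p := (30, 28)) (by decide) t s) (tG e c) c⁻¹ hc1' (fun h => hc1' (key1 _ h)) ?_ ?_ ?_ ?_
      (fun t u => hcomm _ (hB t u))
    · intro s
      rw [tG_mul_xG e 27 (by decide) (-1) 0 (by decide) (by decide) c hc0]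
      congr 3
      rw [zpow_zero, mul_one, zpow_neg_one, inv_pow]
    · intro s
      rw [tG_mul_xG e 25 (by decide) 0 (-1) (by decide) (by decide) c hc0]
      congr 3
      rw [zpow_zero, one_mul, zpow_neg_one]
    · intro s
      rw [tG_mul_xG e 28 (by decide) (-1) (-1) (by decide) (by decide) c hc0]
      congr 3
      rw [zpow_neg_one, zpow_neg_one, pow_succ, inv_pow]
    · intro s
      rw [tG_mul_xG e 30 (by decide) (-2) (-1) (by decide) (by decide) c hc0]
      congr 3
      rw [zpow_neg_one, pow_succ, inv_pow, mul_comm 2 e, pow_mul, zm2]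
  have k4 : ∀ t u : K, xG 20 (t ^ e) * xG 22 t * xG 19 (t ^ (e + 1) + u) * xG 17 (u ^ (2 * e)) ∈ ⁅H, H⁆ := by
    refine b2_mem e hadd hee (xG 20) (xG 22) (xG 19) (xG 17) ⁅H, H⁆ (xG_add 20 (by decide)) (xG_add 22 (by decide))
      (xG_add 19 (by decide)) (xG_add 17 (by decide)) (xG_b2 20 22 19 17 hb2.2)
      (fun s t => comm_of (p := (19, 20)) (by decide) t s) (fun s t => comm_of (p := (19, 22)) (by decide) t s)
      (fun s t => comm_of (p := (17, 20)) (by decide) t s) (fun s t => comm_of (p := (17, 22)) (by decide) t s)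
      (fun s t => comm_of (p := (17, 19)) (by decide) t s) (tG e c) c hc1 (fun h => hc1 (key1 _ h)) ?_ ?_ ?_ ?_
      (fun t u => hcomm _ (hB' t u))
    · intro s
      rw [tG_mul_xG e 20 (by decide) 1 0 (by decide) (by decide) c hc0]
      congr 3
      rw [zpow_zero, mul_one, zpow_one]
    · intro s
      rw [tG_mul_xG e 22 (by decide) 0 1 (by decide) (by decide) c hc0]
      congr 3
      rw [zpow_zero, one_mul, zpow_one]
    · intro s
      rw [tG_mul_xG e 19 (by decide) 1 1 (by decide) (by decide) c hc0]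
      congr 3
      rw [zpow_one, zpow_one, pow_succ]
    · intro s
      rw [tG_mul_xG e 17 (by decide) 2 1 (by decide) (by decide) c hc0]
      congr 3
      rw [zpow_one, pow_succ, mul_comm 2 e, pow_mul, z2]
  -- H ≤ ⁅H, H⁆
  have hle : H ≤ ⁅H, H⁆ := by
    rw [hH]
    unfold twistedF4 ChevalleyDatum.genSubgroup
    rw [Subgroup.closure_le]
    rintro g ⟨w, hw, hg⟩
    have hgw : g = wG w := Units.ext (by rw [coe_wG]; exact hg)
    rw [hgw]
    rcases hw with ⟨t, rfl | rfl⟩ | ⟨t, u, rfl | rfl⟩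
    · have := k1 t
      unfold f4PairWord
      rw [wG_cons, wG_cons, wG_nil, mul_one]
      exact this
    · have := k2 t
      unfold f4PairWord
      rw [wG_cons, wG_cons, wG_nil, mul_one]
      exact this
    · have := k3 t u
      unfold b2ClassWord
      rw [wG_cons, wG_cons, wG_cons, wG_cons, wG_nil, mul_one, ← mul_assoc, ← mul_assoc]
      exact this
    · have := k4 t u
      unfold b2ClassWord
      rw [wG_cons, wG_cons, wG_cons, wG_cons, wG_nil, mul_one, ← mul_assoc, ← mul_assoc]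
      exact this
  rw [eq_top_iff]
  intro x _
  have hx : (x : GL chevF4.Idx K) ∈ ⁅H, H⁆ := hle x.2
  rw [← Subgroup.map_subtype_commutator] at hx
  obtain ⟨y, hy, hyx⟩ := hx
  have : y = x := Subtype.ext hyx
  rw [← this]
  exact hy

end Cfsg.Agent.ChevalleyStructure.TwistedF4Perfect
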