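import Mathlib
import Cfsg.Agent.ChevalleyStructure.BNOrder
import Cfsg.Agent.ChevalleyStructure.TwistedBN

/-!
# The order of a twisted group

`T : TwistedData Γ ι` (see `TwistedBN`), with `T.G` finite.  Given the action `ρ` of the ambient
monomial subgroup `T.N` on the ambient roots `Φ` (kernel `T.H`), the classes `Δ i ⊆ Φ` of positive
roots of the relative simple roots, invariant weights `c : Φ → ℕ` and
`|X_i ∩ G| = ∏_{a ∈ Δ i} c a`, we get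
`|G| = (∑_{w ∈ ⟨ρ(n_i)⟩} ∏_{a > 0, w a < 0} c a) |U ∩ G| |H ∩ G|`.
-/

set_option autoImplicit false

namespace Cfsg.Agent.ChevalleyStructure.TwistedOrder

open Cfsg Cfsg.Agent.LieExceptional.BNPairCore
open Cfsg.Agent.ChevalleyStructure.BNOrder
open Cfsg.Agent.ChevalleyStructure.TwistedBN

variable {Γ : Type*} [Group Γ] {ι : Type*} (T : TwistedData Γ ι)

/-- The action on roots, signs and orders of the relative simple root groups. -/
structure RootAction (Φ : Type*) [Fintype Φ] (c : Φ → ℕ) where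
  /-- ambient root groups -/
  Xr : Φ → Subgroup Γ
  /-- action of the ambient monomial subgroup on the ambient roots -/
  ρ : T.N →* Equiv.Perm Φ
  ρ_conj : ∀ (m : T.N) (r : Φ), ∀ x ∈ Xr r, (m : Γ) * x * (m : Γ)⁻¹ ∈ Xr (ρ m r)
  ker : ∀ m : T.N, ρ m = 1 ↔ (m : Γ) ∈ T.H
  pos : Φ → Prop
  Xr_le : ∀ r, pos r → Xr r ≤ T.U
  /-- classes of positive roots -/
  Δ : ι → Finset Φ
  Δ_pos : ∀ i, ∀ a ∈ Δ i, pos a
  Xi_le : ∀ i, ∀ x ∈ T.X i, x ∈ T.G → x ∈ Subgroup.closure {y : Γ | ∃ r ∈ Δ i, y ∈ Xr r}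
  refl_neg : ∀ i, ∀ a ∈ Δ i, ¬ pos (ρ ⟨T.n i, T.n_mem_N i⟩ a)
  refl_pos : ∀ i a, pos a → a ∉ Δ i → pos (ρ ⟨T.n i, T.n_mem_N i⟩ a)
  cases : ∀ (w : Equiv.Perm Φ),
    w ∈ Subgroup.closure (Set.range fun i => ρ ⟨T.n i, T.n_mem_N i⟩) → ∀ i : ι,
    ((∀ a ∈ Δ i, pos (w a)) ∧ ∀ a ∈ Δ i, ¬ pos (w (ρ ⟨T.n i, T.n_mem_N i⟩ a))) ∨
    ((∀ a ∈ Δ i, ¬ pos (w a)) ∧ ∀ a ∈ Δ i, pos (w (ρ ⟨T.n i, T.n_mem_N i⟩ a)))
  /-- the relative simple root groups are subgroups -/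
  X_mul : ∀ i, ∀ x ∈ T.X i, ∀ y ∈ T.X i, x⁻¹ * y ∈ T.X i
  Y_inf : ∀ i, ∀ y ∈ T.Y i, y ∈ T.G → y ∈ T.U ⊔ T.H → y = 1
  c_inv : ∀ i a, c (ρ ⟨T.n i, T.n_mem_N i⟩ a) = c a
  card_X : ∀ i, Nat.card {x : Γ // x ∈ T.X i ∧ x ∈ T.G} = ∏ a ∈ Δ i, c a

namespace RootAction

variable {T}
variable {Φ : Type*} [Fintype Φ] {c : Φ → ℕ} (A : RootAction T Φ c)

/-- ambient simple reflection of class `i` -/
def nN (i : ι) : T.N := ⟨T.n i, T.n_mem_N i⟩

/-- inclusion of the monomial subgroup of `G` -/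
def incl (T : TwistedData Γ ι) : T.toRootData.bnPair.N →* T.N where
  toFun m := ⟨(m : T.G), T.NG_le_N m m.2⟩
  map_one' := rfl
  map_mul' _ _ := rfl

theorem mem_B_iff_mem_H (m : T.toRootData.bnPair.N) :
    (m : T.G) ∈ T.toRootData.bnPair.B ↔ ((m : T.G) : Γ) ∈ T.H := by
  constructor
  · intro h
    exact T.inf_le ⟨T.rootB_le _ h, T.NG_le_N m m.2⟩
  · intro h
    exact T.toRootData.H_le_B h

theorem range_le (m : T.toRootData.bnPair.N) :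
    A.ρ (incl T m) ∈ Subgroup.closure (Set.range fun i => A.ρ (nN i)) := by
  obtain ⟨m, hm⟩ := m
  have hm' : m ∈ T.NG := hm
  -- pull back
  have key : T.NG ≤ ((Subgroup.closure (Set.range fun i => A.ρ (nN (T := T) i))).comap
      (A.ρ.comp (incl T))).map T.toRootData.bnPair.N.subtype := by
    apply sup_le
    · rw [Subgroup.closure_le]
      rintro _ ⟨i, rfl⟩
      refine ⟨⟨T.nG i, T.toRootData.n_mem_N i⟩, ?_, rfl⟩
      exact Subgroup.subset_closure ⟨i, rfl⟩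
    · intro h hh
      have hN : h ∈ T.toRootData.bnPair.N := T.toRootData.H_le_N hh
      refine ⟨⟨h, hN⟩, ?_, rfl⟩
      have h1 : A.ρ (incl T ⟨h, hN⟩) = 1 := (A.ker _).2 hh
      show A.ρ (incl T ⟨h, hN⟩) ∈ Subgroup.closure (Set.range fun i => A.ρ (nN (T := T) i))
      rw [h1]
      exact one_mem _
  obtain ⟨m', hm1, hm2⟩ := key hm'
  have : m' = ⟨m, hm⟩ := Subtype.ext hm2
  rw [← this]
  exact hm1

theorem range_eq : (A.ρ.comp (incl T)).range =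
    Subgroup.closure (Set.range fun i => A.ρ (nN i)) := by
  apply le_antisymm
  · rintro _ ⟨m, rfl⟩
    exact A.range_le m
  · rw [Subgroup.closure_le]
    rintro _ ⟨i, rfl⟩
    exact ⟨⟨T.nG i, T.toRootData.n_mem_N i⟩, rfl⟩

theorem conj_mem_U (m : T.N) (i : ι) (hm : ∀ a ∈ A.Δ i, A.pos (A.ρ m a)) {x : Γ}
    (hx : x ∈ T.X i) (hxG : x ∈ T.G) : (m : Γ) * x * (m : Γ)⁻¹ ∈ T.U := by
  have h1 : Subgroup.closure {y : Γ | ∃ r ∈ A.Δ i, y ∈ A.Xr r} ≤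
      T.U.comap (MulAut.conj (m : Γ)).toMonoidHom := by
    rw [Subgroup.closure_le]
    rintro y ⟨r, hr, hy⟩
    exact A.Xr_le _ (hm r hr) (A.ρ_conj m r y hy)
  exact h1 (A.Xi_le i x hx hxG)

/-- The parameters of the (B,N)-pair of the twisted group. -/
noncomputable def toParams (A : RootAction T Φ c) :
    Params T.toRootData.bnPair ι Φ where
  n := T.nG
  n_mem i := ⟨i, rfl⟩
  exists_n := by
    rintro _ ⟨i, rfl⟩
    exact ⟨i, rfl⟩
  ρ := A.ρ.comp (incl T)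
  ker m := by
    rw [MonoidHom.comp_apply, A.ker, mem_B_iff_mem_H]
    rfl
  pos := A.pos
  Δ := A.Δ
  Δ_pos := A.Δ_pos
  refl_neg := A.refl_neg
  refl_pos := A.refl_pos
  cases m i := A.cases _ (A.range_le m) i
  c := c
  c_inv := A.c_inv
  X := fun i => {x | (x : Γ) ∈ T.X i}
  X_le := by
    intro i x hx
    apply T.toRootData.U_le_B
    have h := A.conj_mem_U 1 i (by
      intro a ha
      rw [map_one]
      exact A.Δ_pos i a ha) hx x.2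
    show (x : Γ) ∈ T.U
    simpa using h
  decomp := by
    intro i b hb
    obtain ⟨u, hu, h, hh, rfl⟩ := (T.toRootData.mem_B_iff b).1 hb
    obtain ⟨v, hv, x, hx, hxG, he⟩ := T.decomp i (u : Γ)⁻¹ (T.U.inv_mem hu) (T.G.inv_mem u.2)
    have hvG : v ∈ T.G := by
      have : v = (u : Γ)⁻¹ * x⁻¹ := by rw [he]; group
      rw [this]
      exact T.G.mul_mem (T.G.inv_mem u.2) (T.G.inv_mem hxG)
    have hx1 : x⁻¹ ∈ T.X i := by
      have h1 := A.X_mul i x hx x hx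
      have h2 := A.X_mul i x hx _ h1
      simpa using h2
    refine ⟨⟨x⁻¹, T.G.inv_mem hxG⟩, hx1, ⟨v⁻¹, T.G.inv_mem hvG⟩ * h, ?_, ?_⟩
    · -- `n⁻¹ v⁻¹ h n`
      have hsq : T.nG i * T.nG i ∈ T.toRootData.bnPair.B := T.toRootData.H_le_B (T.sq_mem i)
      have hv1 : T.nG i * ⟨v, hvG⟩ * (T.nG i)⁻¹ ∈ T.toRootData.bnPair.B :=
        T.toRootData.U_le_B (T.conj_V i v hv)
      have hh1 : (T.nG i)⁻¹ * h * T.nG i ∈ T.toRootData.bnPair.B :=
        T.toRootData.H_le_B (T.toRootData.conj_inv_N_H (T.nG i) (T.toRootData.n_mem_N i) h hh)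
      have hv2 : (⟨v⁻¹, T.G.inv_mem hvG⟩ : T.G) = (⟨v, hvG⟩ : T.G)⁻¹ := rfl
      rw [hv2]
      have e : (T.nG i)⁻¹ * ((⟨v, hvG⟩ : T.G)⁻¹ * h) * T.nG i =
          (T.nG i * T.nG i)⁻¹ * (T.nG i * ⟨v, hvG⟩ * (T.nG i)⁻¹)⁻¹ * (T.nG i * T.nG i) *
            ((T.nG i)⁻¹ * h * T.nG i) := by group
      rw [e]
      exact mul_mem (mul_mem (mul_mem (inv_mem hsq) (inv_mem hv1)) hsq) hh1
    · apply Subtype.ext
      show (u : Γ) * h = x⁻¹ * (v⁻¹ * h)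
      have : (u : Γ) = x⁻¹ * v⁻¹ := by
        rw [← mul_inv_rev, ← he, inv_inv]
      rw [this]; group
  conj_X := by
    intro i m hm x hx
    apply T.toRootData.U_le_B
    have h := A.conj_mem_U (incl T m⁻¹) i hm hx x.2
    have e : ((incl T m⁻¹ : T.N) : Γ) = ((m : T.G) : Γ)⁻¹ := rfl
    rw [e, inv_inv] at h
    exact h
  X_inj := by
    intro i x hx x' hx' h
    have h1 : (x' : Γ)⁻¹ * x ∈ T.X i := A.X_mul i _ hx' _ hx
    have h2 := T.conj_inv_X i _ h1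
    have h3 : (T.n i)⁻¹ * ((x' : Γ)⁻¹ * x) * T.n i ∈ T.G :=
      T.G.mul_mem (T.G.mul_mem (T.G.inv_mem (T.n_mem_G i)) (T.G.mul_mem (T.G.inv_mem x'.2) x.2))
        (T.n_mem_G i)
    have h4 := A.Y_inf i _ h2 h3 (T.rootB_le _ h)
    apply Subtype.ext
    have h5 : (x' : Γ)⁻¹ * x = 1 := by
      have : (x' : Γ)⁻¹ * x = T.n i * ((T.n i)⁻¹ * ((x' : Γ)⁻¹ * x) * T.n i) * (T.n i)⁻¹ := by group
      rw [this, h4]; group
    exact (inv_mul_eq_one.1 h5).symm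
  X_inv := by
    intro i x hx
    have h1 := A.X_mul i x hx x hx
    have h2 := A.X_mul i x hx _ h1
    simpa using h2
  card_X := by
    intro i
    rw [← A.card_X i]
    refine Nat.card_congr ⟨fun x => ⟨x.1, x.2, x.1.2⟩, fun x => ⟨⟨x.1, x.2.2⟩, x.2.1⟩, ?_, ?_⟩
    · intro x; rfl
    · intro x; rfl

/-- `|B ∩ G| = |U ∩ G| |H ∩ G|`. -/
theorem card_B (T : TwistedData Γ ι) : Nat.card T.toRootData.bnPair.B =
    Nat.card ↥(T.U ⊓ T.G) * Nat.card ↥(T.H ⊓ T.G) := by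
  rw [← Nat.card_prod]
  symm
  refine Nat.card_congr (Equiv.ofBijective
    (fun p : ↥(T.U ⊓ T.G) × ↥(T.H ⊓ T.G) =>
      (⟨⟨(p.1 : Γ), p.1.2.2⟩ * ⟨(p.2 : Γ), p.2.2.2⟩,
        mul_mem (T.toRootData.U_le_B p.1.2.1) (T.toRootData.H_le_B p.2.2.1)⟩ :
        T.toRootData.bnPair.B)) ⟨?_, ?_⟩)
  · rintro ⟨⟨u, hu⟩, ⟨h, hh⟩⟩ ⟨⟨u', hu'⟩, ⟨h', hh'⟩⟩ he
    have h1 : u * h = u' * h' :=
      congrArg (fun x : T.toRootData.bnPair.B => ((x : T.G) : Γ)) he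
    have h2 : u'⁻¹ * u = h' * h⁻¹ := by
      calc u'⁻¹ * u = u'⁻¹ * (u * h) * h⁻¹ := by group
        _ = u'⁻¹ * (u' * h') * h⁻¹ := by rw [h1]
        _ = _ := by group
    have h3 : u'⁻¹ * u = 1 := by
      apply T.U_inf_H _ (T.U.mul_mem (T.U.inv_mem hu'.1) hu.1)
      rw [h2]
      exact T.H.mul_mem hh'.1 (T.H.inv_mem hh.1)
    have h4 : u = u' := (inv_mul_eq_one.1 h3).symm
    subst h4
    have h5 : h = h' := mul_left_cancel h1
    subst h5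
    rfl
  · rintro ⟨b, hb⟩
    obtain ⟨u, hu, h, hh, he⟩ := (T.toRootData.mem_B_iff b).1 hb
    refine ⟨(⟨u, hu, u.2⟩, ⟨h, hh, h.2⟩), ?_⟩
    apply Subtype.ext
    exact he.symm

open Classical in
/-- **The order of a twisted group.** -/
theorem card_G [Finite T.G] : Nat.card T.G =
    (∑ w ∈ Finset.univ.filter (fun w : Equiv.Perm Φ =>
        w ∈ Subgroup.closure (Set.range fun i => A.ρ (nN i))), wt A.pos c w) *
      (Nat.card ↥(T.U ⊓ T.G) * Nat.card ↥(T.H ⊓ T.G)) := by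
  rw [← card_B T, A.toParams.card_eq_sum]
  congr 1
  rw [← A.range_eq]
  rfl

end RootAction

end Cfsg.Agent.ChevalleyStructure.TwistedOrder
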