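import Mathlib

/-!
Abstract combinatorics of a finite Weyl group acting on its roots (given by coordinates on the simple
coroots): exchange condition, minimal coset representatives, and the factorisation of the
(multi-parameter) Poincare polynomial along parabolic subgroups, the coset factor being a sum over
the orbit of a fundamental weight.
-/

set_option autoImplicit false

namespace Cfsg.Agent.ChevalleyStructure.WeylAbstract

/-- Combinatorial root datum: roots `Φ`, coordinates `co r` of the coroot of `r` on the simple coroots. -/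
structure RData (ι Φ : Type*) [Fintype ι] [DecidableEq ι] where
  pos : Φ → Prop
  neg : Φ → Φ
  simple : ι → Φ
  refl : ι → Equiv.Perm Φ
  co : Φ → ι → ℤ
  A : ι → ι → ℤ
  pos_neg : ∀ r, pos (neg r) ↔ ¬ pos r
  co_neg : ∀ r i, co (neg r) i = - co r i
  co_inj : ∀ r s, (∀ i, co r i = co s i) → r = s
  co_nonneg : ∀ r, pos r → ∀ i, 0 ≤ co r i
  co_simple : ∀ i j, co (simple i) j = if j = i then 1 else 0
  refl_pos : ∀ i r, pos r → r ≠ simple i → pos (refl i r)
  A_diag : ∀ i, A i i = 2
  co_refl : ∀ i r j, co (refl i r) j = co r j - (if j = i then ∑ k, co r k * A i k else 0)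

namespace RData

variable {ι Φ : Type*} [Fintype ι] [DecidableEq ι] (R : RData ι Φ)

theorem neg_neg (r : Φ) : R.neg (R.neg r) = r :=
  R.co_inj _ _ fun i => by rw [R.co_neg, R.co_neg, _root_.neg_neg]

theorem pos_or_neg (r : Φ) : R.pos r ∨ R.pos (R.neg r) := by
  by_cases h : R.pos r
  · exact Or.inl h
  · exact Or.inr ((R.pos_neg r).2 h)

theorem co_nonpos (r : Φ) (h : ¬ R.pos r) (i : ι) : R.co r i ≤ 0 := by
  have h1 := R.co_nonneg _ ((R.pos_neg r).2 h) i
  rw [R.co_neg] at h1
  omega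

theorem pos_of_coord {r : Φ} {i : ι} (h : 0 < R.co r i) : R.pos r := by
  by_contra hr
  have := R.co_nonpos r hr i
  omega

theorem not_pos_of_coord {r : Φ} {i : ι} (h : R.co r i < 0) : ¬ R.pos r := by
  intro hr
  have := R.co_nonneg r hr i
  omega

theorem exists_co_ne_zero (r : Φ) : ∃ i, R.co r i ≠ 0 := by
  by_contra h
  push Not at h
  have h1 : R.neg r = r := R.co_inj _ _ fun i => by rw [R.co_neg, h i, neg_zero]
  have h2 := R.pos_neg r
  rw [h1] at h2
  exact (iff_not_self h2).elim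

theorem exists_co_pos {r : Φ} (hr : R.pos r) : ∃ i, 0 < R.co r i := by
  obtain ⟨i, hi⟩ := R.exists_co_ne_zero r
  exact ⟨i, lt_of_le_of_ne (R.co_nonneg r hr i) (Ne.symm hi)⟩

theorem pos_of_nonneg {r : Φ} (h : ∀ i, 0 ≤ R.co r i) : R.pos r := by
  obtain ⟨i, hi⟩ := R.exists_co_ne_zero r
  exact R.pos_of_coord (lt_of_le_of_ne (h i) (Ne.symm hi))

theorem simple_pos (i : ι) : R.pos (R.simple i) := by
  apply R.pos_of_coord (i := i)
  rw [R.co_simple, if_pos rfl]
  exact one_pos

theorem simple_inj {i j : ι} (h : R.simple i = R.simple j) : i = j := by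
  have h1 := R.co_simple i i
  rw [h, R.co_simple] at h1
  by_contra hij
  rw [if_neg hij] at h1
  simp at h1

theorem refl_simple (i : ι) : R.refl i (R.simple i) = R.neg (R.simple i) := by
  apply R.co_inj
  intro j
  rw [R.co_refl, R.co_neg, R.co_simple]
  have : ∑ k, R.co (R.simple i) k * R.A i k = 2 := by
    simp_rw [R.co_simple]
    simp [R.A_diag]
  rw [this]
  split_ifs <;> simp

theorem refl_neg (i : ι) (r : Φ) : R.refl i (R.neg r) = R.neg (R.refl i r) := by
  apply R.co_inj
  intro j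
  rw [R.co_refl, R.co_neg, R.co_neg, R.co_refl]
  have : ∑ k, R.co (R.neg r) k * R.A i k = - ∑ k, R.co r k * R.A i k := by
    rw [← Finset.sum_neg_distrib]
    exact Finset.sum_congr rfl fun k _ => by rw [R.co_neg, neg_mul]
  rw [this]
  split_ifs <;> ring

theorem refl_refl (i : ι) (r : Φ) : R.refl i (R.refl i r) = r := by
  apply R.co_inj
  intro j
  rw [R.co_refl, R.co_refl]
  by_cases hj : j = i
  · subst hj
    simp only [if_true]
    have : ∑ k, R.co (R.refl j r) k * R.A j k = - ∑ k, R.co r k * R.A j k := by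
      have h1 : ∀ k, R.co (R.refl j r) k * R.A j k =
          R.co r k * R.A j k - (if k = j then (∑ k, R.co r k * R.A j k) * R.A j k else 0) := by
        intro k
        rw [R.co_refl]
        split_ifs <;> ring
      rw [Finset.sum_congr rfl fun k _ => h1 k, Finset.sum_sub_distrib]
      simp [R.A_diag]
      ring
    rw [this]
    ring
  · simp [hj]

theorem refl_mul_refl (i : ι) : R.refl i * R.refl i = 1 := by
  ext r
  rw [Equiv.Perm.mul_apply, R.refl_refl]
  rfl

theorem refl_inv (i : ι) : (R.refl i)⁻¹ = R.refl i := by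
  rw [inv_eq_iff_mul_eq_one, R.refl_mul_refl]

theorem pos_refl_iff {i : ι} {r : Φ} (h1 : r ≠ R.simple i) (h2 : r ≠ R.neg (R.simple i)) :
    R.pos (R.refl i r) ↔ R.pos r := by
  constructor
  · intro h
    by_contra hr
    have h3 : R.pos (R.refl i (R.neg r)) := R.refl_pos i _ ((R.pos_neg r).2 hr) (fun h4 => h2 (by
      rw [← h4, R.neg_neg]))
    rw [R.refl_neg, R.pos_neg] at h3
    exact h3 h
  · intro h
    exact R.refl_pos i r h h1

/-! ### Linear action on the coroot lattice -/

/-- The permutation `w` of the roots is induced by a linear map of the coroot lattice. -/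
def IsLin (w : Equiv.Perm Φ) : Prop :=
  ∃ U : (ι → ℤ) →ₗ[ℤ] (ι → ℤ), ∀ r, R.co (w r) = U (R.co r)

theorem isLin_one : R.IsLin 1 := ⟨LinearMap.id, fun _ => rfl⟩

theorem IsLin.mul {R : RData ι Φ} {w v : Equiv.Perm Φ} (hw : R.IsLin w) (hv : R.IsLin v) :
    R.IsLin (w * v) := by
  obtain ⟨U, hU⟩ := hw
  obtain ⟨V, hV⟩ := hv
  exact ⟨U.comp V, fun r => by rw [Equiv.Perm.mul_apply, hU, hV]; rfl⟩

/-- The functional of the `i`-th reflection. -/
def fn (i : ι) : (ι → ℤ) →ₗ[ℤ] ℤ where
  toFun x := ∑ k, x k * R.A i k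
  map_add' x y := by simp [add_mul, Finset.sum_add_distrib]
  map_smul' c x := by simp [mul_assoc, Finset.mul_sum]

theorem fn_apply (i : ι) (x : ι → ℤ) : R.fn i x = ∑ k, x k * R.A i k := rfl

theorem co_refl' (i : ι) (r : Φ) :
    R.co (R.refl i r) = R.co r - R.fn i (R.co r) • R.co (R.simple i) := by
  funext j
  rw [R.co_refl, Pi.sub_apply, Pi.smul_apply, R.co_simple, R.fn_apply, smul_eq_mul]
  split_ifs <;> simp

theorem fn_simple (i : ι) : R.fn i (R.co (R.simple i)) = 2 := by
  rw [R.fn_apply]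
  simp_rw [R.co_simple]
  simp [R.A_diag]

theorem isLin_refl (i : ι) : R.IsLin (R.refl i) :=
  ⟨LinearMap.id - (R.fn i).smulRight (R.co (R.simple i)), fun r => by
    rw [R.co_refl']; rfl⟩

/-- The product of a word of reflections. -/
def wd (l : List ι) : Equiv.Perm Φ := (l.map R.refl).prod

theorem wd_nil : R.wd [] = 1 := rfl

theorem wd_cons (i : ι) (l : List ι) : R.wd (i :: l) = R.refl i * R.wd l := by
  simp [wd]

theorem wd_append (l l' : List ι) : R.wd (l ++ l') = R.wd l * R.wd l' := by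
  simp [wd]

theorem wd_singleton (i : ι) : R.wd [i] = R.refl i := by simp [wd]

theorem isLin_wd (l : List ι) : R.IsLin (R.wd l) := by
  induction l with
  | nil => exact R.isLin_one
  | cons i l ih => rw [wd_cons]; exact (R.isLin_refl i).mul ih

theorem wd_reverse (l : List ι) : R.wd l.reverse = (R.wd l)⁻¹ := by
  induction l with
  | nil => simp [wd]
  | cons i l ih =>
    rw [List.reverse_cons, wd_append, ih, wd_singleton, wd_cons, mul_inv_rev, R.refl_inv]

/-- The parabolic subgroup generated by the reflections in `J`. -/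
def W (J : Set ι) : Subgroup (Equiv.Perm Φ) := Subgroup.closure (R.refl '' J)

theorem refl_mem_W {J : Set ι} {j : ι} (hj : j ∈ J) : R.refl j ∈ R.W J :=
  Subgroup.subset_closure ⟨j, hj, rfl⟩

theorem W_mono {J K : Set ι} (h : J ⊆ K) : R.W J ≤ R.W K :=
  Subgroup.closure_mono (Set.image_mono h)

theorem mem_W_iff {J : Set ι} {w : Equiv.Perm Φ} :
    w ∈ R.W J ↔ ∃ l : List ι, (∀ j ∈ l, j ∈ J) ∧ R.wd l = w := by
  constructor
  · intro hw
    induction hw using Subgroup.closure_induction with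
    | mem x hx =>
      obtain ⟨j, hj, rfl⟩ := hx
      exact ⟨[j], by simpa using hj, R.wd_singleton j⟩
    | one => exact ⟨[], by simp, rfl⟩
    | mul x y _ _ hx hy =>
      obtain ⟨l, hl, rfl⟩ := hx
      obtain ⟨l', hl', rfl⟩ := hy
      refine ⟨l ++ l', ?_, R.wd_append l l'⟩
      intro j hj
      rcases List.mem_append.1 hj with h | h
      · exact hl j h
      · exact hl' j h
    | inv x _ hx =>
      obtain ⟨l, hl, rfl⟩ := hx
      exact ⟨l.reverse, fun j hj => hl j (List.mem_reverse.1 hj), R.wd_reverse l⟩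
  · rintro ⟨l, hl, rfl⟩
    induction l with
    | nil => exact Subgroup.one_mem _
    | cons i l ih =>
      rw [wd_cons]
      exact Subgroup.mul_mem _ (R.refl_mem_W (hl i (List.mem_cons_self)))
        (ih fun j hj => hl j (List.mem_cons_of_mem _ hj))

theorem isLin_of_mem {J : Set ι} {w : Equiv.Perm Φ} (hw : w ∈ R.W J) : R.IsLin w := by
  obtain ⟨l, _, rfl⟩ := R.mem_W_iff.1 hw
  exact R.isLin_wd l

/-- elements of `W` commute with negation -/
theorem neg_of_mem {J : Set ι} {w : Equiv.Perm Φ} (hw : w ∈ R.W J) (r : Φ) :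
    w (R.neg r) = R.neg (w r) := by
  obtain ⟨U, hU⟩ := R.isLin_of_mem hw
  apply R.co_inj
  intro i
  rw [R.co_neg, hU, hU]
  have : R.co (R.neg r) = - R.co r := by
    funext j; rw [R.co_neg]; rfl
  rw [this, map_neg]
  rfl

variable [Finite Φ]

/-- If `u` maps the simple root `j` to the simple root `k` then it conjugates the reflections. -/
theorem conj_refl {u : Equiv.Perm Φ} (hu : R.IsLin u) (hu' : R.IsLin u⁻¹) {j k : ι}
    (h : u (R.simple j) = R.simple k) : u * R.refl j * u⁻¹ = R.refl k := by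
  obtain ⟨U, hU⟩ := hu
  obtain ⟨V, hV⟩ := hu'
  set t : Equiv.Perm Φ := u * R.refl j * u⁻¹ with ht
  set z : Equiv.Perm Φ := R.refl k * t with hz
  set e := R.co (R.simple k) with he
  have hVe : V e = R.co (R.simple j) := by
    rw [he, ← hV, ← h, Equiv.Perm.inv_def, Equiv.symm_apply_apply]
  have hUj : U (R.co (R.simple j)) = e := by rw [← hU, h]
  have ht' : ∀ r, R.co (t r) = R.co r - R.fn j (V (R.co r)) • e := by
    intro r
    have h1 : u (u⁻¹ r) = r := by rw [Equiv.Perm.inv_def, Equiv.apply_symm_apply]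
    rw [ht, Equiv.Perm.mul_apply, Equiv.Perm.mul_apply, hU, R.co_refl', map_sub, map_smul, hUj,
      ← hU, h1, hV]
  set g : (ι → ℤ) →ₗ[ℤ] ℤ := (R.fn j).comp V - R.fn k with hg
  have hge : g e = 0 := by
    rw [hg, LinearMap.sub_apply, LinearMap.comp_apply, hVe, he, R.fn_simple, R.fn_simple]
    ring
  have hz' : ∀ r, R.co (z r) = R.co r + g (R.co r) • e := by
    intro r
    rw [hz, Equiv.Perm.mul_apply, R.co_refl', ht', map_sub, map_smul, ← he, he, R.fn_simple, ← he,
      hg, LinearMap.sub_apply, LinearMap.comp_apply]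
    funext i
    simp only [Pi.sub_apply, Pi.add_apply, Pi.smul_apply, smul_eq_mul]
    ring
  have hzn : ∀ (n : ℕ) (r : Φ), R.co ((z ^ n) r) = R.co r + ((n : ℤ) * g (R.co r)) • e := by
    intro n
    induction n with
    | zero => intro r; simp
    | succ n ih =>
      intro r
      rw [pow_succ, Equiv.Perm.mul_apply, ih, hz', map_add, map_smul, hge]
      funext i
      simp only [Pi.add_apply, Pi.smul_apply, smul_eq_mul]
      push_cast
      ring
  have hzfin : z ^ (orderOf z) = 1 := pow_orderOf_eq_one z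
  have hopos : 0 < orderOf z := by
    have : Finite (Equiv.Perm Φ) := inferInstance
    exact orderOf_pos z
  have hz1 : z = 1 := by
    ext r
    rw [Equiv.Perm.one_apply]
    apply R.co_inj
    have h1 := hzn (orderOf z) r
    rw [hzfin, Equiv.Perm.one_apply] at h1
    have h2 : ((orderOf z : ℤ) * g (R.co r)) • e = 0 := by
      have : R.co r = R.co r + ((orderOf z : ℤ) * g (R.co r)) • e := h1
      exact left_eq_add.1 this
    have h3 : (orderOf z : ℤ) * g (R.co r) = 0 := by
      have h4 := congrFun h2 k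
      rw [Pi.smul_apply, he, R.co_simple, if_pos rfl] at h4
      simpa using h4
    have h5 : g (R.co r) = 0 := by
      rcases mul_eq_zero.1 h3 with h6 | h6
      · exfalso; omega
      · exact h6
    intro i
    rw [hz', h5, zero_smul, add_zero]
  rw [hz] at hz1
  have : t = (R.refl k)⁻¹ := eq_inv_of_mul_eq_one_right hz1
  rw [this, R.refl_inv]

/-- Exchange condition. -/
theorem exchange (l : List ι) (j : ι) (h : ¬ R.pos (R.wd l (R.simple j))) :
    ∃ l' : List ι, l'.length + 1 = l.length ∧ (∀ i ∈ l', i ∈ l) ∧ R.wd l * R.refl j = R.wd l' := by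
  induction l with
  | nil => exact absurd (R.simple_pos j) h
  | cons i l ih =>
    by_cases h1 : R.pos (R.wd l (R.simple j))
    · -- then `wd l (simple j) = simple i`
      have h2 : R.wd l (R.simple j) = R.simple i := by
        by_contra h3
        apply h
        rw [wd_cons, Equiv.Perm.mul_apply]
        exact R.refl_pos i _ h1 h3
      have hinv : R.IsLin (R.wd l)⁻¹ := by rw [← R.wd_reverse]; exact R.isLin_wd _
      have h4 := R.conj_refl (R.isLin_wd l) hinv h2
      refine ⟨l, by simp, fun k hk => List.mem_cons_of_mem _ hk, ?_⟩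
      have h5 : R.wd l * R.refl j = R.refl i * R.wd l := by
        rw [← h4]; group
      rw [wd_cons, mul_assoc, h5, ← mul_assoc, R.refl_mul_refl, one_mul]
    · obtain ⟨l', hlen, hmem, heq⟩ := ih h1
      refine ⟨i :: l', by simp [hlen], ?_, ?_⟩
      · intro k hk
        rcases List.mem_cons.1 hk with rfl | hk
        · exact List.mem_cons_self
        · exact List.mem_cons_of_mem _ (hmem k hk)
      · rw [wd_cons, wd_cons, mul_assoc, heq]

theorem eq_one_of_pos_aux (J : Set ι) (n : ℕ) : ∀ l : List ι, l.length ≤ n → (∀ j ∈ l, j ∈ J) →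
    (∀ j ∈ J, R.pos (R.wd l (R.simple j))) → R.wd l = 1 := by
  induction n with
  | zero =>
    intro l hl _ _
    have : l = [] := List.length_eq_zero_iff.1 (Nat.le_zero.1 hl)
    subst this
    rfl
  | succ n ih =>
    intro l hl hJ hpos
    rcases List.eq_nil_or_concat l with rfl | ⟨l', j, rfl⟩
    · rfl
    · rw [List.concat_eq_append] at hl hJ hpos ⊢
      have hj : j ∈ J := hJ j (by simp)
      have h1 := hpos j hj
      rw [wd_append, wd_singleton, Equiv.Perm.mul_apply, R.refl_simple,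
        R.neg_of_mem (R.mem_W_iff.2 ⟨l', fun i hi => hJ i (by simp [hi]), rfl⟩), R.pos_neg] at h1
      obtain ⟨l'', hlen, hmem, heq⟩ := R.exchange l' j h1
      have heq' : R.wd (l' ++ [j]) = R.wd l'' := by rw [wd_append, wd_singleton, heq]
      rw [heq']
      apply ih l''
      · simp at hl; omega
      · intro i hi; exact hJ i (by simp [hmem i hi])
      · intro k hk; rw [← heq']; exact hpos k hk

theorem eq_one_of_pos {J : Set ι} {w : Equiv.Perm Φ} (hw : w ∈ R.W J)
    (h : ∀ j ∈ J, R.pos (w (R.simple j))) : w = 1 := by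
  obtain ⟨l, hl, rfl⟩ := R.mem_W_iff.1 hw
  exact R.eq_one_of_pos_aux J l.length l le_rfl hl h

theorem eq_one_of_pos_all {J : Set ι} {w : Equiv.Perm Φ} (hw : w ∈ R.W J)
    (h : ∀ r, R.pos r → R.pos (w r)) : w = 1 :=
  R.eq_one_of_pos hw fun j _ => h _ (R.simple_pos j)

omit [Finite Φ] in
/-- elements of `W J` do not change the coordinates outside `J` -/
theorem co_of_mem {J : Set ι} {w : Equiv.Perm Φ} (hw : w ∈ R.W J) (r : Φ) {i : ι} (hi : i ∉ J) :
    R.co (w r) i = R.co r i := by
  obtain ⟨l, hl, rfl⟩ := R.mem_W_iff.1 hw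
  clear hw
  induction l with
  | nil => rfl
  | cons j l ih =>
    rw [wd_cons, Equiv.Perm.mul_apply, R.co_refl, if_neg, sub_zero]
    · exact ih fun k hk => hl k (List.mem_cons_of_mem _ hk)
    · rintro rfl
      exact hi (hl i List.mem_cons_self)

omit [Finite Φ] in
/-- positive roots outside `Φ_J` stay positive -/
theorem pos_of_not_sub {J : Set ι} {w : Equiv.Perm Φ} (hw : w ∈ R.W J) {r : Φ} (hr : R.pos r)
    {i : ι} (hi : i ∉ J) (hri : R.co r i ≠ 0) : R.pos (w r) := by
  apply R.pos_of_coord (i := i)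
  rw [R.co_of_mem hw r hi]
  exact lt_of_le_of_ne (R.co_nonneg r hr i) (Ne.symm hri)

/-- The parabolic root subsystem. -/
def Sub (J : Set ι) (r : Φ) : Prop := ∀ i, i ∉ J → R.co r i = 0

omit [Finite Φ] in
theorem sub_of_mem {J : Set ι} {w : Equiv.Perm Φ} (hw : w ∈ R.W J) (r : Φ) :
    R.Sub J (w r) ↔ R.Sub J r := by
  unfold Sub
  exact forall_congr' fun i => forall_congr' fun hi => by rw [R.co_of_mem hw r hi]

omit [Finite Φ] in
theorem pos_iff_of_not_sub {J : Set ι} {w : Equiv.Perm Φ} (hw : w ∈ R.W J) {r : Φ}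
    (hr : ¬ R.Sub J r) : R.pos (w r) ↔ R.pos r := by
  unfold Sub at hr
  push Not at hr
  obtain ⟨i, hi, hri⟩ := hr
  constructor
  · intro h
    have h1 := R.co_nonneg _ h i
    rw [R.co_of_mem hw r hi] at h1
    exact R.pos_of_coord (lt_of_le_of_ne h1 (Ne.symm hri))
  · intro h
    exact R.pos_of_not_sub hw h hi hri

/-- Minimal left coset representatives of `W K` inside `W J`. -/
def D (J K : Set ι) : Set (Equiv.Perm Φ) :=
  {d | d ∈ R.W J ∧ ∀ j ∈ K, R.pos (d (R.simple j))}

omit [Finite Φ] in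
theorem pos_of_D {J K : Set ι} {d : Equiv.Perm Φ} (hd : d ∈ R.D J K) {r : Φ} (hr : R.pos r)
    (hs : R.Sub K r) : R.pos (d r) := by
  obtain ⟨U, hU⟩ := R.isLin_of_mem hd.1
  apply R.pos_of_nonneg
  intro i
  have h1 : R.co r = ∑ j, R.co r j • R.co (R.simple j) := by
    funext k
    rw [Finset.sum_apply]
    simp [R.co_simple]
  rw [hU, h1, map_sum, Finset.sum_apply]
  apply Finset.sum_nonneg
  intro j _
  rw [map_smul, Pi.smul_apply, smul_eq_mul]
  by_cases hj : j ∈ K
  · apply mul_nonneg (R.co_nonneg r hr j)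
    rw [← hU]
    exact R.co_nonneg _ (hd.2 j hj) i
  · rw [hs j hj, zero_mul]

omit [Finite Φ] in
theorem pos_iff_of_D {J K : Set ι} {d : Equiv.Perm Φ} (hd : d ∈ R.D J K) {r : Φ}
    (hs : R.Sub K r) : R.pos (d r) ↔ R.pos r := by
  constructor
  · intro h
    by_contra hr
    have h1 : R.pos (d (R.neg r)) := R.pos_of_D hd ((R.pos_neg r).2 hr) (fun i hi => by
      rw [R.co_neg, hs i hi, neg_zero])
    rw [R.neg_of_mem hd.1, R.pos_neg] at h1
    exact h1 h
  · intro h
    exact R.pos_of_D hd h hs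

section Q

open Classical in
/-- The (multi-parameter) monomial of `w`: product of the weights of the positive roots made negative. -/
noncomputable def Q {S : Type*} [CommMonoid S] [Fintype Φ] (x : Φ → S) (w : Equiv.Perm Φ) : S :=
  ∏ r ∈ Finset.univ.filter (fun r => R.pos r ∧ ¬ R.pos (w r)), x r

/-- number of inversions -/
noncomputable def inv (w : Equiv.Perm Φ) : ℕ := Nat.card {r // R.pos r ∧ ¬ R.pos (w r)}

omit [Finite Φ] in
theorem Q_one {S : Type*} [CommMonoid S] [Fintype Φ] (x : Φ → S) : R.Q x 1 = 1 := by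
  classical
  unfold Q
  apply Finset.prod_eq_one
  intro r hr
  exact absurd (Finset.mem_filter.1 hr).2.1 (Finset.mem_filter.1 hr).2.2

omit [Finite Φ] in
/-- Multiplicativity along minimal coset representatives. -/
theorem Q_mul {S : Type*} [CommMonoid S] [Fintype Φ] (x : Φ → S)
    (hx : ∀ i r, x (R.refl i r) = x r) {J K : Set ι} {d v : Equiv.Perm Φ} (hd : d ∈ R.D J K)
    (hv : v ∈ R.W K) : R.Q x (d * v) = R.Q x d * R.Q x v := by
  classical
  have hxv : ∀ r, x (v r) = x r := by
    obtain ⟨l, hl, rfl⟩ := R.mem_W_iff.1 hv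
    clear hv hl
    induction l with
    | nil => intro r; rfl
    | cons i l ih => intro r; rw [wd_cons, Equiv.Perm.mul_apply, hx, ih]
  unfold Q
  rw [← Finset.prod_filter_mul_prod_filter_not
    (Finset.univ.filter (fun r => R.pos r ∧ ¬ R.pos ((d * v) r))) (fun r => R.Sub K r)]
  rw [mul_comm]
  congr 1
  · -- roots outside Φ_K
    apply Finset.prod_nbij' (i := fun r => v r) (j := fun r => v.symm r)
    · intro r hr
      simp only [Finset.mem_filter, Finset.mem_univ, true_and] at hr ⊢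
      obtain ⟨⟨h1, h2⟩, h3⟩ := hr
      exact ⟨(R.pos_iff_of_not_sub hv h3).2 h1, h2⟩
    · intro r hr
      simp only [Finset.mem_filter, Finset.mem_univ, true_and] at hr ⊢
      obtain ⟨h1, h2⟩ := hr
      rw [Equiv.Perm.mul_apply, Equiv.apply_symm_apply]
      have h3 : ¬ R.Sub K r := fun h3 => h2 ((R.pos_iff_of_D hd h3).2 h1)
      have h4 : ¬ R.Sub K (v.symm r) := by
        intro h4
        apply h3
        have := (R.sub_of_mem hv (v.symm r)).2 h4
        rwa [Equiv.apply_symm_apply] at this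
      refine ⟨⟨?_, h2⟩, h4⟩
      have := R.pos_iff_of_not_sub hv h4
      rw [Equiv.apply_symm_apply] at this
      exact this.1 h1
    · intro r _; simp
    · intro r _; simp
    · intro r _; exact (hxv r).symm
  · apply Finset.prod_congr _ (fun _ _ => rfl)
    ext r
    simp only [Finset.mem_filter, Finset.mem_univ, true_and]
    rw [Equiv.Perm.mul_apply]
    constructor
    · rintro ⟨⟨h1, h2⟩, h3⟩
      refine ⟨h1, fun h4 => h2 ?_⟩
      exact (R.pos_iff_of_D hd ((R.sub_of_mem hv r).2 h3)).2 h4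
    · rintro ⟨h1, h2⟩
      have h3 : R.Sub K r := by
        by_contra h3
        exact h2 ((R.pos_iff_of_not_sub hv h3).2 h1)
      refine ⟨⟨h1, fun h4 => h2 ?_⟩, h3⟩
      exact (R.pos_iff_of_D hd ((R.sub_of_mem hv r).2 h3)).1 h4

end Q

omit [Finite Φ] in
theorem inv_eq [Fintype Φ] (w : Equiv.Perm Φ) :
    R.Q (fun _ => Multiplicative.ofAdd (1 : ℕ)) w = Multiplicative.ofAdd (R.inv w) := by
  classical
  unfold Q inv
  rw [Finset.prod_const, ← ofAdd_nsmul, Nat.card_eq_fintype_card, Fintype.card_subtype]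
  simp

theorem inv_mul {J K : Set ι} {d v : Equiv.Perm Φ} (hd : d ∈ R.D J K)
    (hv : v ∈ R.W K) : R.inv (d * v) = R.inv d + R.inv v := by
  classical
  have := Fintype.ofFinite Φ
  have h := R.Q_mul (fun _ => Multiplicative.ofAdd (1 : ℕ)) (fun _ _ => rfl) hd hv
  rw [R.inv_eq, R.inv_eq, R.inv_eq, ← ofAdd_add] at h
  exact Multiplicative.ofAdd.injective h

theorem inv_eq_zero {J : Set ι} {w : Equiv.Perm Φ} (hw : w ∈ R.W J) (h : R.inv w = 0) : w = 1 := by
  apply R.eq_one_of_pos_all hw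
  intro r hr
  by_contra h1
  unfold inv at h
  rw [Nat.card_eq_zero] at h
  rcases h with h | h
  · exact h.elim ⟨r, hr, h1⟩
  · exact absurd h (by rw [not_infinite_iff_finite]; infer_instance)

theorem inv_mul_refl {w : Equiv.Perm Φ} {j : ι} (h : ¬ R.pos (w (R.simple j)))
    (hw : ∀ r, w (R.neg r) = R.neg (w r)) : R.inv (w * R.refl j) + 1 = R.inv w := by
  classical
  have := Fintype.ofFinite Φ
  unfold inv
  rw [Nat.card_eq_fintype_card, Nat.card_eq_fintype_card, Fintype.card_subtype,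
    Fintype.card_subtype]
  have h1 : (Finset.univ.filter fun r => R.pos r ∧ ¬ R.pos (w r)) =
      insert (R.simple j) ((Finset.univ.filter fun r => R.pos r ∧
        ¬ R.pos ((w * R.refl j) r)).map (R.refl j).toEmbedding) := by
    ext r
    simp only [Finset.mem_filter, Finset.mem_univ, true_and, Finset.mem_insert, Finset.mem_map,
      Equiv.toEmbedding_apply]
    constructor
    · rintro ⟨h1, h2⟩
      by_cases hr : r = R.simple j
      · exact Or.inl hr
      · refine Or.inr ⟨R.refl j r, ⟨R.refl_pos j r h1 hr, ?_⟩, R.refl_refl j r⟩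
        rw [Equiv.Perm.mul_apply, R.refl_refl]; exact h2
    · rintro (rfl | ⟨s, ⟨h1, h2⟩, rfl⟩)
      · exact ⟨R.simple_pos j, h⟩
      · refine ⟨R.refl_pos j s h1 ?_, h2⟩
        rintro rfl
        rw [Equiv.Perm.mul_apply, R.refl_simple, hw, R.pos_neg, not_not] at h2
        exact h h2
  rw [h1, Finset.card_insert_of_notMem, Finset.card_map]
  simp only [Finset.mem_map, Finset.mem_filter, Finset.mem_univ, true_and, not_exists, not_and,
    Equiv.toEmbedding_apply]
  rintro s ⟨h2, _⟩ h3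
  have h4 : s = R.refl j (R.simple j) := by rw [← h3, R.refl_refl]
  rw [h4, R.refl_simple, R.pos_neg] at h2
  exact h2 (R.simple_pos j)

/-- Every element of `W J` is (minimal representative) * (element of `W K`). -/
theorem exists_D_mul {J K : Set ι} (hKJ : K ⊆ J) (n : ℕ) : ∀ w ∈ R.W J, R.inv w = n →
    ∃ d ∈ R.D J K, ∃ v ∈ R.W K, w = d * v := by
  induction n with
  | zero =>
    intro w hw h0
    have := R.inv_eq_zero hw h0
    subst this
    exact ⟨1, ⟨Subgroup.one_mem _, fun j _ => R.simple_pos j⟩, 1, Subgroup.one_mem _, by simp⟩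
  | succ n ih =>
    intro w hw hn
    by_cases h : ∀ j ∈ K, R.pos (w (R.simple j))
    · exact ⟨w, ⟨hw, h⟩, 1, Subgroup.one_mem _, by simp⟩
    · push Not at h
      obtain ⟨j, hj, hneg⟩ := h
      have h1 := R.inv_mul_refl hneg (R.neg_of_mem hw)
      obtain ⟨d, hd, v, hv, heq⟩ := ih (w * R.refl j)
        (Subgroup.mul_mem _ hw (R.refl_mem_W (hKJ hj))) (by omega)
      refine ⟨d, hd, v * R.refl j, Subgroup.mul_mem _ hv (R.refl_mem_W hj), ?_⟩
      rw [← mul_assoc, ← heq, mul_assoc, R.refl_mul_refl, mul_one]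

theorem D_mul_inj {J K : Set ι} {d d' v v' : Equiv.Perm Φ} (hd : d ∈ R.D J K)
    (hd' : d' ∈ R.D J K) (hv : v ∈ R.W K) (hv' : v' ∈ R.W K) (h : d * v = d' * v') :
    d = d' ∧ v = v' := by
  have h1 : d' = d * (v * v'⁻¹) := by rw [← mul_assoc, h]; group
  have hu : v * v'⁻¹ ∈ R.W K := Subgroup.mul_mem _ hv (Subgroup.inv_mem _ hv')
  have h2 : d = d' * (v * v'⁻¹)⁻¹ := by rw [h1]; group
  have h3 := R.inv_mul hd hu
  have h4 := R.inv_mul hd' (Subgroup.inv_mem _ hu)
  rw [← h1] at h3
  rw [← h2] at h4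
  have h5 : R.inv (v * v'⁻¹) = 0 := by omega
  have h6 := R.inv_eq_zero hu h5
  rw [h6] at h1
  have h7 : v = v' := mul_inv_eq_one.1 h6
  exact ⟨by rw [h1, mul_one], h7⟩

/-- First factorisation of the Poincare sum. -/
theorem sum_W_eq {S : Type*} [CommSemiring S] [Fintype Φ] (x : Φ → S)
    (hx : ∀ i r, x (R.refl i r) = x r) {J K : Set ι} (hKJ : K ⊆ J) :
    ∑ᶠ w ∈ (R.W J : Set (Equiv.Perm Φ)), R.Q x w =
      (∑ᶠ d ∈ R.D J K, R.Q x d) * ∑ᶠ v ∈ (R.W K : Set (Equiv.Perm Φ)), R.Q x v := by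
  classical
  have hfJ : (R.W J : Set (Equiv.Perm Φ)).Finite := Set.toFinite _
  have hfK : (R.W K : Set (Equiv.Perm Φ)).Finite := Set.toFinite _
  have hfD : (R.D J K).Finite := Set.toFinite _
  rw [finsum_mem_eq_finite_toFinset_sum _ hfJ, finsum_mem_eq_finite_toFinset_sum _ hfK,
    finsum_mem_eq_finite_toFinset_sum _ hfD, Finset.sum_mul_sum, ← Finset.sum_product']
  symm
  apply Finset.sum_bij (i := fun p _ => p.1 * p.2)
  · rintro ⟨d, v⟩ h
    simp only [Finset.mem_product, Set.Finite.mem_toFinset] at h ⊢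
    exact Subgroup.mul_mem _ h.1.1 (R.W_mono hKJ h.2)
  · rintro ⟨d, v⟩ h ⟨d', v'⟩ h' heq
    simp only [Finset.mem_product, Set.Finite.mem_toFinset] at h h'
    obtain ⟨h1, h2⟩ := R.D_mul_inj h.1 h'.1 h.2 h'.2 heq
    rw [h1, h2]
  · intro w hw
    simp only [Set.Finite.mem_toFinset] at hw
    obtain ⟨d, hd, v, hv, heq⟩ := R.exists_D_mul hKJ _ w hw rfl
    refine ⟨(d, v), ?_, heq.symm⟩
    simp only [Finset.mem_product, Set.Finite.mem_toFinset]
    exact ⟨hd, hv⟩
  · rintro ⟨d, v⟩ h
    simp only [Finset.mem_product, Set.Finite.mem_toFinset] at h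
    exact (R.Q_mul x hx h.1 h.2).symm

/-! ### Orbits of the fundamental weights -/

/-- The action of the `i`-th reflection on weights (given by their values on the simple coroots). -/
def act (i : ι) (m : ι → ℤ) : ι → ℤ := fun k => m k - m i * R.A i k

/-- The value of the weight `m` on the coroot of `r`. -/
def val (m : ι → ℤ) (r : Φ) : ℤ := ∑ i, R.co r i * m i

omit [Finite Φ] in
theorem val_act (i : ι) (m : ι → ℤ) (r : Φ) : R.val (R.act i m) r = R.val m (R.refl i r) := by
  unfold val act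
  simp_rw [R.co_refl]
  have h1 : ∀ j, (R.co r j - (if j = i then ∑ k, R.co r k * R.A i k else 0)) * m j =
      R.co r j * m j - (if j = i then (∑ k, R.co r k * R.A i k) * m j else 0) := by
    intro j; split_ifs <;> ring
  rw [Finset.sum_congr rfl fun j _ => h1 j, Finset.sum_sub_distrib]
  have h2 : ∀ j, R.co r j * (m j - m i * R.A i j) =
      R.co r j * m j - (R.co r j * R.A i j) * m i := by
    intro j; ring
  rw [Finset.sum_congr rfl fun j _ => h2 j, Finset.sum_sub_distrib]
  simp [Finset.sum_mul]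

omit [Finite Φ] in
theorem val_simple (m : ι → ℤ) (i : ι) : R.val m (R.simple i) = m i := by
  unfold val
  simp [R.co_simple]

/-- The weights reachable from the fundamental weight `k` by reflections in `J`. -/
inductive Reach (J : Set ι) (k : ι) : (ι → ℤ) → Prop
  | base : Reach J k (Pi.single k 1)
  | step (j : ι) (m : ι → ℤ) : j ∈ J → Reach J k m → Reach J k (R.act j m)

omit [Finite Φ] in
theorem val_single (k : ι) (r : Φ) : R.val (Pi.single k 1) r = R.co r k := by
  unfold val
  simp [Pi.single_apply]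

omit [Finite Φ] in
theorem exists_of_reach {J : Set ι} {k : ι} {m : ι → ℤ} (h : R.Reach J k m) :
    ∃ w ∈ R.W J, ∀ r, R.val m r = R.co (w⁻¹ r) k := by
  induction h with
  | base => exact ⟨1, Subgroup.one_mem _, fun r => by rw [R.val_single]; simp⟩
  | step j m hj _ ih =>
    obtain ⟨w, hw, h⟩ := ih
    refine ⟨R.refl j * w, Subgroup.mul_mem _ (R.refl_mem_W hj) hw, fun r => ?_⟩
    rw [R.val_act, h, mul_inv_rev, Equiv.Perm.mul_apply, R.refl_inv]

omit [Finite Φ] in
/-- Any set of weights containing `ω_k` and closed under the reflections contains the orbit. -/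
theorem mem_of_closed {J : Set ι} {k : ι} {L : Set (ι → ℤ)} (h0 : Pi.single k 1 ∈ L)
    (hL : ∀ m ∈ L, ∀ j ∈ J, R.act j m ∈ L) {w : Equiv.Perm Φ} (hw : w ∈ R.W J) :
    ∃ m ∈ L, ∀ r, R.val m r = R.co (w⁻¹ r) k := by
  obtain ⟨l, hl, rfl⟩ := R.mem_W_iff.1 hw
  clear hw
  induction l with
  | nil => exact ⟨_, h0, fun r => by rw [R.val_single]; simp [wd]⟩
  | cons j l ih =>
    obtain ⟨m, hm, h⟩ := ih fun k hk => hl k (List.mem_cons_of_mem _ hk)
    refine ⟨R.act j m, hL m hm j (hl j List.mem_cons_self), fun r => ?_⟩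
    rw [R.val_act, h, wd_cons, mul_inv_rev, Equiv.Perm.mul_apply, R.refl_inv]

/-- The stabiliser of the fundamental weight `ω_k` in `W J` is `W (J \ {k})`, in the form needed:
minimal representatives are determined by their weights. -/
theorem D_eq_of_co {J : Set ι} {k : ι} {d d' : Equiv.Perm Φ}
    (hd : d ∈ R.D J (J \ {k})) (hd' : d' ∈ R.D J (J \ {k}))
    (h : ∀ r, R.co (d⁻¹ r) k = R.co (d'⁻¹ r) k) : d = d' := by
  have hw : d'⁻¹ * d ∈ R.W J := Subgroup.mul_mem _ (Subgroup.inv_mem _ hd'.1) hd.1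
  obtain ⟨e, he, v, hv, heq⟩ := R.exists_D_mul (K := J \ {k}) Set.sdiff_subset _ _ hw rfl
  -- `e` fixes the weight
  have hstab : ∀ r, R.co ((d'⁻¹ * d) r) k = R.co r k := by
    intro r
    rw [Equiv.Perm.mul_apply, ← h (d r), Equiv.Perm.inv_def, Equiv.symm_apply_apply]
  have hvk : ∀ r, R.co (v r) k = R.co r k := fun r => R.co_of_mem hv r (by simp)
  have hek : ∀ r, R.co (e r) k = R.co r k := by
    intro r
    have h1 := hstab (v⁻¹ r)
    rw [heq, Equiv.Perm.mul_apply] at h1
    have h2 : v (v⁻¹ r) = r := by rw [Equiv.Perm.inv_def, Equiv.apply_symm_apply]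
    rw [h2] at h1
    rw [h1, ← hvk (v⁻¹ r), h2]
  have he1 : e = 1 := by
    apply R.eq_one_of_pos_all he.1
    intro r hr
    by_cases hs : R.Sub (J \ {k}) r
    · exact R.pos_of_D he hr hs
    · by_cases hs' : R.Sub J r
      · -- then `co r k ≠ 0`
        have hrk : R.co r k ≠ 0 := by
          intro h0
          apply hs
          intro i hi
          by_cases hik : i = k
          · rw [hik, h0]
          · exact hs' i (fun hiJ => hi ⟨hiJ, hik⟩)
        apply R.pos_of_coord (i := k)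
        rw [hek r]
        exact lt_of_le_of_ne (R.co_nonneg r hr k) (Ne.symm hrk)
      · exact (R.pos_iff_of_not_sub he.1 hs').2 hr
  rw [he1, one_mul] at heq
  have h3 : d * 1 = d' * v := by rw [mul_one, ← heq]; group
  exact (R.D_mul_inj hd hd' (Subgroup.one_mem _) hv h3).1

open Classical in
/-- weight monomial of an orbit element -/
noncomputable def Qw {S : Type*} [CommMonoid S] [Fintype Φ] (x : Φ → S) (m : ι → ℤ) : S :=
  ∏ s ∈ Finset.univ.filter (fun s => R.pos s ∧ R.val m s < 0), x s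

omit [Finite Φ] in
theorem Q_eq_Qw {S : Type*} [CommMonoid S] [Fintype Φ] (x : Φ → S)
    (hx : ∀ i r, x (R.refl i r) = x r) (hxn : ∀ r, x (R.neg r) = x r) {J : Set ι} {k : ι}
    {d : Equiv.Perm Φ} (hd : d ∈ R.D J (J \ {k})) {m : ι → ℤ}
    (hm : ∀ r, R.val m r = R.co (d⁻¹ r) k) : R.Q x d = R.Qw x m := by
  classical
  have hxd : ∀ r, x (d r) = x r := by
    obtain ⟨l, hl, rfl⟩ := R.mem_W_iff.1 hd.1
    clear hd hm hl
    induction l with
    | nil => intro r; rfl
    | cons i l ih => intro r; rw [wd_cons, Equiv.Perm.mul_apply, hx, ih]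
  unfold Q Qw
  apply Finset.prod_nbij' (i := fun r => R.neg (d r)) (j := fun s => R.neg (d⁻¹ s))
  · intro r hr
    simp only [Finset.mem_filter, Finset.mem_univ, true_and] at hr ⊢
    obtain ⟨h1, h2⟩ := hr
    refine ⟨(R.pos_neg _).2 h2, ?_⟩
    rw [hm, R.neg_of_mem (Subgroup.inv_mem _ hd.1), Equiv.Perm.inv_def, Equiv.symm_apply_apply,
      R.co_neg, neg_lt_zero]
    refine lt_of_le_of_ne (R.co_nonneg r h1 k) (Ne.symm ?_)
    intro h0
    apply h2
    by_cases hs' : R.Sub J r
    · apply R.pos_of_D hd h1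
      intro i hi
      by_cases hik : i = k
      · rw [hik, h0]
      · exact hs' i (fun hiJ => hi ⟨hiJ, hik⟩)
    · exact (R.pos_iff_of_not_sub hd.1 hs').2 h1
  · intro s hs
    simp only [Finset.mem_filter, Finset.mem_univ, true_and] at hs ⊢
    obtain ⟨h1, h2⟩ := hs
    rw [hm] at h2
    constructor
    · apply R.pos_of_coord (i := k)
      rw [R.co_neg]
      omega
    · rw [R.neg_of_mem hd.1, R.pos_neg, not_not]
      have : d (d⁻¹ s) = s := by rw [Equiv.Perm.inv_def, Equiv.apply_symm_apply]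
      rw [this]
      exact h1
  · intro r _
    rw [R.neg_of_mem (Subgroup.inv_mem _ hd.1), Equiv.Perm.inv_def, Equiv.symm_apply_apply,
      R.neg_neg]
  · intro s _
    rw [R.neg_of_mem hd.1]
    have : d (d⁻¹ s) = s := by rw [Equiv.Perm.inv_def, Equiv.apply_symm_apply]
    rw [this, R.neg_neg]
  · intro r _
    rw [hxn, hxd]

/-- Second factorisation: the coset factor is a sum over the orbit `L` of the fundamental weight. -/
theorem sum_D_eq {S : Type*} [CommSemiring S] [Fintype Φ] (x : Φ → S)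
    (hx : ∀ i r, x (R.refl i r) = x r) (hxn : ∀ r, x (R.neg r) = x r) {J : Set ι} {k : ι}
    (L : Finset (ι → ℤ)) (h0 : Pi.single k 1 ∈ L)
    (hL : ∀ m ∈ L, ∀ j ∈ J, R.act j m ∈ L) (hreach : ∀ m ∈ L, R.Reach J k m) :
    ∑ᶠ d ∈ R.D J (J \ {k}), R.Q x d = ∑ m ∈ L, R.Qw x m := by
  classical
  have hfD : (R.D J (J \ {k})).Finite := Set.toFinite _
  rw [finsum_mem_eq_finite_toFinset_sum _ hfD]
  -- the weight of `d`
  have hwt : ∀ d ∈ R.W J, (fun i => R.co (d⁻¹ (R.simple i)) k) ∈ L ∧
      ∀ r, R.val (fun i => R.co (d⁻¹ (R.simple i)) k) r = R.co (d⁻¹ r) k := by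
    intro d hd
    obtain ⟨m, hm, h⟩ := R.mem_of_closed (L := (L : Set (ι → ℤ))) h0
      (fun m hm j hj => hL m hm j hj) hd
    have : m = fun i => R.co (d⁻¹ (R.simple i)) k := by
      funext i
      rw [← h, R.val_simple]
    rw [← this]
    exact ⟨hm, h⟩
  apply Finset.sum_bij (i := fun d _ => fun i => R.co (d⁻¹ (R.simple i)) k)
  · intro d hd
    rw [Set.Finite.mem_toFinset] at hd
    exact (hwt d hd.1).1
  · intro d hd d' hd' heq
    rw [Set.Finite.mem_toFinset] at hd hd'
    apply R.D_eq_of_co hd hd'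
    intro r
    rw [← (hwt d hd.1).2, ← (hwt d' hd'.1).2]
    exact congrArg (fun m => R.val m r) heq
  · intro m hm
    obtain ⟨w, hw, h⟩ := R.exists_of_reach (hreach m hm)
    obtain ⟨d, hd, v, hv, heq⟩ := R.exists_D_mul (K := J \ {k}) Set.sdiff_subset _ _ hw rfl
    refine ⟨d, (Set.Finite.mem_toFinset _).2 hd, ?_⟩
    funext i
    rw [← R.val_simple m i, h, heq, mul_inv_rev, Equiv.Perm.mul_apply]
    exact (R.co_of_mem (Subgroup.inv_mem _ hv) _ (by simp)).symm
  · intro d hd
    rw [Set.Finite.mem_toFinset] at hd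
    exact R.Q_eq_Qw x hx hxn hd (hwt d hd.1).2

/-- One step of the parabolic chain. -/
theorem sum_step {S : Type*} [CommSemiring S] [Fintype Φ] (x : Φ → S)
    (hx : ∀ i r, x (R.refl i r) = x r) (hxn : ∀ r, x (R.neg r) = x r) {J : Set ι} {k : ι}
    (L : Finset (ι → ℤ)) (h0 : Pi.single k 1 ∈ L)
    (hL : ∀ m ∈ L, ∀ j ∈ J, R.act j m ∈ L) (hreach : ∀ m ∈ L, R.Reach J k m) :
    ∑ᶠ w ∈ (R.W J : Set (Equiv.Perm Φ)), R.Q x w =
      (∑ m ∈ L, R.Qw x m) * ∑ᶠ v ∈ (R.W (J \ {k}) : Set (Equiv.Perm Φ)), R.Q x v := by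
  rw [R.sum_W_eq x hx (K := J \ {k}) Set.sdiff_subset, R.sum_D_eq x hx hxn L h0 hL hreach]

omit [Finite Φ] in
theorem sum_W_empty {S : Type*} [CommSemiring S] [Fintype Φ] (x : Φ → S) :
    ∑ᶠ w ∈ (R.W ∅ : Set (Equiv.Perm Φ)), R.Q x w = 1 := by
  have : (R.W ∅ : Set (Equiv.Perm Φ)) = {1} := by
    ext w
    simp [W]
  rw [this, finsum_mem_singleton, R.Q_one]

end RData

end Cfsg.Agent.ChevalleyStructure.WeylAbstract
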