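import Mathlib

/-!
# Certificates for finite Coxeter groups

Let `G` be a group generated by involutions `s a` satisfying braid relations `(s a * s b) ^ m a b = 1`, and let
`P a : ℕ → ℕ` be tables of permutations of an initial segment of `ℕ` (think: the reflections permuting the roots).
A `Step` `(gens, J, p, mask)` certifies that `⟨s a | a ∈ gens⟩` has at most `|orbit of p|` cosets of `⟨s a | a ∈ J⟩`,
where the natural order on `ℕ` is used as the "height" (the point `p` is the top).
-/

set_option autoImplicit false

namespace Cfsg.Agent.ChevalleyStructure.WeylCert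

/-- Coset representatives read off the spanning tree given by the letters `L x`. -/
noncomputable def rep {G : Type*} [Group G] (s : ℕ → G) (P : ℕ → ℕ → ℕ) (L : ℕ → ℕ) (p : ℕ) (x : ℕ) : G :=
  if _h : x < P (L x) x ∧ P (L x) x ≤ p then s (L x) * rep s P L p (P (L x) x) else 1
termination_by p - x
decreasing_by omega

/-- The cycle check: walk around the `(i, j)`-cycle through `x`, starting at `y`, for `2k` steps. -/
def run2 (P : ℕ → ℕ → ℕ) (x i j : ℕ) : ℕ → ℕ → Bool
  | 0, y => Nat.beq y (P i x)
  | (k + 1), y =>
    (Nat.ble (x + 1) y && Nat.ble (x + 1) (P i y)) &&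
    (((Nat.ble (x + 1) (P i y) && Nat.ble (x + 1) (P j (P i y))) ||
      Nat.beq (P i y) x || Nat.beq (P j (P i y)) x) &&
    run2 P x i j k (P j (P i y)))

/-- One step of the chain of parabolic subgroups. -/
structure Step where
  /-- the generators of the larger parabolic subgroup -/
  gens : List ℕ
  /-- the generators of the smaller parabolic subgroup, the stabiliser of `p` -/
  J : List ℕ
  /-- the top point of the orbit -/
  p : ℕ
  /-- the orbit, as a bit mask -/
  mask : ℕ

namespace Step

variable (st : Step) (P : ℕ → ℕ → ℕ) (m : ℕ → ℕ → ℕ)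

/-- membership in the orbit -/
def mem (x : ℕ) : Bool := Nat.testBit st.mask x && Nat.ble x st.p

/-- the tree letter -/
def letter (x : ℕ) : ℕ := (st.gens.find? fun a => Nat.ble (x + 1) (P a x)).getD 0

/-- the check at the point `x` of the orbit -/
def chk (x : ℕ) : Bool :=
  (st.gens.all fun a => st.mem (P a x) && Nat.beq (P a (P a x)) x) &&
  (if Nat.beq x st.p then
    st.gens.all fun a => Nat.ble (P a x) x && (!(Nat.beq (P a x) x) || st.J.contains a)
  else
    st.gens.contains (st.letter P x) && Nat.ble (x + 1) (P (st.letter P x) x) &&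
    st.gens.all fun i => Nat.beq i (st.letter P x) || Nat.ble (P i x + 1) x ||
      run2 P x i (st.letter P x) (m i (st.letter P x) - 1) (P (st.letter P x) x))

/-- All points `< n` pass. -/
def allBelow (q : ℕ → Bool) : ℕ → Bool
  | 0 => true
  | n + 1 => q n && allBelow q n

/-- The certificate check. -/
def check : Bool :=
  st.mem st.p && (st.J.all fun a => st.gens.contains a && Nat.beq (P a st.p) st.p) &&
  allBelow (fun x => !(st.mem x) || st.chk P m x) (st.p + 1)

/-- the number of points of the orbit -/
def size : ℕ := ((List.range (st.p + 1)).filter st.mem).length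

end Step

theorem allBelow_spec {q : ℕ → Bool} {n : ℕ} (h : Step.allBelow q n = true) : ∀ x < n, q x = true := by
  induction n with
  | zero => intro x hx; omega
  | succ n ih =>
    simp only [Step.allBelow, Bool.and_eq_true] at h
    intro x hx
    rcases Nat.lt_succ_iff_lt_or_eq.mp hx with h' | h'
    · exact ih h.2 x h'
    · exact h' ▸ h.1

/-- What a passed check says, in `Prop`s. -/
structure StepOK (st : Step) (P : ℕ → ℕ → ℕ) (m : ℕ → ℕ → ℕ) : Prop where
  memp : st.mem st.p = true
  Jsub : ∀ a ∈ st.J, a ∈ st.gens
  Jfix : ∀ a ∈ st.J, P a st.p = st.p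
  closed : ∀ x, st.mem x = true → ∀ a ∈ st.gens, st.mem (P a x) = true
  invol : ∀ x, st.mem x = true → ∀ a ∈ st.gens, P a (P a x) = x
  top : ∀ a ∈ st.gens, P a st.p ≤ st.p
  topJ : ∀ a ∈ st.gens, P a st.p = st.p → a ∈ st.J
  letter_mem : ∀ x, st.mem x = true → x ≠ st.p → st.letter P x ∈ st.gens
  letter_lt : ∀ x, st.mem x = true → x ≠ st.p → x < P (st.letter P x) x
  run : ∀ x, st.mem x = true → x ≠ st.p → ∀ i ∈ st.gens, i ≠ st.letter P x → x ≤ P i x →
    run2 P x i (st.letter P x) (m i (st.letter P x) - 1) (P (st.letter P x) x) = true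

theorem Step.mem_le {st : Step} {x : ℕ} (h : st.mem x = true) : x ≤ st.p := by
  simp only [Step.mem, Bool.and_eq_true] at h
  exact Nat.le_of_ble_eq_true h.2

theorem stepOK_of_check {st : Step} {P : ℕ → ℕ → ℕ} {m : ℕ → ℕ → ℕ} (h : st.check P m = true) :
    StepOK st P m := by
  simp only [Step.check, Bool.and_eq_true, List.all_eq_true, List.contains_iff_mem] at h
  obtain ⟨⟨h1, h2⟩, h3⟩ := h
  have h4 : ∀ x, st.mem x = true → st.chk P m x = true := by
    intro x hx
    have := allBelow_spec h3 x (Nat.lt_succ_of_le (Step.mem_le hx))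
    simpa [hx] using this
  have h5 : ∀ x, st.mem x = true → ∀ a ∈ st.gens, st.mem (P a x) = true ∧ P a (P a x) = x := by
    intro x hx a ha
    have := h4 x hx
    simp only [Step.chk, Bool.and_eq_true, List.all_eq_true] at this
    exact ⟨(this.1 a ha).1, Nat.eq_of_beq_eq_true (this.1 a ha).2⟩
  have h6 : ∀ a ∈ st.gens, P a st.p ≤ st.p ∧ (P a st.p = st.p → a ∈ st.J) := by
    intro a ha
    have := h4 st.p h1
    simp only [Step.chk, Bool.and_eq_true, List.all_eq_true, Nat.beq_refl, if_true,
      Bool.or_eq_true, Bool.not_eq_true', List.contains_iff_mem] at this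
    have h7 := this.2 a ha
    refine ⟨Nat.le_of_ble_eq_true h7.1, fun h8 => ?_⟩
    rcases h7.2 with h9 | h9
    · rw [h8, Nat.beq_refl] at h9; exact absurd h9 (by decide)
    · exact h9
  have h7 : ∀ x, st.mem x = true → x ≠ st.p →
      st.letter P x ∈ st.gens ∧ x < P (st.letter P x) x ∧
      ∀ i ∈ st.gens, i ≠ st.letter P x → x ≤ P i x →
        run2 P x i (st.letter P x) (m i (st.letter P x) - 1) (P (st.letter P x) x) = true := by
    intro x hx hxp
    have := h4 x hx
    have hne : Nat.beq x st.p = false := by
      rcases hb : Nat.beq x st.p with _ | _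
      · rfl
      · exact absurd (Nat.eq_of_beq_eq_true hb) hxp
    simp only [Step.chk, hne, Bool.and_eq_true, List.all_eq_true, List.contains_iff_mem,
      Bool.false_eq_true, if_false, Bool.or_eq_true] at this
    obtain ⟨-, ⟨h8, h9⟩, h10⟩ := this
    refine ⟨h8, Nat.le_of_ble_eq_true h9, fun i hi hne' hle => ?_⟩
    rcases h10 i hi with (h11 | h11) | h11
    · exact absurd (Nat.eq_of_beq_eq_true h11) hne'
    · have := Nat.le_of_ble_eq_true h11
      omega
    · exact h11
  exact ⟨h1, fun a ha => (h2 a ha).1, fun a ha => Nat.eq_of_beq_eq_true (h2 a ha).2,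
    fun x hx a ha => (h5 x hx a ha).1, fun x hx a ha => (h5 x hx a ha).2,
    fun a ha => (h6 a ha).1, fun a ha => (h6 a ha).2,
    fun x hx hxp => (h7 x hx hxp).1, fun x hx hxp => (h7 x hx hxp).2.1,
    fun x hx hxp => (h7 x hx hxp).2.2⟩

section Upper

variable {G : Type*} [Group G] {st : Step} {P : ℕ → ℕ → ℕ} {m : ℕ → ℕ → ℕ}

theorem rep_top (s : ℕ → G) :
    rep s P (st.letter P) st.p st.p = 1 := by
  rw [rep]
  have : ¬ (st.p < P (st.letter P st.p) st.p ∧ P (st.letter P st.p) st.p ≤ st.p) := by omega
  rw [dif_neg this]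

theorem rep_step (s : ℕ → G) (hok : StepOK st P m) {x : ℕ} (hx : st.mem x = true) (hxp : x ≠ st.p) :
    rep s P (st.letter P) st.p x =
      s (st.letter P x) * rep s P (st.letter P) st.p (P (st.letter P x) x) := by
  rw [rep]
  have : x < P (st.letter P x) x ∧ P (st.letter P x) x ≤ st.p :=
    ⟨hok.letter_lt x hx hxp, Step.mem_le (hok.closed x hx _ (hok.letter_mem x hx hxp))⟩
  rw [dif_pos this]

theorem run2_spec {X : Type*} [MulAction G X] (s : ℕ → G) (hok : StepOK st P m)
    (f : ℕ → X) {x i j : ℕ} (hi : i ∈ st.gens) (hj : j ∈ st.gens)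
    (hE : ∀ a ∈ st.gens, ∀ y, st.mem y = true → x < y → x < P a y → s a • f y = f (P a y))
    (hj1 : s j • f x = f (P j x)) (hj2 : s j • f (P j x) = f x) :
    ∀ (k y : ℕ), st.mem y = true → run2 P x i j k y = true → (s j * s i) ^ k • f y = f (P i x) := by
  intro k
  induction k with
  | zero =>
    intro y _ h
    rw [run2] at h
    rw [pow_zero, one_smul, Nat.eq_of_beq_eq_true h]
  | succ k ih =>
    intro y hy h
    simp only [run2, Bool.and_eq_true, Bool.or_eq_true] at h
    obtain ⟨⟨h1, h2⟩, h3, h4⟩ := h
    have e1 : s i • f y = f (P i y) :=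
      hE i hi y hy (Nat.le_of_ble_eq_true h1) (Nat.le_of_ble_eq_true h2)
    have hmz : st.mem (P i y) = true := hok.closed y hy i hi
    have hmz' : st.mem (P j (P i y)) = true := hok.closed _ hmz j hj
    have e2 : s j • f (P i y) = f (P j (P i y)) := by
      rcases h3 with (⟨h5, h6⟩ | h5) | h5
      · exact hE j hj _ hmz (Nat.le_of_ble_eq_true h5) (Nat.le_of_ble_eq_true h6)
      · rw [Nat.eq_of_beq_eq_true h5]; exact hj1
      · have h7 := Nat.eq_of_beq_eq_true h5
        have h8 : P i y = P j x := by rw [← h7, hok.invol _ hmz j hj]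
        rw [h7, h8]; exact hj2
    have := ih _ hmz' h4
    rw [pow_succ, mul_smul, mul_smul, e1, e2, this]

/-- The coset map. -/
theorem exists_coset_map (s : ℕ → G) (hok : StepOK st P m)
    (hs : ∀ a ∈ st.gens, s a * s a = 1)
    (hm : ∀ a ∈ st.gens, ∀ b ∈ st.gens, m a b ≠ 0 ∧ (s a * s b) ^ m a b = 1)
    (H : Subgroup G) (hH : ∀ a ∈ st.J, s a ∈ H) :
    ∃ f : ℕ → G ⧸ H, f st.p = ((1 : G) : G ⧸ H) ∧
      ∀ x, st.mem x = true → ∀ a ∈ st.gens, s a • f x = f (P a x) := by
  classical
  set f : ℕ → G ⧸ H := fun x => ((rep s P (st.letter P) st.p x : G) : G ⧸ H) with hf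
  have hftop : f st.p = ((1 : G) : G ⧸ H) := by
    simp only [hf]; rw [rep_top s]
  have hfstep : ∀ x, st.mem x = true → x ≠ st.p →
      f x = s (st.letter P x) • f (P (st.letter P x) x) := by
    intro x hx hxp
    simp only [hf]
    rw [rep_step s hok hx hxp]
    rfl
  have hss : ∀ a ∈ st.gens, ∀ y : G ⧸ H, s a • s a • y = y := by
    intro a ha y
    rw [← mul_smul, hs a ha, one_smul]
  -- the claim, by strong induction on `p - x`
  have claim : ∀ n x, st.p - x = n → st.mem x = true → ∀ a ∈ st.gens, x ≤ P a x →
      s a • f x = f (P a x) := by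
    intro n
    induction n using Nat.strong_induction_on with
    | _ n ih =>
      intro x hn hx a ha hle
      by_cases hxp : x = st.p
      · subst hxp
        have h1 := hok.top a ha
        have h2 : P a st.p = st.p := le_antisymm h1 hle
        have h3 : s a ∈ H := hH a (hok.topJ a ha h2)
        rw [h2, hftop]
        change ((s a * 1 : G) : G ⧸ H) = ((1 : G) : G ⧸ H)
        rw [mul_one, QuotientGroup.eq, mul_one]
        exact H.inv_mem h3
      · have hxlt : x < st.p := lt_of_le_of_ne (Step.mem_le hx) hxp
        set j := st.letter P x with hj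
        have hjg : j ∈ st.gens := hok.letter_mem x hx hxp
        have hj2 : s j • f (P j x) = f x := (hfstep x hx hxp).symm
        have hj1 : s j • f x = f (P j x) := by rw [← hj2, hss j hjg]
        by_cases haj : a = j
        · rw [haj]; exact hj1
        · have hrun := hok.run x hx hxp a ha haj hle
          have hE : ∀ b ∈ st.gens, ∀ y, st.mem y = true → x < y → x < P b y →
              s b • f y = f (P b y) := by
            intro b hb y hy hxy hxz
            have hyp := Step.mem_le hy
            have hz := hok.closed y hy b hb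
            have hzp := Step.mem_le hz
            rcases le_total y (P b y) with hyz | hzy
            · exact ih (st.p - y) (by omega) y rfl hy b hb hyz
            · have h1 := ih (st.p - P b y) (by omega) (P b y) rfl hz b hb
                (by rw [hok.invol y hy b hb]; exact hzy)
              rw [hok.invol y hy b hb] at h1
              rw [← h1, hss b hb]
          have hy1 : st.mem (P j x) = true := hok.closed x hx j hjg
          have h1 := run2_spec s hok f ha hjg hE hj1 hj2 (m a j - 1) (P j x) hy1 hrun
          obtain ⟨hm0, hm1⟩ := hm a ha j hjg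
          -- `s a * (s j * s a)^(m-1) * s j = (s a * s j)^m = 1`
          have h2 : s a * (s j * s a) ^ (m a j - 1) * s j = 1 := by
            have h3 : ∀ k : ℕ, s a * (s j * s a) ^ k * s j = (s a * s j) ^ (k + 1) := by
              intro k
              induction k with
              | zero => simp
              | succ k ihk =>
                rw [pow_succ (s a * s j), ← ihk, pow_succ]
                group
            rw [h3, Nat.sub_add_cancel (Nat.one_le_iff_ne_zero.mpr hm0), hm1]
          have h3 : s a • f (P a x) = f x := by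
            rw [← h1, ← hj1, ← mul_smul, ← mul_smul, h2, one_smul]
          rw [← h3, hss a ha]
  refine ⟨f, hftop, fun x hx a ha => ?_⟩
  rcases le_total x (P a x) with h | h
  · exact claim _ x rfl hx a ha h
  · have h1 := claim _ (P a x) rfl (hok.closed x hx a ha) a ha (by rw [hok.invol x hx a ha]; exact h)
    rw [hok.invol x hx a ha] at h1
    rw [← h1, hss a ha]

/-- The parabolic subgroup generated by `s a`, `a ∈ l`. -/
def par (s : ℕ → G) (l : List ℕ) : Subgroup G := Subgroup.closure (s '' {a | a ∈ l})

theorem card_le (s : ℕ → G) (hok : StepOK st P m)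
    (hs : ∀ a ∈ st.gens, s a * s a = 1)
    (hm : ∀ a ∈ st.gens, ∀ b ∈ st.gens, m a b ≠ 0 ∧ (s a * s b) ^ m a b = 1)
    (hfin : Finite (par s st.J)) :
    Finite (par s st.gens) ∧ Nat.card (par s st.gens) ≤ st.size * Nat.card (par s st.J) := by
  classical
  set H := par s st.J with hHdef
  obtain ⟨f, hf1, hf2⟩ := exists_coset_map s hok hs hm H
    (fun a ha => Subgroup.subset_closure ⟨a, ha, rfl⟩)
  -- the image of `f` on the orbit
  set S : Finset (G ⧸ H) := (((List.range (st.p + 1)).filter st.mem).toFinset).image f with hS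
  have hScard : S.card ≤ st.size := by
    refine (Finset.card_image_le).trans ?_
    exact (List.toFinset_card_le _)
  have hmemS : ∀ x, st.mem x = true → f x ∈ S := by
    intro x hx
    refine Finset.mem_image_of_mem f ?_
    simp only [List.mem_toFinset, List.mem_filter, List.mem_range]
    exact ⟨Nat.lt_succ_of_le (Step.mem_le hx), hx⟩
  have hSmem : ∀ c ∈ S, ∃ x, st.mem x = true ∧ f x = c := by
    intro c hc
    obtain ⟨x, hx, rfl⟩ := Finset.mem_image.mp hc
    simp only [List.mem_toFinset, List.mem_filter, List.mem_range] at hx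
    exact ⟨x, hx.2, rfl⟩
  -- closed under the subgroup
  have hcl : ∀ g ∈ par s st.gens, ∀ c ∈ S, g • c ∈ S := by
    intro g hg
    induction hg using Subgroup.closure_induction with
    | mem g hg =>
      obtain ⟨a, ha, rfl⟩ := hg
      intro c hc
      obtain ⟨x, hx, rfl⟩ := hSmem c hc
      rw [hf2 x hx a ha]
      exact hmemS _ (hok.closed x hx a ha)
    | one => intro c hc; rwa [one_smul]
    | mul g h _ _ ihg ihh => intro c hc; rw [mul_smul]; exact ihg _ (ihh c hc)
    | inv g _ ihg =>
      -- injective on a finite set, hence surjective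
      intro c hc
      have hinj : Function.Injective (fun c : S => (⟨g • (c : G ⧸ H), ihg c c.2⟩ : S)) := by
        intro c d hcd
        have := congrArg Subtype.val hcd
        exact Subtype.ext (MulAction.injective g this)
      obtain ⟨d, hd⟩ := Finite.surjective_of_injective hinj ⟨c, hc⟩
      have hd' : g • (d : G ⧸ H) = c := congrArg Subtype.val hd
      rw [← hd', inv_smul_smul]
      exact d.2
  have hsub : ∀ g ∈ par s st.gens, (g : G ⧸ H) ∈ S := by
    intro g hg
    have := hcl g hg _ (hmemS st.p hok.memp)
    rw [hf1] at this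
    simpa using this
  -- count
  let e := (QuotientGroup.preimageMkEquivSubgroupProdSet H (↑S : Set (G ⧸ H)))
  have hfinpre : Finite (QuotientGroup.mk ⁻¹' (↑S : Set (G ⧸ H)) : Set G) :=
    Finite.of_equiv _ e.symm
  have hcardpre : Nat.card (QuotientGroup.mk ⁻¹' (↑S : Set (G ⧸ H)) : Set G) = Nat.card H * S.card := by
    rw [Nat.card_congr e, Nat.card_prod]
    simp
  have hsubset : ((par s st.gens : Subgroup G) : Set G) ⊆ (QuotientGroup.mk ⁻¹' (↑S : Set (G ⧸ H)) : Set G) :=
    fun g hg => hsub g hg
  have hfinK : Finite (par s st.gens) := by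
    exact Set.Finite.subset (Set.toFinite (QuotientGroup.mk ⁻¹' (↑S : Set (G ⧸ H)) : Set G)) hsubset
  refine ⟨hfinK, ?_⟩
  calc Nat.card (par s st.gens) ≤ Nat.card (QuotientGroup.mk ⁻¹' (↑S : Set (G ⧸ H)) : Set G) :=
        Nat.card_mono (Set.toFinite _) hsubset
    _ = Nat.card H * S.card := hcardpre
    _ ≤ Nat.card H * st.size := Nat.mul_le_mul_left _ hScard
    _ = st.size * Nat.card H := mul_comm _ _

end Upper

section Lower

variable {G : Type*} [Group G] {st : Step} {P : ℕ → ℕ → ℕ} {m : ℕ → ℕ → ℕ}

theorem le_card {K : Type*} [Group K] [MulAction K ℕ] (s : ℕ → K) (hok : StepOK st P m)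
    (hP : ∀ a ∈ st.gens, ∀ x, st.mem x = true → s a • x = P a x)
    [Finite (par s st.gens)] :
    st.size * Nat.card (par s st.J) ≤ Nat.card (par s st.gens) := by
  classical
  set K' := par s st.gens with hK'
  have hJ : par s st.J ≤ K' := Subgroup.closure_mono (Set.image_mono fun a ha => hok.Jsub a ha)
  -- every point of the mask is in the orbit of `p`
  have horb : ∀ n x, st.p - x = n → st.mem x = true → x ∈ MulAction.orbit K' st.p := by
    intro n
    induction n using Nat.strong_induction_on with
    | _ n ih =>
      intro x hn hx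
      by_cases hxp : x = st.p
      · rw [hxp]; exact MulAction.mem_orbit_self _
      · have h1 := hok.letter_mem x hx hxp
        have h2 := hok.letter_lt x hx hxp
        have h3 := hok.closed x hx _ h1
        have h4 := Step.mem_le h3
        have h5 := Step.mem_le hx
        have h6 := ih (st.p - P (st.letter P x) x) (by omega) _ rfl h3
        have h7 : x = (⟨s (st.letter P x), Subgroup.subset_closure ⟨_, h1, rfl⟩⟩ : K') •
            P (st.letter P x) x := by
          change x = s (st.letter P x) • P (st.letter P x) x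
          rw [hP _ h1 _ h3, hok.invol x hx _ h1]
        rw [h7]
        exact (MulAction.mem_orbit_symm.mp ((MulAction.mem_orbit_symm.mp h6).elim
          fun g hg => ⟨g * (⟨s (st.letter P x), Subgroup.subset_closure ⟨_, h1, rfl⟩⟩ : K')⁻¹, by
            simp only [mul_smul, inv_smul_smul]; exact hg⟩))
  have hcard : st.size ≤ Nat.card (MulAction.orbit K' st.p) := by
    have h1 : ((((List.range (st.p + 1)).filter st.mem).toFinset : Finset ℕ) : Set ℕ) ⊆
        MulAction.orbit K' st.p := by
      intro x hx
      simp only [List.coe_toFinset, List.mem_filter, List.mem_range, Set.mem_ofPred_eq] at hx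
      exact horb _ x rfl hx.2
    have h2 : (((List.range (st.p + 1)).filter st.mem).toFinset).card = st.size := by
      rw [List.toFinset_card_of_nodup]
      · rfl
      · exact List.Nodup.filter _ List.nodup_range
    have h3 : Finite (MulAction.orbit K' st.p) := by
      exact Set.finite_range _
    rw [← h2, ← Set.ncard_coe_finset, ← Nat.card_coe_set_eq]
    exact Nat.card_mono (Set.toFinite _) h1
  have hstab : Nat.card (par s st.J) ≤ Nat.card (MulAction.stabilizer K' st.p) := by
    have h1 : (par s st.J).subgroupOf K' ≤ MulAction.stabilizer K' st.p := by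
      intro g hg
      rw [Subgroup.mem_subgroupOf] at hg
      have h2 : par s st.J ≤ MulAction.stabilizer K st.p := by
        rw [par, Subgroup.closure_le]
        rintro _ ⟨a, ha, rfl⟩
        change s a • st.p = st.p
        rw [hP a (hok.Jsub a ha) _ hok.memp, hok.Jfix a ha]
      exact h2 hg
    have h3 : Nat.card (par s st.J) = Nat.card ((par s st.J).subgroupOf K') :=
      (Nat.card_congr (Subgroup.subgroupOfEquivOfLe hJ).toEquiv).symm
    rw [h3]
    exact Nat.card_mono (Set.toFinite _) h1
  calc st.size * Nat.card (par s st.J)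
      ≤ Nat.card (MulAction.orbit K' st.p) * Nat.card (MulAction.stabilizer K' st.p) :=
        Nat.mul_le_mul hcard hstab
    _ = Nat.card K' := by
        rw [← Nat.card_prod]
        exact Nat.card_congr (MulAction.orbitProdStabilizerEquivGroup K' st.p)

end Lower

end Cfsg.Agent.ChevalleyStructure.WeylCert
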