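import Cfsg.Agent.ChevalleyStructure.WeylCert

set_option autoImplicit false

namespace Cfsg.Agent.ChevalleyStructure.WeylChain

open Cfsg.Agent.ChevalleyStructure.WeylCert

/-- A chain of steps starting with the generators `l`. -/
def chainCheck (P m : ℕ → ℕ → ℕ) (r : ℕ) : List ℕ → List Step → Bool
  | _, [] => true
  | l, st :: rest => (st.J == l && (st.gens.all (fun a => Nat.ble (a + 1) r) && st.check P m)) &&
      chainCheck P m r st.gens rest

/-- The generators of the last parabolic subgroup of the chain. -/
def chainGens : List ℕ → List Step → List ℕ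
  | l, [] => l
  | _, st :: rest => chainGens st.gens rest

/-- The product of the sizes. -/
def chainSize : List Step → ℕ
  | [] => 1
  | st :: rest => st.size * chainSize rest

section

variable {G : Type*} [Group G] {P m : ℕ → ℕ → ℕ} {r : ℕ}

theorem chain_upper (s : ℕ → G) (hs : ∀ a < r, s a * s a = 1)
    (hm : ∀ a < r, ∀ b < r, m a b ≠ 0 ∧ (s a * s b) ^ m a b = 1) :
    ∀ (steps : List Step) (l : List ℕ), chainCheck P m r l steps = true → Finite (par s l) →
      Finite (par s (chainGens l steps)) ∧
        Nat.card (par s (chainGens l steps)) ≤ chainSize steps * Nat.card (par s l) := by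
  intro steps
  induction steps with
  | nil => intro l _ hl; exact ⟨hl, by simp [chainSize, chainGens]⟩
  | cons st rest ih =>
    intro l h hl
    simp only [chainCheck, Bool.and_eq_true, beq_iff_eq, List.all_eq_true] at h
    obtain ⟨⟨h1, h2, h3⟩, h4⟩ := h
    have hlt : ∀ a ∈ st.gens, a < r := fun a ha => Nat.le_of_ble_eq_true (h2 a ha)
    subst h1
    have hok := stepOK_of_check h3
    obtain ⟨h5, h6⟩ := card_le s hok (fun a ha => hs a (hlt a ha))
      (fun a ha b hb => hm a (hlt a ha) b (hlt b hb)) hl
    obtain ⟨h7, h8⟩ := ih st.gens h4 h5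
    refine ⟨h7, h8.trans ?_⟩
    calc chainSize rest * Nat.card (par s st.gens)
        ≤ chainSize rest * (st.size * Nat.card (par s st.J)) := Nat.mul_le_mul_left _ h6
      _ = chainSize (st :: rest) * Nat.card (par s st.J) := by
        simp only [chainSize]; ring

theorem chain_lower {K : Type*} [Group K] [Finite K] [MulAction K ℕ] (s : ℕ → K)
    (hP : ∀ a < r, ∀ x, s a • x = P a x) :
    ∀ (steps : List Step) (l : List ℕ), chainCheck P m r l steps = true →
        chainSize steps * Nat.card (par s l) ≤ Nat.card (par s (chainGens l steps)) := by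
  intro steps
  induction steps with
  | nil => intro l _; simp [chainSize, chainGens]
  | cons st rest ih =>
    intro l h
    simp only [chainCheck, Bool.and_eq_true, beq_iff_eq, List.all_eq_true] at h
    obtain ⟨⟨h1, h2, h3⟩, h4⟩ := h
    have hlt : ∀ a ∈ st.gens, a < r := fun a ha => Nat.le_of_ble_eq_true (h2 a ha)
    subst h1
    have hok := stepOK_of_check h3
    have h6 := le_card (m := m) s hok (fun a ha x _ => hP a (hlt a ha) x)
    refine le_trans ?_ (ih st.gens h4)
    calc chainSize (st :: rest) * Nat.card (par s st.J)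
        = chainSize rest * (st.size * Nat.card (par s st.J)) := by
          simp only [chainSize]; ring
      _ ≤ chainSize rest * Nat.card (par s st.gens) := Nat.mul_le_mul_left _ h6

end

/-- Check that the tables give involutions satisfying the relations on `0, …, n - 1`, and fix everything else. -/
def relIter (P : ℕ → ℕ → ℕ) (a b : ℕ) : ℕ → ℕ → ℕ
  | 0, x => x
  | k + 1, x => relIter P a b k (P a (P b x))

/-- The relation check. -/
def relCheck (P m : ℕ → ℕ → ℕ) (r n : ℕ) : Bool :=
  Step.allBelow (fun a => Step.allBelow (fun x => Nat.beq (P a (P a x)) x) n &&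
    Step.allBelow (fun b => Nat.ble 1 (m a b) &&
      (Nat.beq a b || Step.allBelow (fun x => Nat.beq (relIter P a b (m a b) x) x) n)) r) r

/-- Data for a finite Coxeter group acting on `0, …, n - 1`. -/
structure Cert (r : ℕ) (M : CoxeterMatrix (Fin r)) where
  /-- the tables -/
  P : ℕ → ℕ → ℕ
  /-- the Coxeter matrix -/
  m : ℕ → ℕ → ℕ
  /-- number of points -/
  n : ℕ
  /-- the chain of parabolic subgroups -/
  steps : List Step
  out : ∀ a < r, ∀ x, n ≤ x → P a x = x
  rel : relCheck P m r n = true
  mM : ∀ a b : Fin r, m a b = M a b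
  chain : chainCheck P m r [] steps = true
  gens : ∀ a < r, a ∈ chainGens [] steps

namespace Cert

variable {r : ℕ} {M : CoxeterMatrix (Fin r)} (C : Cert r M)

include C

theorem invol (a : ℕ) (ha : a < r) (x : ℕ) : C.P a (C.P a x) = x := by
  rcases lt_or_ge x C.n with hx | hx
  · have h := C.rel
    rw [relCheck] at h
    have h1 := allBelow_spec h a ha
    simp only [Bool.and_eq_true] at h1
    exact Nat.eq_of_beq_eq_true (allBelow_spec h1.1 x hx)
  · rw [C.out a ha x hx, C.out a ha x hx]

theorem m_pos (a b : ℕ) (ha : a < r) (hb : b < r) : C.m a b ≠ 0 := by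
  have h := C.rel
  rw [relCheck] at h
  have h1 := allBelow_spec h a ha
  simp only [Bool.and_eq_true] at h1
  have h2 := allBelow_spec h1.2 b hb
  simp only [Bool.and_eq_true] at h2
  have := Nat.le_of_ble_eq_true h2.1
  omega

theorem relIter_out (a b : ℕ) (ha : a < r) (hb : b < r) (k x : ℕ) (hx : C.n ≤ x) :
    relIter C.P a b k x = x := by
  induction k with
  | zero => rfl
  | succ k ih => rw [relIter, C.out b hb x hx, C.out a ha x hx, ih]

theorem relIter_eq (a b : ℕ) (ha : a < r) (hb : b < r) (x : ℕ) :
    relIter C.P a b (C.m a b) x = x := by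
  by_cases hab : a = b
  · subst hab
    have : ∀ k, relIter C.P a a k x = x := by
      intro k
      induction k with
      | zero => rfl
      | succ k ih => rw [relIter, C.invol a ha, ih]
    exact this _
  · rcases lt_or_ge x C.n with hx | hx
    · have h := C.rel
      rw [relCheck] at h
      have h1 := allBelow_spec h a ha
      simp only [Bool.and_eq_true] at h1
      have h2 := allBelow_spec h1.2 b hb
      simp only [Bool.and_eq_true, Bool.or_eq_true] at h2
      rcases h2.2 with h3 | h3
      · exact absurd (Nat.eq_of_beq_eq_true h3) hab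
      · exact Nat.eq_of_beq_eq_true (allBelow_spec h3 x hx)
    · exact C.relIter_out a b ha hb _ x hx

/-- The permutation of `ℕ` given by the table. -/
def perm (a : Fin r) : Equiv.Perm ℕ where
  toFun := C.P a
  invFun := C.P a
  left_inv := C.invol a a.2
  right_inv := C.invol a a.2

theorem perm_apply (a : Fin r) (x : ℕ) : C.perm a x = C.P a x := rfl

theorem liftable : M.IsLiftable C.perm := by
  intro a b
  ext x
  have h : ∀ k x, ((C.perm a * C.perm b) ^ k) x = relIter C.P a b k x := by
    intro k
    induction k with
    | zero => intro x; rfl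
    | succ k ih => intro x; rw [pow_succ, Equiv.Perm.mul_apply, ih]; rfl
  rw [h, ← C.mM a b, C.relIter_eq a b a.2 b.2]
  rfl

/-- The action of the Coxeter group on the points. -/
noncomputable def hom : M.Group →* Equiv.Perm ℕ := M.toCoxeterSystem.lift ⟨C.perm, C.liftable⟩

theorem hom_simple (a : Fin r) : C.hom (M.simple a) = C.perm a := by
  have := M.toCoxeterSystem.lift_apply_simple C.liftable a
  rw [CoxeterMatrix.toCoxeterSystem_simple] at this
  exact this

theorem hom_simple_apply (a : Fin r) (x : ℕ) : C.hom (M.simple a) x = C.P a x := by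
  rw [C.hom_simple]; rfl

omit C in
/-- The generators, indexed by `ℕ`. -/
noncomputable def gen (M : CoxeterMatrix (Fin r)) (a : ℕ) : M.Group :=
  if h : a < r then M.simple ⟨a, h⟩ else 1

omit C in
theorem gen_of_lt {a : ℕ} (h : a < r) : gen M a = M.simple ⟨a, h⟩ := dif_pos h

theorem par_eq_top : par (gen M) (chainGens [] C.steps) = ⊤ := by
  rw [eq_top_iff, ← M.toCoxeterSystem.subgroup_closure_range_simple, Subgroup.closure_le]
  rintro _ ⟨a, rfl⟩
  refine Subgroup.subset_closure ⟨a, C.gens a a.2, ?_⟩
  rw [gen_of_lt a.2, CoxeterMatrix.toCoxeterSystem_simple]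

omit C in
theorem par_nil {G : Type*} [Group G] (s : ℕ → G) : par s [] = ⊥ := by
  rw [par]
  have : s '' {a | a ∈ ([] : List ℕ)} = ∅ := by ext; simp
  rw [this, Subgroup.closure_empty]

theorem finite_and_le : Finite M.Group ∧ Nat.card M.Group ≤ chainSize C.steps := by
  have hs : ∀ a < r, gen M a * gen M a = 1 := by
    intro a ha
    have := M.toCoxeterSystem.simple_mul_simple_self ⟨a, ha⟩
    rwa [CoxeterMatrix.toCoxeterSystem_simple, ← gen_of_lt ha] at this
  have hm : ∀ a < r, ∀ b < r, C.m a b ≠ 0 ∧ (gen M a * gen M b) ^ C.m a b = 1 := by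
    intro a ha b hb
    refine ⟨C.m_pos a b ha hb, ?_⟩
    have := M.toCoxeterSystem.simple_mul_simple_pow ⟨a, ha⟩ ⟨b, hb⟩
    rw [CoxeterMatrix.toCoxeterSystem_simple, ← gen_of_lt ha, ← gen_of_lt hb, ← C.mM] at this
    exact this
  have hfin : Finite (par (gen M) ([] : List ℕ)) := by
    rw [par_nil]; infer_instance
  obtain ⟨h1, h2⟩ := chain_upper (P := C.P) (gen M) hs hm C.steps [] C.chain hfin
  rw [par_nil, Subgroup.card_bot, mul_one] at h2
  rw [C.par_eq_top] at h1 h2
  refine ⟨?_, ?_⟩
  · exact Finite.of_equiv _ (Subgroup.topEquiv (G := M.Group)).toEquiv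
  · rwa [Subgroup.card_top] at h2

theorem range_card : chainSize C.steps ≤ Nat.card C.hom.range := by
  have := C.finite_and_le.1
  have : Finite C.hom.range := by
    exact Finite.of_surjective _ C.hom.rangeRestrict_surjective
  set s : ℕ → C.hom.range := fun a => C.hom.rangeRestrict (gen M a) with hs
  have hP : ∀ a < r, ∀ x, s a • x = C.P a x := by
    intro a ha x
    change C.hom (gen M a) x = _
    rw [gen_of_lt ha, C.hom_simple_apply]
  have h := chain_lower (P := C.P) (m := C.m) (r := r) s hP C.steps [] C.chain
  rw [par_nil, Subgroup.card_bot, mul_one] at h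
  exact h.trans (Nat.card_mono (Set.toFinite _) (Set.subset_univ _) |>.trans_eq (Nat.card_univ))

/-- The order of the Coxeter group. -/
theorem card_group : Nat.card M.Group = chainSize C.steps := by
  have := C.finite_and_le.1
  refine le_antisymm C.finite_and_le.2 (C.range_card.trans ?_)
  exact Nat.card_le_card_of_surjective _ C.hom.rangeRestrict_surjective

/-- The action is faithful. -/
theorem hom_injective : Function.Injective C.hom := by
  have := C.finite_and_le.1
  have : Finite C.hom.range := Finite.of_surjective _ C.hom.rangeRestrict_surjective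
  have h1 : Nat.card M.Group = Nat.card C.hom.range := by
    refine le_antisymm (C.card_group ▸ C.range_card) ?_
    exact Nat.card_le_card_of_surjective _ C.hom.rangeRestrict_surjective
  have h2 : Function.Bijective C.hom.rangeRestrict :=
    (Nat.bijective_iff_surjective_and_card _).mpr ⟨C.hom.rangeRestrict_surjective, h1⟩
  intro x y hxy
  exact h2.1 (Subtype.ext hxy)

end Cert

end Cfsg.Agent.ChevalleyStructure.WeylChain
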