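import Cfsg.Agent.ChevalleyStructure.WeylStep
import Cfsg.Agent.ChevalleyStructure.RootCombGood
import Cfsg.Prelude.Def_ChevStructure

/-!
The combinatorial root datum `RData` of a `ChevalleyDatum` satisfying `RootCombGood.Good`, and the weighted
Poincare sum computed from checked orbit tables.
-/

set_option autoImplicit false

namespace Cfsg.Agent.ChevalleyStructure.WeylDatum

open Cfsg.Lie Cfsg.Agent.ChevalleyStructure.WeylAbstract Cfsg.Agent.ChevalleyStructure.WeylStep
  Cfsg.Agent.ChevalleyStructure.RootCombGood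

/-- the Cartan rows of the tables are those of the datum -/
def rowsOK (D : ChevalleyDatum) (A : List (List ℤ)) : Bool :=
  (List.range D.rank).all fun i =>
    decide (A.getD i [] = (List.range D.rank).map fun k => D.cartan k (D.simple i))

/-- the classes of roots are invariant under the reflections and negation -/
def clsOK (D : ChevalleyDatum) (rc : List ℕ) : Bool :=
  (List.range D.nroots).all fun r =>
    decide (rc.getD (D.neg r) 0 = rc.getD r 0) &&
    (List.range D.rank).all fun i => decide (rc.getD (D.reflectRoot i r) 0 = rc.getD r 0)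

theorem clsOK_nil (D : ChevalleyDatum) : clsOK D [] = true := by
  unfold clsOK
  simp

variable {D : ChevalleyDatum} {A : List (List ℤ)} {rc : List ℕ}

theorem row_eq (h : rowsOK D A = true) {i : ℕ} (hi : i < D.rank) :
    A.getD i [] = (List.range D.rank).map fun k => D.cartan k (D.simple i) := by
  unfold rowsOK at h
  simp only [List.all_eq_true, List.mem_range, decide_eq_true_eq] at h
  exact h i hi

theorem row_getD (h : rowsOK D A = true) {i k : ℕ} (hi : i < D.rank) (hk : k < D.rank) :
    (A.getD i []).getD k 0 = D.cartan k (D.simple i) := by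
  rw [row_eq h hi]
  simp [List.getD_eq_getElem?_getD, List.getElem?_map, List.getElem?_range hk]

theorem row_length (h : rowsOK D A = true) {i : ℕ} (hi : i < D.rank) :
    (A.getD i []).length = D.rank := by
  rw [row_eq h hi]
  simp

theorem cls_spec (h : clsOK D rc = true) {r : ℕ} (hr : r < D.nroots) :
    rc.getD (D.neg r) 0 = rc.getD r 0 ∧
      ∀ i, i < D.rank → rc.getD (D.reflectRoot i r) 0 = rc.getD r 0 := by
  unfold clsOK at h
  simp only [List.all_eq_true, List.mem_range, decide_eq_true_eq, Bool.and_eq_true] at h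
  exact h r hr

theorem neg_lt (G : Good D) {r : ℕ} (hr : r < D.nroots) : D.neg r < D.nroots := by
  rw [G.neg_eq hr]; omega

/-- The combinatorial root datum attached to a good `ChevalleyDatum`. -/
def rdata (G : Good D) (s : Fin D.rank → Equiv.Perm (Fin D.nroots))
    (hs : ∀ i r, ((s i r : Fin D.nroots) : ℕ) = D.reflectRoot i r) :
    RData (Fin D.rank) (Fin D.nroots) where
  pos r := D.IsPosRoot r
  neg r := ⟨D.neg r, neg_lt G r.2⟩
  simple i := ⟨D.simple i, G.simple_lt i.2⟩
  refl := s
  co r j := co D r j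
  A i k := D.cartan k (D.simple i)
  pos_neg r := by
    show D.IsPosRoot (D.neg r) ↔ ¬ D.IsPosRoot r
    rw [G.isPosRoot_iff, G.isPosRoot_iff, G.neg_eq r.2]
    have h1 := G.nroots_eq
    have h2 := r.2
    constructor
    · intro h; omega
    · intro h; constructor <;> omega
  co_neg r i := G.co_neg r.2 i.2
  co_inj r s' e := Fin.ext (G.co_inj r.2 s'.2 fun j hj => e ⟨j, hj⟩)
  co_nonneg r hr i := (G.isPosRoot_iff_co.1 hr).2 i i.2
  co_simple i j := by
    show co D (D.simple i) j = _
    rw [G.co_simple i.2 j.2]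
    simp only [Fin.ext_iff, eq_comm]
  refl_pos i r hr hne := by
    rw [hs]
    exact G.reflect_pos i.2 hr fun h => hne (Fin.ext h)
  A_diag i := G.cartan_simple i.2
  co_refl i r j := by
    rw [hs, G.co_reflect i.2 r.2 j.2]
    unfold car
    simp only [Fin.ext_iff, Finset.sum_range]

/-- The reflections as permutations. -/
def reflPerm (G : Good D) (i : Fin D.rank) : Equiv.Perm (Fin D.nroots) where
  toFun r := ⟨D.reflectRoot i r, G.reflect_lt i.2 r.2⟩
  invFun r := ⟨D.reflectRoot i r, G.reflect_lt i.2 r.2⟩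
  left_inv r := Fin.ext (G.reflect_reflect i.2 r.2)
  right_inv r := Fin.ext (G.reflect_reflect i.2 r.2)

/-- The Weyl group as a group of permutations of the root indices. -/
def weyl (D : ChevalleyDatum) : Subgroup (Equiv.Perm (Fin D.nroots)) :=
  Subgroup.closure {σ | ∃ i < D.rank, ∀ r : Fin D.nroots, ((σ r : Fin D.nroots) : ℕ) = D.reflectRoot i r}

/-- The number of positive roots made negative. -/
def inv (D : ChevalleyDatum) (σ : Equiv.Perm (Fin D.nroots)) : ℕ :=
  (Finset.univ.filter fun r : Fin D.nroots => D.IsPosRoot r ∧ D.IsNegRoot (σ r : ℕ)).card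

theorem weyl_eq_of_refl (s : Fin D.rank → Equiv.Perm (Fin D.nroots))
    (hs : ∀ i r, ((s i r : Fin D.nroots) : ℕ) = D.reflectRoot i r) :
    weyl D = Subgroup.closure (Set.range s) := by
  unfold weyl
  congr 1
  ext σ
  constructor
  · rintro ⟨i, hi, hσ⟩
    exact ⟨⟨i, hi⟩, Equiv.ext fun r => Fin.ext ((hs ⟨i, hi⟩ r).trans (hσ r).symm)⟩
  · rintro ⟨i, rfl⟩
    exact ⟨i, i.2, hs i⟩

theorem weyl_eq_W (G : Good D) : weyl D = (rdata G (reflPerm G) fun _ _ => rfl).W Set.univ := by
  rw [weyl_eq_of_refl (reflPerm G) fun _ _ => rfl]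
  unfold RData.W
  rw [Set.image_univ]
  rfl

/-- general weighted Poincare sum: `∑_{w} ∏_{r > 0, w r < 0} q^(al or be)` -/
theorem sum_weighted (G : Good D) (hA : rowsOK D A = true) (hrc : clsOK D rc = true) (cls : List ℕ)
    (hcls : ∀ i < D.rank, cls.getD i 0 = rc.getD (D.simple i) 0)
    (Ls : List (List Node)) (hLs : chainOK D.rank cls A D.rank Ls = true) (al be q : ℕ) :
    ∑ᶠ w ∈ (weyl D : Set (Equiv.Perm (Fin D.nroots))),
      ∏ r ∈ Finset.univ.filter (fun r : Fin D.nroots => D.IsPosRoot r ∧ D.IsNegRoot (w r : ℕ)),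
        (if rc.getD r 0 = 0 then q ^ al else q ^ be) =
      pe q (pprod (Ls.map fun L => psum (L.map fun nd => pmon (al * nd.a + be * nd.b)))) := by
  classical
  set s := reflPerm G with hs
  have hs' : ∀ i r, ((s i r : Fin D.nroots) : ℕ) = D.reflectRoot i r := fun i r => rfl
  set R := rdata G s hs' with hR
  have hW : (weyl D) = R.W {i : Fin D.rank | (i : ℕ) < D.rank} := by
    rw [weyl_eq_W G]
    congr 1
    ext i; simp
  rw [hW]
  set x : Fin D.nroots → ℕ := fun r => if rc.getD r 0 = 0 then q ^ al else q ^ be with hx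
  have key := sum_of_chainOK R A (fun i j => row_getD hA i.2 j.2) (fun i => row_length hA i.2)
    cls al be q x
    (fun i r => by
      show (if rc.getD (D.reflectRoot i r) 0 = 0 then q ^ al else q ^ be) = _
      rw [(cls_spec hrc r.2).2 i i.2])
    (fun r => by
      show (if rc.getD (D.neg r) 0 = 0 then q ^ al else q ^ be) = _
      rw [(cls_spec hrc r.2).1])
    (fun i => by
      show (if rc.getD (D.simple i) 0 = 0 then q ^ al else q ^ be) = _
      rw [hcls i i.2])
    D.rank Ls le_rfl hLs
  rw [← key]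
  apply finsum_congr
  intro w
  apply finsum_congr
  intro _
  unfold RData.Q
  apply Finset.prod_congr _ (fun _ _ => rfl)
  ext r
  simp only [Finset.mem_filter, Finset.mem_univ, true_and]
  have : D.IsNegRoot (w r : ℕ) ↔ ¬ R.pos (w r) := by
    show _ ↔ ¬ D.IsPosRoot (w r : ℕ)
    rw [G.isPosRoot_iff, G.isNegRoot_iff]
    have h1 := (w r).2
    omega
  rw [this]
  rfl

/-- equal parameters -/
theorem sum_equal (G : Good D) (hA : rowsOK D A = true) (hrc : clsOK D rc = true) (cls : List ℕ)
    (hcls : ∀ i < D.rank, cls.getD i 0 = rc.getD (D.simple i) 0)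
    (Ls : List (List Node)) (hLs : chainOK D.rank cls A D.rank Ls = true) (q : ℕ) :
    ∑ᶠ w ∈ (weyl D : Set (Equiv.Perm (Fin D.nroots))), q ^ inv D w =
      pe q (pprod (Ls.map fun L => psum (L.map fun nd => pmon (1 * nd.a + 1 * nd.b)))) := by
  rw [← sum_weighted G hA hrc cls hcls Ls hLs 1 1 q]
  apply finsum_congr
  intro w
  apply finsum_congr
  intro _
  simp [inv]

end Cfsg.Agent.ChevalleyStructure.WeylDatum
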