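import Cfsg.Prelude.Def_ChevStructure
import Cfsg.Prelude.Def_ChevD4
import Cfsg.Prelude.Def_ChevE6
import Cfsg.Agent.ChevalleyStructure.WeylData
import Cfsg.Agent.ChevalleyStructure.WeylAbstract

/-!
`RData` from packed tables, for the types E6, D4 (ambient) and F4, G2 (relative).
-/

set_option autoImplicit false

namespace Cfsg.Agent.ChevalleyStructure.WeylPacked

open Cfsg Cfsg.Lie Cfsg.Agent.ChevalleyStructure.WeylAbstract Cfsg.Agent.ChevalleyStructure.WeylData

/-- Packed tables of a root system: `n` roots in index order (negative ones first), rank `l`. -/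
structure Tab where
  n : ℕ
  l : ℕ
  P : ℕ → ℕ → ℕ
  co : ℕ → ℕ → ℤ
  A : ℕ → ℕ → ℤ
  sm : ℕ → ℕ

/-- `∑ k < l, co r k * A i k` -/
def Tab.pair (T : Tab) (i r : ℕ) : ℤ := ((List.range T.l).map fun k => T.co r k * T.A i k).sum

/-- The boolean check. -/
def Tab.ok (T : Tab) : Bool :=
  (Nat.beq T.n (2 * (T.n / 2))) &&
  ((List.range T.n).all fun r => (List.range T.l).all fun j =>
    decide (T.co (T.n - 1 - r) j = - T.co r j)) &&
  ((List.range T.n).all fun r => (List.range r).all fun s => (List.range T.l).any fun j =>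
    decide (T.co r j ≠ T.co s j)) &&
  ((List.range T.n).all fun r => !(Nat.ble (T.n / 2) r) || (List.range T.l).all fun j =>
    decide (0 ≤ T.co r j)) &&
  ((List.range T.l).all fun i => Nat.blt (T.sm i) T.n && (List.range T.l).all fun j =>
    decide (T.co (T.sm i) j = if j = i then 1 else 0)) &&
  ((List.range T.l).all fun i => (List.range T.n).all fun r =>
    !(Nat.ble (T.n / 2) r) || Nat.beq r (T.sm i) || Nat.ble (T.n / 2) (T.P i r)) &&
  ((List.range T.l).all fun i => decide (T.A i i = 2)) &&
  ((List.range T.l).all fun i => (List.range T.n).all fun r => (List.range T.l).all fun j =>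
    decide (T.co (T.P i r) j = T.co r j - if j = i then T.pair i r else 0)) &&
  ((List.range T.l).all fun i => (List.range T.n).all fun r => Nat.blt (T.P i r) T.n)

theorem sum_range_eq (l : ℕ) (f : ℕ → ℤ) : ((List.range l).map f).sum = ∑ k : Fin l, f k := by
  rw [← Finset.sum_range]
  induction l with
  | zero => rfl
  | succ l ih => rw [List.range_succ, List.map_append, List.sum_append, ih, Finset.sum_range_succ]; simp

/-- The spelled-out content of the check. -/
structure Tab.Spec (T : Tab) : Prop where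
  heven : T.n = 2 * (T.n / 2)
  hneg : ∀ r < T.n, ∀ j < T.l, T.co (T.n - 1 - r) j = - T.co r j
  hinj : ∀ r < T.n, ∀ s < r, ∃ j < T.l, T.co r j ≠ T.co s j
  hnn : ∀ r < T.n, T.n / 2 ≤ r → ∀ j < T.l, 0 ≤ T.co r j
  hsm : ∀ i < T.l, T.sm i < T.n
  hsm' : ∀ i < T.l, ∀ j < T.l, T.co (T.sm i) j = if j = i then 1 else 0
  hpos : ∀ i < T.l, ∀ r < T.n, T.n / 2 ≤ r → r ≠ T.sm i → T.n / 2 ≤ T.P i r
  hA : ∀ i < T.l, T.A i i = 2
  hco : ∀ i < T.l, ∀ r < T.n, ∀ j < T.l, T.co (T.P i r) j = T.co r j - if j = i then T.pair i r else 0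
  hP : ∀ i < T.l, ∀ r < T.n, T.P i r < T.n

theorem Tab.spec {T : Tab} (h : T.ok = true) : T.Spec := by
  unfold Tab.ok at h
  simp only [Bool.and_eq_true, List.all_eq_true, List.mem_range, decide_eq_true_eq,
    Bool.or_eq_true, Bool.not_eq_true', List.any_eq_true, Nat.beq_eq, Nat.ble_eq] at h
  obtain ⟨⟨⟨⟨⟨⟨⟨⟨h1, h2⟩, h3⟩, h4⟩, h5⟩, h6⟩, h7⟩, h8⟩, h9⟩ := h
  refine ⟨h1, h2, h3, ?_, ?_, ?_, ?_, h7, h8, ?_⟩
  · intro r hr hr2 j hj
    rcases h4 r hr with h | h
    · rw [Nat.ble_eq_true_of_le hr2] at h; exact absurd h (by decide)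
    · exact h j hj
  · intro i hi
    have := (h5 i hi).1
    unfold Nat.blt at this
    exact Nat.le_of_ble_eq_true this
  · intro i hi j hj
    exact (h5 i hi).2 j hj
  · intro i hi r hr hr2 hne
    rcases h6 i hi r hr with (h | h) | h
    · rw [Nat.ble_eq_true_of_le hr2] at h; exact absurd h (by decide)
    · exact absurd h hne
    · exact h
  · intro i hi r hr
    have := h9 i hi r hr
    unfold Nat.blt at this
    exact Nat.le_of_ble_eq_true this

/-- The root datum of the tables, for given permutations realising them. -/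
def Tab.toRData (T : Tab) (h : T.Spec) (s : Fin T.l → Equiv.Perm (Fin T.n))
    (hs : ∀ i r, ((s i r : Fin T.n) : ℕ) = T.P i r) : RData (Fin T.l) (Fin T.n) where
  pos r := T.n / 2 ≤ r.val
  neg r := ⟨T.n - 1 - r.val, by have := r.2; omega⟩
  simple i := ⟨T.sm i, h.hsm i i.2⟩
  refl := s
  co r i := T.co r i
  A i k := T.A i k
  pos_neg r := by
    have h1 := h.heven
    have h2 := r.2
    show T.n / 2 ≤ T.n - 1 - r.val ↔ ¬ T.n / 2 ≤ r.val
    omega
  co_neg r i := h.hneg r r.2 i i.2
  co_inj r s' heq := by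
    apply Fin.ext
    rcases lt_trichotomy r.val s'.val with h1 | h1 | h1
    · obtain ⟨j, hj, hne⟩ := h.hinj s' s'.2 r h1
      exact absurd (heq ⟨j, hj⟩).symm hne
    · exact h1
    · obtain ⟨j, hj, hne⟩ := h.hinj r r.2 s' h1
      exact absurd (heq ⟨j, hj⟩) hne
  co_nonneg r hr i := h.hnn r r.2 hr i i.2
  co_simple i j := by
    show T.co (T.sm i) j = _
    rw [h.hsm' i i.2 j j.2]
    by_cases hij : j = i
    · rw [if_pos hij, if_pos (by rw [hij])]
    · rw [if_neg hij, if_neg (fun h' => hij (Fin.ext h'))]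
  refl_pos i r hr hne := by
    show T.n / 2 ≤ (s i r).val
    rw [hs]
    exact h.hpos i i.2 r r.2 hr (fun h' => hne (Fin.ext h'))
  A_diag i := h.hA i i.2
  co_refl i r j := by
    show T.co (s i r).val j = T.co r j - _
    rw [hs, h.hco i i.2 r r.2 j j.2]
    congr 1
    by_cases hij : j = i
    · rw [if_pos hij, if_pos (by rw [hij]), Tab.pair, sum_range_eq]
    · rw [if_neg hij, if_neg (fun h' => hij (Fin.ext h'))]

/-- coroot coordinates, packed with offset 64 -/
def coP (l T r j : ℕ) : ℤ := Int.sub (Int.ofNat (Nat.land (Nat.shiftRight T (8 * (j + l * r))) 255)) 64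

/-- Cartan integers, packed with offset 8 -/
def aP (l T i k : ℕ) : ℤ := Int.sub (Int.ofNat (Nat.land (Nat.shiftRight T (4 * (k + l * i))) 15)) 8

/-- bytes -/
def byte (T i : ℕ) : ℕ := Nat.land (Nat.shiftRight T (8 * i)) 255

/-- packed table -/
def coE6 : ℕ := 0x4142434242414142434241414142424241414141424241414041424241414142424141414141424141414041424141414141414141414041414141414040414141414141414140414041414140414040414140414040404140414040404040414142424141404141424141404041424141404141414141404041414141404040414141404141414041404041414041404040414041404040404041404141414140404041414140404040414140404040404140404141414040404041414040404040414040404141404040404041404040404140404040403f4040404040403f404040403f3f4040404040403f404040403f3f4040403f3f3f4040404040403f404040403f3f4040403f3f3f40403f3f3f3f4040404040403f4040403f403f40403f3f403f403f3f3f403f4040403f3f3f40403f3f3f3f403f3f3f3f3f40403f3e3f3f403f3f3e3f3f403f3e3e3f3f4040404040403f4040403f403f40403f3f403f403f3f3f403f3f3f3f3f403f40403f3f3f3f403f3f3f3f3f3f3f3f3f3f3f403f3e3f3f3f3f3f3e3f3f3f3f3e3e3f3f3f403f3e3e3f3f3f3f3e3e3f3f3f3e3e3e3f3f3f3e3d3e3f3f3f3e3d3e3e3f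

/-- packed table -/
def AE6 : ℕ := 0xa788887a788887a778887a878878a888878a

/-- packed table -/
def SE6 : ℕ := 0x2425272a2e38

/-- packed table -/
def coF4 : ℕ := 0x4243424141434241414242414244434241424141414141414041414142444341424442414242424140424241424241414042414140404141404040414142414041414140404141404242414040424140404041404141404040414040414040403f404040403f40403f3f404040403f40403e3f403e3e3f40403f3f403f3f3f403f3e3f404040403f40403f3f403e3f3f3e3e3f3f403e3e3f3e3e3e3f3e3c3e3f3e3c3d3f403f3f3f3f3f3f3f3f3e3f3f3e3c3d3e3f3e3e3f3f3d3e3f3e3d3e3f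

/-- packed table -/
def AF4 : ℕ := 0xa7887a6887a7887a

/-- packed table -/
def SF4 : ℕ := 0x18191b21

/-- packed table -/
def coD4 : ℕ := 0x4141424141414141404141414140414140404141404040414141414040414140414041404040414040414040414040403f404040403f404040403f403f403f40403f3f403f3f3f404040403f40403f3f3f403f3f403f3f3f3f3f3f3f3f3f3e3f

/-- packed table -/
def AD4 : ℕ := 0xa8788a7877a7887a

/-- packed table -/
def SD4 : ℕ := 0xc0d0e12

/-- packed table -/
def coG2 : ℕ := 0x4241414143424341404141403f40403f3d3f3d3e3f3f3e3f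

/-- packed table -/
def AG2 : ℕ := 0xa57a

/-- packed table -/
def SG2 : ℕ := 0x607

/-- packed table -/
def clsE6 : ℕ := 0x2c28272f2e2f262d242b2a1d201f1a182e2d252b23292a292221201c1e191f1e1b1a19181716151411101611130f0e0d0605060c040a02011715100f1205040b0209000100080703

/-- packed table -/
def clsD4 : ℕ := 0xb0a09090807090808060707040405030302040302020100

/-- The tables of type E6. -/
def TE6 : Tab where
  n := 72
  l := 6
  P := tabP 72 tabE6
  co := coP 6 coE6
  A := aP 6 AE6
  sm := byte SE6

theorem specE6 : TE6.Spec := Tab.spec (by decide +kernel)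

/-- The tables of type D4. -/
def TD4 : Tab where
  n := 24
  l := 4
  P := tabP 24 tabD4
  co := coP 4 coD4
  A := aP 4 AD4
  sm := byte SD4

theorem specD4 : TD4.Spec := Tab.spec (by decide +kernel)

/-- The tables of type F4. -/
def TF4 : Tab where
  n := 48
  l := 4
  P := tabP 48 tabF4
  co := coP 4 coF4
  A := aP 4 AF4
  sm := byte SF4

theorem specF4 : TF4.Spec := Tab.spec (by decide +kernel)

/-- The tables of type G2. -/
def TG2 : Tab where
  n := 12
  l := 2
  P := tabP 12 tabG2
  co := coP 2 coG2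
  A := aP 2 AG2
  sm := byte SG2

theorem specG2 : TG2.Spec := Tab.spec (by decide +kernel)

theorem refl_E6 : ((List.range 6).all fun i => (List.range 72).all fun r =>
    Nat.beq (chevE6.reflectRoot i r) (tabP 72 tabE6 i r)) = true := by decide +kernel

theorem pos_E6 : ((List.range 72).all fun r => decide (chevE6.IsPosRoot r) == Nat.ble 36 r) = true := by
  decide +kernel

theorem reflectRoot_E6 {i r : ℕ} (hi : i < 6) (hr : r < 72) :
    chevE6.reflectRoot i r = tabP 72 tabE6 i r := by
  have h := refl_E6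
  simp only [List.all_eq_true, List.mem_range] at h
  exact Nat.eq_of_beq_eq_true (h i hi r hr)

theorem isPosRoot_E6 {r : ℕ} (hr : r < 72) : chevE6.IsPosRoot r ↔ 36 ≤ r := by
  have h := pos_E6
  simp only [List.all_eq_true, List.mem_range, beq_iff_eq] at h
  rw [← Nat.ble_eq, ← h r hr]
  exact decide_eq_true_iff.symm

theorem refl_D4 : ((List.range 4).all fun i => (List.range 24).all fun r =>
    Nat.beq (chevD4.reflectRoot i r) (tabP 24 tabD4 i r)) = true := by decide +kernel

theorem pos_D4 : ((List.range 24).all fun r => decide (chevD4.IsPosRoot r) == Nat.ble 12 r) = true := by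
  decide +kernel

theorem reflectRoot_D4 {i r : ℕ} (hi : i < 4) (hr : r < 24) :
    chevD4.reflectRoot i r = tabP 24 tabD4 i r := by
  have h := refl_D4
  simp only [List.all_eq_true, List.mem_range] at h
  exact Nat.eq_of_beq_eq_true (h i hi r hr)

theorem isPosRoot_D4 {r : ℕ} (hr : r < 24) : chevD4.IsPosRoot r ↔ 12 ≤ r := by
  have h := pos_D4
  simp only [List.all_eq_true, List.mem_range, beq_iff_eq] at h
  rw [← Nat.ble_eq, ← h r hr]
  exact decide_eq_true_iff.symm

end Cfsg.Agent.ChevalleyStructure.WeylPacked
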