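import Cfsg.Agent.ChevalleyStructure.WeylAbstract

/-!
Relative Weyl groups: `R` is an ambient root datum, `R'` the relative one, `c : Φ → Φ'` the class map,
`t i` the elements of the ambient Weyl group inducing the reflections of `R'`.  Then the Poincaré sum of
`⟨t i⟩` (with ambient weights) is the Poincaré sum of the Weyl group of `R'` with the weights
`x a = ∏_{c r = a} z r`.
-/

set_option autoImplicit false

namespace Cfsg.Agent.ChevalleyStructure.WeylRelative

open Cfsg.Agent.ChevalleyStructure.WeylAbstract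

variable {ι Φ ι' Φ' : Type*} [Fintype ι] [DecidableEq ι] [Fintype ι'] [DecidableEq ι']

/-- The relative datum. -/
structure Rel (R : RData ι Φ) (R' : RData ι' Φ') where
  c : Φ → Φ'
  c_surj : Function.Surjective c
  pos_iff : ∀ r, R'.pos (c r) ↔ R.pos r
  t : ι' → Equiv.Perm Φ
  t_mem : ∀ i, t i ∈ R.W Set.univ
  c_t : ∀ i r, c (t i r) = R'.refl i (c r)

namespace Rel

variable {R : RData ι Φ} {R' : RData ι' Φ'} (T : Rel R R')

/-- The relative Weyl group inside the ambient permutation group. -/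
def W1 : Subgroup (Equiv.Perm Φ) := Subgroup.closure (Set.range T.t)

theorem W1_le : T.W1 ≤ R.W Set.univ := by
  rw [W1, Subgroup.closure_le]
  rintro _ ⟨i, rfl⟩
  exact T.t_mem i

/-- `w` induces `w'` on the classes. -/
def Over (w : Equiv.Perm Φ) (w' : Equiv.Perm Φ') : Prop := ∀ r, T.c (w r) = w' (T.c r)

theorem over_one : T.Over 1 1 := fun _ => rfl

variable {T} in
theorem Over.mul {w v : Equiv.Perm Φ} {w' v' : Equiv.Perm Φ'} (h1 : T.Over w w')
    (h2 : T.Over v v') : T.Over (w * v) (w' * v') := fun r => by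
  rw [Equiv.Perm.mul_apply, Equiv.Perm.mul_apply, h1, h2]

variable {T} in
theorem Over.inv {w : Equiv.Perm Φ} {w' : Equiv.Perm Φ'} (h1 : T.Over w w') :
    T.Over w⁻¹ w'⁻¹ := fun r => by
  rw [Equiv.Perm.eq_inv_iff_eq, ← h1, Equiv.Perm.inv_def, Equiv.apply_symm_apply]

variable {T} in
theorem Over.unique {w : Equiv.Perm Φ} {w' v' : Equiv.Perm Φ'} (h1 : T.Over w w')
    (h2 : T.Over w v') : w' = v' := by
  ext a
  obtain ⟨r, rfl⟩ := T.c_surj a
  rw [← h1, ← h2]

theorem over_t (i : ι') : T.Over (T.t i) (R'.refl i) := T.c_t i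

theorem exists_over {w : Equiv.Perm Φ} (hw : w ∈ T.W1) :
    ∃ w' ∈ R'.W Set.univ, T.Over w w' := by
  induction hw using Subgroup.closure_induction with
  | mem x hx =>
    obtain ⟨i, rfl⟩ := hx
    exact ⟨_, R'.refl_mem_W (Set.mem_univ i), T.over_t i⟩
  | one => exact ⟨1, Subgroup.one_mem _, T.over_one⟩
  | mul x y _ _ hx hy =>
    obtain ⟨x', hx1, hx2⟩ := hx
    obtain ⟨y', hy1, hy2⟩ := hy
    exact ⟨_, Subgroup.mul_mem _ hx1 hy1, hx2.mul hy2⟩
  | inv x _ hx =>
    obtain ⟨x', hx1, hx2⟩ := hx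
    exact ⟨_, Subgroup.inv_mem _ hx1, hx2.inv⟩

theorem exists_lift {w' : Equiv.Perm Φ'} (hw : w' ∈ R'.W Set.univ) :
    ∃ w ∈ T.W1, T.Over w w' := by
  obtain ⟨l, -, rfl⟩ := R'.mem_W_iff.1 hw
  clear hw
  induction l with
  | nil => exact ⟨1, Subgroup.one_mem _, T.over_one⟩
  | cons i l ih =>
    obtain ⟨w, hw, h⟩ := ih
    refine ⟨T.t i * w, Subgroup.mul_mem _ (Subgroup.subset_closure ⟨i, rfl⟩) hw, ?_⟩
    rw [R'.wd_cons]
    exact (T.over_t i).mul h

theorem over_injective [Finite Φ] {w v : Equiv.Perm Φ} {w' : Equiv.Perm Φ'} (hw : w ∈ T.W1)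
    (hv : v ∈ T.W1) (h1 : T.Over w w') (h2 : T.Over v w') : w = v := by
  have h3 : T.Over (v⁻¹ * w) 1 := by
    have := h2.inv.mul h1
    rwa [inv_mul_cancel] at this
  have h4 : v⁻¹ * w = 1 := by
    apply R.eq_one_of_pos_all (T.W1_le (Subgroup.mul_mem _ (Subgroup.inv_mem _ hv) hw))
    intro r hr
    rw [← T.pos_iff, h3, Equiv.Perm.one_apply, T.pos_iff]
    exact hr
  exact (inv_mul_eq_one.1 h4).symm

variable [Fintype Φ] [Fintype Φ'] {S : Type*} [CommSemiring S]

open Classical in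
/-- The relative weights. -/
noncomputable def wts (z : Φ → S) (a : Φ') : S := ∏ r ∈ Finset.univ.filter (fun r => T.c r = a), z r

theorem Q_eq (z : Φ → S) {w : Equiv.Perm Φ} {w' : Equiv.Perm Φ'} (h : T.Over w w') :
    R.Q z w = R'.Q (T.wts z) w' := by
  classical
  unfold RData.Q wts
  rw [Finset.prod_filter (s := Finset.univ) (p := fun r => R'.pos r ∧ ¬ R'.pos (w' r))]
  have h1 : ∀ a : Φ', (if R'.pos a ∧ ¬ R'.pos (w' a) then
      ∏ r ∈ Finset.univ.filter (fun r => T.c r = a), z r else 1) =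
      ∏ r ∈ Finset.univ.filter (fun r => T.c r = a),
        (if R.pos r ∧ ¬ R.pos (w r) then z r else 1) := by
    intro a
    split_ifs with ha
    · apply Finset.prod_congr rfl
      intro r hr
      rw [Finset.mem_filter] at hr
      rw [if_pos]
      rw [← T.pos_iff, ← T.pos_iff, h, hr.2]
      exact ha
    · symm
      apply Finset.prod_eq_one
      intro r hr
      rw [Finset.mem_filter] at hr
      rw [if_neg]
      rw [← T.pos_iff, ← T.pos_iff, h, hr.2]
      exact ha
  rw [Finset.prod_congr rfl fun a _ => h1 a]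
  rw [Finset.prod_fiberwise Finset.univ T.c (fun r => if R.pos r ∧ ¬ R.pos (w r) then z r else 1),
    Finset.prod_filter]

/-- The Poincaré sum of the relative Weyl group. -/
theorem sum_W1 (z : Φ → S) :
    ∑ᶠ w ∈ (T.W1 : Set (Equiv.Perm Φ)), R.Q z w =
      ∑ᶠ w ∈ (R'.W Set.univ : Set (Equiv.Perm Φ')), R'.Q (T.wts z) w := by
  classical
  have hf1 : (T.W1 : Set (Equiv.Perm Φ)).Finite := Set.toFinite _
  have hf2 : (R'.W Set.univ : Set (Equiv.Perm Φ')).Finite := Set.toFinite _
  rw [finsum_mem_eq_finite_toFinset_sum _ hf1, finsum_mem_eq_finite_toFinset_sum _ hf2]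
  have hch : ∀ w ∈ T.W1, ∃ w' ∈ R'.W Set.univ, T.Over w w' := fun w hw => T.exists_over hw
  choose! f hf hf' using hch
  apply Finset.sum_bij (i := fun w _ => f w)
  · intro w hw
    rw [Set.Finite.mem_toFinset] at hw ⊢
    exact hf w hw
  · intro w hw v hv heq
    rw [Set.Finite.mem_toFinset] at hw hv
    refine T.over_injective hw hv (hf' w hw) ?_
    rw [heq]
    exact hf' v hv
  · intro w' hw'
    rw [Set.Finite.mem_toFinset] at hw'
    obtain ⟨w, hw, h⟩ := T.exists_lift hw'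
    refine ⟨w, (Set.Finite.mem_toFinset _).2 hw, ?_⟩
    exact (hf' w hw).unique h
  · intro w hw
    rw [Set.Finite.mem_toFinset] at hw
    exact T.Q_eq z (hf' w hw)

end Rel

end Cfsg.Agent.ChevalleyStructure.WeylRelative
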