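import Mathlib
import Cfsg.Agent.ChevalleyStructure.WeylAbstract

/-!
Checking one step of the parabolic chain by computation: the orbit of a fundamental weight is given as a
list of nodes; a Boolean check evaluated by the kernel gives the coset factor of the Poincare polynomial.
-/

set_option autoImplicit false

namespace Cfsg.Agent.ChevalleyStructure.WeylStep

open Cfsg.Agent.ChevalleyStructure.WeylAbstract

/-! ### Polynomials in `q` as lists of coefficients -/

/-- evaluation -/
def pe (q : ℕ) : List ℕ → ℕ
  | [] => 0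
  | a :: l => a + q * pe q l

/-- addition -/
def padd : List ℕ → List ℕ → List ℕ
  | [], m => m
  | l, [] => l
  | a :: l, b :: m => (a + b) :: padd l m

/-- multiplication -/
def pmul : List ℕ → List ℕ → List ℕ
  | [], _ => []
  | a :: l, m => padd (m.map fun b => a * b) (0 :: pmul l m)

/-- the monomial `q ^ n` -/
def pmon (n : ℕ) : List ℕ := List.replicate n 0 ++ [1]

/-- sum of a list of polynomials -/
def psum : List (List ℕ) → List ℕ
  | [] => []
  | l :: ls => padd l (psum ls)

/-- product of a list of polynomials -/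
def pprod : List (List ℕ) → List ℕ
  | [] => [1]
  | l :: ls => pmul l (pprod ls)

theorem pe_add (q : ℕ) : ∀ l m, pe q (padd l m) = pe q l + pe q m
  | [], m => by simp [padd, pe]
  | a :: l, [] => by simp [padd, pe]
  | a :: l, b :: m => by simp only [padd, pe, pe_add q l m]; ring

theorem pe_map_mul (q a : ℕ) : ∀ m, pe q (m.map fun b => a * b) = a * pe q m
  | [] => by simp [pe]
  | b :: m => by simp only [List.map, pe, pe_map_mul q a m]; ring

theorem pe_mul (q : ℕ) : ∀ l m, pe q (pmul l m) = pe q l * pe q m
  | [], m => by simp [pmul, pe]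
  | a :: l, m => by
    simp only [pmul, pe_add, pe_map_mul, pe, pe_mul q l m]
    ring

theorem pe_mon (q : ℕ) : ∀ n, pe q (pmon n) = q ^ n
  | 0 => by simp [pmon, pe]
  | n + 1 => by
    have h : pmon (n + 1) = 0 :: pmon n := by simp [pmon, List.replicate_succ]
    rw [h, pe, pe_mon q n, pow_succ]
    ring

theorem pe_sum (q : ℕ) : ∀ ls, pe q (psum ls) = (ls.map (pe q)).sum
  | [] => by simp [psum, pe]
  | l :: ls => by simp [psum, pe_add, pe_sum q ls]

theorem pe_prod (q : ℕ) : ∀ ls, pe q (pprod ls) = (ls.map (pe q)).prod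
  | [] => by simp [pprod, pe]
  | l :: ls => by simp [pprod, pe_mul, pe_prod q ls]

theorem pe_replicate (q : ℕ) : ∀ d, pe q (List.replicate d 1) = ∑ k ∈ Finset.range d, q ^ k
  | 0 => by simp [pe]
  | d + 1 => by
    rw [List.replicate_succ, pe, pe_replicate q d, Finset.sum_range_succ', Finset.mul_sum]
    rw [add_comm, pow_zero]
    congr 1
    exact Finset.sum_congr rfl fun k _ => by rw [pow_succ]; ring

/-! ### Orbit tables -/

/-- A node of the orbit table: weight vector, code of the vector, exponents, parent and index of the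
reflection used, neighbours. -/
structure Node where
  v : List ℤ
  c : ℕ
  a : ℕ
  b : ℕ
  par : ℕ
  idx : ℕ
  nb : List ℕ

/-- default node -/
def Node.dflt : Node := ⟨[], 0, 0, 0, 0, 0, []⟩

/-- the code of a vector -/
def code : List ℤ → ℕ
  | [] => 0
  | a :: l => (a + 8).toNat + 16 * code l

/-- reflected weight -/
def actL (row : List ℤ) (c : ℤ) (v : List ℤ) : List ℤ := List.zipWith (fun x y => x - c * y) v row

/-- unit vector -/
def unitL (rank k : ℕ) : List ℤ := (List.range rank).map fun j => if j = k then 1 else 0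

/-- neighbours of the node are in the table -/
def nbOK (rank k : ℕ) (A : List (List ℤ)) (L : List Node) (nd : Node) : Bool :=
  (nd.v.length == rank) && (List.range (k + 1)).all fun i =>
    nd.nb.getD i 0 < L.length &&
    decide ((L.getD (nd.nb.getD i 0) Node.dflt).v = actL (A.getD i []) (nd.v.getD i 0) nd.v)

/-- the node is obtained from its parent -/
def parOK (k : ℕ) (cls : List ℕ) (A : List (List ℤ)) (L : List Node) (m : ℕ) (nd : Node) : Bool :=
  match L.getD nd.par Node.dflt with
  | ⟨pv, _, pa, pb, _, _, _⟩ =>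
    decide (nd.par < m) && decide (nd.idx ≤ k) && decide (0 < pv.getD nd.idx 0) &&
    decide (nd.v = actL (A.getD nd.idx []) (pv.getD nd.idx 0) pv) &&
    (if cls.getD nd.idx 0 = 0 then nd.a == pa + 1 && nd.b == pb
      else nd.a == pa && nd.b == pb + 1)

/-- parents of all nodes from position `m` on -/
def parsOK (k : ℕ) (cls : List ℕ) (A : List (List ℤ)) (L : List Node) : ℕ → List Node → Bool
  | _, [] => true
  | m, nd :: l => parOK k cls A L m nd && parsOK k cls A L (m + 1) l

/-- the codes are pairwise distinct -/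
def nodupOK : List Node → Bool
  | [] => true
  | nd :: l => (l.all fun nd' => !(Nat.beq nd.c nd'.c)) && nodupOK l

/-- the whole check -/
def stepOK (rank k : ℕ) (cls : List ℕ) (A : List (List ℤ)) (L : List Node) : Bool :=
  (match L with
    | [] => false
    | nd :: l => decide (nd.v = unitL rank k) && nd.a == 0 && nd.b == 0 &&
        parsOK k cls A L 1 l) &&
  (L.all fun nd => nbOK rank k A L nd) && ((L.all fun nd => Nat.beq nd.c (code nd.v)) && nodupOK L)

/-- the vector of a node as a function -/
def fv {rank : ℕ} (v : List ℤ) : Fin rank → ℤ := fun j => v.getD j 0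

theorem fv_actL {rank : ℕ} (row v : List ℤ) (c : ℤ) (hr : row.length = rank) (hv : v.length = rank)
    (j : Fin rank) : (fv (actL row c v) : Fin rank → ℤ) j = v.getD j 0 - c * row.getD j 0 := by
  unfold fv actL
  have h1 : (j : ℕ) < v.length := by rw [hv]; exact j.2
  have h2 : (j : ℕ) < row.length := by rw [hr]; exact j.2
  simp only [List.getD_eq_getElem?_getD, List.getElem?_zipWith, List.getElem?_eq_getElem h1,
    List.getElem?_eq_getElem h2, Option.getD_some]

theorem fv_unitL {rank : ℕ} (k : Fin rank) : (fv (unitL rank k) : Fin rank → ℤ) = Pi.single k 1 := by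
  funext j
  unfold fv unitL
  simp only [List.getD_eq_getElem?_getD, List.getElem?_map, List.getElem?_range j.2,
    Option.map_some, Option.getD_some, Pi.single_apply, Fin.ext_iff]

variable {rank : ℕ} {Φ : Type*} (R : RData (Fin rank) Φ)

theorem fv_inj {v v' : List ℤ} (h : v.length = rank) (h' : v'.length = rank)
    (e : (fv v : Fin rank → ℤ) = fv v') : v = v' := by
  apply List.ext_getElem (by rw [h, h'])
  intro n h1 h2
  have := congrFun e ⟨n, by rw [← h]; exact h1⟩
  unfold fv at this
  simp only [List.getD_eq_getElem?_getD, List.getElem?_eq_getElem h1,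
    List.getElem?_eq_getElem h2, Option.getD_some] at this
  exact this

/-- The facts extracted from the check. -/
structure Facts (k : ℕ) (cls : List ℕ) (A : List (List ℤ)) (L : List Node) : Prop where
  pos : 0 < L.length
  head : (L.getD 0 Node.dflt).v = unitL rank k ∧ (L.getD 0 Node.dflt).a = 0 ∧
    (L.getD 0 Node.dflt).b = 0
  par : ∀ m, 0 < m → m < L.length → parOK k cls A L m (L.getD m Node.dflt) = true
  nb : ∀ m, m < L.length → nbOK rank k A L (L.getD m Node.dflt) = true
  nodup : (L.map Node.v).Nodup

theorem parsOK_spec (k : ℕ) (cls : List ℕ) (A : List (List ℤ)) (L : List Node) :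
    ∀ (l : List Node) (m : ℕ), parsOK k cls A L m l = true → ∀ j, j < l.length →
      parOK k cls A L (m + j) (l.getD j Node.dflt) = true
  | [], m => by simp
  | nd :: l, m => by
    intro h j hj
    simp only [parsOK, Bool.and_eq_true] at h
    cases j with
    | zero => simpa using h.1
    | succ j =>
      have := parsOK_spec k cls A L l (m + 1) h.2 j (by simpa using hj)
      rw [show m + (j + 1) = m + 1 + j by ring]
      simpa using this

theorem nodupOK_spec : ∀ (L : List Node), (∀ nd ∈ L, Nat.beq nd.c (code nd.v) = true) →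
    nodupOK L = true → (L.map Node.v).Nodup
  | [] => by simp
  | nd :: l => by
    intro hc h
    simp only [nodupOK, Bool.and_eq_true, List.all_eq_true, Bool.not_eq_true'] at h
    rw [List.map_cons, List.nodup_cons]
    refine ⟨?_, nodupOK_spec l (fun nd' h' => hc nd' (List.mem_cons_of_mem _ h')) h.2⟩
    rw [List.mem_map]
    rintro ⟨nd', h1, h2⟩
    have h3 := h.1 nd' h1
    rw [Nat.eq_of_beq_eq_true (hc nd List.mem_cons_self),
      Nat.eq_of_beq_eq_true (hc nd' (List.mem_cons_of_mem _ h1)), h2, Nat.beq_refl] at h3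
    exact absurd h3 (by simp)

theorem facts_of_stepOK {k : ℕ} {cls : List ℕ} {A : List (List ℤ)} {L : List Node}
    (h : stepOK rank k cls A L = true) : Facts (rank := rank) k cls A L := by
  unfold stepOK at h
  rw [Bool.and_eq_true, Bool.and_eq_true, Bool.and_eq_true] at h
  obtain ⟨⟨h1, h2⟩, h3', h3⟩ := h
  cases L with
  | nil => simp at h1
  | cons nd l =>
    simp only [Bool.and_eq_true, decide_eq_true_eq, beq_iff_eq] at h1
    obtain ⟨⟨⟨h4, h5⟩, h6⟩, h7⟩ := h1
    refine ⟨by simp, ⟨by simpa using h4, by simpa using h5, by simpa using h6⟩, ?_, ?_,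
      nodupOK_spec _ (List.all_eq_true.1 h3') h3⟩
    · intro m hm hm'
      have := parsOK_spec k cls A (nd :: l) l 1 h7 (m - 1) (by simp at hm'; omega)
      rw [show 1 + (m - 1) = m by omega] at this
      have e : (nd :: l).getD m Node.dflt = l.getD (m - 1) Node.dflt := by
        obtain ⟨m', rfl⟩ : ∃ m', m = m' + 1 := ⟨m - 1, by omega⟩
        simp
      rw [e]
      exact this
    · intro m hm
      rw [List.all_eq_true] at h2
      apply h2
      rw [List.getD_eq_getElem?_getD, List.getElem?_eq_getElem hm, Option.getD_some]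
      exact List.getElem_mem hm

variable [Fintype Φ]

/-- level rule: the monomial is multiplied by the weight of the simple root. -/
theorem Qw_act {S : Type*} [CommMonoid S] (x : Φ → S) (hx : ∀ i r, x (R.refl i r) = x r)
    (i : Fin rank) (m : Fin rank → ℤ) (hm : 0 < m i) :
    R.Qw x (R.act i m) = x (R.simple i) * R.Qw x m := by
  classical
  unfold RData.Qw
  have h1 : (Finset.univ.filter fun s => R.pos s ∧ R.val (R.act i m) s < 0) =
      insert (R.simple i) ((Finset.univ.filter fun s => R.pos s ∧ R.val m s < 0).map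
        (R.refl i).toEmbedding) := by
    ext s
    simp only [Finset.mem_filter, Finset.mem_univ, true_and, Finset.mem_insert, Finset.mem_map,
      Equiv.toEmbedding_apply, R.val_act]
    constructor
    · rintro ⟨h1, h2⟩
      by_cases hs : s = R.simple i
      · exact Or.inl hs
      · exact Or.inr ⟨R.refl i s, ⟨R.refl_pos i s h1 hs, h2⟩, R.refl_refl i s⟩
    · rintro (rfl | ⟨s', ⟨h1, h2⟩, rfl⟩)
      · refine ⟨R.simple_pos i, ?_⟩
        rw [← R.val_act, R.val_simple]
        have : R.act i m i = - m i := by
          unfold RData.act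
          rw [R.A_diag]; ring
        rw [this]; omega
      · rw [R.refl_refl]
        refine ⟨R.refl_pos i s' h1 ?_, h2⟩
        rintro rfl
        rw [R.val_simple] at h2
        omega
  rw [h1, Finset.prod_insert, Finset.prod_map]
  · congr 1
    exact Finset.prod_congr rfl fun s _ => by rw [Equiv.toEmbedding_apply, hx]
  · simp only [Finset.mem_map, Finset.mem_filter, Finset.mem_univ, true_and, not_exists, not_and,
      Equiv.toEmbedding_apply]
    rintro s ⟨h2, h3⟩ h4
    have h5 : s = R.refl i (R.simple i) := by rw [← h4, R.refl_refl]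
    rw [h5, R.refl_simple, R.pos_neg] at h2
    exact h2 (R.simple_pos i)

theorem Qw_single {S : Type*} [CommMonoid S] (x : Φ → S) (k : Fin rank) :
    R.Qw x (Pi.single k 1) = 1 := by
  classical
  unfold RData.Qw
  apply Finset.prod_eq_one
  intro s hs
  have h1 := (Finset.mem_filter.1 hs).2
  rw [R.val_single] at h1
  have := R.co_nonneg s h1.1 k
  omega

/-- The orbit sum computed from a checked table. -/
theorem sum_of_stepOK (A : List (List ℤ)) (hA : ∀ i j : Fin rank, (A.getD i []).getD j 0 = R.A i j)
    (hAl : ∀ i : Fin rank, (A.getD i []).length = rank) (cls : List ℕ) (k : Fin rank)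
    (L : List Node) (hok : stepOK rank k cls A L = true) (al be q : ℕ) (x : Φ → ℕ)
    (hx : ∀ i r, x (R.refl i r) = x r) (hxn : ∀ r, x (R.neg r) = x r)
    (hxs : ∀ i : Fin rank, x (R.simple i) = if cls.getD i 0 = 0 then q ^ al else q ^ be)
    (J : Set (Fin rank)) (hJ : ∀ i, i ∈ J ↔ (i : ℕ) ≤ k) :
    ∑ᶠ w ∈ (R.W J : Set (Equiv.Perm Φ)), R.Q x w =
      (L.map fun nd => q ^ (al * nd.a + be * nd.b)).sum *
        ∑ᶠ v ∈ (R.W (J \ {k}) : Set (Equiv.Perm Φ)), R.Q x v := by
  classical
  have F := facts_of_stepOK hok
  have hlen : ∀ m, m < L.length → (L.getD m Node.dflt).v.length = rank := by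
    intro m hm
    have := F.nb m hm
    unfold nbOK at this
    rw [Bool.and_eq_true, beq_iff_eq] at this
    exact this.1
  have hact : ∀ (i : Fin rank) (v : List ℤ), v.length = rank →
      (fv (actL (A.getD i []) (v.getD i 0) v) : Fin rank → ℤ) = R.act i (fv v) := by
    intro i v hv
    funext j
    rw [fv_actL _ _ _ (hAl i) hv, hA]
    rfl
  have hmem : ∀ nd ∈ L, ∃ m, m < L.length ∧ L.getD m Node.dflt = nd := by
    intro nd hnd
    obtain ⟨m, hm, h⟩ := List.getElem_of_mem hnd
    exact ⟨m, hm, by rw [List.getD_eq_getElem?_getD, List.getElem?_eq_getElem hm, Option.getD_some, h]⟩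
  have hget : ∀ m, m < L.length → L.getD m Node.dflt ∈ L := by
    intro m hm
    rw [List.getD_eq_getElem?_getD, List.getElem?_eq_getElem hm, Option.getD_some]
    exact List.getElem_mem hm
  -- induction along parents
  have hpar : ∀ m, m < L.length →
      R.Reach J k (fv (L.getD m Node.dflt).v) ∧
      R.Qw x (fv (L.getD m Node.dflt).v) =
        q ^ (al * (L.getD m Node.dflt).a + be * (L.getD m Node.dflt).b) := by
    intro m
    induction m using Nat.strong_induction_on with
    | _ m ih =>
      intro hm
      by_cases hm0 : m = 0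
      · subst hm0
        rw [F.head.1, F.head.2.1, F.head.2.2, fv_unitL]
        refine ⟨RData.Reach.base, ?_⟩
        rw [Qw_single]
        simp
      · have h := F.par m (by omega) hm
        unfold parOK at h
        generalize hp : L.getD (L.getD m Node.dflt).par Node.dflt = p at h
        obtain ⟨pv, pc, pa, pb, pp, pi, pn⟩ := p
        simp only [Bool.and_eq_true, decide_eq_true_eq] at h
        obtain ⟨⟨⟨⟨h1, h2⟩, h3⟩, h4⟩, h5⟩ := h
        have hplt : (L.getD m Node.dflt).par < L.length := by omega
        obtain ⟨ih1, ih2⟩ := ih _ h1 hplt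
        have hpl := hlen _ hplt
        rw [hp] at ih1 ih2 hpl
        simp only at ih1 ih2 hpl
        have hik : (L.getD m Node.dflt).idx < rank := lt_of_le_of_lt h2 k.2
        set i : Fin rank := ⟨(L.getD m Node.dflt).idx, hik⟩ with hi
        have hv : (fv (L.getD m Node.dflt).v : Fin rank → ℤ) = R.act i (fv pv) := by
          rw [h4]
          exact hact i pv hpl
        have hpos : 0 < (fv pv : Fin rank → ℤ) i := h3
        rw [hv]
        refine ⟨RData.Reach.step i _ ((hJ i).2 h2) ih1, ?_⟩
        rw [Qw_act R x hx i _ hpos, ih2, hxs]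
        have hci : cls.getD (i : ℕ) 0 = cls.getD (L.getD m Node.dflt).idx 0 := rfl
        rw [hci]
        by_cases hc : cls.getD (L.getD m Node.dflt).idx 0 = 0
        · rw [if_pos hc, Bool.and_eq_true, beq_iff_eq, beq_iff_eq] at h5
          rw [if_pos hc, h5.1, h5.2, ← pow_add]
          congr 1
          ring
        · rw [if_neg hc, Bool.and_eq_true, beq_iff_eq, beq_iff_eq] at h5
          rw [if_neg hc, h5.1, h5.2, ← pow_add]
          congr 1
          ring
  rw [R.sum_step x hx hxn (J := J) (k := k) ((L.map fun nd => (fv nd.v : Fin rank → ℤ)).toFinset)]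
  · congr 1
    rw [List.sum_toFinset]
    · rw [List.map_map]
      congr 1
      apply List.map_congr_left
      intro nd hnd
      obtain ⟨m, hm, rfl⟩ := hmem nd hnd
      exact (hpar m hm).2
    · have h1 : (L.map fun nd => (fv nd.v : Fin rank → ℤ)) = (L.map Node.v).map fv := by
        rw [List.map_map]; rfl
      rw [h1]
      apply List.Nodup.map_on _ F.nodup
      intro v hv v' hv' e
      obtain ⟨nd, hnd, rfl⟩ := List.mem_map.1 hv
      obtain ⟨nd', hnd', rfl⟩ := List.mem_map.1 hv'
      obtain ⟨m, hm, rfl⟩ := hmem nd hnd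
      obtain ⟨m', hm', rfl⟩ := hmem nd' hnd'
      exact fv_inj (hlen m hm) (hlen m' hm') e
  · rw [List.mem_toFinset, List.mem_map]
    exact ⟨L.getD 0 Node.dflt, hget 0 F.pos, by rw [F.head.1, fv_unitL]⟩
  · intro μ hμ j hj
    rw [List.mem_toFinset, List.mem_map] at hμ ⊢
    obtain ⟨nd, hnd, rfl⟩ := hμ
    obtain ⟨m, hm, rfl⟩ := hmem nd hnd
    have h := F.nb m hm
    unfold nbOK at h
    rw [Bool.and_eq_true, List.all_eq_true] at h
    have h2 := h.2 j (List.mem_range.2 (Nat.lt_succ_of_le ((hJ j).1 hj)))
    rw [Bool.and_eq_true, decide_eq_true_eq, decide_eq_true_eq] at h2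
    exact ⟨_, hget _ h2.1, by rw [h2.2, hact j _ (hlen m hm)]⟩
  · intro μ hμ
    rw [List.mem_toFinset, List.mem_map] at hμ
    obtain ⟨nd, hnd, rfl⟩ := hμ
    obtain ⟨m, hm, rfl⟩ := hmem nd hnd
    exact (hpar m hm).1

/-- check of a whole chain: `Ls` lists the tables for `k = n-1, n-2, ..., 0`. -/
def chainOK (rank : ℕ) (cls : List ℕ) (A : List (List ℤ)) : ℕ → List (List Node) → Bool
  | 0, [] => true
  | n + 1, L :: Ls => stepOK rank n cls A L && chainOK rank cls A n Ls
  | _, _ => false

/-- The Poincare sum as a product over the chain. -/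
theorem sum_of_chainOK (A : List (List ℤ)) (hA : ∀ i j : Fin rank, (A.getD i []).getD j 0 = R.A i j)
    (hAl : ∀ i : Fin rank, (A.getD i []).length = rank) (cls : List ℕ)
    (al be q : ℕ) (x : Φ → ℕ)
    (hx : ∀ i r, x (R.refl i r) = x r) (hxn : ∀ r, x (R.neg r) = x r)
    (hxs : ∀ i : Fin rank, x (R.simple i) = if cls.getD i 0 = 0 then q ^ al else q ^ be) :
    ∀ (n : ℕ) (Ls : List (List Node)), n ≤ rank → chainOK rank cls A n Ls = true →
    ∑ᶠ w ∈ (R.W {i : Fin rank | (i : ℕ) < n} : Set (Equiv.Perm Φ)), R.Q x w =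
      pe q (pprod (Ls.map fun L => psum (L.map fun nd => pmon (al * nd.a + be * nd.b)))) := by
  intro n
  induction n with
  | zero =>
    intro Ls _ h
    cases Ls with
    | cons _ _ => simp [chainOK] at h
    | nil =>
      have : {i : Fin rank | (i : ℕ) < 0} = ∅ := by ext i; simp
      rw [this, R.sum_W_empty]
      simp [pprod, pe]
  | succ n ih =>
    intro Ls hn h
    cases Ls with
    | nil => simp [chainOK] at h
    | cons L Ls =>
      simp only [chainOK, Bool.and_eq_true] at h
      have h1 := sum_of_stepOK R A hA hAl cls ⟨n, hn⟩ L h.1 al be q x hx hxn hxs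
        {i : Fin rank | (i : ℕ) < n + 1} (fun i => by simp only [Set.mem_ofPred_eq]; omega)
      rw [h1]
      have h2 : ({i : Fin rank | (i : ℕ) < n + 1} \ {⟨n, hn⟩} : Set (Fin rank)) =
          {i : Fin rank | (i : ℕ) < n} := by
        ext i
        simp only [Set.mem_sdiff, Set.mem_ofPred_eq, Set.mem_singleton_iff, Fin.ext_iff]
        omega
      rw [h2, ih Ls (by omega) h.2, List.map_cons, pprod, pe_mul, pe_sum, List.map_map]
      congr 2
      apply List.map_congr_left
      intro nd _
      rw [Function.comp_apply, pe_mon]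

end Cfsg.Agent.ChevalleyStructure.WeylStep
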